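import Mathlib.GroupTheory.Frattini
import Mathlib.GroupTheory.Commutator.Basic
import Mathlib.GroupTheory.QuotientGroup.Basic
import Mathlib.Order.Atoms
import Mathlib.Tactic.Group
import Mathlib.RingTheory.Coprime.Lemmas
import Mathlib.RingTheory.Int.Basic
import Mathlib.Data.Nat.Prime.Int

set_option autoImplicit false

namespace Cfsg.Agent.Helper47

open scoped commutatorElement

/-- In a finite commutative group of prime exponent `p`, the Frattini subgroup is trivial. -/
theorem frattini_eq_bot_of_elementary {Q : Type*} [Group Q] [Finite Q] {p : ℕ} [hp : Fact p.Prime]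
    (hcomm : ∀ a b : Q, a * b = b * a) (hexp : ∀ a : Q, a ^ p = 1) : frattini Q = ⊥ := by
  rw [eq_bot_iff]
  intro x hx
  rw [Subgroup.mem_bot]
  by_contra hx1
  -- a subgroup maximal with respect to not containing x
  obtain ⟨M, hxM, hMmax⟩ : ∃ M : Subgroup Q, x ∉ M ∧ ∀ M' : Subgroup Q, x ∉ M' → M ≤ M' → M' = M := by
    have hfin : (Set.univ : Set (Subgroup Q)).Finite := Set.finite_univ
    have hne : {M : Subgroup Q | x ∉ M}.Nonempty := ⟨⊥, by simpa [Subgroup.mem_bot] using hx1⟩
    obtain ⟨M, hM⟩ := (Set.toFinite {M : Subgroup Q | x ∉ M}).exists_maximal hne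
    exact ⟨M, hM.1, fun M' h1 h2 => le_antisymm (hM.2 h1 h2) h2⟩
  have hcoatom : IsCoatom M := by
    refine ⟨fun h => hxM (h ▸ Subgroup.mem_top x), fun M' hlt => ?_⟩
    have hxM' : x ∈ M' := by
      by_contra h
      exact hlt.ne (hMmax M' h hlt.le).symm
    rw [eq_top_iff]
    intro y _
    by_cases hyM : y ∈ M
    · exact hlt.le hyM
    · have hx_sup : x ∈ M ⊔ Subgroup.zpowers y := by
        by_contra h
        have h1 := hMmax _ h le_sup_left
        exact hyM (h1 ▸ Subgroup.mem_sup_right (Subgroup.mem_zpowers y))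
      have hMn : M.Normal := ⟨fun n hn g => by rw [hcomm g n, mul_inv_cancel_right]; exact hn⟩
      obtain ⟨m, hm, z, hz, hmz⟩ := Subgroup.mem_sup_of_normal_left.mp hx_sup
      obtain ⟨k, rfl⟩ := Subgroup.mem_zpowers_iff.mp hz
      have hpk : ¬ (p : ℤ) ∣ k := by
        rintro ⟨j, rfl⟩
        apply hxM
        rw [← hmz, zpow_mul, zpow_natCast, hexp, one_zpow, mul_one]
        exact hm
      have hcop : IsCoprime k (p : ℤ) := by
        rw [isCoprime_comm]
        exact (Nat.prime_iff_prime_int.mp hp.out).coprime_iff_not_dvd.mpr hpk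
      obtain ⟨a, b, hab⟩ := hcop
      have hy : y = (y ^ k) ^ a := by
        have h1 : y ^ (a * k + b * (p : ℤ)) = y := by rw [hab, zpow_one]
        rw [zpow_add, mul_comm b, zpow_mul y (p : ℤ) b, zpow_natCast, hexp, one_zpow, mul_one,
          mul_comm a, zpow_mul] at h1
        exact h1.symm
      have hyk : y ^ k = m⁻¹ * x := by rw [← hmz]; group
      rw [hy, hyk]
      exact zpow_mem (mul_mem (inv_mem (hlt.le hm)) hxM') a
  exact hxM (frattini_le_coatom hcoatom hx)

/-- If a subgroup `N` of a finite group `P` contains all commutators and all `p`-th powers, then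
`Φ(P) ≤ N`. -/
theorem frattini_le_of_commutator_pow_mem {P : Type*} [Group P] [Finite P] {p : ℕ} [Fact p.Prime]
    (N : Subgroup P) (hcomm : ∀ a b : P, ⁅a, b⁆ ∈ N) (hpow : ∀ a : P, a ^ p ∈ N) :
    frattini P ≤ N := by
  have hN : N.Normal := by
    refine ⟨fun n hn g => ?_⟩
    have : g * n * g⁻¹ = ⁅g, n⁆ * n := by rw [commutatorElement_def]; group
    rw [this]
    exact mul_mem (hcomm g n) hn
  have h1 : frattini (P ⧸ N) = ⊥ := by
    apply frattini_eq_bot_of_elementary (p := p)
    · intro a b
      obtain ⟨a, rfl⟩ := QuotientGroup.mk_surjective a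
      obtain ⟨b, rfl⟩ := QuotientGroup.mk_surjective b
      have := (QuotientGroup.eq_one_iff (N := N) ⁅a, b⁆).mpr (hcomm a b)
      rw [commutatorElement_def, QuotientGroup.mk_mul, QuotientGroup.mk_mul, QuotientGroup.mk_mul,
        QuotientGroup.mk_inv, QuotientGroup.mk_inv] at this
      have h2 := congrArg (fun t => t * ((b : P ⧸ N) * (a : P ⧸ N))) this
      simp only [one_mul] at h2
      rw [← h2]; group
    · intro a
      obtain ⟨a, rfl⟩ := QuotientGroup.mk_surjective a
      rw [← QuotientGroup.mk_pow]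
      exact (QuotientGroup.eq_one_iff _).mpr (hpow a)
  have h2 := frattini_le_comap_frattini_of_surjective (QuotientGroup.mk'_surjective N)
  rw [h1] at h2
  intro x hx
  have := h2 hx
  rw [Subgroup.mem_comap, Subgroup.mem_bot, QuotientGroup.mk'_apply, QuotientGroup.eq_one_iff] at this
  exact this

end Cfsg.Agent.Helper47
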