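import Mathlib

set_option autoImplicit false
open scoped commutatorElement

namespace Cfsg.Agent.Helper47

variable {G : Type*} [Group G]

/-- A subgroup normalizing `H` and `K` normalizes `⁅H, K⁆`. -/
theorem le_normalizer_commutator_of_le {X H K : Subgroup G}
    (hH : X ≤ Subgroup.normalizer (H : Set G)) (hK : X ≤ Subgroup.normalizer (K : Set G)) :
    X ≤ Subgroup.normalizer ((⁅H, K⁆ : Subgroup G) : Set G) := by
  intro x hx
  rw [Subgroup.mem_normalizer_iff_map_conj_eq, Subgroup.map_commutator,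
    Subgroup.mem_normalizer_iff_map_conj_eq.mp (hH hx),
    Subgroup.mem_normalizer_iff_map_conj_eq.mp (hK hx)]

/-- `H` normalizes `⁅H, K⁆`. -/
theorem le_normalizer_commutator_left (H K : Subgroup G) :
    H ≤ Subgroup.normalizer ((⁅H, K⁆ : Subgroup G) : Set G) := by
  have key : ∀ h ∈ H, (⁅H, K⁆).map (MulAut.conj h).toMonoidHom ≤ ⁅H, K⁆ := by
    intro h hh
    rw [Subgroup.map_le_iff_le_comap, Subgroup.commutator_le]
    intro a ha b hb
    rw [Subgroup.mem_comap]
    show h * ⁅a, b⁆ * h⁻¹ ∈ ⁅H, K⁆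
    have e : h * ⁅a, b⁆ * h⁻¹ = ⁅h * a, b⁆ * ⁅h, b⁆⁻¹ := by
      simp only [commutatorElement_def]; group
    rw [e]
    exact Subgroup.mul_mem _ (Subgroup.commutator_mem_commutator (H.mul_mem hh ha) hb)
      (Subgroup.inv_mem _ (Subgroup.commutator_mem_commutator hh hb))
  intro h hh
  rw [Subgroup.mem_normalizer_iff]
  intro x
  constructor
  · intro hx; exact key h hh ⟨x, hx, rfl⟩
  · intro hx
    have := key h⁻¹ (H.inv_mem hh) ⟨_, hx, rfl⟩
    simpa [mul_assoc] using this

/-- `K` normalizes `⁅H, K⁆`. -/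
theorem le_normalizer_commutator_right (H K : Subgroup G) :
    K ≤ Subgroup.normalizer ((⁅H, K⁆ : Subgroup G) : Set G) := by
  rw [Subgroup.commutator_comm]; exact le_normalizer_commutator_left K H

end Cfsg.Agent.Helper47
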