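import Mathlib.GroupTheory.Sylow
import Mathlib.GroupTheory.Commutator.Basic
import Mathlib.GroupTheory.Subgroup.Centralizer
import Mathlib.Algebra.Group.Subgroup.Pointwise
import Cfsg.Prelude.Def_PLocal

set_option autoImplicit false

namespace Cfsg.Agent.Helper47

open scoped commutatorElement

variable {G : Type*} [Group G]

/-! ### the p-core -/

theorem isPGroup_pCore (p : ℕ) (G : Type*) [Group G] : IsPGroup p (Cfsg.pCore p G) :=
  Sylow.sSup_of_normal _ (fun _ h => h.2) (fun _ h => h.1)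

theorem le_pCore {p : ℕ} {N : Subgroup G} (hN : N.Normal) (hp : IsPGroup p N) :
    N ≤ Cfsg.pCore p G :=
  le_sSup ⟨hN, hp⟩

theorem pCore_le_sylow {p : ℕ} (P : Sylow p G) : Cfsg.pCore p G ≤ P :=
  (isPGroup_pCore p G).le_sylow_of_normal P

/-! ### elements of order prime to p -/

/-- A torsion group in which every element of order prime to `p` is trivial is a `p`-group. -/
theorem isPGroup_of_forall_coprime_eq_one {p : ℕ} [hp : Fact p.Prime] {L : Type*} [Group L]
    (hfin : ∀ y : L, IsOfFinOrder y)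
    (h : ∀ y : L, (orderOf y).Coprime p → y = 1) : IsPGroup p L := by
  intro y
  have hpos : 0 < orderOf y := (hfin y).orderOf_pos
  obtain ⟨k, m, hm, hkm⟩ := Nat.exists_eq_pow_mul_and_not_dvd hpos.ne' p hp.out.ne_one
  refine ⟨k, ?_⟩
  apply h
  have hord : orderOf (y ^ p ^ k) = m := by
    rw [orderOf_pow' y (pow_ne_zero k hp.out.ne_zero), hkm, Nat.gcd_eq_right (dvd_mul_right _ _),
      Nat.mul_div_cancel_left _ (pow_pos hp.out.pos k)]
  rw [hord]
  exact (Nat.Coprime.symm ((Nat.Prime.coprime_iff_not_dvd hp.out).mpr hm))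

/-- An element of a `p`-subgroup whose order is prime to `p` is trivial. -/
theorem eq_one_of_mem_isPGroup_of_coprime {p : ℕ} {R : Subgroup G} (hR : IsPGroup p R)
    {x : G} (hx : x ∈ R) (hcop : (orderOf x).Coprime p) : x = 1 := by
  obtain ⟨k, hk⟩ := hR ⟨x, hx⟩
  have hk' : x ^ p ^ k = 1 := by
    have := congrArg Subtype.val hk
    simpa using this
  have h1 : orderOf x ∣ p ^ k := orderOf_dvd_of_pow_eq_one hk'
  have h2 : (orderOf x).Coprime (p ^ k) := Nat.Coprime.pow_right k hcop
  have : orderOf x = 1 := Nat.Coprime.eq_one_of_dvd h2 h1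
  exact orderOf_eq_one_iff.mp this

/-- If `x` has finite order prime to `p`, `z` is a `p`-element commuting with `x` and
`s x s⁻¹ = z x`, then `z = 1`. -/
theorem eq_one_of_conj_eq_mul {p : ℕ} {x s z : G}
    (hcop : (orderOf x).Coprime p) (hz : ∃ k : ℕ, z ^ p ^ k = 1) (hzx : Commute z x)
    (h : s * x * s⁻¹ = z * x) : z = 1 := by
  obtain ⟨k, hk⟩ := hz
  have h1 : (s * x * s⁻¹) ^ orderOf x = 1 := by
    rw [conj_pow, pow_orderOf_eq_one, mul_one, mul_inv_cancel]
  rw [h, hzx.mul_pow, pow_orderOf_eq_one, mul_one] at h1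
  have h2 : orderOf z ∣ orderOf x := orderOf_dvd_of_pow_eq_one h1
  have h3 : orderOf z ∣ p ^ k := orderOf_dvd_of_pow_eq_one hk
  have h4 : (orderOf x).Coprime (p ^ k) := Nat.Coprime.pow_right k hcop
  have : orderOf z = 1 := Nat.eq_one_of_dvd_coprimes h4 h2 h3
  exact orderOf_eq_one_iff.mp this

/-- One step of the "stability group" argument: an element `x` of order prime to `p` which
centralizes the `p`-subgroup `T` and satisfies `[S, x] ⊆ T` centralizes `S`. -/
theorem commute_of_commutator_mem {p : ℕ} {S T : Subgroup G} (hT : IsPGroup p T) {x : G}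
    (hcop : (orderOf x).Coprime p)
    (hST : ∀ s ∈ S, ⁅s, x⁆ ∈ T) (hTx : ∀ t ∈ T, Commute t x) : ∀ s ∈ S, Commute s x := by
  intro s hs
  have hz := hST s hs
  have hz1 : ⁅s, x⁆ = 1 := by
    refine eq_one_of_conj_eq_mul hcop ?_ (hTx _ hz) (s := s) ?_
    · obtain ⟨k, hk⟩ := hT ⟨_, hz⟩
      refine ⟨k, ?_⟩
      have := congrArg Subtype.val hk
      simpa using this
    · simp [commutatorElement_def]
  exact commutatorElement_eq_one_iff_commute.mp hz1

end Cfsg.Agent.Helper47
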