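import Cfsg.Prelude.Def_LocalStructure
import Cfsg.Agent.Helper47.Basic
import Cfsg.Agent.Helper48.StronglyEmbedded
import Cfsg.Agent.Helper49.SelfCent
import Cfsg.Agent.Helper51.CD
import Cfsg.Agent.Helper64.Basic

set_option autoImplicit false

namespace Cfsg.Agent.Helper47

open Cfsg Cfsg.Agent.Helper48 Cfsg.Agent.Helper51

variable {H : Type*} [Group H]

/-- A conjugate of a large subgroup is large. -/
theorem isLarge_conj {Q : Subgroup H} (hL : Cfsg.IsLarge Q) (g : H) : Cfsg.IsLarge (conjSub g Q) := by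
  refine ⟨?_, ?_⟩
  · rw [← cj_centralizer]
    exact Subgroup.map_mono hL.1
  · intro U hU hU1
    rw [← cj_centralizer] at hU
    -- U' = g⁻¹ U g ≤ C(Q)
    have hU' : cj g⁻¹ U ≤ Subgroup.centralizer (Q : Set H) := by
      rw [cj_le_iff, inv_inv]; exact hU
    have hU'1 : cj g⁻¹ U ≠ ⊥ := conjSub_ne_bot hU1
    have h1 := hL.2 _ hU' hU'1
    have h2 : cj g (Subgroup.normalizer ((cj g⁻¹ U : Subgroup H) : Set H)) ≤
        cj g (Subgroup.normalizer (Q : Set H)) := Subgroup.map_mono h1
    have e1 : cj g (Subgroup.normalizer ((cj g⁻¹ U : Subgroup H) : Set H)) =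
        Subgroup.normalizer ((U : Subgroup H) : Set H) := by
      have := (normalizer_conjSub g (cj g⁻¹ U)).symm
      rw [show conjSub g (cj g⁻¹ U) = U from cj_cj_inv g U] at this
      exact this
    rw [e1] at h2
    rw [normalizer_conjSub]
    exact h2

/-- The centre of a nontrivial finite `p`-subgroup is nontrivial. -/
theorem inf_centralizer_ne_bot [Finite H] {p : ℕ} [Fact p.Prime] {S : Subgroup H} (hS : IsPGroup p S)
    (hne : S ≠ ⊥) : S ⊓ Subgroup.centralizer (S : Set H) ≠ ⊥ := by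
  have hnt : Nontrivial S := (Subgroup.nontrivial_iff_ne_bot S).mpr hne
  have hc : Nontrivial (Subgroup.center S) := hS.center_nontrivial
  obtain ⟨⟨z, hz⟩, hz1⟩ := exists_ne (1 : Subgroup.center S)
  intro hbot
  apply hz1
  have hmem : (z : H) ∈ S ⊓ Subgroup.centralizer (S : Set H) := by
    refine ⟨z.2, ?_⟩
    intro s hs
    have := (Subgroup.mem_center_iff.mp hz) ⟨s, hs⟩
    exact congrArg Subtype.val this
  rw [hbot, Subgroup.mem_bot] at hmem
  exact Subtype.ext (Subtype.ext hmem)

theorem normalizer_le_normalizer_inf_centralizer (S : Subgroup H) :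
    Subgroup.normalizer (S : Set H) ≤
      Subgroup.normalizer ((S ⊓ Subgroup.centralizer (S : Set H) : Subgroup H) : Set H) := by
  intro n hn
  have h1 := hn
  have h2 := Cfsg.Agent.Helper49.normalizer_le_normalizer_centralizer S hn
  rw [Subgroup.mem_normalizer_iff] at h1 h2 ⊢
  intro x
  rw [Subgroup.mem_inf, Subgroup.mem_inf, ← h1 x, ← h2 x]

/-- Key property of a large `p`-subgroup: if `C(Q) ∩ C(gQg⁻¹) ≠ 1` then `g ∈ N(Q)`. -/
theorem mem_normalizer_of_large [Finite H] {p : ℕ} [Fact p.Prime] {Q : Subgroup H}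
    (hQp : IsPGroup p Q) (hQ1 : Q ≠ ⊥) (hL : Cfsg.IsLarge Q) {g : H}
    (hU : Subgroup.centralizer (Q : Set H) ⊓
      Subgroup.centralizer ((conjSub g Q : Subgroup H) : Set H) ≠ ⊥) :
    g ∈ Subgroup.normalizer (Q : Set H) := by
  set U := Subgroup.centralizer (Q : Set H) ⊓
      Subgroup.centralizer ((conjSub g Q : Subgroup H) : Set H) with hUdef
  have hLg := isLarge_conj hL g
  have hN1 : Subgroup.normalizer (U : Set H) ≤ Subgroup.normalizer (Q : Set H) :=
    hL.2 U inf_le_left hU
  have hN2 : Subgroup.normalizer (U : Set H) ≤ Subgroup.normalizer ((conjSub g Q : Subgroup H) : Set H) :=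
    hLg.2 U inf_le_right hU
  have hQU : Q ≤ Subgroup.normalizer (U : Set H) :=
    (Subgroup.le_centralizer_iff.mp inf_le_left).trans (Subgroup.centralizer_le_normalizer _)
  have hQgU : conjSub g Q ≤ Subgroup.normalizer (U : Set H) :=
    (Subgroup.le_centralizer_iff.mp inf_le_right).trans (Subgroup.centralizer_le_normalizer _)
  -- Q and Q^g generate a p-group
  have hR : IsPGroup p ↥(Q ⊔ conjSub g Q) :=
    hQp.to_sup_of_normal_right' (isPGroup_conjSub hQp) (hQU.trans hN2)
  obtain ⟨S, hRS⟩ := hR.exists_le_sylow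
  have hQS : Q ≤ (S : Subgroup H) := le_sup_left.trans hRS
  have hQgS : conjSub g Q ≤ (S : Subgroup H) := le_sup_right.trans hRS
  have hS1 : (S : Subgroup H) ≠ ⊥ := fun h => hQ1 (le_bot_iff.mp (h ▸ hQS))
  set Z := (S : Subgroup H) ⊓ Subgroup.centralizer ((S : Subgroup H) : Set H) with hZ
  have hZ1 : Z ≠ ⊥ := inf_centralizer_ne_bot S.2 hS1
  have hZQ : Z ≤ Subgroup.centralizer (Q : Set H) :=
    inf_le_right.trans (Subgroup.centralizer_le hQS)
  have hZQg : Z ≤ Subgroup.centralizer ((conjSub g Q : Subgroup H) : Set H) :=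
    inf_le_right.trans (Subgroup.centralizer_le hQgS)
  have hNS : Subgroup.normalizer ((S : Subgroup H) : Set H) ≤ Subgroup.normalizer (Z : Set H) :=
    normalizer_le_normalizer_inf_centralizer _
  have hNSQ : Subgroup.normalizer ((S : Subgroup H) : Set H) ≤ Subgroup.normalizer (Q : Set H) :=
    hNS.trans (hL.2 Z hZQ hZ1)
  have hSQg : (S : Subgroup H) ≤ Subgroup.normalizer ((conjSub g Q : Subgroup H) : Set H) :=
    Subgroup.le_normalizer.trans (hNS.trans (hLg.2 Z hZQg hZ1))
  apply Cfsg.Agent.Helper64.mem_of_sylow_conj_le S _ hNSQ g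
  intro x hx
  have := hSQg hx
  rw [normalizer_conjSub, mem_conjSub] at this
  exact this

end Cfsg.Agent.Helper47
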