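import Cfsg.Agent.Helper47.WeaklyClosed
import Cfsg.Agent.Helper34.Basic

set_option autoImplicit false

namespace Cfsg.Agent.Helper47

open Cfsg Cfsg.Agent.Helper48 Cfsg.Agent.Helper51

variable {H : Type*} [Group H]

/-- Conjugation inside a subgroup, pushed to the ambient group. -/
theorem map_subtype_map_conj (K : Subgroup H) (A : Subgroup ↥K) (k : ↥K) :
    (A.map (MulAut.conj k).toMonoidHom).map K.subtype =
      conjSub (k : H) (A.map K.subtype) := by
  show _ = Subgroup.map (MulAut.conj (k : H)).toMonoidHom (A.map K.subtype)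
  rw [Subgroup.map_map, Subgroup.map_map]
  congr 1

theorem subgroupOf_map_conj {K Q : Subgroup H} (hQK : Q ≤ K) (k : ↥K) :
    ((Q.subgroupOf K).map (MulAut.conj k).toMonoidHom).map K.subtype = conjSub (k : H) Q := by
  rw [map_subtype_map_conj, Subgroup.map_subgroupOf_eq_of_le hQK]

variable [Finite H] {p : ℕ} [Fact p.Prime]

omit [Finite H] [Fact p.Prime] in
/-- A Sylow `p`-subgroup of `K` containing `Q`, viewed in the ambient group. -/
theorem exists_sylow_ge_in {Q K : Subgroup H} (hQp : IsPGroup p Q) (hQK : Q ≤ K) :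
    ∃ S : Sylow p ↥K, Q ≤ (S : Subgroup ↥K).map K.subtype := by
  obtain ⟨S, hS⟩ := (hQp.comap_subtype (K := K)).exists_le_sylow
  refine ⟨S, fun x hx => ?_⟩
  exact ⟨⟨x, hQK hx⟩, hS (by rw [Subgroup.mem_comap]; exact hx), rfl⟩

/-- Conjugates of a weakly closed subgroup inside `K` are `K`-conjugate. -/
theorem wc_exists_conj_in {Q K : Subgroup H} (hQp : IsPGroup p Q)
    (hwc : Cfsg.IsWeaklyClosedSubgroup p Q) (hQK : Q ≤ K) {g : H} (hg : conjSub g Q ≤ K) :
    ∃ k ∈ K, conjSub g Q = conjSub k Q := by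
  obtain ⟨S, hS⟩ := exists_sylow_ge_in hQp hQK
  obtain ⟨h, hh, hle⟩ := exists_conj_le_sylow' S hg (isPGroup_conjSub hQp)
  rw [conjSub_conjSub] at hle
  have e := wc_conj_eq_of_le hwc (S.2.map K.subtype) hS hle
  refine ⟨h⁻¹, K.inv_mem hh, ?_⟩
  calc conjSub g Q = conjSub h⁻¹ (conjSub (h * g) Q) := by
        rw [conjSub_conjSub, inv_mul_cancel_left]
    _ = conjSub h⁻¹ Q := by rw [e]

/-- A weakly closed subgroup is weakly closed in every subgroup containing it. -/
theorem wc_subgroupOf {Q K : Subgroup H} (hQp : IsPGroup p Q)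
    (hwc : Cfsg.IsWeaklyClosedSubgroup p Q) (hQK : Q ≤ K) :
    Cfsg.IsWeaklyClosedSubgroup p (Q.subgroupOf K) := by
  obtain ⟨S, hS⟩ := (hQp.comap_subtype (K := K)).exists_le_sylow
  refine ⟨S, hS, fun k hk => ?_⟩
  apply Subgroup.map_injective K.subtype_injective
  rw [subgroupOf_map_conj hQK, Subgroup.map_subgroupOf_eq_of_le hQK]
  have hS' : Q ≤ (S : Subgroup ↥K).map K.subtype := by
    rw [← Subgroup.map_subgroupOf_eq_of_le hQK]; exact Subgroup.map_mono hS
  apply wc_conj_eq_of_le hwc (S.2.map K.subtype) hS'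
  rw [← subgroupOf_map_conj hQK]
  exact Subgroup.map_mono hk

/-- `N_K(Q)` contains a Sylow `p`-subgroup of `K`. -/
theorem wc_parabolic {Q K : Subgroup H} (hQp : IsPGroup p Q)
    (hwc : Cfsg.IsWeaklyClosedSubgroup p Q) (hQK : Q ≤ K) :
    Cfsg.IsParabolic p ((Subgroup.normalizer (Q : Set H)).subgroupOf K) := by
  obtain ⟨S, hS⟩ := exists_sylow_ge_in hQp hQK
  refine ⟨S, fun x hx => ?_⟩
  rw [Subgroup.mem_subgroupOf]
  have h1 := wc_normalizer_le hwc (S.2.map K.subtype) hS
  exact h1 (Subgroup.le_normalizer ⟨x, hx, rfl⟩)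

/-- `N = N_N(Q) O^p(N)` for a normal subgroup `N` and a weakly closed `p`-subgroup `Q`. -/
theorem wc_normal_factorization {Q : Subgroup H} (hQp : IsPGroup p Q)
    (hwc : Cfsg.IsWeaklyClosedSubgroup p Q) (N : Subgroup H) [N.Normal] :
    (N ⊓ Subgroup.normalizer (Q : Set H)) ⊔ (Cfsg.pResidual p ↥N).map N.subtype = N := by
  apply le_antisymm
  · refine sup_le inf_le_left ?_
    rintro _ ⟨x, -, rfl⟩
    exact x.2
  · obtain ⟨T, hQT⟩ := hQp.exists_le_sylow
    have hTN : (T : Subgroup H) ≤ Subgroup.normalizer (Q : Set H) :=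
      Subgroup.le_normalizer.trans (wc_normalizer_le hwc T.2 hQT)
    obtain ⟨P, hP⟩ := Cfsg.Agent.Helper64.exists_sylow_subgroupOf_normal T N
    have htop := Cfsg.Agent.Helper34.pResidual_sup_sylow p ↥N P
    have h1 : (Cfsg.pResidual p ↥N ⊔ (P : Subgroup ↥N)).map N.subtype = N := by
      rw [htop, ← MonoidHom.range_eq_map, Subgroup.range_subtype]
    rw [Subgroup.map_sup] at h1
    have h2 : (P : Subgroup ↥N).map N.subtype ≤ N ⊓ Subgroup.normalizer (Q : Set H) := by
      rw [hP, Subgroup.subgroupOf_map_subtype]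
      exact le_inf inf_le_right (inf_le_left.trans hTN)
    calc N = (Cfsg.pResidual p ↥N).map N.subtype ⊔ (P : Subgroup ↥N).map N.subtype := h1.symm
      _ ≤ (N ⊓ Subgroup.normalizer (Q : Set H)) ⊔ (Cfsg.pResidual p ↥N).map N.subtype := by
        rw [sup_comm]; exact sup_le_sup_right h2 _

omit [Finite H] [Fact p.Prime] in
theorem map_map_conj {G' : Type*} [Group G'] (f : H →* G') (A : Subgroup H) (g : H) :
    (A.map f).map (MulAut.conj (f g)).toMonoidHom = (conjSub g A).map f := by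
  show _ = Subgroup.map f (Subgroup.map (MulAut.conj g).toMonoidHom A)
  rw [Subgroup.map_map, Subgroup.map_map]
  congr 1
  ext x
  simp

/-- The image of a weakly closed subgroup in a quotient is weakly closed. -/
theorem wc_quotient {Q : Subgroup H} (hQp : IsPGroup p Q)
    (hwc : Cfsg.IsWeaklyClosedSubgroup p Q) (N : Subgroup H) [N.Normal] :
    Cfsg.IsWeaklyClosedSubgroup p (Q.map (QuotientGroup.mk' N)) := by
  obtain ⟨T, hQT⟩ := hQp.exists_le_sylow
  have hTN : (T : Subgroup H) ≤ Subgroup.normalizer (Q : Set H) :=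
    Subgroup.le_normalizer.trans (wc_normalizer_le hwc T.2 hQT)
  refine ⟨T.mapSurjective (QuotientGroup.mk'_surjective N), ?_, ?_⟩
  · rw [Sylow.coe_mapSurjective]; exact Subgroup.map_mono hQT
  · intro gbar hg
    obtain ⟨g, rfl⟩ := QuotientGroup.mk_surjective gbar
    rw [Sylow.coe_mapSurjective] at hg
    change (Q.map (QuotientGroup.mk' N)).map (MulAut.conj (QuotientGroup.mk' N g)).toMonoidHom ≤ _ at hg
    change (Q.map (QuotientGroup.mk' N)).map (MulAut.conj (QuotientGroup.mk' N g)).toMonoidHom = _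
    rw [map_map_conj] at hg ⊢
    have h1 : conjSub g Q ≤ (T : Subgroup H) ⊔ N := by
      have := Subgroup.map_le_iff_le_comap.mp hg
      rwa [Subgroup.comap_map_eq, QuotientGroup.ker_mk'] at this
    obtain ⟨k, hk, hkQ⟩ := wc_exists_conj_in hQp hwc (hQT.trans le_sup_left) h1
    rw [sup_comm] at hk
    obtain ⟨n, hn, t, ht, rfl⟩ := Subgroup.mem_sup_of_normal_left.mp hk
    have e1 : conjSub t Q = Q := conjSub_eq_self_iff.mpr (hTN ht)
    rw [hkQ, ← conjSub_conjSub, e1, ← map_map_conj]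
    have : (QuotientGroup.mk' N) n = 1 := (QuotientGroup.eq_one_iff n).mpr hn
    have e2 : (MulAut.conj (1 : H ⧸ N)).toMonoidHom = MonoidHom.id _ := by ext x; simp
    rw [this, e2, Subgroup.map_id]

end Cfsg.Agent.Helper47
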