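import Mathlib.GroupTheory.Commutator.Basic
import Mathlib.Algebra.Group.Subgroup.Pointwise

set_option autoImplicit false

namespace Cfsg.Agent.Helper47

open scoped commutatorElement

variable {G : Type*} [Group G]

/-- If `K₁` and `K₂` normalize `M` and `[H, Kᵢ] ≤ M`, then `[H, K₁ ⊔ K₂] ≤ M`. -/
theorem commutator_sup_right_le {H K₁ K₂ M : Subgroup G}
    (h₁ : ⁅H, K₁⁆ ≤ M) (h₂ : ⁅H, K₂⁆ ≤ M)
    (n₁ : K₁ ≤ Subgroup.normalizer (M : Set G)) (n₂ : K₂ ≤ Subgroup.normalizer (M : Set G)) :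
    ⁅H, K₁ ⊔ K₂⁆ ≤ M := by
  rw [Subgroup.commutator_le]
  intro h hh l hl
  have key : l ∈ Subgroup.normalizer (M : Set G) ∧ ∀ h ∈ H, ⁅h, l⁆ ∈ M := by
    rw [Subgroup.sup_eq_closure] at hl
    induction hl using Subgroup.closure_induction with
    | mem x hx =>
      rcases hx with hx | hx
      · exact ⟨n₁ hx, fun h hh => h₁ (Subgroup.commutator_mem_commutator hh hx)⟩
      · exact ⟨n₂ hx, fun h hh => h₂ (Subgroup.commutator_mem_commutator hh hx)⟩
    | one => exact ⟨one_mem _, fun h _ => by simp⟩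
    | mul x y _ _ ihx ihy =>
      refine ⟨mul_mem ihx.1 ihy.1, fun h hh => ?_⟩
      rw [commutatorElement_mul_right_eq_mul_conj, mul_assoc, mul_assoc]
      refine mul_mem (ihx.2 h hh) ?_
      rw [← mul_assoc]
      exact (Subgroup.mem_normalizer_iff.mp ihx.1 _).mp (ihy.2 h hh)
    | inv x _ ihx =>
      refine ⟨inv_mem ihx.1, fun h hh => ?_⟩
      rw [commutatorElement_inv_right]
      have h1 : ⁅x, h⁆ ∈ M := by
        rw [← commutatorElement_inv]; exact inv_mem (ihx.2 h hh)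
      have := (Subgroup.mem_normalizer_iff.mp (inv_mem ihx.1) _).mp h1
      simpa using this
  exact key.2 h hh

end Cfsg.Agent.Helper47
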