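import Mathlib
import Cfsg.Prelude.Def_Transfer
import Cfsg.Prelude.Def_Solvable

set_option autoImplicit false

/-!
# The Shult–Gross theorem (S3793): statements of the middle pieces, as `Prop`-valued definitions

`σ` a fixed-point-free automorphism of order `p ^ n` (`p` odd) of a finite solvable group `G`
forces Fitting height `≤ n`.  Plan (helper47): induction on `n` via

* Claim A: `σ ^ (p ^ n)` (where `σ ^ (p ^ (n+1)) = 1`) acts trivially on `G / F(G)`;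
* the key lemma (KL): `x` with `x ^ (p ^ (n+1)) = 1` normalizing a `q`-group `Q` of automorphisms
  of an elementary abelian `r`-group `W`, `C_Q(x) = 1 = C_W(x)`, `p, q, r` distinct, `p` odd: then
  `x ^ (p ^ n)` centralizes `Q`.

Each definition below is the exact statement of one piece; the pieces are proved as implications
between these statements (pattern of `Helper21/WardDefs.lean`).  Conjugation is `g * v * g⁻¹`,
`⁅a, b⁆ = a * b * a⁻¹ * b⁻¹`.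
-/

namespace Cfsg.Agent.Helper47.SG

open scoped commutatorElement

/-- **Special case, representation form.**  `Q ⊴ Γ` a `q`-group of class `≤ 2` with `Q' = Z` central
in `Q` of exponent `q`; `x` of order `p ^ N`, all of whose nontrivial powers act freely on `Q / Z`,
irreducibly on `Q / Z`, with `C_Z(x) = 1`; `ρ` a representation over an algebraically closed field
in which `p q ≠ 0`, `x` has no nonzero fixed vector, and `Z` acts nontrivially.  Contradiction. -/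
def SpecialRepStmt.{uK, uM, uΓ} : Prop :=
  ∀ (K : Type uK) [Field K] [IsAlgClosed K] (M : Type uM) [AddCommGroup M] [Module K M]
    [FiniteDimensional K M] (Γ : Type uΓ) [Group Γ] [Finite Γ]
    (ρ : Γ →* Module.End K M) (Q Z : Subgroup Γ) [Q.Normal] [Z.Normal] (p q N : ℕ) (x : Γ),
    Z ≤ Q → (∀ a ∈ Q, ∀ b ∈ Q, ⁅a, b⁆ ∈ Z) → (∀ z ∈ Z, ∀ a ∈ Q, a * z = z * a) →
    Z ≤ Subgroup.closure {g | ∃ a ∈ Q, ∃ b ∈ Q, ⁅a, b⁆ = g} →
    p.Prime → p ≠ 2 → q.Prime → p ≠ q → IsPGroup q Q → (∀ z ∈ Z, z ^ q = 1) →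
    (q : K) ≠ 0 → (p : K) ≠ 0 → orderOf x = p ^ N →
    (∀ i : ℕ, x ^ i ≠ 1 → ∀ a ∈ Q, ⁅x ^ i, a⁆ ∈ Z → a ∈ Z) →
    (∀ U : Subgroup Γ, Z ≤ U → U ≤ Q → (∀ a ∈ U, x * a * x⁻¹ ∈ U) → U = Z ∨ U = Q) →
    (∀ z ∈ Z, x * z = z * x → z = 1) →
    (∀ m : M, ρ x m = m → m = 0) → (∃ z ∈ Z, ρ z ≠ 1) → False

/-- **Abelian case of the reduced configuration.** -/
def KLAbelianStmt.{uΓ, uW} : Prop :=
  ∀ (Γ : Type uΓ) [Group Γ] [Finite Γ] (W : Type uW) [CommGroup W] [Finite W] (p q r n : ℕ)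
    (φ : Γ →* MulAut W) (Q : Subgroup Γ) [Q.Normal] (x : Γ),
    p.Prime → q.Prime → r.Prime → p ≠ q → p ≠ r → q ≠ r → (∀ w : W, w ^ r = 1) →
    IsPGroup q Q → (∀ a ∈ Q, ∀ b ∈ Q, a * b = b * a) → x ^ (p ^ (n + 1)) = 1 →
    (∀ a ∈ Q, φ a = 1 → a = 1) → (∀ w : W, φ x w = w → w = 1) →
    ⁅Q, Subgroup.zpowers (x ^ (p ^ n))⁆ = Q → Q = ⊥

/-- **Special case of the reduced configuration.** -/
def KLSpecialStmt.{uΓ, uW} : Prop :=
  ∀ (Γ : Type uΓ) [Group Γ] [Finite Γ] (W : Type uW) [CommGroup W] [Finite W] (p q r n : ℕ)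
    (φ : Γ →* MulAut W) (Q : Subgroup Γ) [Q.Normal] (x : Γ),
    p.Prime → q.Prime → r.Prime → p ≠ 2 → p ≠ q → p ≠ r → q ≠ r → (∀ w : W, w ^ r = 1) →
    IsPGroup q Q → Cfsg.IsSpecial q ↥Q → x ^ (p ^ (n + 1)) = 1 →
    (∀ a ∈ Q, φ a = 1 → a = 1) → (∀ a ∈ Q, x * a = a * x → a = 1) →
    (∀ w : W, φ x w = w → w = 1) →
    ⁅Q, Subgroup.zpowers (x ^ (p ^ n))⁆ = Q →
    (∀ U : Subgroup Γ, (frattini ↥Q).map Q.subtype ≤ U → U ≤ Q →
      Subgroup.zpowers x ≤ Subgroup.normalizer (U : Set Γ) →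
      U = (frattini ↥Q).map Q.subtype ∨ U = Q) → False

/-- **The reduced configuration**: `Q ⊴ Γ` acting faithfully, proper `x`-invariant subgroups of `Q`
centralized by `x ^ (p ^ n)`. -/
def KLReducedStmt.{uΓ, uW} : Prop :=
  ∀ (Γ : Type uΓ) [Group Γ] [Finite Γ] (W : Type uW) [CommGroup W] [Finite W] (p q r n : ℕ)
    (φ : Γ →* MulAut W) (Q : Subgroup Γ) [Q.Normal] (x : Γ),
    p.Prime → q.Prime → r.Prime → p ≠ 2 → p ≠ q → p ≠ r → q ≠ r → (∀ w : W, w ^ r = 1) →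
    IsPGroup q Q → x ^ (p ^ (n + 1)) = 1 →
    (∀ a ∈ Q, φ a = 1 → a = 1) → (∀ a ∈ Q, x * a = a * x → a = 1) →
    (∀ w : W, φ x w = w → w = 1) →
    (∀ U : Subgroup Γ, U < Q → Subgroup.zpowers x ≤ Subgroup.normalizer (U : Set Γ) →
      ∀ a ∈ U, x ^ (p ^ n) * a = a * x ^ (p ^ n)) →
    ∀ a ∈ Q, x ^ (p ^ n) * a = a * x ^ (p ^ n)

/-- **The key lemma inside `MulAut W`.** -/
def KLCoreStmt.{uW} : Prop :=
  ∀ (W : Type uW) [CommGroup W] [Finite W] (p q r n : ℕ) (Q : Subgroup (MulAut W)) (x : MulAut W),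
    p.Prime → q.Prime → r.Prime → p ≠ 2 → p ≠ q → p ≠ r → q ≠ r → (∀ w : W, w ^ r = 1) →
    IsPGroup q Q → (∀ a ∈ Q, x * a * x⁻¹ ∈ Q) → x ^ (p ^ (n + 1)) = 1 →
    (∀ a ∈ Q, x * a = a * x → a = 1) → (∀ w : W, x w = w → w = 1) →
    ∀ a ∈ Q, x ^ (p ^ n) * a = a * x ^ (p ^ n)

/-- **Claim A, linear form**: `G ≤ H ≤ N(G)` inside `MulAut W`, `W` an irreducible `H`-module of
exponent `r`, `G` a solvable `p'`-group, `x ∈ H` with `C_G(x) = 1 = C_W(x)`. -/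
def ClaimALinStmt.{uW} : Prop :=
  ∀ (W : Type uW) [CommGroup W] [Finite W] (p r n : ℕ) (H G : Subgroup (MulAut W)) (x : MulAut W),
    p.Prime → r.Prime → p ≠ 2 → p ≠ r → (∀ w : W, w ^ r = 1) →
    G ≤ H → H ≤ Subgroup.normalizer (G : Set (MulAut W)) → Group.IsSolvable ↥G →
    ¬ p ∣ Nat.card G → x ∈ H → x ^ (p ^ (n + 1)) = 1 →
    (∀ a ∈ G, x * a = a * x → a = 1) → (∀ w : W, x w = w → w = 1) →
    (∀ W₀ : Subgroup W, (∀ h ∈ H, ∀ w ∈ W₀, h w ∈ W₀) → W₀ = ⊥ ∨ W₀ = ⊤) →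
    ∀ a ∈ G, x ^ (p ^ n) * a = a * x ^ (p ^ n)

/-- **Claim A, ambient form.** -/
def ClaimAAmbStmt.{u} : Prop :=
  ∀ (H : Type u) [Group H] [Finite H] (G : Subgroup H) [G.Normal] (x : H) (p n : ℕ),
    Group.IsSolvable H → p.Prime → p ≠ 2 → ¬ p ∣ Nat.card G → x ^ (p ^ (n + 1)) = 1 →
    (∀ g ∈ G, x * g = g * x → g = 1) →
    ∀ g ∈ G, ⁅x ^ (p ^ n), g⁆ ∈ (Cfsg.fittingSubgroup ↥G).map G.subtype

/-- **Claim A, type-level form.** -/
def ClaimAStmt.{u} : Prop :=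
  ∀ (G : Type u) [Group G] [Finite G] (p n : ℕ) (σ : MulAut G),
    Group.IsSolvable G → p.Prime → p ≠ 2 → σ ^ (p ^ (n + 1)) = 1 →
    (∀ g : G, σ g = g → g = 1) →
    ∀ g : G, (σ ^ (p ^ n)) g * g⁻¹ ∈ Cfsg.fittingSubgroup G

end Cfsg.Agent.Helper47.SG
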