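import Mathlib
import Cfsg.Agent.Helper16.DT.Defs

/-!
# DT farm (helper16, S4641), leaf (JH1): a reducible matrix representation of positive degree is an
extension (helper47)
-/

set_option autoImplicit false

namespace Cfsg.Agent.Helper47.DT

open Cfsg Cfsg.Agent.Helper16 Cfsg.Agent.Helper16.DT Matrix

universe u v

variable {K : Type v} [Field K] {G : Type u} [Group G]

/-- the conjugate `g ↦ Q * ρ g * P` of a matrix representation -/
def JH1_conj {ι κ : Type*} [Fintype ι] [DecidableEq ι] [Fintype κ] [DecidableEq κ]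
    (ρ : G →* Matrix ι ι K) (P : Matrix ι κ K) (Q : Matrix κ ι K) (hPQ : P * Q = 1)
    (hQP : Q * P = 1) : G →* Matrix κ κ K where
  toFun g := Q * ρ g * P
  map_one' := by rw [map_one, Matrix.mul_one, hQP]
  map_mul' g h := by
    rw [map_mul]
    have h1 : Q * ρ g * P * (Q * ρ h * P) = Q * ρ g * (P * Q) * (ρ h * P) := by
      simp only [Matrix.mul_assoc]
    rw [h1, hPQ, Matrix.mul_one]
    simp only [Matrix.mul_assoc]

theorem JH1_conj_apply {ι κ : Type*} [Fintype ι] [DecidableEq ι] [Fintype κ] [DecidableEq κ]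
    (ρ : G →* Matrix ι ι K) (P : Matrix ι κ K) (Q : Matrix κ ι K) (hPQ : P * Q = 1)
    (hQP : Q * P = 1) (g : G) : JH1_conj ρ P Q hPQ hQP g = Q * ρ g * P := rfl

/-- the upper left block of a block upper triangular representation -/
def JH1_block11 {α β : Type*} [Fintype α] [DecidableEq α] [Fintype β] [DecidableEq β]
    (M : G →* Matrix (α ⊕ β) (α ⊕ β) K) (h0 : ∀ g, (M g).toBlocks₂₁ = 0) :
    G →* Matrix α α K where
  toFun g := (M g).toBlocks₁₁
  map_one' := by
    rw [map_one]
    ext i j
    simp [Matrix.toBlocks₁₁, Matrix.one_apply]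
  map_mul' g h := by
    rw [map_mul]
    ext i j
    have hz : ∀ k, M h (Sum.inr k) (Sum.inl j) = 0 := fun k => by
      have := congrFun (congrFun (h0 h) k) j
      simpa [Matrix.toBlocks₂₁] using this
    simp [Matrix.toBlocks₁₁, Matrix.mul_apply, Fintype.sum_sum_type, hz]

/-- the lower right block of a block upper triangular representation -/
def JH1_block22 {α β : Type*} [Fintype α] [DecidableEq α] [Fintype β] [DecidableEq β]
    (M : G →* Matrix (α ⊕ β) (α ⊕ β) K) (h0 : ∀ g, (M g).toBlocks₂₁ = 0) :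
    G →* Matrix β β K where
  toFun g := (M g).toBlocks₂₂
  map_one' := by
    rw [map_one]
    ext i j
    simp [Matrix.toBlocks₂₂, Matrix.one_apply]
  map_mul' g h := by
    rw [map_mul]
    ext i j
    have hz : ∀ k, M g (Sum.inr i) (Sum.inl k) = 0 := fun k => by
      have := congrFun (congrFun (h0 g) i) k
      simpa [Matrix.toBlocks₂₁] using this
    simp [Matrix.toBlocks₂₂, Matrix.mul_apply, Fintype.sum_sum_type, hz]

/-- (JH1) a reducible matrix representation of positive degree is an extension. -/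
theorem exists_isExtMat_of_not_irred {n : ℕ} (ρ : G →* Matrix (Fin n) (Fin n) K) (hn : 0 < n)
    (hρ : ¬ IsIrredMat ρ) :
    ∃ (a b : ℕ) (σ : G →* Matrix (Fin a) (Fin a) K) (τ : G →* Matrix (Fin b) (Fin b) K),
      0 < a ∧ 0 < b ∧ a + b = n ∧ IsExtMat ρ σ τ := by
  classical
  have hne : Nonempty (Fin n) := ⟨⟨0, hn⟩⟩
  unfold IsIrredMat at hρ
  push Not at hρ
  obtain ⟨W, hW, hWb, hWt⟩ := hρ hne
  obtain ⟨W', hc⟩ := Submodule.exists_isCompl W
  have hab : Module.finrank K W + Module.finrank K W' = n := by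
    have := Submodule.finrank_add_eq_of_isCompl hc
    rw [Module.finrank_fin_fun] at this
    exact this
  have ha : 0 < Module.finrank K W :=
    Nat.pos_of_ne_zero (fun h => hWb (Submodule.finrank_eq_zero.mp h))
  have hb : 0 < Module.finrank K W' := by
    apply Nat.pos_of_ne_zero
    intro h
    have h1 : W' = ⊥ := Submodule.finrank_eq_zero.mp h
    apply hWt
    have h2 := hc.sup_eq_top
    rwa [h1, sup_bot_eq] at h2
  let bW : Module.Basis (Fin (Module.finrank K W)) K W := Module.finBasis K W
  let bW' : Module.Basis (Fin (Module.finrank K W')) K W' := Module.finBasis K W'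
  let B : Module.Basis (Fin (Module.finrank K W) ⊕ Fin (Module.finrank K W')) K (Fin n → K) :=
    (bW.prod bW').map (Submodule.prodEquivOfIsCompl W W' hc)
  let E : Module.Basis (Fin n) K (Fin n → K) := Pi.basisFun K (Fin n)
  have hPQ : E.toMatrix B * B.toMatrix E = 1 := Module.Basis.toMatrix_mul_toMatrix_flip E B
  have hQP : B.toMatrix E * E.toMatrix B = 1 := Module.Basis.toMatrix_mul_toMatrix_flip B E
  let M := JH1_conj ρ (E.toMatrix B) (B.toMatrix E) hPQ hQP
  have hM : ∀ g, M g = LinearMap.toMatrix B B (Matrix.toLin' (ρ g)) := by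
    intro g
    rw [← basis_toMatrix_mul_linearMap_toMatrix_mul_basis_toMatrix B E B E (Matrix.toLin' (ρ g)),
      LinearMap.toMatrix_eq_toMatrix', LinearMap.toMatrix'_toLin']
    rfl
  have hBl : ∀ j, B (Sum.inl j) ∈ W := by
    intro j
    have : B (Sum.inl j) = ((bW j : W) : Fin n → K) := by
      simp only [B, Module.Basis.map_apply, Submodule.coe_prodEquivOfIsCompl',
        Module.Basis.prod_apply_inl_fst, Module.Basis.prod_apply_inl_snd, Submodule.coe_zero,
        add_zero]
    rw [this]
    exact (bW j).2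
  have hrepr : ∀ w ∈ W, ∀ i, B.repr w (Sum.inr i) = 0 := by
    intro w hw i
    have h1 : B.repr w = (bW.prod bW').repr ((Submodule.prodEquivOfIsCompl W W' hc).symm w) := by
      simp only [B, Module.Basis.map_repr, LinearEquiv.trans_apply]
    have h2 := Submodule.prodEquivOfIsCompl_symm_apply_left W W' hc (⟨w, hw⟩ : W)
    simp only at h2
    rw [h1, h2, Module.Basis.prod_repr_inr]
    simp
  have h0 : ∀ g, (M g).toBlocks₂₁ = 0 := by
    intro g
    ext i j
    rw [hM]
    simp only [Matrix.toBlocks₂₁, Matrix.of_apply, LinearMap.toMatrix_apply, Matrix.zero_apply,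
      Matrix.toLin'_apply]
    exact hrepr _ (hW g _ (hBl j)) i
  refine ⟨Module.finrank K W, Module.finrank K W', JH1_block11 M h0, JH1_block22 M h0, ha, hb, hab,
    E.toMatrix B, B.toMatrix E, fun g => (M g).toBlocks₁₂, hPQ, hQP, fun g => ?_⟩
  have h3 := (Matrix.fromBlocks_toBlocks (M g)).symm
  rw [h0 g] at h3
  exact h3

end Cfsg.Agent.Helper47.DT
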