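import Mathlib
import Cfsg.Agent.Helper13.QFEDefs

/-!
# Piece (M1p) of helper13's plan for S5977/S5978 (board #8823): the model form is nondegenerate
-/

set_option autoImplicit false

namespace Cfsg.Agent.Helper47.QFEM1p

open Matrix Cfsg Cfsg.Geo QuadraticMap Polynomial
open Cfsg.Agent.Helper44 Cfsg.Agent.Helper44.QType Cfsg.Agent.Helper13.QFE

universe u

variable {F : Type u} [Field F] {ι : Type} [Fintype ι] [DecidableEq ι]

/-- the polar forms correspond -/
theorem polar_model {Q : QuadraticForm F (ι → F)}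
    {θ : Matrix ι ι F} {L : Type*} [Field L] [Algebra F L] {s : L} {φ : L →ₗ[F] F} {n : ℕ}
    (M : LModel Q θ L s φ n) (x y : Fin n → L) :
    polar ⇑Q (M.Ψ x) (M.Ψ y) = φ (polar ⇑M.QL x y) := by
  unfold polar
  rw [← map_add, M.hQ, M.hQ, M.hQ, map_sub, map_sub]

/-- (M1') the model form is nondegenerate -/
theorem model_nondeg {Q : QuadraticForm F (ι → F)} (hQ : (polarBilin Q).Nondegenerate)
    {θ : Matrix ι ι F} {L : Type*} [Field L] [Algebra F L] {s : L} {φ : L →ₗ[F] F} {n : ℕ}
    (M : LModel Q θ L s φ n) : (polarBilin M.QL).Nondegenerate := by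
  constructor
  · intro x hx
    have h1 : ∀ v : ι → F, polarBilin Q (M.Ψ x) v = 0 := by
      intro v
      have h2 := polar_model M x (M.Ψ.symm v)
      rw [LinearEquiv.apply_symm_apply] at h2
      have h3 : polar ⇑M.QL x (M.Ψ.symm v) = 0 := hx (M.Ψ.symm v)
      rw [h3, map_zero] at h2
      exact h2
    have h4 : M.Ψ x = 0 := hQ.1 _ h1
    exact M.Ψ.map_eq_zero_iff.1 h4
  · intro y hy
    have h1 : ∀ v : ι → F, polarBilin Q v (M.Ψ y) = 0 := by
      intro v
      have h2 := polar_model M (M.Ψ.symm v) y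
      rw [LinearEquiv.apply_symm_apply] at h2
      have h3 : polar ⇑M.QL (M.Ψ.symm v) y = 0 := hy (M.Ψ.symm v)
      rw [h3, map_zero] at h2
      exact h2
    have h4 : M.Ψ y = 0 := hQ.2 _ h1
    exact M.Ψ.map_eq_zero_iff.1 h4

end Cfsg.Agent.Helper47.QFEM1p
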