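import Cfsg.Agent.Helper16.PC.Defs
import Cfsg.Agent.Helper74.CharCount
import Cfsg.Agent.Helper79.Linear
import Cfsg.Agent.S0961

/-!
# S4427 piece (IVa) for helper16: the decomposition of `theta = p^a 1_X` into irreducible characters
-/

set_option autoImplicit false
set_option linter.unusedSectionVars false
set_option linter.unusedVariables false

namespace Cfsg.Agent.Helper47.PC

open Cfsg Cfsg.Agent.Helper16 Cfsg.Agent.Helper16.PC Polynomial
open scoped ComplexConjugate

universe u

variable {G : Type u} [Group G] [Fintype G] {M : Ideal AlgInt} {p : ℕ}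

/-- (IVa) the decomposition of `theta`. -/
theorem PC_IVa [Fact p.Prime] [Fintype (IrrCharacter G)]
    (hX : p ^ (Nat.card G).factorization p * Nat.card {g : G // ¬ p ∣ orderOf g} = Nat.card G) :
    ∃ a : IrrCharacter G → ℤ,
      (∀ g, theta p G g = ∑ χ : IrrCharacter G, (a χ : ℂ) * (χ : G → ℂ) g) ∧
      ∑ χ : IrrCharacter G, (a χ) ^ 2 = ((p ^ (Nat.card G).factorization p : ℕ) : ℤ) ∧
      a (Helper79.principalIrr G) = 1 := by
  classical
  set P : ℕ := p ^ (Nat.card G).factorization p with hP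
  have hgen : IsGeneralizedCharacter G (theta p G) := by
    have h := Cfsg.Agent.S0961.result (G := G) p (Helper79.principalIrr G)
    have e : (fun x : G => if p ∣ orderOf x then 0 else
        ((p ^ (Nat.card G).factorization p : ℕ) : ℂ) *
          ((Helper79.principalIrr G : IrrCharacter G) : G → ℂ) x) = theta p G := by
      funext x
      unfold theta
      show (if p ∣ orderOf x then (0 : ℂ) else
        ((p ^ (Nat.card G).factorization p : ℕ) : ℂ) * 1) = _
      rw [mul_one]
    rwa [e] at h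
  obtain ⟨χ₁, χ₂, h₁, h₂, hθ⟩ := hgen
  choose m₁ hm₁ using Helper74.isCharacter_inner_irr_nat h₁
  choose m₂ hm₂ using Helper74.isCharacter_inner_irr_nat h₂
  let a : IrrCharacter G → ℤ := fun ψ => (m₁ ψ : ℤ) - (m₂ ψ : ℤ)
  have hacast : ∀ ψ, ((a ψ : ℤ) : ℂ) = (m₁ ψ : ℂ) - (m₂ ψ : ℂ) := by
    intro ψ; simp [a]
  have hexp : theta p G = ∑ ψ : IrrCharacter G, ((a ψ : ℤ) : ℂ) • (ψ : G → ℂ) := by
    have e₁ := Helper74.isCharacter_eq_sum_irr h₁
    have e₂ := Helper74.isCharacter_eq_sum_irr h₂
    rw [hθ]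
    calc χ₁ - χ₂ = (∑ ψ : IrrCharacter G, classInner χ₁ (ψ : G → ℂ) • (ψ : G → ℂ)) -
          ∑ ψ : IrrCharacter G, classInner χ₂ (ψ : G → ℂ) • (ψ : G → ℂ) := by rw [← e₁, ← e₂]
      _ = ∑ ψ : IrrCharacter G, ((a ψ : ℤ) : ℂ) • (ψ : G → ℂ) := by
        rw [← Finset.sum_sub_distrib]
        refine Finset.sum_congr rfl (fun ψ _ => ?_)
        rw [hm₁, hm₂, ← sub_smul, hacast]
  have hinner : ∀ ψ : IrrCharacter G, classInner (theta p G) (ψ : G → ℂ) = ((a ψ : ℤ) : ℂ) := by
    intro ψ
    rw [hθ, Helper74.classInner_sub_left, hm₁, hm₂, hacast]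
  have hXc : (Finset.univ.filter (fun g : G => ¬ p ∣ orderOf g)).card =
      Nat.card {g : G // ¬ p ∣ orderOf g} := by
    rw [Nat.card_eq_fintype_card, Fintype.card_subtype]
  have hGne : (Nat.card G : ℂ) ≠ 0 := by exact_mod_cast Nat.card_pos.ne'
  have hXC : (P : ℂ) * (Nat.card {g : G // ¬ p ∣ orderOf g} : ℂ) = (Nat.card G : ℂ) := by
    exact_mod_cast hX
  have hPne : (P : ℂ) ≠ 0 := by
    intro h0; rw [h0, zero_mul] at hXC; exact hGne hXC.symm
  have hXne : (Nat.card {g : G // ¬ p ∣ orderOf g} : ℂ) ≠ 0 := by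
    intro h0; rw [h0, mul_zero] at hXC; exact hGne hXC.symm
  have hthetaval : ∀ g : G, theta p G g = if ¬ p ∣ orderOf g then (P : ℂ) else 0 := by
    intro g; unfold theta
    by_cases h : p ∣ orderOf g <;> simp [h, hP]
  have hself : classInner (theta p G) (theta p G) = (P : ℂ) := by
    rw [Helper74.classInner_def]
    have hterm : ∀ g : G, theta p G g * conj (theta p G g) =
        if ¬ p ∣ orderOf g then (P : ℂ) * P else 0 := by
      intro g
      rw [hthetaval g]
      by_cases h : p ∣ orderOf g <;> simp [h]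
    rw [Finset.sum_congr rfl (fun g _ => hterm g), Finset.sum_ite, Finset.sum_const_zero, add_zero,
      Finset.sum_const, hXc, nsmul_eq_mul, ← hXC]
    field_simp
  have hone : classInner (theta p G) ((Helper79.principalIrr G : IrrCharacter G) : G → ℂ) = 1 := by
    rw [Helper74.classInner_def]
    have hterm : ∀ g : G, theta p G g *
        conj (((Helper79.principalIrr G : IrrCharacter G) : G → ℂ) g) =
        if ¬ p ∣ orderOf g then (P : ℂ) else 0 := by
      intro g
      rw [hthetaval g]
      show (if ¬ p ∣ orderOf g then (P : ℂ) else 0) * conj (1 : ℂ) = _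
      rw [map_one, mul_one]
    rw [Finset.sum_congr rfl (fun g _ => hterm g), Finset.sum_ite, Finset.sum_const_zero, add_zero,
      Finset.sum_const, hXc, nsmul_eq_mul, ← hXC]
    field_simp
  refine ⟨a, ?_, ?_, ?_⟩
  · intro g
    have := congrFun hexp g
    rw [this, Finset.sum_apply]
    refine Finset.sum_congr rfl (fun ψ _ => ?_)
    rw [Pi.smul_apply, smul_eq_mul]
  · have hsum : classInner (theta p G) (theta p G) =
        ∑ ψ : IrrCharacter G, ((a ψ : ℤ) : ℂ) * ((a ψ : ℤ) : ℂ) := by
      have e : classInner (theta p G) (theta p G) =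
          classInner (theta p G) (∑ ψ : IrrCharacter G, ((a ψ : ℤ) : ℂ) • (ψ : G → ℂ)) := by
        rw [← hexp]
      rw [e, Helper74.classInner_sum_right]
      refine Finset.sum_congr rfl (fun ψ _ => ?_)
      rw [Helper74.classInner_smul_right, hinner, map_intCast]
    rw [hself] at hsum
    have hsum' : ((∑ ψ : IrrCharacter G, (a ψ) ^ 2 : ℤ) : ℂ) = ((P : ℤ) : ℂ) := by
      push_cast
      rw [hsum]
      refine Finset.sum_congr rfl (fun ψ _ => ?_)
      ring
    exact_mod_cast hsum'
  · have h := hinner (Helper79.principalIrr G)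
    rw [hone] at h
    exact_mod_cast h.symm

end Cfsg.Agent.Helper47.PC
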