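import Cfsg.Agent.Helper16.PC.Defs
import Cfsg.Agent.Helper74.CharCount
import Cfsg.Agent.Helper79.Linear
import Cfsg.Agent.S0961

/-!
# S4427 piece (Ie) for helper16: `|Q||R||Q| e_Q e_R e_Q` is integer valued
-/

set_option autoImplicit false
set_option linter.unusedSectionVars false
set_option linter.unusedVariables false

namespace Cfsg.Agent.Helper47.PC

open Cfsg Cfsg.Agent.Helper16 Cfsg.Agent.Helper16.PC Polynomial
open scoped ComplexConjugate

universe u

variable {G : Type u} [Group G] [Fintype G] {M : Ideal AlgInt} {p : ℕ}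

/-- the convolution of integer valued functions is integer valued -/
theorem PC_Ie_conv_int (s t : G → ℂ) (hs : ∀ g, ∃ z : ℤ, s g = z) (ht : ∀ g, ∃ z : ℤ, t g = z)
    (g : G) : ∃ z : ℤ, conv s t g = z := by
  choose zs hzs using hs
  choose zt hzt using ht
  refine ⟨∑ x : G, zs x * zt (x⁻¹ * g), ?_⟩
  rw [conv_apply]
  push_cast
  refine Finset.sum_congr rfl (fun x _ => ?_)
  rw [hzs, hzt]

/-- `|H| e_H` is the indicator function of `H` -/
theorem PC_Ie_ind_int (H : Subgroup G) (g : G) :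
    ∃ z : ℤ, (Nat.card H : ℂ) * subgroupIdem H g = z := by
  classical
  unfold subgroupIdem
  by_cases hg : g ∈ H
  · refine ⟨1, ?_⟩
    have hne : (Nat.card H : ℂ) ≠ 0 := by exact_mod_cast Nat.card_pos.ne'
    simp only [hg, if_true]
    rw [mul_inv_cancel₀ hne]; simp
  · refine ⟨0, ?_⟩
    simp only [hg, if_false]
    simp

/-- (Ie) integrality of `|Q||R||Q| e_Q e_R e_Q`. -/
theorem PC_Ie (Q R : Subgroup G) (g : G) :
    ∃ z : ℤ, ((Nat.card Q * Nat.card R * Nat.card Q : ℕ) : ℂ) *
      CAlg.fn (eSub Q * eSub R * eSub Q) g = z := by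
  have key : ((Nat.card Q * Nat.card R * Nat.card Q : ℕ) : ℂ) *
      CAlg.fn (eSub Q * eSub R * eSub Q) g =
      conv (conv (fun x => (Nat.card Q : ℂ) * subgroupIdem Q x)
        (fun x => (Nat.card R : ℂ) * subgroupIdem R x))
        (fun x => (Nat.card Q : ℂ) * subgroupIdem Q x) g := by
    rw [CAlg.fn_mul, CAlg.fn_mul]
    unfold eSub
    simp only [CAlg.fn_of, conv_apply, Finset.mul_sum, Finset.sum_mul]
    refine Finset.sum_congr rfl (fun x _ => Finset.sum_congr rfl (fun y _ => ?_))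
    push_cast
    ring
  rw [key]
  exact PC_Ie_conv_int _ _ (PC_Ie_conv_int _ _ (PC_Ie_ind_int Q) (PC_Ie_ind_int R))
    (PC_Ie_ind_int Q) g

end Cfsg.Agent.Helper47.PC
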