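import Cfsg.Agent.Helper47.G2CC5aCore
import Cfsg.Agent.Helper18.InvOdd.CentDecomp
import Cfsg.Agent.Helper60.G2InvC2
import Cfsg.Agent.Helper60.G2InvC3

/-!
# S4279 piece (C5a) for helper18: every element of `G₂(F)` commuting with `τ` is parametrised by `cPhi`.
`CParam`, `cPhi` are VERBATIM copies of the SkelC definitions (tools/helper18_g2inv/SkelC.lean.txt); a definition-free
form of the same statement is `cPhi_surj_shapes`.
-/

set_option autoImplicit false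
set_option maxRecDepth 100000

namespace Cfsg.Agent.Helper47.G2OddSkel

open Cfsg Cfsg.Lie Cfsg.Agent.Helper18 Cfsg.Agent.Helper18.G2Odd Cfsg.Agent.Helper40.SL2Hom

variable {F : Type*} [Field F]

/-- the parameter space of the centraliser: `(a, b, k)` and one of four cells -/
abbrev CParam (F : Type*) [Field F] : Type _ :=
  (F × F × ↥(chevG2.diagonalSubgroup F)) × (Unit ⊕ F ⊕ F ⊕ (F × F))

/-- the parametrisation `X_6(a) X_9(b) k ν u` of the centraliser of `τ` -/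
noncomputable def cPhi (p : CParam F) : GL chevG2.Idx F :=
  X 6 p.1.1 * X 9 p.1.2.1 * (p.1.2.2 : GL chevG2.Idx F) *
    (match p.2 with
      | Sum.inl _ => 1
      | Sum.inr (Sum.inl s) => nW [1] * X 6 s
      | Sum.inr (Sum.inr (Sum.inl s')) => nW [0, 1, 0, 1, 0] * X 9 s'
      | Sum.inr (Sum.inr (Sum.inr (s, s'))) => nW [0, 1, 0, 1, 0, 1] * (X 6 s * X 9 s'))

/-- (C5a) in definition-free form: the four shapes -/
theorem cPhi_surj_shapes (h2 : (2 : F) ≠ 0) (g : GL chevG2.Idx F) (hg : g ∈ chevG2.group F)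
    (hc : g * tau = tau * g) :
    ∃ (a b : F) (k : GL chevG2.Idx F), k ∈ chevG2.diagonalSubgroup F ∧
      (g = X 6 a * X 9 b * k * 1 ∨
        (∃ s : F, g = X 6 a * X 9 b * k * (nW [1] * X 6 s)) ∨
        (∃ s' : F, g = X 6 a * X 9 b * k * (nW [0, 1, 0, 1, 0] * X 9 s')) ∨
        (∃ s s' : F, g = X 6 a * X 9 b * k * (nW [0, 1, 0, 1, 0, 1] * (X 6 s * X 9 s')))) :=
  G2CC5a_core
    (fun g hg hc => Cfsg.Agent.Helper18.InvOdd.cent_decomp chevG2 hG2 tau tau_mem_diagonal g hg hc)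
    (fun u hu hc => Cfsg.Agent.Helper60.G2Inv.cent_U h2 u hu hc)
    (fun n hn hc => Cfsg.Agent.Helper60.G2Inv.cent_N h2 n hn hc) g hg hc

/-- (C5a) every element of `G` commuting with `τ` is parametrised. -/
theorem cPhi_surj (h2 : (2 : F) ≠ 0) (g : GL chevG2.Idx F) (hg : g ∈ chevG2.group F) (hc : g * tau = tau * g) :
    ∃ p : CParam F, cPhi p = g := by
  obtain ⟨a, b, k, hk, h | ⟨s, h⟩ | ⟨s', h⟩ | ⟨s, s', h⟩⟩ := cPhi_surj_shapes h2 g hg hc
  · exact ⟨((a, b, ⟨k, hk⟩), Sum.inl ()), h.symm⟩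
  · exact ⟨((a, b, ⟨k, hk⟩), Sum.inr (Sum.inl s)), h.symm⟩
  · exact ⟨((a, b, ⟨k, hk⟩), Sum.inr (Sum.inr (Sum.inl s'))), h.symm⟩
  · exact ⟨((a, b, ⟨k, hk⟩), Sum.inr (Sum.inr (Sum.inr (s, s')))), h.symm⟩

end Cfsg.Agent.Helper47.G2OddSkel
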