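import Mathlib
import Cfsg.Agent.Helper19.OpBN.Defs

/-!
# (STEP1) for helper19's S2548 skeleton 2 (helper47)

Reduction step, last nonzero coordinate `A` in the first half; the common core `STEP_core` (the element
`s_k x_k(t)`) is also used for (STEP2).
-/

set_option autoImplicit false

namespace Cfsg.Agent.Helper47.OpBN

open Matrix Cfsg.Agent.Helper19.OpBN

variable {F : Type*} [Field F] {m : ℕ}

/-- the action of a root element on a vector -/
theorem STEP_xMat_mulVec (a b : Fin (2 * m)) (t : F) (v : Fin (2 * m) → F) (l : Fin (2 * m)) :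
    (xMat a b t *ᵥ v) l = v l + (if l = a then t * v b else 0)
      - (if l = Fin.rev b then t * v (Fin.rev a) else 0) := by
  unfold xMat
  rw [Matrix.sub_mulVec, Matrix.add_mulVec, Matrix.one_mulVec,
    Matrix.smul_mulVec, Matrix.smul_mulVec, Matrix.single_mulVec, Matrix.single_mulVec]
  simp only [Pi.add_apply, Pi.sub_apply, Pi.smul_apply, Function.update_apply, Pi.zero_apply,
    smul_eq_mul, one_mul, mul_ite, mul_zero]

/-- the common core of the two steps: the element `s_k x_k(t)` lies in `G1`, fixes the first `k` basis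
vectors and acts as `x_k(t)` followed by the permutation `sPerm k` -/
theorem STEP_core
    (hX : ∀ (a b : Fin (2 * m)), a ≠ b → a ≠ Fin.rev b → ∀ t : F, IsOJ (xMat a b t))
    (k : Fin (m - 1)) (t : F) (j : ℕ) (hjk : j ≤ k.val) :
    ∃ h ∈ G1 m F, Fixj j h ∧ ∀ (v : Fin (2 * m) → F) (p : Fin (2 * m)),
      (mat h *ᵥ v) p = (xMat (ia k) (ib k) t *ᵥ v) (sPerm k p) := by
  have hk := k.2
  have hab : ia k ≠ ib k := by
    intro h
    have := congrArg Fin.val h
    rw [val_ia, val_ib] at this
    omega
  have harb : ia k ≠ Fin.rev (ib k) := by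
    intro h
    have := congrArg Fin.val h
    rw [val_ia, val_rev, val_ib] at this
    omega
  obtain ⟨x, hx⟩ := exists_of_isOJ (hX (ia k) (ib k) hab harb t)
  -- `x ∈ B`
  have hxB : x ∈ Bsub m F := by
    rw [mem_Bsub_iff]
    intro p q hqp
    rw [hx, xMat_apply, if_neg (ne_of_gt hqp)]
    have hpq : q.val < p.val := hqp
    have hp := p.2
    have hq := q.2
    have h1 : ¬ (ia k = p ∧ ib k = q) := by
      rintro ⟨e1, e2⟩
      have e1' := congrArg Fin.val e1
      have e2' := congrArg Fin.val e2
      rw [val_ia] at e1'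
      rw [val_ib] at e2'
      omega
    have h2 : ¬ (Fin.rev (ib k) = p ∧ Fin.rev (ia k) = q) := by
      rintro ⟨e1, e2⟩
      have e1' := congrArg Fin.val e1
      have e2' := congrArg Fin.val e2
      rw [val_rev, val_ib] at e1'
      rw [val_rev, val_ia] at e2'
      omega
    rw [if_neg h1, if_neg h2]
    simp
  have hsN : (sA k : OG m F) ∈ Nsub m F :=
    Subgroup.mem_sup_left (Subgroup.subset_closure (Or.inl ⟨k, rfl⟩))
  have hsinv : (sPerm k)⁻¹ = sPerm k := by
    rw [inv_eq_iff_mul_eq_one]
    ext q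
    rw [Equiv.Perm.mul_apply, sPerm_sPerm]
    rfl
  refine ⟨sA k * x, Subgroup.mul_mem _ (Subgroup.mem_sup_right hsN) (Subgroup.mem_sup_left hxB),
    ?_, ?_⟩
  · -- the first `j` columns
    intro p q hq
    rw [mat_mul, Matrix.mul_apply]
    have hqn := q.2
    have hcol : ∀ l : Fin (2 * m), mat x l q = if l = q then 1 else 0 := by
      intro l
      rw [hx, xMat_apply]
      have h1 : ¬ (ia k = l ∧ ib k = q) := by
        rintro ⟨_, e2⟩
        have e2' := congrArg Fin.val e2
        rw [val_ib] at e2'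
        omega
      have h2 : ¬ (Fin.rev (ib k) = l ∧ Fin.rev (ia k) = q) := by
        rintro ⟨_, e2⟩
        have e2' := congrArg Fin.val e2
        rw [val_rev, val_ia] at e2'
        omega
      rw [if_neg h1, if_neg h2]
      simp
    rw [Finset.sum_eq_single q]
    · rw [hcol q, if_pos rfl, mul_one, mat_sA, pMat_apply]
      have hfix : sPerm k q = q := by
        apply Fin.ext
        rw [val_sPerm]
        rw [if_neg (by omega), if_neg (by omega), if_neg (by omega), if_neg (by omega)]
      rw [hfix]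
    · intro l _ hl
      rw [hcol l, if_neg hl, mul_zero]
    · intro h
      exact absurd (Finset.mem_univ _) h
  · intro v p
    rw [mat_mul, ← Matrix.mulVec_mulVec, mat_sA, pMat_mulVec, hsinv, hx]

/-- (STEP1) the last nonzero coordinate `A` is in the first half: use `x ∈ X_{A-1}` and `s_{A-1}` -/
theorem step_first
    (hX : ∀ (a b : Fin (2 * m)), a ≠ b → a ≠ Fin.rev b → ∀ t : F, IsOJ (xMat a b t))
    (j A : ℕ) (hjA : j < A) (hA : A < m) (v : Fin (2 * m) → F)
    (hvA : ∀ a : Fin (2 * m), A < a.val → v a = 0) (a : Fin (2 * m)) (ha : a.val = A) (hva : v a ≠ 0) :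
    ∃ h ∈ G1 m F, Fixj j h ∧ ∀ a : Fin (2 * m), A ≤ a.val → (mat h *ᵥ v) a = 0 := by
  have hk : A - 1 < m - 1 := by omega
  set k : Fin (m - 1) := ⟨A - 1, hk⟩ with hkdef
  have hkval : k.val = A - 1 := rfl
  have hib : ib k = a := by
    apply Fin.ext
    rw [val_ib, hkval, ha]
    omega
  obtain ⟨h, hh, hfix, hact⟩ := STEP_core hX k (-(v (ia k)) / v a) j (by rw [hkval]; omega)
  refine ⟨h, hh, hfix, ?_⟩
  intro p hp
  rw [hact, STEP_xMat_mulVec]
  have hrev : v (Fin.rev (ia k)) = 0 := by
    apply hvA
    rw [val_rev, val_ia, hkval]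
    omega
  rw [hrev, mul_zero, ite_self, sub_zero]
  have hpn := p.2
  by_cases hpA : p.val = A
  · have e : sPerm k p = ia k := by
      apply Fin.ext
      rw [val_sPerm, val_ia, hkval]
      rw [if_neg (by omega), if_pos (by omega)]
    rw [e, if_pos rfl, hib]
    field_simp
    ring
  · have hgt : A < (sPerm k p).val := by
      rw [val_sPerm, hkval]
      split_ifs <;> omega
    have hne : sPerm k p ≠ ia k := by
      intro h
      have := congrArg Fin.val h
      rw [val_ia, hkval] at this
      omega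
    rw [if_neg hne, add_zero]
    exact hvA _ hgt

end Cfsg.Agent.Helper47.OpBN
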