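import Mathlib
import Cfsg.Agent.Helper19.OpBN.Defs
import Cfsg.Agent.Helper47.OpBNSTEP1

/-!
# (STEP2) for helper19's S2548 skeleton 2 (helper47)

Reduction step, last nonzero coordinate `A` in the second half, `A > m`: the root `k = 2m - 1 - A`.
-/

set_option autoImplicit false

namespace Cfsg.Agent.Helper47.OpBN

open Matrix Cfsg.Agent.Helper19.OpBN

variable {F : Type*} [Field F] {m : ℕ}

/-- (STEP2) the last nonzero coordinate `A` is in the second half, `A > m`: use the root `k = 2m - 1 - A` -/
theorem step_second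
    (hX : ∀ (a b : Fin (2 * m)), a ≠ b → a ≠ Fin.rev b → ∀ t : F, IsOJ (xMat a b t))
    (j A : ℕ) (hA : A + j ≤ 2 * m - 1) (hmA : m < A) (hAn : A < 2 * m) (v : Fin (2 * m) → F)
    (hvA : ∀ a : Fin (2 * m), A < a.val → v a = 0) (a : Fin (2 * m)) (ha : a.val = A) (hva : v a ≠ 0) :
    ∃ h ∈ G1 m F, Fixj j h ∧ ∀ a : Fin (2 * m), A ≤ a.val → (mat h *ᵥ v) a = 0 := by
  have hk : 2 * m - 1 - A < m - 1 := by omega
  set k : Fin (m - 1) := ⟨2 * m - 1 - A, hk⟩ with hkdef
  have hkval : k.val = 2 * m - 1 - A := rfl
  have hra : Fin.rev (ia k) = a := by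
    apply Fin.ext
    rw [val_rev, val_ia, hkval, ha]
    omega
  obtain ⟨h, hh, hfix, hact⟩ := STEP_core hX k (v (Fin.rev (ib k)) / v a) j (by rw [hkval]; omega)
  refine ⟨h, hh, hfix, ?_⟩
  intro p hp
  rw [hact, STEP_xMat_mulVec, hra]
  have hpn := p.2
  by_cases hpA : p.val = A
  · have e : sPerm k p = Fin.rev (ib k) := by
      apply Fin.ext
      rw [val_sPerm, val_rev, val_ib, hkval]
      rw [if_neg (by omega), if_neg (by omega), if_neg (by omega), if_pos (by omega)]
      omega
    have hne : Fin.rev (ib k) ≠ ia k := by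
      intro h'
      have := congrArg Fin.val h'
      rw [val_rev, val_ib, val_ia, hkval] at this
      omega
    rw [e, if_neg hne, if_pos rfl, add_zero]
    field_simp
    ring
  · have hfixp : sPerm k p = p := by
      apply Fin.ext
      rw [val_sPerm, hkval]
      rw [if_neg (by omega), if_neg (by omega), if_neg (by omega), if_neg (by omega)]
    have hne1 : p ≠ ia k := by
      intro h'
      have := congrArg Fin.val h'
      rw [val_ia, hkval] at this
      omega
    have hne2 : p ≠ Fin.rev (ib k) := by
      intro h'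
      have := congrArg Fin.val h'
      rw [val_rev, val_ib, hkval] at this
      omega
    rw [hfixp, if_neg hne1, if_neg hne2, add_zero, sub_zero]
    exact hvA p (by omega)

end Cfsg.Agent.Helper47.OpBN
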