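import Mathlib
import Cfsg.Agent.Helper19.OpBN.Defs

/-!
# S2548 piece (R2) for helper19: a monomial matrix `n` or `s n` conjugates `X_k` into `B`
-/

set_option autoImplicit false

namespace Cfsg.Agent.Helper47.OpBN

open Matrix Cfsg.Agent.Helper19.OpBN

variable {F : Type*} [Field F] {m : ℕ}

/-- the core: a monomial matrix whose permutation keeps the order of `ia k`, `ib k` -/
theorem R2_core (k : Fin (m - 1)) (n : OG m F) (π : Equiv.Perm (Fin (2 * m)))
    (hπ : ∀ a b : Fin (2 * m), a ≠ π b → mat n a b = 0)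
    (H : ∀ a b : Fin (2 * m), π a = ia k → π b = ib k → a < b) :
    ∀ x ∈ Xset (F := F) k, n⁻¹ * x * n ∈ Bsub m F := by
  rintro x ⟨t, hx⟩
  rw [mem_Bsub_iff]
  intro a b hba
  rw [mono_conj_apply n π hπ x a b, hx, xMat_apply]
  have hab : a ≠ b := fun h => by rw [h] at hba; exact lt_irrefl _ hba
  have h1 : ¬ (π a = π b) := fun h => hab (π.injective h)
  have h2 : ¬ (ia k = π a ∧ ib k = π b) := by
    rintro ⟨e1, e2⟩
    exact lt_asymm hba (H a b e1.symm e2.symm)
  have h3 : ¬ (Fin.rev (ib k) = π a ∧ Fin.rev (ia k) = π b) := by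
    rintro ⟨e1, e2⟩
    have e1' : π (Fin.rev a) = ib k := by
      rw [mono_perm_rev n π hπ a, ← e1, Fin.rev_rev]
    have e2' : π (Fin.rev b) = ia k := by
      rw [mono_perm_rev n π hπ b, ← e2, Fin.rev_rev]
    have := H (Fin.rev b) (Fin.rev a) e2' e1'
    rw [Fin.rev_lt_rev] at this
    exact lt_asymm hba this
  rw [if_neg h1, if_neg h2, if_neg h3]
  simp

theorem R2_sPerm_ia (k : Fin (m - 1)) : sPerm k (ia k) = ib k := by
  apply Fin.ext
  rw [val_sPerm, val_ia, val_ib, if_pos rfl]

theorem R2_sPerm_ib (k : Fin (m - 1)) : sPerm k (ib k) = ia k := by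
  apply Fin.ext
  rw [val_sPerm, val_ia, val_ib]
  have hk := k.2
  split_ifs <;> omega

/-- (R2) a monomial matrix `n` or `s n` conjugates `X_k` into `B` -/
theorem conj_Xset_dichotomy (k : Fin (m - 1)) (n : OG m F) (hn : n ∈ Mono m F) :
    (∀ x ∈ Xset k, n⁻¹ * x * n ∈ Bsub m F) ∨
      (∀ x ∈ Xset k, (sA k * n)⁻¹ * x * (sA k * n) ∈ Bsub m F) := by
  obtain ⟨π, hπ⟩ := (mem_Mono_iff n).1 hn
  by_cases hlt : π.symm (ia k) < π.symm (ib k)
  · left
    apply R2_core k n π hπ
    intro a b ha hb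
    have ea : a = π.symm (ia k) := by rw [← ha, Equiv.symm_apply_apply]
    have eb : b = π.symm (ib k) := by rw [← hb, Equiv.symm_apply_apply]
    rw [ea, eb]
    exact hlt
  · right
    have hne : π.symm (ia k) ≠ π.symm (ib k) := by
      intro h
      have := π.symm.injective h
      have h2 := congrArg Fin.val this
      rw [val_ia, val_ib] at h2
      omega
    have hgt : π.symm (ib k) < π.symm (ia k) := lt_of_le_of_ne (not_lt.1 hlt) (Ne.symm hne)
    have hπ' : ∀ a b : Fin (2 * m), a ≠ (sPerm k * π) b → mat (sA (F := F) k * n) a b = 0 := by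
      intro a b hab
      rw [mat_mul, mul_mono_apply n π hπ, mat_sA, pMat_apply, if_neg, zero_mul]
      exact hab
    apply R2_core k (sA k * n) (sPerm k * π) hπ'
    intro a b ha hb
    rw [Equiv.Perm.mul_apply] at ha hb
    have ha' : π a = ib k := by
      rw [← R2_sPerm_ia k, ← ha, sPerm_sPerm]
    have hb' : π b = ia k := by
      rw [← R2_sPerm_ib k, ← hb, sPerm_sPerm]
    have ea : a = π.symm (ib k) := by rw [← ha', Equiv.symm_apply_apply]
    have eb : b = π.symm (ia k) := by rw [← hb', Equiv.symm_apply_apply]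
    rw [ea, eb]
    exact hgt

end Cfsg.Agent.Helper47.OpBN
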