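import Mathlib
import Cfsg.Agent.Helper19.OpBN.Defs

/-!
# S2548 piece (RB) for helper19: the reflection `rr` normalises `B`
-/

set_option autoImplicit false

namespace Cfsg.Agent.Helper47.OpBN

open Matrix Cfsg.Agent.Helper19.OpBN

variable {F : Type*} [Field F] {m : ℕ}

/-- (RB) the reflection `rr` normalises `B` -/
theorem rr_conj_mem_Bsub (b : OG m F) (hb : b ∈ Bsub m F) : rr * b * rr⁻¹ ∈ Bsub m F := by
  rw [mem_Bsub_iff] at hb ⊢
  intro i j hji
  have hπ : ∀ a c : Fin (2 * m), a ≠ rPerm m c → mat (rr : OG m F) a c = 0 := by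
    intro a c hac
    rw [mat_rr, pMat_apply, if_neg hac]
  have h := mono_conj_apply' rr (rPerm m) hπ b (rPerm m i) (rPerm m j)
  rw [rPerm_rPerm, rPerm_rPerm] at h
  rw [h]
  have hz : mat b (rPerm m i) (rPerm m j) = 0 := by
    by_cases hlt : rPerm m j < rPerm m i
    · exact hb _ _ hlt
    · have hi := val_rPerm i
      have hj := val_rPerm j
      have hi2 := i.2
      have hj2 := j.2
      rw [Fin.lt_def] at hlt hji
      have h1 : (rPerm m i).val + 1 = m := by
        split_ifs at hi hj <;> omega
      have h2 : rPerm m j = Fin.rev (rPerm m i) := by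
        apply Fin.ext
        rw [val_rev]
        split_ifs at hi hj <;> omega
      rw [h2]
      exact mid_zero b hb _ h1
  rw [hz, mul_zero, zero_mul]

end Cfsg.Agent.Helper47.OpBN
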