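import Mathlib
import Cfsg.Agent.Helper19.OpBN.Defs

/-!
# (BUT) for helper19's S2548 skeleton 3 (helper47): `B = U T`
-/

set_option autoImplicit false

namespace Cfsg.Agent.Helper47.OpBN

open Matrix Cfsg Cfsg.Agent.Helper19.OpBN

variable {F : Type*} [Field F] {m : ℕ}

/-- (BUT) `B = U T` -/
theorem exists_Usub_mul_Tsub (b : OG m F) (hb : b ∈ Bsub m F) :
    ∃ u ∈ Usub m F, ∃ t ∈ Tsub m F, b = u * t := by
  classical
  have hbt : ∀ a c : Fin (2 * m), c < a → mat b a c = 0 := (mem_Bsub_iff b).1 hb
  -- the diagonal part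
  have hD : IsOJ (Matrix.diagonal (fun i => mat b i i)) := by
    constructor
    · intro c
      apply Finset.sum_eq_zero
      intro i _
      by_cases h : lo i = c
      · have h2 : hi i ≠ c := fun h' => lo_ne_hi i i (h.trans h'.symm)
        rw [Matrix.diagonal_apply_ne _ h2, mul_zero]
      · rw [Matrix.diagonal_apply_ne _ h, zero_mul]
    · intro a a'
      rw [Finset.sum_eq_single a]
      · rw [Matrix.diagonal_apply_eq]
        by_cases h : a = Fin.rev a'
        · rw [if_pos h]
          have h' : Fin.rev a = a' := by rw [h, Fin.rev_rev]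
          rw [← h', Matrix.diagonal_apply_eq]
          exact diag_mul_diag b hbt a
        · rw [if_neg h]
          have h' : Fin.rev a ≠ a' := by
            intro e
            apply h
            rw [← e, Fin.rev_rev]
          rw [Matrix.diagonal_apply_ne _ h', mul_zero]
      · intro i _ hia
        rw [Matrix.diagonal_apply_ne _ hia, zero_mul]
      · intro hh
        exact absurd (Finset.mem_univ _) hh
  obtain ⟨t, ht⟩ := exists_of_isOJ hD
  have htT : t ∈ Tsub m F := by
    rw [mem_Tsub_iff]
    intro a c hac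
    rw [ht, Matrix.diagonal_apply_ne _ hac]
  have htiT : t⁻¹ ∈ Tsub m F := (Tsub m F).inv_mem htT
  have hu : b * t⁻¹ ∈ Usub m F := by
    rw [mem_Usub_iff]
    constructor
    · exact (mem_Bsub_iff _).1 ((Bsub m F).mul_mem hb (Tsub_le_Bsub htiT))
    · intro a
      rw [mat_mul, Matrix.mul_apply, Finset.sum_eq_single a]
      · rw [inv_apply, ht, Matrix.diagonal_apply_eq]
        exact diag_mul_diag b hbt a
      · intro c _ hca
        rw [(mem_Tsub_iff _).1 htiT c a hca, mul_zero]
      · intro hh
        exact absurd (Finset.mem_univ _) hh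
  exact ⟨b * t⁻¹, hu, t, htT, (inv_mul_cancel_right b t).symm⟩

end Cfsg.Agent.Helper47.OpBN
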