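import Mathlib
import Cfsg.Agent.Helper19.OpBN.Defs

/-!
# (P9) for helper19's S2548 skeleton 3 (helper47): `U` is a `p`-group
(adapted from helper65's `SuBNP9`)
-/

set_option autoImplicit false

namespace Cfsg.Agent.Helper47.OpBN

open Matrix Cfsg Cfsg.Agent.Helper19.OpBN

variable {F : Type*} [Field F] {m : ℕ}

/-- powers of a strictly upper triangular matrix -/
theorem P9_pow_apply_ne_zero {n : ℕ} (A : Matrix (Fin n) (Fin n) F)
    (hA : ∀ r k, A r k ≠ 0 → r.val < k.val) :
    ∀ j : ℕ, ∀ r k, (A ^ j) r k ≠ 0 → r.val + j ≤ k.val := by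
  intro j
  induction j with
  | zero =>
    intro r k h
    rw [pow_zero, Matrix.one_apply] at h
    by_cases hrk : r = k
    · rw [hrk]; omega
    · rw [if_neg hrk] at h; exact absurd rfl h
  | succ j ih =>
    intro r k h
    rw [pow_succ, Matrix.mul_apply] at h
    obtain ⟨l, -, hl⟩ := Finset.exists_ne_zero_of_sum_ne_zero h
    have h1 : (A ^ j) r l ≠ 0 := left_ne_zero_of_mul hl
    have h2 : A l k ≠ 0 := right_ne_zero_of_mul hl
    have := ih r l h1
    have := hA l k h2
    omega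

theorem P9_mat_pow (u : OG m F) (j : ℕ) : mat (u ^ j) = mat u ^ j := by
  induction j with
  | zero => rw [pow_zero, pow_zero, mat_one]
  | succ j ih => rw [pow_succ, pow_succ, mat_mul, ih]

/-- (P9) `U` is a `p`-group -/
theorem Usub_isPGroup (p : ℕ) [Fact p.Prime] [CharP F p] : IsPGroup p (Usub m F) := by
  have hp : p.Prime := Fact.out
  intro g
  obtain ⟨u, hu⟩ := g
  rcases Nat.eq_zero_or_pos m with hm | hm
  · subst hm
    refine ⟨0, ?_⟩
    apply Subtype.ext
    apply mat_injective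
    ext a
    exact absurd a.2 (by omega)
  have : Nonempty (Fin (2 * m)) := ⟨⟨0, by omega⟩⟩
  obtain ⟨hup, hdiag⟩ := (mem_Usub_iff u).1 hu
  obtain ⟨A, hAdef⟩ : ∃ A : Matrix (Fin (2 * m)) (Fin (2 * m)) F, A = mat u - 1 := ⟨_, rfl⟩
  have hA : ∀ r k, A r k ≠ 0 → r.val < k.val := by
    intro r k h
    by_contra hlt
    apply h
    rw [hAdef, Matrix.sub_apply]
    rcases Nat.lt_or_ge k.val r.val with h1 | h1
    · have hne : r ≠ k := by
        intro e; rw [e] at h1; exact lt_irrefl _ h1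
      rw [hup r k (Fin.lt_def.2 h1), Matrix.one_apply_ne hne, sub_zero]
    · have hrk : r = k := Fin.ext (by omega)
      subst hrk
      rw [hdiag r, Matrix.one_apply_eq, sub_self]
  have hA0 : A ^ (2 * m) = 0 := by
    ext r k
    by_contra h
    have h1 := P9_pow_apply_ne_zero A hA (2 * m) r k h
    have h2 := k.2
    omega
  obtain ⟨e, he⟩ : ∃ e : ℕ, 2 * m ≤ p ^ e := ⟨2 * m, (Nat.lt_pow_self hp.one_lt).le⟩
  have hApe : A ^ (p ^ e) = 0 := by
    rw [← Nat.sub_add_cancel he, pow_add, hA0, mul_zero]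
  refine ⟨e, ?_⟩
  apply Subtype.ext
  apply mat_injective
  show mat (u ^ p ^ e) = mat 1
  rw [P9_mat_pow, mat_one]
  have hu1 : mat u = 1 + A := by
    rw [hAdef]; abel
  rw [hu1, add_pow_char_pow_of_commute p e (Commute.one_left A), one_pow, hApe, add_zero]

end Cfsg.Agent.Helper47.OpBN
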