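import Mathlib
import Cfsg.Agent.Helper19.OpBN.Defs

/-!
# (SINJ) for helper19's S2548 skeleton 3 (helper47): the distinguished generators are pairwise distinct
-/

set_option autoImplicit false

namespace Cfsg.Agent.Helper47.OpBN

open Matrix Cfsg Cfsg.Agent.Helper19.OpBN

variable {F : Type*} [Field F] {m : ℕ}

/-- permutation matrices determine the permutation -/
theorem SINJ_pMat_injective (π ρ : Equiv.Perm (Fin (2 * m)))
    (h : (pMat π : Matrix (Fin (2 * m)) (Fin (2 * m)) F) = pMat ρ) : π = ρ := by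
  ext j
  have h1 := congrFun (congrFun h (π j)) j
  rw [pMat_apply, pMat_apply, if_pos rfl] at h1
  by_cases h2 : π j = ρ j
  · rw [h2]
  · rw [if_neg h2] at h1
    exact absurd h1 one_ne_zero

/-- (SINJ) the distinguished generators are pairwise distinct -/
theorem sA_injective : Function.Injective (sA (F := F) : Fin (m - 1) → OG m F) := by
  intro k k' h
  have h1 : (pMat (sPerm k) : Matrix (Fin (2 * m)) (Fin (2 * m)) F) = pMat (sPerm k') := by
    rw [← mat_sA, ← mat_sA, h]
  have h2 := SINJ_pMat_injective _ _ h1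
  have h3 : (sPerm k (ia k)).val = (sPerm k' (ia k)).val := by rw [h2]
  rw [val_sPerm, val_sPerm, val_ia] at h3
  have hk := k.2
  have hk' := k'.2
  apply Fin.ext
  rw [if_pos rfl] at h3
  split_ifs at h3 <;> omega

/-- (SINJ') -/
theorem sA_ne_sD (k k' : Fin (m - 1)) (hk' : k'.val + 2 = m) : sA (F := F) k ≠ sD k' := by
  intro h
  have hk := k.2
  have hm2 : m - 2 < 2 * m := by omega
  have h1 : (pMat (sPerm k) : Matrix (Fin (2 * m)) (Fin (2 * m)) F) =
      pMat (rPerm m * sPerm k' * rPerm m) := by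
    rw [← mat_sA, h]
    unfold sD
    rw [rr_inv, mat_mul, mat_mul, mat_rr, mat_sA, pMat_mul, pMat_mul]
  have h2 := SINJ_pMat_injective _ _ h1
  have h3 : (sPerm k (⟨m - 2, hm2⟩ : Fin (2 * m))).val =
      ((rPerm m * sPerm k' * rPerm m) (⟨m - 2, hm2⟩ : Fin (2 * m))).val := by rw [h2]
  simp only [Equiv.Perm.mul_apply, val_rPerm, val_sPerm] at h3
  have hk'2 := k'.2
  split_ifs at h3 <;> omega

end Cfsg.Agent.Helper47.OpBN
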