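import Mathlib
import Cfsg.Agent.Helper19.OpBN.Defs

/-!
# (TR) for helper19's S2548 skeleton 3 (helper47): the isometry group of the Prelude's `quadFormPlus m F`
is isomorphic to `OG m F` (reindexing `Fin m ⊕ Fin m ≃ Fin (2 * m)`, `inl i ↦ lo i`, `inr i ↦ hi i`)
-/

set_option autoImplicit false

namespace Cfsg.Agent.Helper47.OpBN

open Matrix Cfsg Cfsg.Agent.Helper19.OpBN

variable {F : Type*} [Field F] {m : ℕ}

/-- the reindexing `Fin m ⊕ Fin m ≃ Fin (2 * m)`: `inl i ↦ lo i`, `inr i ↦ hi i` -/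
noncomputable def TR_e (m : ℕ) : Fin m ⊕ Fin m ≃ Fin (2 * m) :=
  Equiv.ofBijective (Sum.elim lo hi) (by
    rw [Fintype.bijective_iff_injective_and_card]
    constructor
    · rintro (i | i) (j | j) h
      · exact congrArg Sum.inl (lo_injective h)
      · exact absurd h (lo_ne_hi i j)
      · exact absurd h.symm (lo_ne_hi j i)
      · exact congrArg Sum.inr (hi_injective h)
    · rw [Fintype.card_sum, Fintype.card_fin, Fintype.card_fin, two_mul])

theorem TR_e_inl (i : Fin m) : TR_e m (Sum.inl i) = lo i := rfl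

theorem TR_e_inr (i : Fin m) : TR_e m (Sum.inr i) = hi i := rfl

/-- the two forms correspond -/
theorem TR_Qp_eq (w : Fin (2 * m) → F) : Qp m w = Cfsg.quadFormPlus m F (w ∘ TR_e m) := rfl

theorem TR_comp_cancel (x : Fin m ⊕ Fin m → F) : (x ∘ (TR_e m).symm) ∘ TR_e m = x := by
  funext a
  simp

/-- the reindexed matrix acts by the reindexed action -/
theorem TR_reindex_mulVec (M : Matrix (Fin m ⊕ Fin m) (Fin m ⊕ Fin m) F) (w : Fin (2 * m) → F) :
    (Matrix.reindexAlgEquiv F F (TR_e m) M) *ᵥ w = (M *ᵥ (w ∘ TR_e m)) ∘ (TR_e m).symm := by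
  rw [Matrix.coe_reindexAlgEquiv, Matrix.reindex_apply, Matrix.submatrix_mulVec_equiv]
  rfl

/-- (TR) the isometry group of the form of the Prelude is isomorphic to `OG m F` -/
theorem nonempty_mulEquiv_isometry (m : ℕ) :
    Nonempty (↥(Cfsg.isometryGroup F (Cfsg.quadFormPlus m F)) ≃* OG m F) := by
  let φ : GL (Fin m ⊕ Fin m) F ≃* GL (Fin (2 * m)) F :=
    Units.mapEquiv (Matrix.reindexAlgEquiv F F (TR_e m)).toMulEquiv
  have hφ : ∀ g : GL (Fin m ⊕ Fin m) F, ((φ g : GL (Fin (2 * m)) F) : Matrix _ _ F) =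
      Matrix.reindexAlgEquiv F F (TR_e m) (g : Matrix _ _ F) := fun g => rfl
  have hiff : ∀ g : GL (Fin m ⊕ Fin m) F,
      φ g ∈ Cfsg.isometryGroup F (Qp (F := F) m) ↔ g ∈ Cfsg.isometryGroup F (Cfsg.quadFormPlus m F) := by
    intro g
    constructor
    · intro h u _
      have h1 := h (u ∘ (TR_e m).symm) (u ∘ (TR_e m).symm)
      change Qp m (((φ g : GL (Fin (2 * m)) F) : Matrix _ _ F) *ᵥ (u ∘ (TR_e m).symm)) =
        Qp m (u ∘ (TR_e m).symm) at h1
      rw [hφ, TR_reindex_mulVec, TR_Qp_eq, TR_Qp_eq] at h1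
      simp only [TR_comp_cancel] at h1
      exact h1
    · intro h w _
      change Qp m (((φ g : GL (Fin (2 * m)) F) : Matrix _ _ F) *ᵥ w) = Qp m w
      rw [hφ, TR_reindex_mulVec, TR_Qp_eq, TR_Qp_eq, TR_comp_cancel]
      exact h (w ∘ TR_e m) (w ∘ TR_e m)
  exact ⟨{ toFun := fun g => ⟨φ g.1, (hiff g.1).2 g.2⟩
           invFun := fun h => ⟨φ.symm h.1, (hiff _).1 (by rw [φ.apply_symm_apply]; exact h.2)⟩
           left_inv := fun g => Subtype.ext (φ.symm_apply_apply g.1)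
           right_inv := fun h => Subtype.ext (φ.apply_symm_apply h.1)
           map_mul' := fun g h => Subtype.ext (map_mul φ g.1 h.1) }⟩

end Cfsg.Agent.Helper47.OpBN
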