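import Mathlib
import Cfsg.Agent.Helper19.OpBN.Defs

/-!
# (UN) for helper19's S2548 skeleton 3 (helper47): `U` is normal in `B`
-/

set_option autoImplicit false

namespace Cfsg.Agent.Helper47.OpBN

open Matrix Cfsg Cfsg.Agent.Helper19.OpBN

variable {F : Type*} [Field F] {m : ℕ}

/-- the diagonal of a product of upper triangular matrices -/
theorem UN_diag_mul_of_upper (X Y : OG m F) (hX : ∀ a b : Fin (2 * m), b < a → mat X a b = 0)
    (hY : ∀ a b : Fin (2 * m), b < a → mat Y a b = 0) (a : Fin (2 * m)) :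
    mat (X * Y) a a = mat X a a * mat Y a a := by
  rw [mat_mul, Matrix.mul_apply, Finset.sum_eq_single a]
  · intro c _ hca
    rcases lt_or_gt_of_ne hca with h | h
    · rw [hX a c h, zero_mul]
    · rw [hY c a h, mul_zero]
  · intro h; exact absurd (Finset.mem_univ _) h

/-- (UN) `U` is normal in `B` -/
theorem conj_mem_Usub (b : OG m F) (hb : b ∈ Bsub m F) (u : OG m F) (hu : u ∈ Usub m F) :
    b⁻¹ * u * b ∈ Usub m F := by
  have hbi : b⁻¹ ∈ Bsub m F := (Bsub m F).inv_mem hb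
  have huB : u ∈ Bsub m F := Usub_le_Bsub hu
  have h1 : b⁻¹ * u ∈ Bsub m F := (Bsub m F).mul_mem hbi huB
  have h2 : b⁻¹ * u * b ∈ Bsub m F := (Bsub m F).mul_mem h1 hb
  refine ⟨(mem_Bsub_iff _).1 h2, fun a => ?_⟩
  rw [UN_diag_mul_of_upper _ _ ((mem_Bsub_iff _).1 h1) ((mem_Bsub_iff _).1 hb),
    UN_diag_mul_of_upper _ _ ((mem_Bsub_iff _).1 hbi) ((mem_Bsub_iff _).1 huB), hu.2 a, mul_one,
    ← UN_diag_mul_of_upper _ _ ((mem_Bsub_iff _).1 hbi) ((mem_Bsub_iff _).1 hb), inv_mul_cancel,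
    mat_one, Matrix.one_apply_eq]

end Cfsg.Agent.Helper47.OpBN
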