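import Cfsg.Agent.Helper25.FSwan.Defs
import Cfsg.Agent.Helper24.DT_AC
import Cfsg.Agent.Helper52.FS_K2d
import Cfsg.Agent.Helper52.FS_K2a
import Cfsg.Agent.Helper30.FS_K2c

/-!
# Fong–Swan farm (helper25, S4440), leaf (K2): the Brauer lift is multiplicative on Kronecker products

Uses (K2c) `exists_triangular` (helper30), (K2d) + local (K2g)-copies (helper52), (K2a) `teich_mul` (helper52).
The scalar case (K2b) `bfull_smul` is proved here as well (`K2_bfull_smul`), by the same induction.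
-/

set_option autoImplicit false
set_option linter.unusedSectionVars false
set_option linter.unusedVariables false

namespace Cfsg.Agent.Helper47.FS

open Cfsg Cfsg.Agent.Helper16 Cfsg.Agent.Helper16.DT Cfsg.Agent.Helper25.FS

universe u

variable {p : ℕ} [Fact p.Prime] {M : Ideal AlgInt} [M.IsMaximal]

section Kron

/-- (K2g) matrices on an empty index type (local copy) -/
theorem K2_bfull_of_isEmpty {α : Type*} [Fintype α] [DecidableEq α] [IsEmpty α]
    (A : Matrix α α (AlgInt ⧸ M)) : bfull p M A = 0 := by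
  unfold bfull
  rw [Matrix.charpoly_isEmpty, Polynomial.roots_one]
  simp

/-- (K2g) `1 × 1` matrices (local copy) -/
theorem K2_bfull_unit (a : AlgInt ⧸ M) :
    bfull p M (a • (1 : Matrix Unit Unit (AlgInt ⧸ M))) = teich p M a := by
  unfold bfull
  have h : (a • (1 : Matrix Unit Unit (AlgInt ⧸ M))).charpoly = Polynomial.X - Polynomial.C a := by
    rw [Matrix.charpoly, Matrix.det_unique]
    simp
  rw [h, Polynomial.roots_X_sub_C]
  simp

/-- the step of the induction for scalar multiples -/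
theorem K2_smul_step (hpM : (p : AlgInt) ∈ M) (a : AlgInt ⧸ M) (n : ℕ)
    (ih : ∀ B' : Matrix (Fin n) (Fin n) (AlgInt ⧸ M), bfull p M (a • B') = teich p M a * bfull p M B')
    {κ : Type*} [Fintype κ] [DecidableEq κ] (hn : Fintype.card κ = n + 1)
    (B : Matrix κ κ (AlgInt ⧸ M)) : bfull p M (a • B) = teich p M a * bfull p M B := by
  have : IsAlgClosed (AlgInt ⧸ M) := Cfsg.Agent.Helper24.DT.isAlgClosed_res M
  obtain ⟨b, Y, B', P, Q, hPQ, hQP, hT⟩ := Cfsg.Agent.Helper30.FS.exists_triangular hn B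
  have h1 : bfull p M B = teich p M b + bfull p M B' := by
    rw [← Cfsg.Agent.Helper52.FS.K2d_bfull_conj (p := p) B P Q hPQ hQP, hT,
      Cfsg.Agent.Helper52.FS.K2d_bfull_fromBlocks, K2_bfull_unit]
  have hT' : Q * (a • B) * P =
      Matrix.fromBlocks ((a * b) • (1 : Matrix Unit Unit (AlgInt ⧸ M))) (a • Y) 0 (a • B') := by
    rw [Matrix.mul_smul, Matrix.smul_mul, hT, Matrix.fromBlocks_smul, smul_smul, smul_zero]
  have h2 : bfull p M (a • B) = teich p M (a * b) + teich p M a * bfull p M B' := by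
    rw [← Cfsg.Agent.Helper52.FS.K2d_bfull_conj (p := p) (a • B) P Q hPQ hQP, hT',
      Cfsg.Agent.Helper52.FS.K2d_bfull_fromBlocks, K2_bfull_unit, ih]
  rw [h1, h2, Cfsg.Agent.Helper52.FS.teich_mul hpM, mul_add]

/-- scalar multiples, the case of `Fin n` -/
theorem K2_smul_fin (hpM : (p : AlgInt) ∈ M) (a : AlgInt ⧸ M) (n : ℕ)
    (B : Matrix (Fin n) (Fin n) (AlgInt ⧸ M)) : bfull p M (a • B) = teich p M a * bfull p M B := by
  induction n with
  | zero =>
    rw [K2_bfull_of_isEmpty (p := p) B, K2_bfull_of_isEmpty, mul_zero]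
  | succ n ih =>
    exact K2_smul_step hpM a n ih (by rw [Fintype.card_fin]) B

/-- (K2b) (proved here as well): the Brauer lift of a scalar multiple -/
theorem K2_bfull_smul (hpM : (p : AlgInt) ∈ M) {κ : Type*} [Fintype κ] [DecidableEq κ]
    (a : AlgInt ⧸ M) (B : Matrix κ κ (AlgInt ⧸ M)) :
    bfull p M (a • B) = teich p M a * bfull p M B := by
  rcases Nat.eq_zero_or_pos (Fintype.card κ) with h0 | h0
  · have : IsEmpty κ := Fintype.card_eq_zero_iff.mp h0
    rw [K2_bfull_of_isEmpty (p := p) B, K2_bfull_of_isEmpty, mul_zero]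
  · obtain ⟨n, hn⟩ : ∃ n, Fintype.card κ = n + 1 := ⟨Fintype.card κ - 1, by omega⟩
    exact K2_smul_step hpM a n (K2_smul_fin hpM a n) hn B

/-- the step of the induction -/
theorem K2_step (hpM : (p : AlgInt) ∈ M) {κ : Type*} [Fintype κ] [DecidableEq κ]
    (B : Matrix κ κ (AlgInt ⧸ M)) (n : ℕ)
    (ih : ∀ A' : Matrix (Fin n) (Fin n) (AlgInt ⧸ M),
      bfull p M (Matrix.kroneckerMap (· * ·) A' B) = bfull p M A' * bfull p M B)
    {ι : Type*} [Fintype ι] [DecidableEq ι] (hn : Fintype.card ι = n + 1)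
    (A : Matrix ι ι (AlgInt ⧸ M)) :
    bfull p M (Matrix.kroneckerMap (· * ·) A B) = bfull p M A * bfull p M B := by
  have : IsAlgClosed (AlgInt ⧸ M) := Cfsg.Agent.Helper24.DT.isAlgClosed_res M
  obtain ⟨a, X, A', P, Q, hPQ, hQP, hT⟩ := Cfsg.Agent.Helper30.FS.exists_triangular hn A
  have h1 : bfull p M A = teich p M a + bfull p M A' := by
    rw [← Cfsg.Agent.Helper52.FS.K2d_bfull_conj (p := p) A P Q hPQ hQP, hT,
      Cfsg.Agent.Helper52.FS.K2d_bfull_fromBlocks, K2_bfull_unit]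
  have h2 : bfull p M (Matrix.kroneckerMap (· * ·) A B) =
      teich p M a * bfull p M B + bfull p M A' * bfull p M B := by
    rw [← Cfsg.Agent.Helper52.FS.bfull_kronecker_conj (p := p) A P Q hPQ hQP B, hT,
      Cfsg.Agent.Helper52.FS.bfull_kronecker_fromBlocks,
      Cfsg.Agent.Helper52.FS.bfull_kronecker_unit, K2_bfull_smul hpM, ih]
  rw [h1, h2, add_mul]

/-- the case of `Fin n` -/
theorem K2_fin (hpM : (p : AlgInt) ∈ M) {κ : Type*} [Fintype κ] [DecidableEq κ]
    (B : Matrix κ κ (AlgInt ⧸ M)) (n : ℕ) (A : Matrix (Fin n) (Fin n) (AlgInt ⧸ M)) :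
    bfull p M (Matrix.kroneckerMap (· * ·) A B) = bfull p M A * bfull p M B := by
  induction n with
  | zero =>
    rw [K2_bfull_of_isEmpty (p := p) A, K2_bfull_of_isEmpty, zero_mul]
  | succ n ih =>
    exact K2_step hpM B n ih (by rw [Fintype.card_fin]) A

/-- (K2) the Brauer lift is multiplicative on Kronecker products. -/
theorem bfull_kronecker (hpM : (p : AlgInt) ∈ M) {ι κ : Type*} [Fintype ι] [DecidableEq ι]
    [Fintype κ] [DecidableEq κ] (A : Matrix ι ι (AlgInt ⧸ M)) (B : Matrix κ κ (AlgInt ⧸ M)) :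
    bfull p M (Matrix.kroneckerMap (· * ·) A B) = bfull p M A * bfull p M B := by
  rcases Nat.eq_zero_or_pos (Fintype.card ι) with h0 | h0
  · have : IsEmpty ι := Fintype.card_eq_zero_iff.mp h0
    rw [K2_bfull_of_isEmpty (p := p) A, K2_bfull_of_isEmpty, zero_mul]
  · obtain ⟨n, hn⟩ : ∃ n, Fintype.card ι = n + 1 := ⟨Fintype.card ι - 1, by omega⟩
    exact K2_step hpM B n (K2_fin hpM B n) hn A

end Kron

end Cfsg.Agent.Helper47.FS
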