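import Cfsg.Agent.Helper25.FSwan.Defs2
import Cfsg.Agent.Helper74.CentExt

/-!
# Fong–Swan farm (helper25, S4440), leaf (S3b): `thetaExt` is an irreducible character restricting
irreducibly to `N1`
-/

set_option autoImplicit false
set_option linter.unusedSectionVars false
set_option linter.unusedVariables false

namespace Cfsg.Agent.Helper47.FS

open Cfsg Cfsg.Agent.Helper16 Cfsg.Agent.Helper16.DT Cfsg.Agent.Helper25.FS

universe u

variable {p : ℕ} [Fact p.Prime] {M : Ideal AlgInt} [M.IsMaximal] {G : Type u} [Group G]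

section ST3

variable [Fintype G] (N : Subgroup G) [hN : N.Normal] [Fintype N] {d : ℕ}
  (Y : Representation ℂ N (Fin d → ℂ))

omit [Fintype G] [Fintype N] in
/-- (S3b) `thetaExt` is an irreducible character restricting irreducibly to `N1`. -/
theorem isIrrCharacter_thetaExt (hY : Y.IsIrreducible) :
    IsIrrCharacter (EG N Y) (thetaExt N Y) ∧
      IsIrrCharacter (N1 N Y) (fun x : N1 N Y => thetaExt N Y x) ∧
      ∀ n : N, thetaExt N Y (Helper74.extIncl N Y n) = Y.character n := by
  have hρincl : ∀ n : N, Helper74.extRep N Y (Nat.card N) (Helper74.extIncl N Y n) = Y n :=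
    fun n => Helper74.extRep_extIncl N Y n
  have hρirr : (Helper74.extRep N Y (Nat.card N)).IsIrreducible := by
    have hY' := hY
    rw [Helper80.isIrreducible_iff] at hY' ⊢
    refine ⟨hY'.1, fun U hU => hY'.2 U (fun n v hv => ?_)⟩
    have h1 := hU (Helper74.extIncl N Y n) v hv
    rwa [hρincl] at h1
  refine ⟨⟨d, Helper74.extRep N Y (Nat.card N), hρirr, rfl⟩,
    ⟨d, (Helper74.extRep N Y (Nat.card N)).comp (N1 N Y).subtype, ?_, rfl⟩, ?_⟩
  · have hY' := hY
    show Representation.IsIrreducible _
    rw [Helper80.isIrreducible_iff] at hY' ⊢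
    refine ⟨hY'.1, fun U hU => hY'.2 U (fun n v hv => ?_)⟩
    have h1 := hU ⟨Helper74.extIncl N Y n, ⟨n, rfl⟩⟩ v hv
    have h2 : ((Helper74.extRep N Y (Nat.card N)).comp (N1 N Y).subtype)
        ⟨Helper74.extIncl N Y n, ⟨n, rfl⟩⟩ = Y n := hρincl n
    rwa [h2] at h1
  · intro n
    show (Helper74.extRep N Y (Nat.card N)).character (Helper74.extIncl N Y n) = Y.character n
    unfold Representation.character
    rw [hρincl]

end ST3

end Cfsg.Agent.Helper47.FS
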