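import Cfsg.Prelude.Def_LocalStructure
import Cfsg.Agent.Lib.Cores
import Cfsg.Agent.Helper47.Basic

set_option autoImplicit false

namespace Cfsg.Agent.Helper47

open Cfsg

variable {L : Type*} [Group L] {p : ℕ}

/-- `O_p(L / C) = 1` in intrinsic form: every normal subgroup which is a `p`-group modulo the
normal subgroup `C` lies in `C`. -/
theorem pCore_quotient_eq_bot_iff [Finite L] [hp : Fact p.Prime] (C : Subgroup L) [C.Normal] :
    Cfsg.pCore p (L ⧸ C) = ⊥ ↔
      ∀ D : Subgroup L, D.Normal → (∀ d ∈ D, ∃ k : ℕ, d ^ (p ^ k) ∈ C) → D ≤ C := by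
  constructor
  · intro h D hD hDp
    have hmapn : (D.map (QuotientGroup.mk' C)).Normal :=
      Subgroup.Normal.map hD _ (QuotientGroup.mk'_surjective C)
    have hmapp : IsPGroup p (D.map (QuotientGroup.mk' C)) := by
      rintro ⟨_, d, hd, rfl⟩
      obtain ⟨k, hk⟩ := hDp d hd
      refine ⟨k, ?_⟩
      apply Subtype.ext
      show ((QuotientGroup.mk' C) d) ^ (p ^ k) = 1
      rw [← map_pow, QuotientGroup.mk'_apply, QuotientGroup.eq_one_iff]
      exact hk
    have hle := Cfsg.Agent.Lib.le_pCore hmapn hmapp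
    rw [h] at hle
    intro d hd
    have : (QuotientGroup.mk' C) d ∈ (⊥ : Subgroup (L ⧸ C)) := hle (Subgroup.mem_map_of_mem _ hd)
    rw [Subgroup.mem_bot, QuotientGroup.mk'_apply, QuotientGroup.eq_one_iff] at this
    exact this
  · intro h
    have hcoreN : (Cfsg.pCore p (L ⧸ C)).Normal := by
      have hc : (Cfsg.pCore p (L ⧸ C)).Characteristic := Cfsg.Agent.Lib.pCore_characteristic p
      infer_instance
    have hcoreP : IsPGroup p (Cfsg.pCore p (L ⧸ C)) := Cfsg.Agent.Lib.isPGroup_pCore p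
    have hle := h ((Cfsg.pCore p (L ⧸ C)).comap (QuotientGroup.mk' C))
      (Subgroup.Normal.comap hcoreN _) (by
        intro d hd
        obtain ⟨k, hk⟩ := hcoreP ⟨(QuotientGroup.mk' C) d, hd⟩
        refine ⟨k, ?_⟩
        have hk' := congrArg Subtype.val hk
        simp only [Subgroup.coe_pow, Subgroup.coe_one] at hk'
        rw [← map_pow, QuotientGroup.mk'_apply, QuotientGroup.eq_one_iff] at hk'
        exact hk')
    rw [eq_bot_iff]
    intro x hx
    obtain ⟨d, rfl⟩ := QuotientGroup.mk_surjective x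
    rw [Subgroup.mem_bot, QuotientGroup.eq_one_iff]
    exact hle hx

/-- `O_p(L)` centralizes every `p`-reduced normal subgroup. -/
theorem IsPReducedNormal.pCore_le_centralizer [Finite L] [hp : Fact p.Prime] {V : Subgroup L}
    (hV : Cfsg.IsPReducedNormal p V) : Cfsg.pCore p L ≤ Subgroup.centralizer (V : Set L) := by
  obtain ⟨hVn, hVe, hCn, hcore⟩ := hV
  have hcoreN : (Cfsg.pCore p L).Normal := by
    have hc : (Cfsg.pCore p L).Characteristic := Cfsg.Agent.Lib.pCore_characteristic p
    infer_instance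
  apply (pCore_quotient_eq_bot_iff (Subgroup.centralizer (V : Set L))).mp hcore _ hcoreN
  intro d hd
  obtain ⟨k, hk⟩ := (Cfsg.Agent.Lib.isPGroup_pCore (G := L) p) ⟨d, hd⟩
  refine ⟨k, ?_⟩
  have hk' := congrArg Subtype.val hk
  simp only [Subgroup.coe_pow, Subgroup.coe_one] at hk'
  rw [hk']; exact Subgroup.one_mem _

/-- A `p`-reduced normal subgroup lies in `O_p(L)`. -/
theorem IsPReducedNormal.le_pCore {V : Subgroup L} (hV : Cfsg.IsPReducedNormal p V) :
    V ≤ Cfsg.pCore p L :=
  Cfsg.Agent.Lib.le_pCore hV.1 (Cfsg.Agent.Lib.isElementaryAbelian_isPGroup hV.2.1)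

/-- The join of all `p`-reduced normal subgroups of a finite group is `p`-reduced. -/
theorem isPReducedNormal_largestPReduced [Finite L] [hp : Fact p.Prime] :
    Cfsg.IsPReducedNormal p (Cfsg.largestPReduced p L) := by
  set S : Set (Subgroup L) := {V : Subgroup L | Cfsg.IsPReducedNormal p V} with hS
  have hY : Cfsg.largestPReduced p L = sSup S := rfl
  have hYn : (sSup S).Normal := Subgroup.sSup_normal S (fun V hV => hV.1)
  have hYcore : sSup S ≤ Cfsg.pCore p L := sSup_le (fun V hV => IsPReducedNormal.le_pCore hV)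
  have hcoreC : Cfsg.pCore p L ≤ Subgroup.centralizer ((sSup S : Subgroup L) : Set L) := by
    rw [Subgroup.le_centralizer_iff]
    exact sSup_le (fun V hV => Subgroup.le_centralizer_iff.mp (IsPReducedNormal.pCore_le_centralizer hV))
  have hYcomm : IsMulCommutative (sSup S : Subgroup L) :=
    Subgroup.le_centralizer_iff_isMulCommutative.mp (hYcore.trans hcoreC)
  have hYexp : ∀ a ∈ (sSup S : Subgroup L), a ^ p = 1 := by
    intro a ha
    have ha' : a ∈ ⨆ V : S, (V : Subgroup L) := by rwa [sSup_eq_iSup'] at ha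
    have hcomm2 : ∀ x y, x ∈ (⨆ V : S, (V : Subgroup L)) → y ∈ (⨆ V : S, (V : Subgroup L)) →
        Commute x y := by
      intro x y hx hy
      rw [← sSup_eq_iSup'] at hx hy
      have := hYcomm.is_comm.comm (⟨x, hx⟩ : (sSup S : Subgroup L)) ⟨y, hy⟩
      exact congrArg Subtype.val this
    refine Subgroup.iSup_induction' (fun V : S => (V : Subgroup L)) (C := fun x _ => x ^ p = 1)
      ?_ ?_ ?_ ha'
    · intro V x hx; exact V.2.2.1.2 x hx
    · exact one_pow p
    · intro x y hx hy ihx ihy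
      rw [(hcomm2 x y hx hy).mul_pow, ihx, ihy, one_mul]
  have hCn : (Subgroup.centralizer ((sSup S : Subgroup L) : Set L)).Normal := by
    have := hYn
    exact Subgroup.normal_centralizer
  rw [hY]
  refine ⟨hYn, ⟨hYcomm, hYexp⟩, hCn, ?_⟩
  have := hCn
  rw [pCore_quotient_eq_bot_iff]
  intro D hD hDp
  rw [Subgroup.le_centralizer_iff]
  apply sSup_le
  intro V hV
  rw [← Subgroup.le_centralizer_iff]
  obtain ⟨hVn, hVe, hCVn, hcore⟩ := hV
  have := hCVn
  apply (pCore_quotient_eq_bot_iff (Subgroup.centralizer (V : Set L))).mp hcore D hD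
  intro d hd
  obtain ⟨k, hk⟩ := hDp d hd
  exact ⟨k, Subgroup.centralizer_le (show (V : Set L) ⊆ ((sSup S : Subgroup L) : Set L) from
    fun x hx => (le_sSup (show V ∈ S from ⟨hVn, hVe, hCVn, hcore⟩) : V ≤ sSup S) hx) hk⟩

/-- Every `p`-reduced normal subgroup lies in the largest one. -/
theorem IsPReducedNormal.le_largestPReduced {V : Subgroup L} (hV : Cfsg.IsPReducedNormal p V) :
    V ≤ Cfsg.largestPReduced p L :=
  le_sSup hV

end Cfsg.Agent.Helper47
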