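import Mathlib

/-!
# S2500 part 5, piece (RK) for helper38: `D S = S' D` with `S' - S` invertible forces `rank (D - 1) ≥ 2`
-/

set_option autoImplicit false

namespace Cfsg.Agent.Helper47.P5

open Matrix Polynomial Module

variable {F : Type*} [Field F] [Fintype F] {q : ℕ}

omit [Fintype F] in
theorem P5RK_rank_sub_le (A B : Matrix (Fin 3) (Fin 3) F) : (A - B).rank ≤ A.rank + B.rank := by
  unfold Matrix.rank
  have h : LinearMap.range (A - B).mulVecLin
      ≤ LinearMap.range A.mulVecLin ⊔ LinearMap.range B.mulVecLin := by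
    rintro _ ⟨x, rfl⟩
    rw [Matrix.mulVecLin_apply, Matrix.sub_mulVec]
    exact Submodule.sub_mem _ (Submodule.mem_sup_left ⟨x, rfl⟩) (Submodule.mem_sup_right ⟨x, rfl⟩)
  calc finrank F (LinearMap.range (A - B).mulVecLin)
      ≤ finrank F ↥(LinearMap.range A.mulVecLin ⊔ LinearMap.range B.mulVecLin) :=
        Submodule.finrank_mono h
    _ ≤ finrank F (LinearMap.range A.mulVecLin) + finrank F (LinearMap.range B.mulVecLin) :=
        Submodule.finrank_add_le_finrank_add_finrank _ _

/-- (RK) `D S = S' D` with `S' - S` invertible forces `rank (D - 1) ≥ 2` -/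
theorem two_le_rank_sub_one (D S S' : Matrix (Fin 3) (Fin 3) F) (h : D * S = S' * D)
    (hu : IsUnit (S' - S).det) : 2 ≤ (D - 1).rank := by
  have e : (D - 1) * S - S' * (D - 1) = S' - S := by
    rw [sub_mul, mul_sub, one_mul, mul_one, h]
    abel
  have h3 : (S' - S).rank = 3 := by
    rw [Matrix.rank_of_isUnit _ ((Matrix.isUnit_iff_isUnit_det _).2 hu)]
    simp
  have h1 := P5RK_rank_sub_le ((D - 1) * S) (S' * (D - 1))
  rw [e, h3] at h1
  have h4 := Matrix.rank_mul_le_left (D - 1) S
  have h5 := Matrix.rank_mul_le_right S' (D - 1)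
  omega

end Cfsg.Agent.Helper47.P5
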