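import Mathlib

/-!
# S2500 part 5, piece (UN) for helper38: a `3`-element of `GL_3` in characteristic three is unipotent
-/

set_option autoImplicit false

namespace Cfsg.Agent.Helper47.P5

open Matrix Polynomial Module

variable {F : Type*} [Field F] [Fintype F] {q : ℕ}

/-- (UN) a `3`-element in characteristic three is unipotent -/
theorem unipotent_of_pow [CharP F 3] (D : Matrix (Fin 3) (Fin 3) F) (k : ℕ) (h : D ^ 3 ^ k = 1) :
    (D - 1) ^ 3 = 0 ∧ (D - 1).rank ≤ 2 := by
  have : Fact (Nat.Prime 3) := ⟨Nat.prime_three⟩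
  have hN : (D - 1) ^ 3 ^ k = 0 := by
    rw [sub_pow_char_pow_of_commute 3 k (Commute.one_right D), h, one_pow, sub_self]
  have hnil : IsNilpotent (D - 1) := ⟨3 ^ k, hN⟩
  have hcp := Matrix.isNilpotent_charpoly_sub_pow_of_isNilpotent hnil
  have hcp' : (D - 1).charpoly = X ^ 3 := by
    have := hcp.eq_zero
    rw [sub_eq_zero] at this
    simpa using this
  have h3 : (D - 1) ^ 3 = 0 := by
    have := Matrix.aeval_self_charpoly (D - 1)
    rw [hcp'] at this
    simpa using this
  refine ⟨h3, ?_⟩
  have hdet : (D - 1).det = 0 := by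
    have := congrArg Matrix.det h3
    rw [Matrix.det_pow, Matrix.det_zero] at this
    exact pow_eq_zero_iff (by norm_num) |>.1 this
  obtain ⟨v, hv0, hv⟩ := Matrix.exists_mulVec_eq_zero_iff.2 hdet
  have hrn := LinearMap.finrank_range_add_finrank_ker (D - 1).mulVecLin
  have hker : 0 < finrank F (LinearMap.ker (D - 1).mulVecLin) := by
    rw [Module.finrank_pos_iff_exists_ne_zero]
    refine ⟨⟨v, ?_⟩, ?_⟩
    · rw [LinearMap.mem_ker, Matrix.mulVecLin_apply]
      exact hv
    · intro h0
      exact hv0 (congrArg Subtype.val h0)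
  rw [Module.finrank_fintype_fun_eq_card, Fintype.card_fin] at hrn
  unfold Matrix.rank
  omega

end Cfsg.Agent.Helper47.P5
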