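import Cfsg.Agent.Helper43.Cov2.P7Defs
import Cfsg.Agent.S0749
import Cfsg.Agent.S0776

/-!
# S2500 part 7, piece (7B) for helper43: an element of `Sp₆(F)` stabilising a non-degenerate plane is
conjugate into the stabiliser of the standard hyperbolic plane (Witt's lemma, `S0749.extend_all`)
-/

set_option autoImplicit false

namespace Cfsg.Agent.Helper47.Cov2.P7

open Matrix Cfsg.Agent.Helper43.Cov2.P7 Cfsg.Agent.Helper13

variable {F : Type*} [Field F]

/-- an injective endomorphism mapping a subspace into itself reflects membership -/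
theorem P7B_mem_of_map_mem (h : M6 F) (hinj : Function.Injective (Matrix.mulVecLin h))
    (W : Submodule F (V6 F)) (hW : ∀ v ∈ W, h *ᵥ v ∈ W) (v : V6 F) (hv : h *ᵥ v ∈ W) : v ∈ W := by
  have h1 : W.map (Matrix.mulVecLin h) ≤ W := by
    rintro _ ⟨w, hw, rfl⟩
    exact hW w hw
  have h2 : Module.finrank F (W.map (Matrix.mulVecLin h)) = Module.finrank F W :=
    LinearEquiv.finrank_eq (Submodule.equivMapOfInjective _ hinj W).symm
  have h3 : W.map (Matrix.mulVecLin h) = W := Submodule.eq_of_le_of_finrank_eq h1 h2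
  rw [← h3] at hv
  obtain ⟨w, hw, hwv⟩ := hv
  have : w = v := hinj hwv
  exact this ▸ hw

theorem P7B_injective (w : Sp6 F) : Function.Injective (Matrix.mulVecLin (w : M6 F)) := by
  intro a b hab
  have h1 : (w : M6 F) *ᵥ a = (w : M6 F) *ᵥ b := hab
  have h2 := congrArg (fun z => ((w⁻¹ : Sp6 F) : M6 F) *ᵥ z) h1
  simp only [Matrix.mulVec_mulVec, coe_inv_mul_Sp6, Matrix.one_mulVec] at h2
  exact h2

/-- (7B) -/
theorem conj_into_stabPlane [Fintype F] (g : Sp6 F) (h : FixesPlane (g : M6 F)) :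
    ∃ x : Sp6 F, x * g * x⁻¹ ∈ stabPlane F := by
  obtain ⟨x, y, hxy, ⟨a, b, hgx⟩, ⟨c, d, hgy⟩⟩ := h
  set e1 : V6 F := Pi.single (Sum.inl 0) 1 with he1
  set f1 : V6 F := Pi.single (Sum.inr 0) 1 with hf1
  have hB0 : Cfsg.sympForm 3 F e1 f1 = -1 := by
    rw [sympForm_eq_sum]
    simp [he1, hf1, Fin.sum_univ_three]
  set t : F := -(Cfsg.sympForm 3 F x y)⁻¹ with ht
  have ht0 : t ≠ 0 := neg_ne_zero.2 (inv_ne_zero hxy)
  set y' : V6 F := t • y with hy'
  have hxy' : Cfsg.sympForm 3 F x y' = -1 := by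
    rw [hy', sympForm_smul_right, ht, neg_mul, inv_mul_cancel₀ hxy]
  have hy'x : Cfsg.sympForm 3 F y' x = 1 := by
    rw [sympForm_swap, hxy', neg_neg]
  have hf1e1 : Cfsg.sympForm 3 F f1 e1 = 1 := by
    rw [sympForm_swap, hB0, neg_neg]
  -- the partial isometry
  let f : V6 F →ₗ[F] V6 F :=
    (LinearMap.proj (Sum.inl 0)).smulRight x + (LinearMap.proj (Sum.inr 0)).smulRight y'
  have hf : ∀ α β : F, f (α • e1 + β • f1) = α • x + β • y' := by
    intro α β
    simp [f, he1, hf1]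
  have hP0 : ∀ v : V6 F, v ∈ P0 F ↔ ∃ α β : F, α • e1 + β • f1 = v := by
    intro v
    unfold P0
    exact Submodule.mem_span_pair
  have hiso : ∀ v ∈ P0 F, ∀ v' ∈ P0 F, Cfsg.Agent.S0776.omega 3 F (f v) (f v')
      = Cfsg.Agent.S0776.omega 3 F v v' := by
    intro v hv v' hv'
    obtain ⟨α, β, rfl⟩ := (hP0 v).1 hv
    obtain ⟨α', β', rfl⟩ := (hP0 v').1 hv'
    rw [hf, hf, Cfsg.Agent.S0776.omega_apply, Cfsg.Agent.S0776.omega_apply]
    simp only [sympForm_add_left, sympForm_add_right, sympForm_smul_left, sympForm_smul_right,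
      sympForm_self, hxy', hy'x, hB0, hf1e1]
  have hinj : ∀ v ∈ P0 F, f v = 0 → v = 0 := by
    intro v hv hfv
    obtain ⟨α, β, rfl⟩ := (hP0 v).1 hv
    rw [hf] at hfv
    have h1 : Cfsg.sympForm 3 F (α • x + β • y') y' = 0 := by rw [hfv]; simp
    have h2 : Cfsg.sympForm 3 F x (α • x + β • y') = 0 := by rw [hfv]; simp
    simp only [sympForm_add_left, sympForm_add_right, sympForm_smul_left, sympForm_smul_right,
      sympForm_self, hxy', mul_zero, add_zero, zero_add, mul_neg, mul_one, neg_eq_zero] at h1 h2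
    rw [h1, h2, zero_smul, zero_smul, add_zero]
  obtain ⟨f', hf'iso, -, hf'ext⟩ := Cfsg.Agent.S0749.extend_all (Cfsg.Agent.S0776.omega 3 F)
    (Cfsg.Agent.S0776.omega_nondegenerate 3) (Cfsg.Agent.S0776.omega_isAlt 3) _ (P0 F) f rfl hiso hinj
  -- the matrix of `f'`
  set X : M6 F := LinearMap.toMatrix' f' with hX
  have hXv : ∀ v : V6 F, X *ᵥ v = f' v := fun v => LinearMap.toMatrix'_mulVec f' v
  have hXmem : X ∈ Matrix.symplecticGroup (Fin 3) F := by
    rw [mem_symplecticGroup_iff_preserves]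
    intro u v
    rw [hXv, hXv, ← Cfsg.Agent.S0776.omega_apply, ← Cfsg.Agent.S0776.omega_apply]
    exact hf'iso u v
  set Xs : Sp6 F := ⟨X, hXmem⟩ with hXs
  have hXab : ∀ α β : F, (Xs : M6 F) *ᵥ (α • e1 + β • f1) = α • x + β • y' := by
    intro α β
    have : (Xs : M6 F) = X := rfl
    rw [this, hXv, hf'ext _ ((hP0 _).2 ⟨α, β, rfl⟩), hf]
  refine ⟨Xs⁻¹, ?_⟩
  rw [inv_inv]
  set w : Sp6 F := Xs⁻¹ * g * Xs with hw
  have hwP : ∀ v ∈ P0 F, (w : M6 F) *ᵥ v ∈ P0 F := by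
    intro v hv
    obtain ⟨α, β, rfl⟩ := (hP0 v).1 hv
    have h1 : (g : M6 F) *ᵥ ((Xs : M6 F) *ᵥ (α • e1 + β • f1))
        = (Xs : M6 F) *ᵥ ((α * a + β * t * c) • e1 + ((α * b + β * t * d) * t⁻¹) • f1) := by
      rw [hXab, hXab, Matrix.mulVec_add, Matrix.mulVec_smul, Matrix.mulVec_smul, hy',
        Matrix.mulVec_smul, hgx, hgy]
      simp only [smul_add, smul_smul, add_smul]
      have e : (α * b + β * t * d) * t⁻¹ * t = α * b + β * t * d := by
        rw [mul_assoc, inv_mul_cancel₀ ht0, mul_one]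
      rw [add_mul] at e
      rw [add_mul (α * b) (β * t * d) t⁻¹, add_mul (α * b * t⁻¹), add_smul]
      have e1' : α * b * t⁻¹ * t = α * b := by rw [mul_assoc, inv_mul_cancel₀ ht0, mul_one]
      have e2' : β * t * d * t⁻¹ * t = β * t * d := by rw [mul_assoc, inv_mul_cancel₀ ht0, mul_one]
      rw [e1', e2']
      simp only [mul_assoc]
      abel
    rw [hw, coe_mul_Sp6, coe_mul_Sp6, ← Matrix.mulVec_mulVec, ← Matrix.mulVec_mulVec, h1,
      Matrix.mulVec_mulVec, coe_inv_mul_Sp6, Matrix.one_mulVec]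
    exact (hP0 _).2 ⟨_, _, rfl⟩
  show w ∈ stabSub (P0 F)
  rw [mem_stabSub]
  intro v
  exact ⟨hwP v, P7B_mem_of_map_mem (w : M6 F) (P7B_injective w) (P0 F) hwP v⟩

end Cfsg.Agent.Helper47.Cov2.P7
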