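import Cfsg.Agent.Helper43.Cov2.P7Defs

/-!
# S2500 part 7, piece (7D3) for helper43: the normaliser in `Sp₆(F)` of a self-adjoint cubic field is proper

A symplectic transvection `t` normalising `K₀` centralises it (the difference `t k t⁻¹ - k ∈ K₀` kills
a non-zero vector), so its centre `v` is a common eigenvector of `K₀`, which forces `K₀ = F`.
-/

set_option autoImplicit false

namespace Cfsg.Agent.Helper47.Cov2.P7

open Matrix Cfsg.Agent.Helper43.Cov2.P7 Cfsg.Agent.Helper13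

variable {F : Type*} [Field F]

/-- there is a non-zero vector orthogonal to two given vectors of `F⁶` -/
theorem P7D3_exists_perp (v u : V6 F) :
    ∃ x : V6 F, x ≠ 0 ∧ Cfsg.sympForm 3 F x v = 0 ∧ Cfsg.sympForm 3 F x u = 0 := by
  let f : V6 F →ₗ[F] (F × F) :=
    { toFun := fun x => (Cfsg.sympForm 3 F x v, Cfsg.sympForm 3 F x u)
      map_add' := fun x y => by
        simp only [sympForm_add_left, Prod.mk_add_mk]
      map_smul' := fun c x => by
        simp only [sympForm_smul_left, RingHom.id_apply, Prod.smul_mk, smul_eq_mul] }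
  have h1 : Module.finrank F (F × F) < Module.finrank F (V6 F) := by
    rw [Module.finrank_prod, Module.finrank_self, Module.finrank_fintype_fun_eq_card]
    simp
  have h2 := LinearMap.ker_ne_bot_of_finrank_lt (f := f) h1
  obtain ⟨x, hx, hx0⟩ := (Submodule.ne_bot_iff _).1 h2
  rw [LinearMap.mem_ker] at hx
  have hx' : (Cfsg.sympForm 3 F x v, Cfsg.sympForm 3 F x u) = 0 := hx
  rw [Prod.mk_eq_zero] at hx'
  exact ⟨x, hx0, hx'.1, hx'.2⟩

/-- (7D3) -/
theorem normK_ne_top (K₀ : Subalgebra F (M6 F)) (hK₀ : IsCubic K₀) : normK K₀ ≠ ⊤ := by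
  intro htop
  obtain ⟨hfield, hsa⟩ := hK₀
  -- nonzero elements of `K₀` have trivial kernel
  have hker : ∀ k ∈ K₀, ∀ w : V6 F, w ≠ 0 → k *ᵥ w = 0 → k = 0 := by
    intro k hk w hw hkw
    by_contra hk0
    obtain ⟨y, hy, hky⟩ := hfield.inv k hk hk0
    have hyk : y * k = 1 := by rw [hfield.comm y hy k hk, hky]
    apply hw
    calc w = (y * k) *ᵥ w := by rw [hyk, Matrix.one_mulVec]
      _ = y *ᵥ (k *ᵥ w) := by rw [Matrix.mulVec_mulVec]
      _ = 0 := by rw [hkw, Matrix.mulVec_zero]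
  set v : V6 F := Pi.single (Sum.inl 0) 1 with hv
  set x₀ : V6 F := Pi.single (Sum.inr 0) 1 with hx₀
  have hv0 : v ≠ 0 := by
    intro h
    have := congrFun h (Sum.inl 0)
    simp [hv] at this
  have hx₀v : Cfsg.sympForm 3 F x₀ v = 1 := by
    rw [sympForm_eq_sum]
    simp [hv, hx₀, Fin.sum_univ_three]
  have ht : Cfsg.sympTransvection 3 v (1 : F) ∈ Matrix.symplecticGroup (Fin 3) F :=
    sympTransvection_mem v 1
  set t : Sp6 F := ⟨_, ht⟩ with htdef
  have htv : ∀ x : V6 F, (t : M6 F) *ᵥ x = x + Cfsg.sympForm 3 F x v • v := by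
    intro x
    have : (t : M6 F) = Cfsg.sympTransvection 3 v (1 : F) := rfl
    rw [this, sympTransvection_mulVec, one_mul]
  have htn : t ∈ normK K₀ := by rw [htop]; exact Subgroup.mem_top t
  rw [mem_normK] at htn
  -- `t` centralises `K₀`
  have hcent : ∀ k ∈ K₀, (t : M6 F) * k = k * (t : M6 F) := by
    intro k hk
    have hk' := (htn k).1 hk
    set k' : M6 F := (t : M6 F) * k * ((t⁻¹ : Sp6 F) : M6 F) with hk'def
    have hrel : (t : M6 F) * k = k' * (t : M6 F) := by
      rw [hk'def, mul_assoc ((t : M6 F) * k), coe_inv_mul_Sp6, mul_one]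
    have hd : k - k' ∈ K₀ := K₀.sub_mem hk hk'
    obtain ⟨x, hx0, hxv, hxu⟩ := P7D3_exists_perp v (k *ᵥ v)
    have hkxv : Cfsg.sympForm 3 F (k *ᵥ x) v = 0 := by rw [hsa k hk x v]; exact hxu
    have h1 : (k - k') *ᵥ x = 0 := by
      have h2 := congrArg (fun M : M6 F => M *ᵥ x) hrel
      simp only [← Matrix.mulVec_mulVec] at h2
      rw [htv, htv, hkxv, hxv, zero_smul, add_zero, add_zero] at h2
      rw [Matrix.sub_mulVec, h2, sub_self]
    have h3 : k - k' = 0 := hker _ hd x hx0 h1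
    rw [hrel, ← sub_eq_zero.1 h3]
  -- `v` is a common eigenvector
  have heig : ∀ k ∈ K₀, k *ᵥ v = Cfsg.sympForm 3 F (k *ᵥ x₀) v • v := by
    intro k hk
    have h2 := congrArg (fun M : M6 F => M *ᵥ x₀) (hcent k hk)
    simp only [← Matrix.mulVec_mulVec] at h2
    rw [htv, htv, hx₀v, one_smul, Matrix.mulVec_add] at h2
    exact (add_left_cancel h2).symm
  -- `K₀ ≤ ⊥`
  have hbot : K₀ ≤ ⊥ := by
    intro k hk
    rw [Algebra.mem_bot]
    set lam : F := Cfsg.sympForm 3 F (k *ᵥ x₀) v with hlam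
    have hmem : k - algebraMap F (M6 F) lam ∈ K₀ := K₀.sub_mem hk (K₀.algebraMap_mem lam)
    have h1 : (k - algebraMap F (M6 F) lam) *ᵥ v = 0 := by
      rw [Matrix.sub_mulVec, heig k hk, Algebra.algebraMap_eq_smul_one, Matrix.smul_mulVec,
        Matrix.one_mulVec, sub_self]
    have h2 := hker _ hmem v hv0 h1
    exact ⟨lam, (sub_eq_zero.1 h2).symm⟩
  have heq : K₀ = ⊥ := le_bot_iff.1 hbot
  have h3 := hfield.finrank_eq
  rw [heq, Subalgebra.finrank_bot] at h3
  norm_num at h3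

end Cfsg.Agent.Helper47.Cov2.P7
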