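import Cfsg.Agent.Helper43.O7Orth

/-!
# `Ω₇(q)`: the columns of an element normalizing the reflections-pairs into `S0` are monomial
(leaf (O7-L7) of helper43's S2647 skeleton)
-/

set_option autoImplicit false

namespace Cfsg.Agent.Helper47.O7

open Matrix Cfsg.Agent.Helper43.O7 Cfsg.Agent.Helper44

variable {F : Type*} [Field F] [Fintype F]

/-- the sign of `mulSingle i (-1) * mulSingle 6 (-1)` at `a`, for `i ≠ 6` -/
theorem sg_mulSingle_pair {i : Fin 7} (hi : i ≠ 6) (a : Fin 7) :
    sg F ((Pi.mulSingle i (-1) * Pi.mulSingle 6 (-1) : Fin 7 → ℤˣ) a) =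
      1 - (if a = i then 2 else 0) - (if a = 6 then 2 else 0) := by
  rw [Pi.mul_apply, sg_mul, Pi.mulSingle_apply, Pi.mulSingle_apply]
  by_cases ha : a = i
  · have ha6 : a ≠ 6 := by
      rw [ha]
      exact hi
    rw [if_pos ha, if_neg ha6, if_pos ha, if_neg ha6, sg_neg_one, sg_one]
    ring
  · by_cases ha6 : a = 6
    · rw [if_neg ha, if_pos ha6, if_neg ha, if_pos ha6, sg_neg_one, sg_one]
      ring
    · rw [if_neg ha, if_neg ha6, if_neg ha, if_neg ha6, sg_one]
      ring

/-- (O7-L7) -/
theorem cols_mono (h2 : (2 : F) ≠ 0) (hns : ¬ IsSquare (2 : F))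
    (g : Cfsg.isometryGroup F ⇑(Q7 F))
    (h6 : ∃ s : ℤˣ, ∀ k, (g.1 : Matrix (Fin 7) (Fin 7) F) k 6 = if k = 6 then sg F s else 0)
    (hg : ∀ i : Fin 7, i ≠ 6 →
      g * dg F (Pi.mulSingle i (-1) * Pi.mulSingle 6 (-1)) * g⁻¹ ∈ S0 F) :
    ∀ i : Fin 7, ∃ (j : Fin 7) (s : ℤˣ),
      ∀ k, (g.1 : Matrix (Fin 7) (Fin 7) F) k i = if k = j then sg F s else 0 := by
  intro i
  obtain ⟨s6, hs6⟩ := h6
  by_cases hi : i = 6
  · rw [hi]
    exact ⟨6, s6, hs6⟩
  set A : Matrix (Fin 7) (Fin 7) F := (g.1 : Matrix (Fin 7) (Fin 7) F) with hA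
  have hAtA : Aᵀ * A = 1 := transpose_mul_self h2 g
  have hAAt : A * Aᵀ = 1 := self_mul_transpose h2 g
  -- (1) the `6`-entry of column `i` vanishes
  have hw6 : A 6 i = 0 := by
    have h := congrFun (congrFun hAtA 6) i
    rw [Matrix.mul_apply, Matrix.one_apply_ne (Ne.symm hi), Finset.sum_eq_single 6] at h
    · rw [Matrix.transpose_apply, hs6, if_pos rfl] at h
      exact (mul_eq_zero.1 h).resolve_left (sg_ne_zero F _)
    · intro b _ hb
      rw [Matrix.transpose_apply, hs6, if_neg hb, zero_mul]
    · intro h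
      exact absurd (Finset.mem_univ _) h
  -- (2),(3) entries of the conjugate
  obtain ⟨ε', σ', -, -, hy⟩ := hg i hi
  have hsum : ∀ k l, ∑ a, A k a * A l a = if k = l then 1 else 0 := by
    intro k l
    have := congrFun (congrFun hAAt k) l
    rw [Matrix.mul_apply, Matrix.one_apply] at this
    rw [← this]
    rfl
  have hyent : ∀ k l, (if k = σ' l then sg F (ε' k) else 0) =
      (if k = l then 1 else 0) - 2 * A k i * A l i - 2 * A k 6 * A l 6 := by
    intro k l
    rw [← mon_apply F ε' σ' k l, ← hy, conj_dg_apply h2]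
    calc ∑ a, sg F ((Pi.mulSingle i (-1) * Pi.mulSingle 6 (-1) : Fin 7 → ℤˣ) a) * A k a * A l a
        = ∑ a, (A k a * A l a - (if a = i then 2 * A k i * A l i else 0) -
            (if a = 6 then 2 * A k 6 * A l 6 else 0)) := by
          apply Finset.sum_congr rfl
          intro a _
          rw [sg_mulSingle_pair hi]
          by_cases ha : a = i
          · have ha6 : a ≠ 6 := by
              rw [ha]
              exact hi
            rw [if_pos ha, if_neg ha6, if_pos ha, if_neg ha6, ha]
            ring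
          · by_cases ha6 : a = 6
            · rw [if_neg ha, if_pos ha6, if_neg ha, if_pos ha6, ha6]
              ring
            · rw [if_neg ha, if_neg ha6, if_neg ha, if_neg ha6]
              ring
      _ = (if k = l then 1 else 0) - 2 * A k i * A l i - 2 * A k 6 * A l 6 := by
          rw [Finset.sum_sub_distrib, Finset.sum_sub_distrib, Finset.sum_ite_eq', Finset.sum_ite_eq',
            hsum, if_pos (Finset.mem_univ _), if_pos (Finset.mem_univ _)]
  -- (4) two distinct nonzero entries in column `i` are impossible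
  have hkey : ∀ k l, k ≠ l → A k i ≠ 0 → A l i ≠ 0 → False := by
    intro k l hkl hk hl
    have hk6 : k ≠ 6 := by
      intro h
      rw [h] at hk
      exact hk hw6
    have hl6 : l ≠ 6 := by
      intro h
      rw [h] at hl
      exact hl hw6
    have hAk6 : A k 6 = 0 := by rw [hs6, if_neg hk6]
    have hAl6 : A l 6 = 0 := by rw [hs6, if_neg hl6]
    have h1 := hyent k l
    rw [if_neg hkl, hAk6] at h1
    have hkσ : k = σ' l := by
      by_contra hne
      rw [if_neg hne] at h1
      have : 2 * (A k i * A l i) = 0 := by linear_combination h1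
      rcases mul_eq_zero.1 this with h | h
      · exact h2 h
      · rcases mul_eq_zero.1 h with h | h
        · exact hk h
        · exact hl h
    have hlσ : l ≠ σ' l := by
      intro h
      exact hkl (hkσ.trans h.symm)
    have h3 := hyent l l
    rw [if_neg hlσ, if_pos rfl, hAl6] at h3
    apply hns
    refine ⟨(A l i)⁻¹, ?_⟩
    have hl2 : 2 * (A l i * A l i) = 1 := by linear_combination h3
    field_simp
    linear_combination hl2
  -- (5) the column has norm one
  have hnorm : ∑ k, A k i * A k i = 1 := by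
    have := congrFun (congrFun hAtA i) i
    rw [Matrix.mul_apply, Matrix.one_apply_eq] at this
    rw [← this]
    rfl
  have hex : ∃ j, A j i ≠ 0 := by
    by_contra hcon
    push_neg at hcon
    have : ∑ k, A k i * A k i = 0 := by
      apply Finset.sum_eq_zero
      intro k _
      rw [hcon k, zero_mul]
    rw [this] at hnorm
    exact zero_ne_one hnorm
  obtain ⟨j, hj⟩ := hex
  have hother : ∀ k, k ≠ j → A k i = 0 := by
    intro k hkj
    by_contra hk
    exact hkey k j hkj hk hj
  have hjj : A j i * A j i = 1 := by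
    rw [← hnorm, Finset.sum_eq_single j]
    · intro b _ hb
      rw [hother b hb, zero_mul]
    · intro h
      exact absurd (Finset.mem_univ _) h
  have hpm : A j i = 1 ∨ A j i = -1 := mul_self_eq_one_iff.1 hjj
  rcases hpm with h | h
  · refine ⟨j, 1, ?_⟩
    intro k
    by_cases hk : k = j
    · rw [if_pos hk, hk, h, sg_one]
    · rw [if_neg hk, hother k hk]
  · refine ⟨j, -1, ?_⟩
    intro k
    by_cases hk : k = j
    · rw [if_pos hk, hk, h, sg_neg_one]
    · rw [if_neg hk, hother k hk]

end Cfsg.Agent.Helper47.O7
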