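import Cfsg.Agent.Helper43.O7Orth

/-!
# `Ω₇(q)`: a monomial isometry is `dg ε * pm σ`  (leaf (O7-L8) of helper43's S2647 skeleton)
-/

set_option autoImplicit false

namespace Cfsg.Agent.Helper47.O7

open Matrix Cfsg.Agent.Helper43.O7 Cfsg.Agent.Helper44

variable {F : Type*} [Field F] [Fintype F]

/-- (O7-L8) an isometry of `Q7` all of whose columns are `± e_j` is a monomial matrix
`dg ε * pm σ` -/
theorem mono_decomp (g : Cfsg.isometryGroup F ⇑(Q7 F))
    (hg : ∀ i : Fin 7, ∃ (j : Fin 7) (s : ℤˣ),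
      ∀ k, (g.1 : Matrix (Fin 7) (Fin 7) F) k i = if k = j then sg F s else 0) :
    ∃ (ε : Fin 7 → ℤˣ) (σ : Equiv.Perm (Fin 7)), g = dg F ε * pm F σ := by
  choose f s hfs using hg
  set A : Matrix (Fin 7) (Fin 7) F := (g.1 : Matrix (Fin 7) (Fin 7) F) with hA
  set B : Matrix (Fin 7) (Fin 7) F :=
    (((g⁻¹).1 : GL (Fin 7) F) : Matrix (Fin 7) (Fin 7) F) with hB
  have hBA : B * A = 1 := by
    have : g⁻¹ * g = 1 := inv_mul_cancel g
    exact congrArg (fun x : Cfsg.isometryGroup F ⇑(Q7 F) =>
      ((x.1 : GL (Fin 7) F) : Matrix (Fin 7) (Fin 7) F)) this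
  have hent : ∀ i i', (B * A) i i' = B i (f i') * sg F (s i') := by
    intro i i'
    rw [Matrix.mul_apply, Finset.sum_eq_single (f i')]
    · rw [hfs, if_pos rfl]
    · intro b _ hb
      rw [hfs, if_neg hb, mul_zero]
    · intro h
      exact absurd (Finset.mem_univ _) h
  have hinj : Function.Injective f := by
    intro i i' h
    by_contra hne
    have h1 := hent i i
    rw [hBA, Matrix.one_apply_eq] at h1
    have h2 := hent i i'
    rw [hBA, Matrix.one_apply_ne hne, ← h] at h2
    have h0 : B i (f i) = 0 := by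
      rcases mul_eq_zero.1 h2.symm with h | h
      · exact h
      · exact absurd h (sg_ne_zero F _)
    rw [h0, zero_mul] at h1
    exact one_ne_zero h1
  have hbij : Function.Bijective f := Finite.injective_iff_bijective.1 hinj
  refine ⟨fun k => s ((Equiv.ofBijective f hbij).symm k), Equiv.ofBijective f hbij, ?_⟩
  apply Subtype.ext
  apply Units.ext
  ext k l
  rw [mon_apply]
  show A k l = _
  rw [hfs]
  have hσl : (Equiv.ofBijective f hbij) l = f l := rfl
  rw [hσl]
  by_cases hk : k = f l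
  · rw [if_pos hk, if_pos hk]
    have : (Equiv.ofBijective f hbij).symm k = l := by
      rw [hk, ← hσl, Equiv.symm_apply_apply]
    rw [this]
  · rw [if_neg hk, if_neg hk]

end Cfsg.Agent.Helper47.O7
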