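import Mathlib
import Cfsg.Agent.Helper43.PsuM.EvDefs
import Cfsg.Agent.Helper96.StLift.Basic

/-!
# S2089 block I-even, piece (E1b): the core argument, with the API statements as hypotheses
-/

set_option autoImplicit false

namespace Cfsg.Agent.Helper47.PsuM

open Matrix
open scoped commutatorElement
open Cfsg.Agent.Helper96.StLift
open Cfsg.Agent.Helper43.PsuM.Ev

universe u

variable {K : Type u} [Field K] [Fintype K] {q : ℕ} {σ : K →+* K} {m : ℕ}

/-- `σ` is an involution -/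
theorem E1b_invol (hK : Fintype.card K = q ^ 2) (hσq : ∀ x, σ x = x ^ q) (x : K) : σ (σ x) = x := by
  rw [hσq, hσq, ← pow_mul, ← pow_two, ← hK, FiniteField.pow_card]

/-- a non-zero element of trace zero -/
theorem E1b_exists_trace_zero (hK : Fintype.card K = q ^ 2) (hσq : ∀ x, σ x = x ^ q) :
    ∃ c : K, c ≠ 0 ∧ σ c + c = 0 := by
  have hq : 1 < q := by
    have h1 : 1 < Fintype.card K := Fintype.one_lt_card
    rw [hK] at h1
    by_contra hq
    have : q ≤ 1 := by omega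
    interval_cases q <;> simp at h1
  have hex : ∃ x : K, σ x ≠ x := by
    by_contra hne
    push Not at hne
    have hsub : (Finset.univ : Finset K).val ⊆ (Polynomial.X ^ q - Polynomial.X : Polynomial K).roots := by
      intro x _
      rw [Polynomial.mem_roots (FiniteField.X_pow_card_sub_X_ne_zero K hq)]
      simp only [Polynomial.IsRoot, Polynomial.eval_sub, Polynomial.eval_pow, Polynomial.eval_X]
      rw [← hσq, hne, sub_self]
    have h2 := Polynomial.card_le_degree_of_subset_roots hsub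
    rw [FiniteField.X_pow_card_sub_X_natDegree_eq K hq, Finset.card_univ, hK] at h2
    nlinarith
  obtain ⟨x, hx⟩ := hex
  refine ⟨x - σ x, ?_, ?_⟩
  · intro h
    exact hx (sub_eq_zero.mp h).symm
  · rw [map_sub, E1b_invol hK hσq]
    ring

section ext

variable {Γ : Type u} [Group Γ] (τ : Γ →* SUe m σ) (hτ : Function.Surjective τ)
  (hc : τ.ker ≤ Subgroup.center Γ)

include hc

/-- the elements of `Qsub` whose lifts commute with all lifts of `Qsub` form a subgroup -/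
theorem E1b_core
    (hQcomm : ∀ x y : SUe m σ, x ∈ Qsub m σ → y ∈ Qsub m σ → Commute x y)
    (hSnorm : ∀ s x : SUe m σ, s ∈ Ssub m σ → x ∈ Qsub m σ → s * x * s⁻¹ ∈ Qsub m σ)
    (hcl : Qsub m σ ≤ Subgroup.closure ({g | ∃ i : Fin m, ∃ c : K, σ c + c = 0 ∧ g = zE σ i c} ∪
      {g | ∃ i j : Fin m, i ≠ j ∧ ∃ t : K, g = cE σ i j t}))
    (hcomm : ∀ {j k : Fin m} (_ : j ≠ k) (a : K) {c : K} (_ : σ c + c = 0),
      ⁅xE σ j k a, zE σ k c⁆ = cE σ j k (a * c) * zE σ j (a * σ a * c))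
    (hzQ : ∀ (i : Fin m) (c : K), σ c + c = 0 → zE σ i c ∈ Qsub m σ)
    (hK : Fintype.card K = q ^ 2) (hσq : ∀ x, σ x = x ^ q)
    (h1 : ∀ (i : Fin m) (c : K), σ c + c = 0 → ∀ y ∈ Qsub m σ, lc hτ (zE σ i c) y = 1)
    (x y : SUe m σ) (hx : x ∈ Qsub m σ) (hy : y ∈ Qsub m σ) : lc hτ x y = 1 := by
  have hσ : ∀ x, σ (σ x) = x := E1b_invol hK hσq
  -- the subgroup of good elements
  let H : Subgroup (SUe m σ) :=
    { carrier := {x | x ∈ Qsub m σ ∧ ∀ y ∈ Qsub m σ, lc hτ x y = 1}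
      one_mem' := ⟨(Qsub m σ).one_mem, fun y _ => lc_one_left hτ hc y⟩
      mul_mem' := by
        rintro a b ⟨ha, ha'⟩ ⟨hb, hb'⟩
        refine ⟨(Qsub m σ).mul_mem ha hb, fun y hy => ?_⟩
        rw [lc_mul_left_of_commute hτ hc (hQcomm b y hb hy), ha' y hy, hb' y hy, mul_one]
      inv_mem' := by
        rintro a ⟨ha, ha'⟩
        refine ⟨(Qsub m σ).inv_mem ha, fun y hy => ?_⟩
        have h := lc_mul_left_of_commute hτ hc (a := a) (hQcomm a⁻¹ y ((Qsub m σ).inv_mem ha) hy)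
        rw [mul_inv_cancel, lc_one_left hτ hc, ha' y hy, mul_one] at h
        exact h.symm }
  have hH : ∀ x, x ∈ H ↔ (x ∈ Qsub m σ ∧ ∀ y ∈ Qsub m σ, lc hτ x y = 1) := fun x => Iff.rfl
  have hz : ∀ (i : Fin m) (c : K), σ c + c = 0 → zE σ i c ∈ H := fun i c hc0 =>
    (hH _).mpr ⟨hzQ i c hc0, h1 i c hc0⟩
  have hxS : ∀ {i j : Fin m} (_ : i ≠ j) (a : K), xE σ i j a ∈ Ssub m σ := by
    intro i j hij a
    unfold xE
    rw [dif_pos hij]
    exact Subgroup.subset_closure ⟨_, rfl⟩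
  -- conjugates of long root elements by Levi elements are good
  have hconj : ∀ (g : SUe m σ), g ∈ Ssub m σ → ∀ (i : Fin m) (c : K), σ c + c = 0 →
      g * zE σ i c * g⁻¹ ∈ H := by
    intro g hg i c hc0
    refine (hH _).mpr ⟨hSnorm g _ hg (hzQ i c hc0), fun y hy => ?_⟩
    obtain ⟨g', rfl⟩ := hτ g
    have hy' : (τ g')⁻¹ * y * ((τ g')⁻¹)⁻¹ ∈ Qsub m σ :=
      hSnorm _ _ ((Ssub m σ).inv_mem hg) hy
    have h := lc_conj hτ hc g' (zE σ i c) ((τ g')⁻¹ * y * ((τ g')⁻¹)⁻¹)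
    rw [h1 i c hc0 _ hy', mul_one, mul_inv_cancel] at h
    have e : τ g' * ((τ g')⁻¹ * y * ((τ g')⁻¹)⁻¹) * (τ g')⁻¹ = y := by group
    rw [e] at h
    exact h.symm
  obtain ⟨c, hc0, hc1⟩ := E1b_exists_trace_zero hK hσq
  have hgen : ({g | ∃ i : Fin m, ∃ c : K, σ c + c = 0 ∧ g = zE σ i c} ∪
      {g | ∃ i j : Fin m, i ≠ j ∧ ∃ t : K, g = cE σ i j t}) ⊆ (H : Set (SUe m σ)) := by
    rintro g (⟨i, c', hc', rfl⟩ | ⟨i, j, hij, t, rfl⟩)
    · exact hz i c' hc'
    · -- `cE σ i j t = (g z g⁻¹) * z⁻¹ * (zE σ i _)⁻¹`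
      have hk := hcomm hij (t * c⁻¹) hc1
      have e1 : t * c⁻¹ * c = t := by field_simp
      rw [e1] at hk
      have hc2 : σ (t * c⁻¹ * σ (t * c⁻¹) * c) + t * c⁻¹ * σ (t * c⁻¹) * c = 0 := by
        have : σ c = -c := eq_neg_of_add_eq_zero_left hc1
        rw [map_mul, map_mul, hσ, this]
        ring
      have e2 : cE σ i j t = (xE σ i j (t * c⁻¹) * zE σ j c * (xE σ i j (t * c⁻¹))⁻¹) *
          (zE σ j c)⁻¹ * (zE σ i (t * c⁻¹ * σ (t * c⁻¹) * c))⁻¹ := by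
        rw [commutatorElement_def] at hk
        rw [hk]
        group
      rw [e2]
      exact H.mul_mem (H.mul_mem (hconj _ (hxS hij _) j c hc1) (H.inv_mem (hz j c hc1)))
        (H.inv_mem (hz i _ hc2))
  have hle : Qsub m σ ≤ H := hcl.trans ((Subgroup.closure_le H).mpr hgen)
  exact ((hH x).mp (hle hx)).2 y hy

end ext

end Cfsg.Agent.Helper47.PsuM
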