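import Mathlib
import Cfsg.Agent.Helper47.PsuM_E1bCore
import Cfsg.Agent.Helper61.PsuM_AQ
import Cfsg.Agent.Helper55.PsuM_AROOTa
import Cfsg.Agent.Helper55.PsuM_ANORM
import Cfsg.Agent.Helper41.PsuM_AROOTb

/-!
# S2089 block I-even, piece (E1b) (helper47 for helper43): `Qsub.comap τ` is abelian
-/

set_option autoImplicit false

namespace Cfsg.Agent.Helper47.PsuM

open Matrix
open scoped commutatorElement
open Cfsg.Agent.Helper96.StLift
open Cfsg.Agent.Helper43.PsuM.Ev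

universe u

variable {K : Type u} [Field K] [Fintype K] {q : ℕ} {σ : K →+* K} {m : ℕ}

section ext

variable {Γ : Type u} [Group Γ] (τ : Γ →* SUe m σ) (hτ : Function.Surjective τ)
  (hc : τ.ker ≤ Subgroup.center Γ)

include hc

/-- (E1b) `Qsub.comap τ` is abelian. -/
theorem lc_Qsub_eq_one (hK : Fintype.card K = q ^ 2) (hσq : ∀ x, σ x = x ^ q) (hm : 2 ≤ m)
    (h1 : ∀ (i : Fin m) (c : K), σ c + c = 0 → ∀ y ∈ Qsub m σ, lc hτ (zE σ i c) y = 1)
    (x y : SUe m σ) (hx : x ∈ Qsub m σ) (hy : y ∈ Qsub m σ) : lc hτ x y = 1 := by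
  have hσ : ∀ x, σ (σ x) = x := E1b_invol hK hσq
  exact E1b_core τ hτ hc Cfsg.Agent.Helper61.PsuM.Qsub_comm
    (Cfsg.Agent.Helper55.PsuM.Ssub_normalizes_Qsub hσ)
    (Cfsg.Agent.Helper55.PsuM.Qsub_le_closure hσ)
    (fun hjk a _ hc0 => Cfsg.Agent.Helper41.PsuM.commutator_xE_zE hσ hjk a hc0)
    (fun i c hc0 => (Cfsg.Agent.Helper61.PsuM.mem_Qsub_iff _).mpr
      ⟨_, Cfsg.Agent.Helper55.PsuM.single_mem_SkewH i hc0, rfl⟩)
    hK hσq h1 x y hx hy

end ext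

end Cfsg.Agent.Helper47.PsuM
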