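import Mathlib
import Cfsg.Agent.Helper43.PsuM.EvDefs
import Cfsg.Agent.Helper33.PsuM_AI
import Cfsg.Agent.Helper65.PsuM_HU
import Cfsg.Agent.Helper96.StLift.SLLift
import Cfsg.Agent.S2401
import Cfsg.Agent.Helper67.StLiftG1
import Cfsg.Agent.Helper31.StLG34

/-!
# S2089 block I-even, piece (EUNIV) (helper47 for helper43): every central extension of the Levi subgroup
`Ssub m σ ≅ SL_m(K)` splits.
-/

set_option autoImplicit false

namespace Cfsg.Agent.Helper47.PsuM

open Matrix
open scoped commutatorElement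
open Cfsg.Agent.Helper43.PsuM.Ev

universe u

variable {K : Type u} [Field K] [Fintype K] {q : ℕ} {σ : K →+* K} {m : ℕ}

/-- every central extension of `SL_m(K)` splits, `|K| = q ^ 2`, `(m, q) ≠ (2, 2), (2, 3), (3, 2)` -/
theorem EUNIV_SL (hK : Fintype.card K = q ^ 2) (hm : 2 ≤ m)
    (h2 : m = 2 → 4 ≤ q) (h3 : m = 3 → q ≠ 2) :
    ∀ (E : Type u) [Group E] (π : E →* SpecialLinearGroup (Fin m) K), Function.Surjective π →
      π.ker ≤ Subgroup.center E →
      ∃ s : SpecialLinearGroup (Fin m) K →* E, π.comp s = MonoidHom.id _ := by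
  have hq : 2 ≤ q := by
    have h1 : 1 < Fintype.card K := Fintype.one_lt_card
    rw [hK] at h1
    by_contra hq
    have : q ≤ 1 := by omega
    interval_cases q <;> simp at h1
  rcases eq_or_lt_of_le hm with h2' | h3'
  · subst h2'
    have hq4 : 4 ≤ q := h2 rfl
    have h16 : 16 ≤ Fintype.card K := by rw [hK]; nlinarith
    have hperf : commutator (Matrix.SpecialLinearGroup (Fin 2) K) = ⊤ :=
      Cfsg.Agent.Helper5.commutator_SL_eq_top_of_exists
        (Cfsg.Agent.Helper5.exists_sq_ne_one_of_card (by omega))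
    intro E _ p hp hc
    exact Cfsg.Agent.Helper31.StLG34.section_of_stem_trivial hperf
      (fun Γ _ _ σ hσ => Cfsg.Agent.Helper96.StemSLTwo.ker_eq_bot (by omega) (by omega) σ hσ)
      E p hp hc
  · have hn3 : 3 ≤ m := h3'
    have h4K : 4 ≤ Fintype.card K := by rw [hK]; nlinarith
    have hcase : 5 ≤ m ∨ (m = 4 ∧ 3 ≤ Fintype.card K) ∨
        (m = 3 ∧ Fintype.card K ≠ 2 ∧ Fintype.card K ≠ 4) := by
      by_cases h5 : 5 ≤ m
      · exact Or.inl h5
      · by_cases h4 : m = 4
        · exact Or.inr (Or.inl ⟨h4, by omega⟩)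
        · have h3'' : m = 3 := by omega
          refine Or.inr (Or.inr ⟨h3'', by omega, fun h => h3 h3'' ?_⟩)
          rw [hK] at h
          have : q < 3 := by nlinarith
          interval_cases q <;> simp_all
    intro E _ p hp hc
    exact Cfsg.Agent.Helper67.StLiftG1.exists_section_of_lift m
      (fun E' _ Z hZ => Cfsg.Agent.Helper67.StLiftG1.hom_of_stRel m
        (Cfsg.Agent.S2401.result m hn3) E' Z hZ)
      (fun E' _ p' hp' hc' => Cfsg.Agent.Helper96.StLift.sl_lift m hcase E' p' hp' hc')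
      E p hp hc

/-- (EUNIV) every central extension of the Levi subgroup splits. -/
theorem huniv_Ssub (hK : Fintype.card K = q ^ 2) (hσ : ∀ x, σ (σ x) = x) (hm : 2 ≤ m)
    (h2 : m = 2 → 4 ≤ q) (h3 : m = 3 → q ≠ 2) :
    ∀ (E : Type u) [Group E] (π : E →* ↥(Ssub m σ)), Function.Surjective π →
      π.ker ≤ Subgroup.center E → ∃ s : ↥(Ssub m σ) →* E, π.comp s = MonoidHom.id ↥(Ssub m σ) := by
  obtain ⟨e, -⟩ := Cfsg.Agent.Helper33.PsuM.exists_mulEquiv_Ssub (m := m) (σ := σ) hσ
  exact Cfsg.Agent.Helper65.PsuM.huniv_congr e (EUNIV_SL hK hm h2 h3)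

end Cfsg.Agent.Helper47.PsuM
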