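import Mathlib

/-!
# S2089 glue leaf (EF1) (helper47 for helper43): an element `s ≠ 0` of the fixed field with `s ^ 2 ≠ 1`
-/

set_option autoImplicit false

namespace Cfsg.Agent.Helper47.PsuM

/-- (EF1) -/
theorem exists_fixed_sq_ne_one {K : Type*} [Field K] [Fintype K] {q : ℕ} (hK : Fintype.card K = q ^ 2)
    (σ : K →+* K) (hσq : ∀ x, σ x = x ^ q) (hq : 4 ≤ q) : ∃ s : K, s ≠ 0 ∧ σ s = s ∧ s * s ≠ 1 := by
  classical
  obtain ⟨g, hg⟩ := IsCyclic.exists_generator (α := Kˣ)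
  have hord : orderOf g = q ^ 2 - 1 := by
    rw [orderOf_eq_card_of_forall_mem_zpowers hg, Nat.card_eq_fintype_card, Fintype.card_units, hK]
  refine ⟨((g ^ (q + 1) : Kˣ) : K), Units.ne_zero _, ?_, ?_⟩
  · rw [hσq, Units.val_pow_eq_pow_val, ← pow_mul]
    have h1 : (q + 1) * q = q ^ 2 + q := by ring
    rw [h1, pow_add, ← hK, FiniteField.pow_card, pow_succ']
  · intro h
    have h2 : g ^ (q + 1) * g ^ (q + 1) = 1 := by
      apply Units.ext
      rw [Units.val_mul, Units.val_one]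
      exact h
    rw [← pow_add] at h2
    have h3 := orderOf_dvd_of_pow_eq_one h2
    rw [hord] at h3
    have h4 : q ^ 2 - 1 = (q - 1) * (q + 1) := by
      obtain ⟨k, rfl⟩ : ∃ k, q = k + 1 := ⟨q - 1, by omega⟩
      have : (k + 1) ^ 2 - 1 = k * (k + 1 + 1) := by
        have : (k + 1) ^ 2 = k * (k + 1 + 1) + 1 := by ring
        omega
      rw [this]
      simp
    rw [h4] at h3
    have h5 : (q - 1) * (q + 1) ≤ q + 1 + (q + 1) := Nat.le_of_dvd (by omega) h3
    have h6 : 3 ≤ q - 1 := by omega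
    nlinarith
end Cfsg.Agent.Helper47.PsuM
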