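import Mathlib
import Cfsg.Prelude.Def_LieClassical
import Cfsg.Agent.Helper45.SUBasic

/-!
# S2089 glue leaf (GL1) (helper47 for helper43): the centre of `SU_n(q)` is cyclic
-/

set_option autoImplicit false

namespace Cfsg.Agent.Helper47.PsuM

open Matrix Cfsg.Agent.Helper45.GU

/-- (GL1) -/
theorem isCyclic_center_SU {F : Type*} [Field F] [Fintype F] {q : ℕ} (hF : Fintype.card F = q ^ 2)
    (n : ℕ) (hn : 3 ≤ n) : IsCyclic (Subgroup.center (Cfsg.SU n F q)) := by
  classical
  obtain ⟨bar, hbar⟩ := exists_bar hF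
  have hcardU : Nat.card (U1 F q) = q + 1 := card_U1 hF
  have hq : 2 ≤ q := by
    have := Fintype.one_lt_card (α := F)
    rw [hF] at this
    nlinarith
  obtain ⟨u, hu⟩ := IsCyclic.exists_generator (α := U1 F q)
  have hu2 : (u : Fˣ) ^ 2 ≠ 1 := by
    intro h
    have h1 : u ^ 2 = 1 := Subtype.ext h
    have h2 := orderOf_dvd_of_pow_eq_one h1
    rw [orderOf_eq_card_of_forall_mem_zpowers hu, hcardU] at h2
    have := Nat.le_of_dvd (by norm_num) h2
    omega
  let i₀ : Fin n := ⟨0, by omega⟩
  -- every central element is scalar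
  have hsc : ∀ z : Subgroup.center (Cfsg.SU n F q),
      (((z : Cfsg.SU n F q) : SpecialLinearGroup (Fin n) F) : Matrix (Fin n) (Fin n) F) =
        diagonal (fun _ => (((z : Cfsg.SU n F q) : SpecialLinearGroup (Fin n) F) :
          Matrix (Fin n) (Fin n) F) i₀ i₀) := by
    intro z
    obtain ⟨l, -, hl⟩ := center_scalar2 n bar hbar (by omega) (u : Fˣ) u.2 hu2 z.1 z.2
    rw [hl, diagonal_apply_eq]
  let f : Subgroup.center (Cfsg.SU n F q) →* F :=
    { toFun := fun z => (((z : Cfsg.SU n F q) : SpecialLinearGroup (Fin n) F) :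
          Matrix (Fin n) (Fin n) F) i₀ i₀
      map_one' := by
        show (1 : Matrix (Fin n) (Fin n) F) i₀ i₀ = 1
        rw [one_apply_eq]
      map_mul' := by
        intro z w
        show ((((z : Cfsg.SU n F q) : SpecialLinearGroup (Fin n) F) : Matrix (Fin n) (Fin n) F) *
          (((w : Cfsg.SU n F q) : SpecialLinearGroup (Fin n) F) : Matrix (Fin n) (Fin n) F)) i₀ i₀ = _
        conv_lhs => rw [hsc z]
        rw [diagonal_mul] }
  have hf : Function.Injective f := by
    intro z w h
    have h' : (((z : Cfsg.SU n F q) : SpecialLinearGroup (Fin n) F) : Matrix (Fin n) (Fin n) F) i₀ i₀ =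
        (((w : Cfsg.SU n F q) : SpecialLinearGroup (Fin n) F) : Matrix (Fin n) (Fin n) F) i₀ i₀ := h
    apply Subtype.ext
    apply Subtype.ext
    apply Subtype.ext
    rw [hsc z, hsc w, h']
  haveI : Finite (SpecialLinearGroup (Fin n) F) := Subtype.finite
  exact isCyclic_of_subgroup_isDomain f hf

end Cfsg.Agent.Helper47.PsuM
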