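import Mathlib
import Cfsg.Agent.Helper5.SuBN.Defs
import Cfsg.Agent.Helper45.OddBN.SgDefs

/-!
# (SG1) for helper45's S2547 skeleton (helper47)

The Siegel elements `sgMat j w` are special orthogonal for the antidiagonal symmetric form.
-/

set_option autoImplicit false

namespace Cfsg.Agent.Helper47.OddStSG1

open Matrix Cfsg Cfsg.Agent.Helper5.SuBN Cfsg.Agent.Helper45.OddBN

variable {F : Type*} [Field F] {n : ℕ}

/-- a sum against a vector of the shape `e_a + αa e_j - βa (w ∘ rev)` -/
theorem oddStSG1_sum_three (a j : Fin n) (αa βa : F) (w Y : Fin n → F) :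
    ∑ i, ((if i = a then 1 else 0) + (if i = j then αa else 0) - βa * w (Fin.rev i)) * Y i
      = Y a + αa * Y j - βa * ∑ i, w i * Y (Fin.rev i) := by
  have h1 : ∑ i, (if i = a then (1:F) else 0) * Y i = Y a := by simp
  have h2 : ∑ i, (if i = j then αa else 0) * Y i = αa * Y j := by simp
  have h3 : ∑ i, βa * w (Fin.rev i) * Y i = βa * ∑ i, w i * Y (Fin.rev i) := by
    rw [Finset.mul_sum]
    rw [← Equiv.sum_comp Fin.revPerm (fun i => βa * (w i * Y (Fin.rev i)))]
    apply Finset.sum_congr rfl
    intro i _
    simp only [Fin.revPerm_apply, Fin.rev_rev]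
    ring
  simp only [add_mul, sub_mul, Finset.sum_add_distrib, Finset.sum_sub_distrib, h1, h2, h3]

/-- (SG1) the Siegel elements are special orthogonal -/
theorem sgMat_isUJ (h2 : (2 : F) ≠ 0) (j : Fin n) (hj : j < Fin.rev j) (w : Fin n → F)
    (hw1 : ∀ b : Fin n, b ≤ j → w b = 0) (hw2 : ∀ b : Fin n, Fin.rev j ≤ b → w b = 0) :
    IsUJ (RingHom.id F) (sgMat j w) := by
  have hjne : j ≠ Fin.rev j := ne_of_lt hj
  have hwj : w j = 0 := hw1 j le_rfl
  have hwrj : w (Fin.rev j) = 0 := hw2 _ le_rfl
  constructor
  · -- the determinant: the matrix is upper unitriangular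
    have hT : (sgMat j w).BlockTriangular id := by
      intro a b hab
      have hab' : b < a := hab
      rw [sgMat_apply]
      have h1 : (if a = b then (1:F) else 0) = 0 := if_neg (ne_of_gt hab')
      have h2' : (if a = j then w b else 0) = 0 := by
        split_ifs with h
        · rw [h] at hab'; exact hw1 b (le_of_lt hab')
        · rfl
      have h3 : (if b = Fin.rev j then w (Fin.rev a) else 0) = 0 := by
        split_ifs with h
        · apply hw1
          rw [h] at hab'
          have := Fin.rev_lt_rev.2 hab'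
          rw [Fin.rev_rev] at this
          exact le_of_lt this
        · rfl
      have h4 : (if a = j ∧ b = Fin.rev j then 2⁻¹ * ∑ c, w c * w (Fin.rev c) else 0) = 0 := by
        rw [if_neg]
        rintro ⟨h, h'⟩
        rw [h, h'] at hab'
        exact absurd hab' (not_lt.2 (le_of_lt hj))
      rw [h1, h2', h3, h4]; ring
    rw [Matrix.det_of_isUpperTriangular hT]
    apply Finset.prod_eq_one
    intro a _
    rw [sgMat_apply, if_pos rfl]
    have h2' : (if a = j then w a else 0) = 0 := by
      split_ifs with h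
      · rw [h]; exact hwj
      · rfl
    have h3 : (if a = Fin.rev j then w (Fin.rev a) else 0) = 0 := by
      split_ifs with h
      · rw [h, Fin.rev_rev]; exact hwj
      · rfl
    have h4 : (if a = j ∧ a = Fin.rev j then 2⁻¹ * ∑ c, w c * w (Fin.rev c) else 0) = 0 := by
      rw [if_neg]
      rintro ⟨h, h'⟩
      exact hjne (h.symm.trans h')
    rw [h2', h3, h4]; ring
  · intro a b
    simp only [RingHom.id_apply]
    obtain ⟨q, hq⟩ : ∃ q : F, q = 2⁻¹ * ∑ c, w c * w (Fin.rev c) := ⟨_, rfl⟩
    have hsum : ∑ c, w c * w (Fin.rev c) = 2 * q := by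
      rw [hq, ← mul_assoc, mul_inv_cancel₀ h2, one_mul]
    -- normal form of the entries
    have hM : ∀ i c : Fin n, sgMat j w i c = (if i = c then 1 else 0)
        + (if i = j then (w c - (if c = Fin.rev j then q else 0)) else 0)
        - (if c = Fin.rev j then 1 else 0) * w (Fin.rev i) := by
      intro i c
      rw [sgMat_apply, ← hq]
      by_cases h1 : i = j <;> by_cases h2 : c = Fin.rev j <;> simp [h1, h2] <;> ring
    have hL : ∀ i, sgMat j w i a * sgMat j w (Fin.rev i) b =
        ((if i = a then 1 else 0)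
          + (if i = j then (w a - (if a = Fin.rev j then q else 0)) else 0)
          - (if a = Fin.rev j then 1 else 0) * w (Fin.rev i)) *
        (fun k => sgMat j w (Fin.rev k) b) i := by
      intro i
      rw [hM i a]
    rw [Finset.sum_congr rfl (fun i _ => hL i), oddStSG1_sum_three]
    simp only [Fin.rev_rev]
    -- the inner sum
    have hR : ∀ i, w i * sgMat j w i b =
        ((if i = b then 1 else 0)
          + (if i = j then (w b - (if b = Fin.rev j then q else 0)) else 0)
          - (if b = Fin.rev j then 1 else 0) * w (Fin.rev i)) * w i := by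
      intro i
      rw [hM i b, mul_comm]
    rw [Finset.sum_congr rfl (fun i _ => hR i), oddStSG1_sum_three]
    have hsum' : ∑ i, w i * w (Fin.rev i) = 2 * q := hsum
    rw [hsum', hwj, hM (Fin.rev a) b, hM (Fin.rev j) b, Fin.rev_rev, Fin.rev_rev, hwj]
    have e1 : (Fin.rev a = j) ↔ (a = Fin.rev j) := Fin.rev_eq_iff
    have e2 : (Fin.rev a = b) ↔ (a = Fin.rev b) := Fin.rev_eq_iff
    have e3 : (Fin.rev j = b) ↔ (b = Fin.rev j) := ⟨fun h => h.symm, fun h => h.symm⟩
    have e4 : ¬ (Fin.rev j = j) := fun h => hjne h.symm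
    simp only [e1, e2, e3, e4, if_false]
    by_cases h1 : a = Fin.rev j <;> by_cases h2' : b = Fin.rev j <;>
      by_cases h3 : a = Fin.rev b <;> simp [h1, h2', h3, hjne, hwj, hwrj] <;> ring
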