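import Mathlib
import Cfsg.Agent.Helper5.SuBN.Defs
import Cfsg.Agent.Helper45.OddBN.SgDefs

/-!
# (SG4) for helper45's S2547 skeleton (helper47)

An upper unitriangular orthogonal matrix (antidiagonal form) whose first `n / 2` rows are those of the identity
matrix is the identity.
-/

set_option autoImplicit false

namespace Cfsg.Agent.Helper47.OddStSG4

open Matrix Cfsg Cfsg.Agent.Helper5.SuBN Cfsg.Agent.Helper45.OddBN

variable {F : Type*} [Field F] {n : ℕ}

/-- (SG4) an upper unitriangular orthogonal matrix whose first `n / 2` rows are trivial is `1` -/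
theorem eq_one_of_rowFix_half (u : SOJ n F) (hu : u ∈ Usub n (RingHom.id F))
    (hrow : RowFix (n / 2) u) : u = 1 := by
  apply mat_injective
  rw [mat_one]
  -- the first `n / 2` rows of the inverse are trivial too
  have hinv : ∀ a b : Fin n, a.val < n / 2 → mat u⁻¹ a b = if a = b then 1 else 0 := by
    intro a b ha
    have h1 : (mat u * mat u⁻¹) a b = mat u⁻¹ a b := by
      rw [Matrix.mul_apply, Finset.sum_eq_single a]
      · rw [hrow a a ha, if_pos rfl, one_mul]
      · intro c _ hc
        rw [hrow a c ha, if_neg (Ne.symm hc), zero_mul]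
      · intro h; exact absurd (Finset.mem_univ _) h
    rw [← h1, mul_inv_mat, Matrix.one_apply]
  ext a b
  rw [Matrix.one_apply]
  by_cases ha : a.val < n / 2
  · exact hrow a b ha
  · by_cases hb : (Fin.rev b).val < n / 2
    · have h := inv_apply u (Fin.rev b) (Fin.rev a)
      rw [Fin.rev_rev, Fin.rev_rev, RingHom.id_apply] at h
      rw [← h, hinv _ _ hb]
      by_cases hab : a = b
      · rw [if_pos hab, if_pos (by rw [hab])]
      · rw [if_neg hab, if_neg (fun h' => hab (Fin.rev_injective h').symm)]
    · rw [val_rev] at hb
      rcases lt_trichotomy b a with h | h | h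
      · rw [hu.1 a b h, if_neg (ne_of_gt h)]
      · subst h; rw [hu.2, if_pos rfl]
      · exfalso
        rw [Fin.lt_def] at h
        have := b.2
        omega

end Cfsg.Agent.Helper47.OddStSG4
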