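import Mathlib

/-!
# B–G Appendix C, Lemma C.3: abstract setup and basic consequences (helper47)
-/

set_option autoImplicit false

namespace Cfsg.Agent.Helper47.AppC

/-- Abstract configuration of B–G Appendix C. -/
structure Setup (p : ℕ) (G : Type*) [Group G] (F : Type*) [Field F] where
  n : ℕ
  U : Subgroup G
  Q : Subgroup G
  x : F → G
  ψ : G → F
  y : G
  x_add : ∀ a b, x (a + b) = x a * x b
  x_inj : Function.Injective x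
  ψ_ne : ∀ u ∈ U, ψ u ≠ 0
  ψ_mul : ∀ u ∈ U, ∀ v ∈ U, ψ (u * v) = ψ u * ψ v
  ψ_inj : Set.InjOn ψ U
  conj : ∀ u ∈ U, ∀ a, u * x a * u⁻¹ = x (ψ u * a)
  ψ_pow : ∀ u ∈ U, ψ u ^ n = 1
  ψ_surj : ∀ c : F, c ^ n = 1 → ∃ u ∈ U, ψ u = c
  U_nontriv : ∃ w ∈ U, w ≠ 1
  pprime : p.Prime
  charP : CharP F p
  Qcomm : ∀ a ∈ Q, ∀ b ∈ Q, a * b = b * a
  Qfin : Finite Q
  Qcop : (Nat.card Q).Coprime p
  hy : y ∈ Q
  sQ : ∀ k : ℤ, ∀ g ∈ Q, (x 1) ^ k * g * (x 1) ^ (-k) ∈ Q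
  tU : ∀ k : ℤ, ∀ u ∈ U, (y * x 1 * y⁻¹) ^ k * u * (y * x 1 * y⁻¹) ^ (-k) ∈ U
  decomp : ∀ d : F, d ≠ 0 → ∃ (k : ℕ) (w : G), w ∈ U ∧ ¬ p ∣ k ∧ d = (k : F) * ψ w
  frob_nat : ∀ c : F, c ^ p = c → ∃ k : ℕ, c = k
  fp_n1 : ∀ c : F, c ^ n = 1 → c ^ p = c → c = 1

variable {p : ℕ} {G : Type*} [Group G] {F : Type*} [Field F]

namespace Setup

variable (S : Setup p G F)

/-- the element `s = x 1`. -/
def s : G := S.x 1
/-- the element `t = y s y⁻¹`. -/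
def t : G := S.y * S.x 1 * S.y⁻¹

lemma x_zero : S.x 0 = 1 := by
  have h := S.x_add 0 0
  rw [add_zero] at h
  exact (mul_eq_left.mp h.symm)

lemma x_neg (a : F) : S.x (-a) = (S.x a)⁻¹ := by
  rw [eq_inv_iff_mul_eq_one, ← S.x_add, neg_add_cancel, S.x_zero]

lemma x_sub (a b : F) : S.x (a - b) = S.x a * (S.x b)⁻¹ := by
  rw [sub_eq_add_neg, S.x_add, S.x_neg]

lemma x_eq_one_iff (a : F) : S.x a = 1 ↔ a = 0 := by
  rw [← S.x_zero]; exact S.x_inj.eq_iff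

lemma x_comm (a b : F) : S.x a * S.x b = S.x b * S.x a := by
  rw [← S.x_add, ← S.x_add, add_comm]

lemma x_comm' (a b : F) : S.x a * (S.x b)⁻¹ = (S.x b)⁻¹ * S.x a := by
  rw [← S.x_neg, S.x_comm]

lemma x_nat_mul (k : ℕ) (a : F) : S.x ((k : F) * a) = S.x a ^ k := by
  induction k with
  | zero => simp [S.x_zero]
  | succ k ih => rw [Nat.cast_succ, add_mul, one_mul, S.x_add, ih, pow_succ]

lemma x_int_mul (k : ℤ) (a : F) : S.x ((k : F) * a) = S.x a ^ k := by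
  cases k with
  | ofNat k => simpa using S.x_nat_mul k a
  | negSucc k =>
    rw [Int.cast_negSucc, neg_mul, S.x_neg, zpow_negSucc, S.x_nat_mul]

lemma x_nat (k : ℕ) : S.x (k : F) = S.s ^ k := by
  have := S.x_nat_mul k 1
  rwa [mul_one] at this

lemma x_int (k : ℤ) : S.x (k : F) = S.s ^ k := by
  have := S.x_int_mul k 1
  rwa [mul_one] at this

lemma x_pow_p (a : F) : S.x a ^ p = 1 := by
  have := S.charP
  rw [← S.x_nat_mul, CharP.cast_eq_zero, zero_mul, S.x_zero]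

lemma s_pow_p : S.s ^ p = 1 := S.x_pow_p 1

lemma t_zpow (k : ℤ) : S.t ^ k = S.y * S.s ^ k * S.y⁻¹ := by
  unfold t s
  rw [conj_zpow]

lemma t_pow_p : S.t ^ p = 1 := by
  have := S.t_zpow p
  rw [zpow_natCast, zpow_natCast, S.s_pow_p] at this
  rw [this]; group

lemma ψ_one : S.ψ 1 = 1 := by
  have h := S.ψ_mul 1 S.U.one_mem 1 S.U.one_mem
  rw [mul_one] at h
  have h0 := S.ψ_ne 1 S.U.one_mem
  field_simp at h
  exact h.symm ▸ rfl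


lemma ψ_inv {u : G} (hu : u ∈ S.U) : S.ψ u⁻¹ = (S.ψ u)⁻¹ := by
  have h := S.ψ_mul u hu u⁻¹ (S.U.inv_mem hu)
  rw [mul_inv_cancel, S.ψ_one] at h
  exact eq_inv_of_mul_eq_one_right h.symm

lemma ψ_pow' {u : G} (hu : u ∈ S.U) (k : ℕ) : S.ψ (u ^ k) = S.ψ u ^ k := by
  induction k with
  | zero => simp [S.ψ_one]
  | succ k ih => rw [pow_succ, S.ψ_mul _ (S.U.pow_mem hu k) _ hu, ih, pow_succ]

lemma ψ_eq_one {u : G} (hu : u ∈ S.U) (h : S.ψ u = 1) : u = 1 :=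
  S.ψ_inj hu S.U.one_mem (h.trans S.ψ_one.symm)

lemma conj_comm {u : G} (hu : u ∈ S.U) (a : F) : u * S.x a = S.x (S.ψ u * a) * u := by
  rw [← S.conj u hu a]; group

lemma conj_inv {u : G} (hu : u ∈ S.U) (a : F) : u⁻¹ * S.x a * u = S.x ((S.ψ u)⁻¹ * a) := by
  have := S.conj u⁻¹ (S.U.inv_mem hu) a
  rwa [inv_inv, S.ψ_inv hu] at this

/-- `P ∩ U = 1`. -/
lemma x_mem_U {a : F} (h : S.x a ∈ S.U) : a = 0 := by
  have h1 := S.conj (S.x a) h 1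
  rw [mul_one, S.x_comm a 1, mul_assoc, mul_inv_cancel, mul_one] at h1
  have h2 := S.x_inj h1
  have h3 : S.x a = 1 := S.ψ_eq_one h h2.symm
  exact (S.x_eq_one_iff a).mp h3

/-- elements of a `p'`-group `Q` of order dividing `p` are trivial. -/
lemma Q_pow_p {g : G} (hg : g ∈ S.Q) (h : g ^ p = 1) : g = 1 := by
  have := S.Qfin
  have h1 : orderOf g ∣ p := orderOf_dvd_of_pow_eq_one h
  have h2 : orderOf g ∣ Nat.card S.Q := Subgroup.orderOf_dvd_natCard S.Q hg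
  have h3 : orderOf g ∣ Nat.gcd (Nat.card S.Q) p := Nat.dvd_gcd h2 h1
  rw [S.Qcop] at h3
  exact orderOf_eq_one_iff.mp (Nat.dvd_one.mp h3)

/-- `P ∩ Q = 1`. -/
lemma x_mem_Q {a : F} (h : S.x a ∈ S.Q) : a = 0 :=
  (S.x_eq_one_iff a).mp (S.Q_pow_p h (S.x_pow_p a))

/-- membership in `H = P U`. -/
def InH (g : G) : Prop := ∃ a : F, ∃ u ∈ S.U, g = S.x a * u

lemma inH_x (a : F) : S.InH (S.x a) := ⟨a, 1, S.U.one_mem, by simp⟩
lemma inH_u {u : G} (hu : u ∈ S.U) : S.InH u := ⟨0, u, hu, by simp [S.x_zero]⟩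

lemma inH_mul {g h : G} (hg : S.InH g) (hh : S.InH h) : S.InH (g * h) := by
  obtain ⟨a, u, hu, rfl⟩ := hg
  obtain ⟨b, v, hv, rfl⟩ := hh
  refine ⟨a + S.ψ u * b, u * v, S.U.mul_mem hu hv, ?_⟩
  rw [S.x_add, mul_assoc (S.x a) u, ← mul_assoc u, S.conj_comm hu]
  group

lemma inH_inv {g : G} (hg : S.InH g) : S.InH g⁻¹ := by
  obtain ⟨a, u, hu, rfl⟩ := hg
  refine ⟨-((S.ψ u)⁻¹ * a), u⁻¹, S.U.inv_mem hu, ?_⟩
  rw [S.x_neg, ← S.conj_inv hu]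
  group

lemma inH_s_zpow (k : ℤ) : S.InH (S.s ^ k) := by
  rw [← S.x_int]; exact S.inH_x _

/-- uniqueness of the decomposition in `H`. -/
lemma inH_unique {a b : F} {u v : G} (hu : u ∈ S.U) (hv : v ∈ S.U)
    (h : S.x a * u = S.x b * v) : a = b ∧ u = v := by
  have h1 : S.x (a - b) = v * u⁻¹ := by
    have e : (S.x b)⁻¹ * S.x a = v * u⁻¹ := by
      have : (S.x b)⁻¹ * S.x a = (S.x b)⁻¹ * (S.x a * u) * u⁻¹ := by group
      rw [this, h]; group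
    rw [S.x_sub, ← S.x_neg, S.x_comm, S.x_neg, e]
  have h2 : a - b = 0 := S.x_mem_U (h1 ▸ S.U.mul_mem hv (S.U.inv_mem hu))
  have hab : a = b := sub_eq_zero.mp h2
  subst hab
  exact ⟨rfl, mul_left_cancel h⟩

/-- `Q ∩ H = 1`. -/
lemma Q_inter_H {g : G} (hgQ : g ∈ S.Q) (hgH : S.InH g) : g = 1 := by
  obtain ⟨a, u, hu, rfl⟩ := hgH
  -- the commutator `s g s⁻¹ g⁻¹` lies in `Q ∩ P`
  have h1 : S.s * (S.x a * u) * S.s⁻¹ * (S.x a * u)⁻¹ ∈ S.Q := by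
    have := S.sQ 1 _ hgQ
    rw [zpow_one, zpow_neg, zpow_one] at this
    exact S.Q.mul_mem this (S.Q.inv_mem hgQ)
  have h2 : S.s * (S.x a * u) * S.s⁻¹ * (S.x a * u)⁻¹ = S.x (1 - S.ψ u) := by
    have e1 : u * S.s⁻¹ * u⁻¹ = S.x (-(S.ψ u)) := by
      have := S.conj u hu (-1)
      rw [S.x_neg, mul_neg, mul_one] at this
      exact this
    have e2 : S.s * (S.x a * u) * S.s⁻¹ * (S.x a * u)⁻¹
        = S.s * (S.x a * (u * S.s⁻¹ * u⁻¹) * (S.x a)⁻¹) := by group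
    rw [e2, e1, ← S.x_neg a, ← S.x_add, ← S.x_add]
    unfold s
    rw [← S.x_add]
    congr 1; ring
  rw [h2] at h1
  have h3 : 1 - S.ψ u = 0 := S.x_mem_Q h1
  have h4 : u = 1 := S.ψ_eq_one hu (by linear_combination -h3)
  subst h4
  rw [mul_one] at hgQ ⊢
  rw [S.x_mem_Q hgQ, S.x_zero]


/-- conjugation of `U` by powers of `t`. -/
def cj (k : ℤ) (w : G) : G := S.t ^ k * w * S.t ^ (-k)

lemma cj_mem (k : ℤ) {w : G} (hw : w ∈ S.U) : S.cj k w ∈ S.U := S.tU k w hw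

lemma t_mul (k : ℤ) (w : G) : S.t ^ k * w = S.cj k w * S.t ^ k := by
  unfold cj; group

lemma mul_t (k : ℤ) (w : G) : w * S.t ^ k = S.t ^ k * S.cj (-k) w := by
  unfold cj; group

lemma cj_zero (w : G) : S.cj 0 w = w := by unfold cj; simp

lemma cj_add (j k : ℤ) (w : G) : S.cj j (S.cj k w) = S.cj (j + k) w := by
  unfold cj; group

lemma cj_mul (k : ℤ) (v w : G) : S.cj k (v * w) = S.cj k v * S.cj k w := by
  unfold cj; group

lemma cj_one (k : ℤ) : S.cj k 1 = 1 := by unfold cj; group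

lemma cj_inv (k : ℤ) (w : G) : S.cj k w⁻¹ = (S.cj k w)⁻¹ := by unfold cj; group

lemma cj_pow (k : ℤ) (w : G) (m : ℕ) : S.cj k (w ^ m) = S.cj k w ^ m := by
  induction m with
  | zero => simp [S.cj_one]
  | succ m ih => rw [pow_succ, S.cj_mul, ih, pow_succ]

/-- a power `g^k` with `p ∤ k` of an element with `g^p = 1` generates `g`. -/
lemma exists_zpow_zpow_eq (hp : p.Prime) {g : G} (hg : g ^ p = 1) {k : ℤ} (hk : ¬ (p : ℤ) ∣ k) :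
    ∃ a : ℤ, (g ^ k) ^ a = g := by
  have hcop : IsCoprime (p : ℤ) k :=
    (Prime.coprime_iff_not_dvd (Nat.prime_iff_prime_int.mp hp)).mpr hk
  obtain ⟨a, b, hab⟩ := hcop
  refine ⟨b, ?_⟩
  have hgz : g ^ (p : ℤ) = 1 := by rw [zpow_natCast, hg]
  calc (g ^ k) ^ b = g ^ (b * k) := by rw [← zpow_mul, mul_comm]
    _ = g ^ (1 - a * p) := by congr 1; linarith
    _ = g := by rw [sub_eq_add_neg, zpow_add, zpow_one, zpow_neg, mul_comm a, zpow_mul, hgz]; simp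

lemma s_inv_t_mem_Q : S.s⁻¹ * S.t ∈ S.Q := by
  have h1 := S.sQ (-1) S.y S.hy
  have h2 : S.s⁻¹ * S.t = (S.x 1) ^ (-1 : ℤ) * S.y * (S.x 1) ^ (-(-1 : ℤ)) * S.y⁻¹ := by
    unfold s t; group
  rw [h2]
  exact S.Q.mul_mem h1 (S.Q.inv_mem S.hy)

/-- `s` and `t` do not commute. -/
lemma not_commute_s_t : ¬ Commute S.s S.t := by
  intro hc
  have h1 : (S.s⁻¹ * S.t) ^ p = 1 := by
    rw [(hc.inv_left).mul_pow, inv_pow, S.s_pow_p, S.t_pow_p]; simp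
  have h2 : S.s⁻¹ * S.t = 1 := S.Q_pow_p S.s_inv_t_mem_Q h1
  have hts : S.t = S.s := by
    have : S.t = S.s * (S.s⁻¹ * S.t) := by group
    rw [this, h2, mul_one]
  obtain ⟨w, hw, hw1⟩ := S.U_nontriv
  apply hw1
  have h3 : S.s * w * S.s⁻¹ ∈ S.U := by
    have := S.tU 1 w hw
    rw [zpow_one, zpow_neg, zpow_one] at this
    have e : S.y * S.x 1 * S.y⁻¹ = S.s := hts
    rwa [e] at this
  have h4 : S.s * w * S.s⁻¹ * w⁻¹ = S.x (1 - S.ψ w) := by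
    have e1 : w * S.s⁻¹ * w⁻¹ = S.x (-(S.ψ w)) := by
      have := S.conj w hw (-1)
      rw [S.x_neg, mul_neg, mul_one] at this
      exact this
    have e2 : S.s * w * S.s⁻¹ * w⁻¹ = S.s * (w * S.s⁻¹ * w⁻¹) := by group
    rw [e2, e1]; unfold s; rw [← S.x_add]; congr 1; ring
  have h5 : 1 - S.ψ w = 0 :=
    S.x_mem_U (h4 ▸ S.U.mul_mem h3 (S.U.inv_mem hw))
  exact S.ψ_eq_one hw (by linear_combination -h5)

/-- `t^k s^d t^{-k}` equals `s^d` times an element of `Q`. -/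
lemma conj_s_mem_Q (k d : ℤ) : S.s ^ (-d) * (S.t ^ k * S.s ^ d * S.t ^ (-k)) ∈ S.Q := by
  have e : S.s ^ (-d) * (S.t ^ k * S.s ^ d * S.t ^ (-k))
      = ((S.x 1) ^ (-d) * S.y * (S.x 1) ^ (-(-d))) * ((S.x 1) ^ (k - d) * S.y⁻¹ * (S.x 1) ^ (-(k - d)))
        * ((S.x 1) ^ k * S.y * (S.x 1) ^ (-k)) * S.y⁻¹ := by
    rw [S.t_zpow, S.t_zpow]; unfold s; group
  rw [e]
  exact S.Q.mul_mem (S.Q.mul_mem (S.Q.mul_mem (S.sQ _ _ S.hy) (S.sQ _ _ (S.Q.inv_mem S.hy)))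
    (S.sQ _ _ S.hy)) (S.Q.inv_mem S.hy)

/-- in-plane part of Lemma A. -/
lemma lemmaA_plane {k d : ℤ} (hk : ¬ (p : ℤ) ∣ k) (hd : ¬ (p : ℤ) ∣ d) :
    ¬ S.InH (S.t ^ k * S.s ^ d * S.t ^ (-k)) := by
  intro h
  have h1 : S.s ^ (-d) * (S.t ^ k * S.s ^ d * S.t ^ (-k)) = 1 :=
    S.Q_inter_H (S.conj_s_mem_Q k d) (S.inH_mul (S.inH_s_zpow _) h)
  have h2 : Commute (S.t ^ k) (S.s ^ d) := by
    have : S.t ^ k * S.s ^ d = S.s ^ d * (S.s ^ (-d) * (S.t ^ k * S.s ^ d * S.t ^ (-k))) * S.t ^ k := by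
      group
    rw [h1, mul_one] at this
    exact this
  obtain ⟨a, ha⟩ := exists_zpow_zpow_eq S.pprime S.t_pow_p hk
  obtain ⟨b, hb⟩ := exists_zpow_zpow_eq S.pprime S.s_pow_p hd
  have h3 : Commute S.t S.s := by
    rw [← ha, ← hb]
    exact (h2.zpow_left a).zpow_right b
  exact S.not_commute_s_t h3.symm

/-- LEMMA A: `t^k x(d) t^{-k} ∉ H` for `d ≠ 0`, `p ∤ k`. -/
lemma lemmaA {k : ℤ} (hk : ¬ (p : ℤ) ∣ k) {d : F} (hd : d ≠ 0) :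
    ¬ S.InH (S.t ^ k * S.x d * S.t ^ (-k)) := by
  intro h
  obtain ⟨d0, w, hw, hd0, rfl⟩ := S.decomp d hd
  have e1 : S.x ((d0 : F) * S.ψ w) = w * S.s ^ (d0 : ℤ) * w⁻¹ := by
    rw [mul_comm, ← S.conj w hw, ← S.x_int]; simp
  have e2 : S.t ^ k * S.s ^ (d0 : ℤ) * S.t ^ (-k)
      = (S.cj k w)⁻¹ * (S.t ^ k * S.x ((d0 : F) * S.ψ w) * S.t ^ (-k)) * S.cj k w := by
    rw [e1]; unfold cj; group
  refine S.lemmaA_plane hk (d := (d0 : ℤ)) ?_ ?_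
  · exact_mod_cast hd0
  · rw [e2]
    exact S.inH_mul (S.inH_mul (S.inH_inv (S.inH_u (S.cj_mem k hw))) h) (S.inH_u (S.cj_mem k hw))

/-- `t^k ∉ H` for `p ∤ k`. -/
lemma t_zpow_not_inH {k : ℤ} (hk : ¬ (p : ℤ) ∣ k) : ¬ S.InH (S.t ^ k) := by
  intro h
  have h1 : S.InH (S.t ^ k * S.s ^ (1 : ℤ) * S.t ^ (-k)) := by
    have := S.inH_inv h
    rw [← zpow_neg] at this
    exact S.inH_mul (S.inH_mul h (S.inH_s_zpow 1)) this
  refine S.lemmaA_plane hk (d := 1) ?_ h1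
  intro h2
  have := Int.natAbs_dvd_natAbs.mpr h2
  simp at this
  exact S.pprime.one_lt.ne' this


/-- (PL) partial linearity: `t^{-j} x(a) t^i ∈ H` with `p ∤ i, j` forces `a = 0`. -/
lemma PL {i j : ℤ} (hj : ¬ (p : ℤ) ∣ j) {a : F}
    (h : S.InH (S.t ^ (-j) * S.x a * S.t ^ i)) : a = 0 := by
  by_contra ha
  obtain ⟨w, hw, hw1⟩ := S.U_nontriv
  apply hw1
  have h1 : S.InH (S.t ^ (-j) * S.x (S.ψ w * a) * S.t ^ i) := by
    have e : S.t ^ (-j) * S.x (S.ψ w * a) * S.t ^ i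
        = S.cj (-j) w * (S.t ^ (-j) * S.x a * S.t ^ i) * (S.cj (-i) w)⁻¹ := by
      rw [← S.conj w hw]; unfold cj; group
    rw [e]
    exact S.inH_mul (S.inH_mul (S.inH_u (S.cj_mem _ hw)) h)
      (S.inH_inv (S.inH_u (S.cj_mem _ hw)))
  have h2 : S.InH (S.t ^ (-j) * S.x ((S.ψ w - 1) * a) * S.t ^ (-(-j))) := by
    have e : S.t ^ (-j) * S.x ((S.ψ w - 1) * a) * S.t ^ (-(-j))
        = (S.t ^ (-j) * S.x (S.ψ w * a) * S.t ^ i) * (S.t ^ (-j) * S.x a * S.t ^ i)⁻¹ := by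
      rw [sub_mul, one_mul, S.x_sub]; group
    rw [e]
    exact S.inH_mul h1 (S.inH_inv h)
  have hj' : ¬ (p : ℤ) ∣ -j := by rwa [dvd_neg]
  by_contra hne
  have h3 : (S.ψ w - 1) * a ≠ 0 := by
    refine mul_ne_zero ?_ ha
    intro h0
    exact hne (S.ψ_eq_one hw (by linear_combination h0))
  exact S.lemmaA hj' h3 h2

end Setup

end Cfsg.Agent.Helper47.AppC
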