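import Cfsg.Agent.Helper47.AppCTri
import Cfsg.Agent.Helper64.AppCPlane

/-!
# B–G Appendix C, Lemma C.3: the step lemma and `E = E⁻¹` (helper47)
-/

set_option autoImplicit false

namespace Cfsg.Agent.Helper47.AppC

open Cfsg.Agent.Helper64.AppC

variable {p : ℕ} {G : Type*} [Group G] {F : Type*} [Field F]

namespace Setup

variable (S : Setup p G F)

/-- an in-plane triangle is the pattern triangle: `r = 1` in `F`. -/
lemma inplane_r {k r m : ℕ} (hr0 : (r : F) ≠ 0) (h : S.Tri (k : F) (r : F) (m : F)) :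
    (r : F) = 1 := by
  have : Fact p.Prime := ⟨S.pprime⟩
  have := S.Qfin
  have := S.charP
  unfold Tri at h
  rw [S.x_nat, S.x_nat, S.x_nat] at h
  have hpl := plane_lemma p S.Q S.Qcomm S.Qcop S.s S.y S.s_pow_p S.sQ S.hy (k : ℤ) (r : ℤ) (m : ℤ)
    (by
      have e : S.y * S.s * S.y⁻¹ = S.t := rfl
      rw [e, zpow_natCast, zpow_natCast, zpow_natCast]
      rw [zpow_neg, zpow_ofNat, zpow_neg, zpow_one]
      exact h)
  have e : S.y * S.s * S.y⁻¹ = S.t := rfl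
  rw [e] at hpl
  -- first: p ∣ 1 - k
  have hk : (p : ℤ) ∣ 1 - (k : ℤ) := by
    by_contra hk
    have hH : S.InH (S.t ^ (-(1 - (k : ℤ))) * S.x (r : F) * S.t ^ (1 - (r : ℤ))) := by
      have e2 : S.t ^ (-(1 - (k : ℤ))) * S.x (r : F) * S.t ^ (1 - (r : ℤ)) = S.s ^ (k : ℤ) := by
        rw [S.x_nat, ← zpow_natCast S.s r, mul_assoc, hpl]; group
      rw [e2]; exact S.inH_s_zpow _
    exact hr0 (S.PL hk hH)
  have ht1 : S.t ^ (1 - (k : ℤ)) = 1 := by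
    obtain ⟨c, hc⟩ := hk
    rw [hc, zpow_mul, zpow_natCast, S.t_pow_p, one_zpow]
  rw [ht1, one_mul] at hpl
  have hr : (p : ℤ) ∣ 1 - (r : ℤ) := by
    by_contra hr
    apply S.t_zpow_not_inH hr
    have : S.t ^ (1 - (r : ℤ)) = S.s ^ (-(r : ℤ)) * S.s ^ (k : ℤ) := by
      rw [← hpl]; group
    rw [this]
    exact S.inH_mul (S.inH_s_zpow _) (S.inH_s_zpow _)
  have : ((1 - (r : ℤ) : ℤ) : F) = 0 := (CharP.intCast_eq_zero_iff F p _).mpr hr
  push_cast at this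
  linear_combination -this

/-- the membership predicate of the set `E`. -/
def InE (a : F) : Prop := a ^ S.n = 1 ∧ (2 - a) ^ S.n = 1

/-- the step lemma: `ψ u, ψ v ∈ N1`, `ψ u + ψ v = 2` ⟹ `2 ψ(v^{t^3}) - 1 ∈ N1`. -/
lemma step {u v : G} (hu : u ∈ S.U) (hv : v ∈ S.U) (huv : S.ψ u + S.ψ v = 2) :
    (2 * S.ψ (S.cj 3 v) - 1) ^ S.n = 1 := by
  have := S.charP
  have : Fact p.Prime := ⟨S.pprime⟩
  obtain ⟨k, r, m, w0, hw0, hk, hrho, hT⟩ := S.E_triangle_inplane hu hv huv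
  have hr0 : (r : F) ≠ 0 := by
    intro h0
    rw [h0, zero_mul] at hrho
    -- 2 ψ(cj 3 v) = 1, so ψ(cj 3 v) is in the prime field, hence 1
    have h2 : (2 : F) * S.ψ (S.cj 3 v) = 1 := by linear_combination hrho
    have h2ne : (2 : F) ≠ 0 := by
      intro h
      rw [h, zero_mul] at h2
      exact zero_ne_one h2
    have hb : S.ψ (S.cj 3 v) = 1 / 2 := by field_simp; linear_combination h2
    have hfix : (S.ψ (S.cj 3 v)) ^ p = S.ψ (S.cj 3 v) := by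
      have h2' : ((2 : F)) ^ p = 2 := by have := S.natCast_pow_p 2; exact_mod_cast this
      rw [hb, div_pow, h2', one_pow]
    have h1 := S.fp_n1 _ (S.ψ_pow _ (S.cj_mem 3 hv)) hfix
    rw [h1, mul_one] at h2
    have : (1 : F) = 0 := by linear_combination h2
    exact one_ne_zero this
  rw [hrho, S.inplane_r hr0 hT, one_mul]
  exact S.ψ_pow _ (S.cj_mem 2 hw0)


/-- `Φ(u) = (u^{t^3})⁻¹` preserves `E`. -/
lemma InE_Phi {u : G} (hu : u ∈ S.U) (h : S.InE (S.ψ u)) : S.InE (S.ψ (S.cj 3 u)⁻¹) := by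
  obtain ⟨v, hv, hvψ⟩ := S.ψ_surj _ h.2
  have hst := S.step hv hu (by rw [hvψ]; ring)
  have hc := S.cj_mem 3 hu
  have hc0 : S.ψ (S.cj 3 u) ≠ 0 := S.ψ_ne _ hc
  have hcn : S.ψ (S.cj 3 u) ^ S.n = 1 := S.ψ_pow _ hc
  rw [S.ψ_inv hc]
  refine ⟨by rw [inv_pow, hcn, inv_one], ?_⟩
  have e : 2 - (S.ψ (S.cj 3 u))⁻¹ = (2 * S.ψ (S.cj 3 u) - 1) * (S.ψ (S.cj 3 u))⁻¹ := by
    field_simp
  rw [e, mul_pow, hst, inv_pow, hcn, inv_one, mul_one]

lemma InE_cj6 {u : G} (hu : u ∈ S.U) (h : S.InE (S.ψ u)) : S.InE (S.ψ (S.cj 6 u)) := by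
  have h1 := S.InE_Phi hu h
  have h2 := S.InE_Phi (S.U.inv_mem (S.cj_mem 3 hu)) h1
  rwa [S.cj_inv, inv_inv, S.cj_add] at h2

lemma InE_cj6m {u : G} (hu : u ∈ S.U) (h : S.InE (S.ψ u)) (m : ℕ) :
    S.InE (S.ψ (S.cj (6 * (m : ℤ)) u)) := by
  induction m with
  | zero => simpa [S.cj_zero] using h
  | succ m ih =>
    have := S.InE_cj6 (S.cj_mem _ hu) ih
    rw [S.cj_add] at this
    have e : (6 : ℤ) + 6 * (m : ℤ) = 6 * ((m + 1 : ℕ) : ℤ) := by push_cast; ring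
    rwa [e] at this

/-- `E` is closed under inversion. -/
theorem InE_inv (hp2 : p ≠ 2) {a : F} (h : S.InE a) : S.InE a⁻¹ := by
  obtain ⟨u, hu, rfl⟩ := S.ψ_surj _ h.1
  obtain ⟨m, hm⟩ : ∃ m, p = 2 * m + 1 := by
    rcases S.pprime.eq_two_or_odd with h2 | h2
    · exact absurd h2 hp2
    · exact ⟨p / 2, by omega⟩
  have h1 := S.InE_Phi (S.cj_mem _ hu) (S.InE_cj6m hu h m)
  rw [S.cj_add] at h1
  have e : S.cj (3 + 6 * (m : ℤ)) u = u := by
    have e1 : (3 : ℤ) + 6 * (m : ℤ) = (p : ℤ) * 3 := by rw [hm]; push_cast; ring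
    unfold cj
    rw [e1, zpow_neg, zpow_mul, zpow_natCast, S.t_pow_p]; simp
  rw [e, S.ψ_inv hu] at h1
  exact h1

end Setup

end Cfsg.Agent.Helper47.AppC
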