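import Cfsg.Agent.Helper47.AppCCore

/-!
# B–G Appendix C, Lemma C.3: pattern relations, the E-triangle, rigidity (helper47)
-/

set_option autoImplicit false

namespace Cfsg.Agent.Helper47.AppC

variable {p : ℕ} {G : Type*} [Group G] {F : Type*} [Field F]

namespace Setup

variable (S : Setup p G F)

/-- the pattern relations coming from the commutativity of `Q`. -/
lemma pattern (i j : ℤ) :
    S.t ^ i * S.s ^ (-(i + j)) * S.t ^ j = S.s ^ (-j) * S.t ^ (i + j) * S.s ^ (-i) := by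
  have hA : (S.x 1) ^ i * S.y⁻¹ * (S.x 1) ^ (-i) ∈ S.Q := S.sQ i _ (S.Q.inv_mem S.hy)
  have hB : (S.x 1) ^ (-j) * S.y * (S.x 1) ^ (-(-j)) ∈ S.Q := S.sQ (-j) _ S.hy
  set A := (S.x 1) ^ i * S.y⁻¹ * (S.x 1) ^ (-i) with hAdef
  set B := (S.x 1) ^ (-j) * S.y * (S.x 1) ^ (-(-j)) with hBdef
  have e1 : S.t ^ i * S.s ^ (-(i + j)) * S.t ^ j = S.y * A * B * S.y⁻¹ := by
    rw [S.t_zpow, S.t_zpow, hAdef, hBdef]; unfold s; group
  have e2 : S.s ^ (-j) * S.t ^ (i + j) * S.s ^ (-i) = B * A := by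
    rw [S.t_zpow, hAdef, hBdef]; unfold s; group
  rw [e1, e2, S.Qcomm _ S.hy _ hA, mul_assoc A, S.Qcomm _ S.hy _ hB, ← mul_assoc,
    mul_assoc, mul_inv_cancel, mul_one, S.Qcomm _ hA _ hB]

/-- the `U`-conjugated pattern relations. -/
lemma UP {w : G} (hw : w ∈ S.U) (i j : ℤ) :
    S.t ^ i * S.x (((-(i + j) : ℤ) : F) * S.ψ (S.cj (-i) w)) * S.t ^ j
      = S.x (((-j : ℤ) : F) * S.ψ w) * S.t ^ (i + j)
        * S.x (((-i : ℤ) : F) * S.ψ (S.cj (-(i + j)) w)) := by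
  have h1 := S.cj_mem (-i) hw
  have h2 := S.cj_mem (-(i + j)) hw
  rw [mul_comm _ (S.ψ (S.cj (-i) w)), mul_comm _ (S.ψ w), mul_comm _ (S.ψ (S.cj (-(i + j)) w)),
    ← S.conj _ h1, ← S.conj _ hw, ← S.conj _ h2, S.x_int, S.x_int, S.x_int]
  have hp := S.pattern i j
  have e1 : S.t ^ i * (S.cj (-i) w * S.s ^ (-(i + j)) * (S.cj (-i) w)⁻¹) * S.t ^ j
      = w * (S.t ^ i * S.s ^ (-(i + j)) * S.t ^ j) * (S.cj (-(i + j)) w)⁻¹ := by
    unfold cj; group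
  have e2 : w * S.s ^ (-j) * w⁻¹ * S.t ^ (i + j)
        * (S.cj (-(i + j)) w * S.s ^ (-i) * (S.cj (-(i + j)) w)⁻¹)
      = w * (S.s ^ (-j) * S.t ^ (i + j) * S.s ^ (-i)) * (S.cj (-(i + j)) w)⁻¹ := by
    unfold cj; group
  rw [e1, e2, hp]


/-- the three instances of (UP) used for the E-triangle. -/
lemma UP12 {u : G} (hu : u ∈ S.U) :
    S.t * S.x (S.ψ u) * (S.t ^ 2)⁻¹
      = S.x (2 * S.ψ (S.cj 1 u)) * S.t⁻¹ * S.x (-S.ψ (S.cj 2 u)) := by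
  have h := S.UP (S.cj_mem 1 hu) 1 (-2)
  rw [S.cj_add, S.cj_add] at h
  norm_num at h
  rw [S.cj_zero] at h
  exact h

lemma UP23 {v : G} (hv : v ∈ S.U) :
    S.t ^ 2 * S.x (S.ψ v) * (S.t ^ 3)⁻¹
      = S.x (3 * S.ψ (S.cj 2 v)) * S.t⁻¹ * S.x (-(2 * S.ψ (S.cj 3 v))) := by
  have h := S.UP (S.cj_mem 2 hv) 2 (-3)
  rw [S.cj_add, S.cj_add] at h
  norm_num at h
  rw [S.cj_zero] at h
  exact h

lemma UP13 :
    S.t * S.x 2 * (S.t ^ 3)⁻¹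
      = S.x 3 * (S.t ^ 2)⁻¹ * S.x (-1) := by
  have h := S.UP S.U.one_mem 1 (-3)
  rw [S.cj_one, S.cj_one, S.ψ_one] at h
  norm_num at h
  exact h


/-- a triangle relation `x(λ) t⁻² x(ρ) t² = t⁻¹ x(ν) t`. -/
def Tri (lam rho nu : F) : Prop :=
  S.x lam * (S.t ^ 2)⁻¹ * S.x rho * S.t ^ 2 = S.t⁻¹ * S.x nu * S.t

/-- (T) the E-triangle. -/
lemma E_triangle {u v : G} (hu : u ∈ S.U) (hv : v ∈ S.U) (huv : S.ψ u + S.ψ v = 2) :
    S.Tri (3 - 2 * S.ψ (S.cj 1 u)) (2 * S.ψ (S.cj 3 v) - 1)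
      (3 * S.ψ (S.cj 2 v) - S.ψ (S.cj 2 u)) := by
  have h12 := S.UP12 hu
  have h23 := S.UP23 hv
  have h13 := S.UP13
  set A := S.x (2 * S.ψ (S.cj 1 u)) with hA
  set B := S.x (-S.ψ (S.cj 2 u)) with hB
  set C := S.x (3 * S.ψ (S.cj 2 v)) with hC
  set D := S.x (-(2 * S.ψ (S.cj 3 v))) with hD
  have hX : A * S.t⁻¹ * B * (C * S.t⁻¹ * D) = S.x 3 * (S.t ^ 2)⁻¹ * S.x (-1) := by
    rw [← h12, ← h23, ← h13, ← huv, S.x_add]; group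
  have e1 : S.x (3 - 2 * S.ψ (S.cj 1 u)) = A⁻¹ * S.x 3 := by
    rw [hA, ← S.x_neg, ← S.x_add]; congr 1; ring
  have e2 : S.x (2 * S.ψ (S.cj 3 v) - 1) = S.x (-1) * D⁻¹ := by
    rw [hD, ← S.x_neg, ← S.x_add]; congr 1; ring
  have e3 : S.x (3 * S.ψ (S.cj 2 v) - S.ψ (S.cj 2 u)) = B * C := by
    rw [hB, hC, ← S.x_add]; congr 1; ring
  unfold Tri
  rw [e1, e2, e3]
  have : A⁻¹ * S.x 3 * (S.t ^ 2)⁻¹ * (S.x (-1) * D⁻¹) * S.t ^ 2
      = A⁻¹ * (S.x 3 * (S.t ^ 2)⁻¹ * S.x (-1)) * D⁻¹ * S.t ^ 2 := by group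
  rw [this, ← hX]; group

/-- (R) rigidity of triangles. -/
lemma Tri_rigid {lam rho rho' nu nu' : F} (h : S.Tri lam rho nu) (h' : S.Tri lam rho' nu') :
    rho = rho' ∧ nu = nu' := by
  unfold Tri at h h'
  have hk : ¬ (p : ℤ) ∣ (-1 : ℤ) := by
    intro h2
    have := Int.natAbs_dvd_natAbs.mpr h2
    simp at this
    exact S.pprime.one_lt.ne' this
  have e : S.t ^ (-1 : ℤ) * S.x (rho' - rho) * S.t ^ (-(-1 : ℤ)) = S.x (nu' - nu) := by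
    have e1 : S.x (rho' - rho) = S.t ^ 2 * ((S.x lam * (S.t ^ 2)⁻¹ * S.x rho * S.t ^ 2)⁻¹
        * (S.x lam * (S.t ^ 2)⁻¹ * S.x rho' * S.t ^ 2)) * (S.t ^ 2)⁻¹ := by
      rw [S.x_sub, S.x_comm']; group
    have e2 : S.x (nu' - nu) = S.t * ((S.t⁻¹ * S.x nu * S.t)⁻¹ * (S.t⁻¹ * S.x nu' * S.t)) * S.t⁻¹ := by
      rw [S.x_sub, S.x_comm']; group
    rw [e1, e2, h, h']; group
  have h0 : rho' - rho = 0 := by
    by_contra hne
    exact S.lemmaA hk hne (e ▸ S.inH_x _)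
  have hr : rho = rho' := (sub_eq_zero.mp h0).symm
  subst hr
  rw [sub_self, S.x_zero] at e
  have h1 : S.x (nu' - nu) = 1 := by rw [← e]; group
  exact ⟨rfl, (sub_eq_zero.mp ((S.x_eq_one_iff _).mp h1)).symm⟩


/-- `U`-conjugation of a triangle. -/
lemma Tri_conj {lam rho nu : F} (h : S.Tri lam rho nu) {w : G} (hw : w ∈ S.U) :
    S.Tri (S.ψ w * lam) (S.ψ (S.cj 2 w) * rho) (S.ψ (S.cj 1 w) * nu) := by
  unfold Tri at h ⊢
  rw [← S.conj w hw, ← S.conj _ (S.cj_mem 2 hw), ← S.conj _ (S.cj_mem 1 hw)]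
  have e1 : w * S.x lam * w⁻¹ * (S.t ^ 2)⁻¹ * (S.cj 2 w * S.x rho * (S.cj 2 w)⁻¹) * S.t ^ 2
      = w * (S.x lam * (S.t ^ 2)⁻¹ * S.x rho * S.t ^ 2) * w⁻¹ := by
    unfold cj; group
  have e2 : S.t⁻¹ * (S.cj 1 w * S.x nu * (S.cj 1 w)⁻¹) * S.t
      = w * (S.t⁻¹ * S.x nu * S.t) * w⁻¹ := by
    unfold cj; group
  rw [e1, e2, h]

include S in
lemma natCast_pow_p (k : ℕ) : ((k : F)) ^ p = k := by
  haveI : Fact p.Prime := ⟨S.pprime⟩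
  haveI := S.charP
  induction k with
  | zero => simp [S.pprime.ne_zero]
  | succ k ih => rw [Nat.cast_succ, add_pow_char, ih, one_pow]

/-- (TW) the Frobenius twin: the E-triangle is in-plane. -/
lemma E_triangle_inplane {u v : G} (hu : u ∈ S.U) (hv : v ∈ S.U) (huv : S.ψ u + S.ψ v = 2) :
    ∃ (k r m : ℕ) (w0 : G), w0 ∈ S.U ∧ ¬ p ∣ k ∧
      2 * S.ψ (S.cj 3 v) - 1 = (r : F) * S.ψ (S.cj 2 w0) ∧
      S.Tri (k : F) (r : F) (m : F) := by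
  haveI : Fact p.Prime := ⟨S.pprime⟩
  haveI := S.charP
  set lam := 3 - 2 * S.ψ (S.cj 1 u) with hlam
  set rho := 2 * S.ψ (S.cj 3 v) - 1 with hrho
  set nu := 3 * S.ψ (S.cj 2 v) - S.ψ (S.cj 2 u) with hnu
  have hT : S.Tri lam rho nu := S.E_triangle hu hv huv
  -- the twin
  have huv' : S.ψ (u ^ p) + S.ψ (v ^ p) = 2 := by
    rw [S.ψ_pow' hu, S.ψ_pow' hv, ← add_pow_char, huv]
    have := S.natCast_pow_p 2
    exact_mod_cast this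
  have hT' : S.Tri (lam ^ p) (rho ^ p) (nu ^ p) := by
    have := S.E_triangle (S.U.pow_mem hu p) (S.U.pow_mem hv p) huv'
    rw [S.cj_pow, S.cj_pow, S.cj_pow, S.cj_pow, S.ψ_pow' (S.cj_mem _ hu), S.ψ_pow' (S.cj_mem _ hv),
      S.ψ_pow' (S.cj_mem _ hv), S.ψ_pow' (S.cj_mem _ hu)] at this
    have h2 : ((2 : F)) ^ p = 2 := by have := S.natCast_pow_p 2; exact_mod_cast this
    have h3 : ((3 : F)) ^ p = 3 := by have := S.natCast_pow_p 3; exact_mod_cast this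
    rw [hlam, hrho, hnu, sub_pow_char, sub_pow_char, sub_pow_char, mul_pow, mul_pow, mul_pow,
      h2, h3, one_pow]
    exact this
  -- nonvanishing of lam
  have hlam0 : lam ≠ 0 := by
    intro h0
    have ha1 : (2 : F) * S.ψ (S.cj 1 u) = 3 := by linear_combination -h0
    have h2ne : (2 : F) ≠ 0 := by
      intro h2
      rw [h2, zero_mul] at ha1
      have : (1 : F) = 0 := by linear_combination (-1 : F) * ha1 - h2
      exact one_ne_zero this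
    have ha : S.ψ (S.cj 1 u) = 3 / 2 := by field_simp; linear_combination ha1
    have hfix : (S.ψ (S.cj 1 u)) ^ p = S.ψ (S.cj 1 u) := by
      have h2 : ((2 : F)) ^ p = 2 := by have := S.natCast_pow_p 2; exact_mod_cast this
      have h3 : ((3 : F)) ^ p = 3 := by have := S.natCast_pow_p 3; exact_mod_cast this
      rw [ha, div_pow, h2, h3]
    have h1 := S.fp_n1 _ (S.ψ_pow _ (S.cj_mem 1 hu)) hfix
    rw [h1] at ha1
    have : (1 : F) = 0 := by linear_combination (-1 : F) * ha1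
    exact one_ne_zero this
  obtain ⟨k, w0, hw0, hk, hdec⟩ := S.decomp lam hlam0
  -- conjugate by `w0^(p-1)`
  have hp0 : p ≠ 0 := S.pprime.ne_zero
  have hc0 : S.ψ w0 ≠ 0 := S.ψ_ne w0 hw0
  have hTc := S.Tri_conj hT (S.U.pow_mem hw0 (p - 1))
  have e1 : S.ψ (w0 ^ (p - 1)) * lam = lam ^ p := by
    rw [S.ψ_pow' hw0, hdec, mul_pow, S.natCast_pow_p, ← pow_sub_one_mul hp0 (S.ψ w0)]; ring
  rw [e1] at hTc
  obtain ⟨hr, hn⟩ := S.Tri_rigid hT' hTc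
  rw [S.cj_pow, S.ψ_pow' (S.cj_mem _ hw0)] at hr hn
  have hc2 : S.ψ (S.cj 2 w0) ≠ 0 := S.ψ_ne _ (S.cj_mem 2 hw0)
  have hc1 : S.ψ (S.cj 1 w0) ≠ 0 := S.ψ_ne _ (S.cj_mem 1 hw0)
  have hrfix : (rho / S.ψ (S.cj 2 w0)) ^ p = rho / S.ψ (S.cj 2 w0) := by
    rw [div_pow, hr, ← pow_sub_one_mul hp0 (S.ψ (S.cj 2 w0))]
    field_simp
  have hnfix : (nu / S.ψ (S.cj 1 w0)) ^ p = nu / S.ψ (S.cj 1 w0) := by
    rw [div_pow, hn, ← pow_sub_one_mul hp0 (S.ψ (S.cj 1 w0))]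
    field_simp
  obtain ⟨r, hr'⟩ := S.frob_nat _ hrfix
  obtain ⟨m, hm'⟩ := S.frob_nat _ hnfix
  refine ⟨k, r, m, w0, hw0, hk, ?_, ?_⟩
  · rw [← hr']; field_simp
  · have hTi := S.Tri_conj hT (S.U.inv_mem hw0)
    rw [S.cj_inv, S.cj_inv, S.ψ_inv hw0, S.ψ_inv (S.cj_mem _ hw0), S.ψ_inv (S.cj_mem _ hw0)] at hTi
    have f1 : (S.ψ w0)⁻¹ * lam = (k : F) := by rw [hdec]; field_simp
    have f2 : (S.ψ (S.cj 2 w0))⁻¹ * rho = (r : F) := by rw [← hr']; field_simp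
    have f3 : (S.ψ (S.cj 1 w0))⁻¹ * nu = (m : F) := by rw [← hm']; field_simp
    rwa [f1, f2, f3] at hTi

end Setup

end Cfsg.Agent.Helper47.AppC
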