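import Mathlib

/-!
# S0508 piece (Z4) for helper58: an element fixing three points of `G ⧸ N(Q)` is trivial
-/

set_option autoImplicit false

namespace Cfsg.Agent.Helper47.BSWD

open Subgroup

section Z

variable {G : Type*} [Group G] [Finite G] (Q D : Subgroup G)

omit [Finite G] in
/-- fixing a coset `↑h` means `h⁻¹ g h ∈ N` -/
theorem BSWDZ4_smul_mk_eq_iff (N : Subgroup G) (g h : G) :
    g • ((h : G) : G ⧸ N) = ((h : G) : G ⧸ N) ↔ h⁻¹ * g * h ∈ N := by
  rw [MulAction.Quotient.smul_mk, QuotientGroup.eq]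
  constructor
  · intro hm
    have := N.inv_mem hm
    simpa [mul_assoc] using this
  · intro hm
    have := N.inv_mem hm
    simpa [mul_assoc] using this

omit [Finite G] in
/-- an element of `Q` fixing a point different from the base point is trivial (from (Z1)) -/
theorem BSWDZ4_eq_one_of_mem_of_fix
    (hZ1 : ∀ g : G, g ∉ normalizer (Q : Set G) →
      Q ⊓ (normalizer (Q : Set G)).map (MulAut.conj g).toMonoidHom = ⊥)
    (w : G) (hw : w ∈ Q) (y : G ⧸ normalizer (Q : Set G))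
    (hy : y ≠ ((1 : G) : G ⧸ normalizer (Q : Set G))) (hfix : w • y = y) : w = 1 := by
  induction y using QuotientGroup.induction_on with
  | H h =>
    have hh : h ∉ normalizer (Q : Set G) := by
      intro hmem
      apply hy
      rw [QuotientGroup.eq]
      simpa using (normalizer (Q : Set G)).inv_mem hmem
    have hm := (BSWDZ4_smul_mk_eq_iff (normalizer (Q : Set G)) w h).1 hfix
    have hmem : w ∈ Q ⊓ (normalizer (Q : Set G)).map (MulAut.conj h).toMonoidHom := by
      refine Subgroup.mem_inf.2 ⟨hw, ?_⟩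
      refine Subgroup.mem_map.2 ⟨h⁻¹ * w * h, hm, ?_⟩
      simp [MulAut.conj_apply, mul_assoc]
    rw [hZ1 h hh] at hmem
    exact (Subgroup.mem_bot).1 hmem

omit [Finite G] in
/-- the case where the first fixed point is the base point -/
theorem BSWDZ4_base (hcent : ∀ x ∈ Q, x ≠ 1 → centralizer ({x} : Set G) = Q)
    (hZ1 : ∀ g : G, g ∉ normalizer (Q : Set G) →
      Q ⊓ (normalizer (Q : Set G)).map (MulAut.conj g).toMonoidHom = ⊥)
    (hreg : ∀ y z : G ⧸ normalizer (Q : Set G), y ≠ ((1 : G) : G ⧸ normalizer (Q : Set G)) →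
      z ≠ ((1 : G) : G ⧸ normalizer (Q : Set G)) → ∃! u : ↥Q, (u : G) • y = z)
    (g : G) (y z : G ⧸ normalizer (Q : Set G))
    (hy : y ≠ ((1 : G) : G ⧸ normalizer (Q : Set G)))
    (hz : z ≠ ((1 : G) : G ⧸ normalizer (Q : Set G))) (hyz : y ≠ z)
    (h0 : g • ((1 : G) : G ⧸ normalizer (Q : Set G)) = ((1 : G) : G ⧸ normalizer (Q : Set G)))
    (hgy : g • y = y) (hgz : g • z = z) : g = 1 := by
  obtain ⟨u, hu, -⟩ := hreg y z hy hz
  have hgN : g ∈ normalizer (Q : Set G) := by
    have := (BSWDZ4_smul_mk_eq_iff (normalizer (Q : Set G)) g 1).1 h0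
    simpa using this
  have hu1 : (u : G) ≠ 1 := by
    intro h1
    apply hyz
    rw [← hu, h1, one_smul]
  -- w := g * u⁻¹ * g⁻¹ * u ∈ Q fixes y
  have hconj : g * (u : G)⁻¹ * g⁻¹ ∈ Q := by
    have := (Subgroup.mem_normalizer_iff.1 hgN ((u : G)⁻¹)).1 (Q.inv_mem u.2)
    exact this
  have hwQ : g * (u : G)⁻¹ * g⁻¹ * (u : G) ∈ Q := Q.mul_mem hconj u.2
  have hginv_z : g⁻¹ • z = z := by
    rw [inv_smul_eq_iff, hgz]
  have huinv : (u : G)⁻¹ • z = y := by
    rw [inv_smul_eq_iff, hu]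
  have hwfix : (g * (u : G)⁻¹ * g⁻¹ * (u : G)) • y = y := by
    rw [mul_smul, hu, mul_smul, hginv_z, mul_smul, huinv, hgy]
  clear hginv_z huinv
  have hw1 := BSWDZ4_eq_one_of_mem_of_fix Q hZ1 _ hwQ y hy hwfix
  -- so g commutes with u
  have hcomm : (u : G) * g = g * (u : G) := by
    have h1 : g * (u : G)⁻¹ * g⁻¹ = (u : G)⁻¹ := by
      have := hw1
      rw [mul_eq_one_iff_eq_inv] at this
      exact this
    have h2 : g * (u : G)⁻¹ = (u : G)⁻¹ * g := by
      calc g * (u : G)⁻¹ = (g * (u : G)⁻¹ * g⁻¹) * g := by group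
        _ = (u : G)⁻¹ * g := by rw [h1]
    calc (u : G) * g = (u : G) * (g * (u : G)⁻¹) * (u : G) := by group
      _ = (u : G) * ((u : G)⁻¹ * g) * (u : G) := by rw [h2]
      _ = g * (u : G) := by group
  have hgQ : g ∈ Q := by
    rw [← hcent (u : G) u.2 hu1, Subgroup.mem_centralizer_iff]
    intro x hx
    rw [Set.mem_singleton_iff] at hx
    rw [hx]; exact hcomm
  exact BSWDZ4_eq_one_of_mem_of_fix Q hZ1 g hgQ y hy hgy

/-- (Z4) -/
theorem eq_one_of_three_fixed (hcent : ∀ x ∈ Q, x ≠ 1 → centralizer ({x} : Set G) = Q)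
    (hZ1 : ∀ g : G, g ∉ normalizer (Q : Set G) →
      Q ⊓ (normalizer (Q : Set G)).map (MulAut.conj g).toMonoidHom = ⊥)
    (hreg : ∀ y z : G ⧸ normalizer (Q : Set G), y ≠ ((1 : G) : G ⧸ normalizer (Q : Set G)) →
      z ≠ ((1 : G) : G ⧸ normalizer (Q : Set G)) → ∃! u : ↥Q, (u : G) • y = z)
    (g : G) (a b c : G ⧸ normalizer (Q : Set G)) (hab : a ≠ b) (hbc : b ≠ c) (hac : a ≠ c)
    (ha : g • a = a) (hb : g • b = b) (hc : g • c = c) : g = 1 := by
  induction a using QuotientGroup.induction_on with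
  | H h =>
    have hx0 : h⁻¹ • ((h : G) : G ⧸ normalizer (Q : Set G))
        = ((1 : G) : G ⧸ normalizer (Q : Set G)) := by
      rw [MulAction.Quotient.smul_mk]; simp
    have key : h⁻¹ * g * h = 1 := by
      apply BSWDZ4_base Q hcent hZ1 hreg (h⁻¹ * g * h) (h⁻¹ • b) (h⁻¹ • c)
      · intro hb0
        apply hab
        rw [← hx0] at hb0
        exact (smul_left_cancel _ hb0).symm
      · intro hc0
        apply hac
        rw [← hx0] at hc0
        exact (smul_left_cancel _ hc0).symm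
      · intro hbc0
        exact hbc (smul_left_cancel _ hbc0)
      · rw [← hx0, mul_smul, mul_smul, smul_inv_smul, ha]
      · rw [mul_smul, mul_smul, smul_inv_smul, hb]
      · rw [mul_smul, mul_smul, smul_inv_smul, hc]
    calc g = h * (h⁻¹ * g * h) * h⁻¹ := by group
      _ = 1 := by rw [key]; group

end Z

end Cfsg.Agent.Helper47.BSWD
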