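import Mathlib

/-!
# S0508 piece (Z5a) for helper58: `|Q| ≠ 3` in a simple group (a group of order 12 with a
self-normalizing subgroup of order 3 has a normal subgroup of order 4, by Burnside's transfer)
-/

set_option autoImplicit false

namespace Cfsg.Agent.Helper47.BSWD

open Subgroup

section Z

variable {G : Type*} [Group G] [Finite G] (Q D : Subgroup G)

/-- a finite group of order 12 with a self-normalizing subgroup of order 3 is not simple -/
theorem BSWDZ5a_not_simple (hG : Nat.card G = 12) (hQ : Nat.card ↥Q = 3)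
    (hN : normalizer (Q : Set G) = Q) : ¬ IsSimpleGroup G := by
  intro hsimple
  have : Fact (Nat.Prime 3) := ⟨by norm_num⟩
  have hfac : (Nat.card G).factorization 3 = 1 := by
    have h12 : (12 : ℕ) = 3 * 4 := by norm_num
    rw [hG, h12, Nat.factorization_mul (by norm_num) (by norm_num), Finsupp.add_apply,
      Nat.Prime.factorization_self (by norm_num),
      Nat.factorization_eq_zero_of_not_dvd (show ¬ 3 ∣ 4 by norm_num)]
  have hcardQ : Nat.card ↥Q = 3 ^ (Nat.card G).factorization 3 := by
    rw [hfac, hQ]; norm_num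
  let P : Sylow 3 G := Sylow.ofCard Q hcardQ
  have hPQ : (P : Subgroup G) = Q := Sylow.coe_ofCard Q hcardQ
  have : Fact (Nat.card ↥Q).Prime := ⟨by rw [hQ]; norm_num⟩
  have : IsCyclic ↥Q := isCyclic_of_prime_card (p := Nat.card ↥Q) rfl
  have hcomm : ∀ a ∈ Q, ∀ b ∈ Q, a * b = b * a := by
    intro a ha b hb
    have := (IsCyclic.isMulCommutative (α := ↥Q)).is_comm.comm (⟨a, ha⟩ : ↥Q) ⟨b, hb⟩
    exact congrArg Subtype.val this
  have hP : normalizer ((P : Subgroup G) : Set G) ≤ centralizer ((P : Subgroup G) : Set G) := by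
    rw [hPQ, hN]
    intro a ha
    rw [Subgroup.mem_centralizer_iff]
    intro b hb
    exact hcomm b hb a ha
  have hcompl := MonoidHom.ker_transferSylow_isComplement' P hP
  have hmul := hcompl.card_mul_card
  have hPc : Nat.card ↥(P : Subgroup G) = 3 := by rw [hPQ, hQ]
  rw [hPc, hG] at hmul
  have hK : Nat.card ↥(MonoidHom.transferSylow P hP).ker = 4 := by omega
  rcases (MonoidHom.normal_ker (MonoidHom.transferSylow P hP)).eq_bot_or_eq_top with h | h
  · rw [h, Subgroup.card_bot] at hK; omega
  · rw [h, Subgroup.card_top, hG] at hK; omega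

/-- (Z5a) -/
theorem card_Q_ne_three [IsSimpleGroup G]
    (hcard : Nat.card ↥(normalizer (Q : Set G)) = Nat.card ↥Q * Nat.card ↥D)
    (h4 : 2 * Nat.card ↥D + 1 = Nat.card ↥Q)
    (hidx : (normalizer (Q : Set G)).index = Nat.card ↥Q + 1) :
    Nat.card ↥Q ≠ 3 := by
  intro hQ
  have hD : Nat.card ↥D = 1 := by omega
  have hNcard : Nat.card ↥(normalizer (Q : Set G)) = 3 := by rw [hcard, hQ, hD]
  have hG : Nat.card G = 12 := by
    have := (normalizer (Q : Set G)).card_mul_index
    rw [hNcard, hidx, hQ] at this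
    omega
  have hN : normalizer (Q : Set G) = Q := by
    symm
    apply Subgroup.eq_of_le_of_card_ge Subgroup.le_normalizer
    rw [hNcard, hQ]
  exact BSWDZ5a_not_simple Q hG hQ hN inferInstance

end Z

end Cfsg.Agent.Helper47.BSWD
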