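import Mathlib

/-!
# S0679 piece (FS) for helper54: 5 divides the support of anything commuting with an element of
order 5 moving 10 of the 11 points
-/

set_option autoImplicit false

namespace Cfsg.Agent.Helper47.D11

open Equiv MulAction

variable {α : Type*} [Fintype α] [DecidableEq α]

/-- (FS) -/
theorem five_dvd_support_of_commute (hα : Fintype.card α = 11) {f y : Perm α}
    (hf : orderOf f = 5) (hfs : f.support.card = 10) (hc : Commute f y) :
    5 ∣ y.support.card := by
  classical
  have : Fact (Nat.Prime 5) := ⟨by norm_num⟩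
  -- the unique fixed point of `f`
  have hcompl : f.supportᶜ.card = 1 := by
    rw [Finset.card_compl, hα, hfs]
  obtain ⟨a0, ha0⟩ := Finset.card_eq_one.mp hcompl
  have hfix : ∀ x, f x = x ↔ x = a0 := by
    intro x
    rw [← Equiv.Perm.notMem_support, ← Finset.mem_compl, ha0, Finset.mem_singleton]
  have hcomm : ∀ x, f (y x) = y (f x) := by
    intro x
    have := congrArg (fun g : Perm α => g x) hc.eq
    simpa using this
  have hya0 : y a0 = a0 := by
    rw [← hfix, hcomm, (hfix a0).mpr rfl]
  have hsub : ∀ x, x ∈ y.support → f x ≠ x := by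
    intro x hx h
    rw [hfix] at h
    subst h
    exact (Equiv.Perm.mem_support.mp hx) hya0
  have hstab : ∀ x, f x ∈ y.support ↔ x ∈ y.support := by
    intro x
    rw [Equiv.Perm.mem_support, Equiv.Perm.mem_support, ← hcomm]
    exact not_congr f.injective.eq_iff
  by_contra hnd
  have hσ : (f.subtypePerm hstab) ^ 5 ^ 1 = 1 := by
    have h5 : f ^ 5 = 1 := by rw [← hf]; exact pow_orderOf_eq_one f
    ext ⟨x, hx⟩
    rw [pow_one, Equiv.Perm.subtypePerm_pow]
    simp [h5]
  have hcard : ¬ 5 ∣ Fintype.card {x // x ∈ y.support} := by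
    rw [Fintype.card_coe]; exact hnd
  obtain ⟨⟨a, ha⟩, hfa⟩ := Equiv.Perm.exists_fixed_point_of_prime (p := 5) (n := 1) hcard hσ
  apply hsub a ha
  have := congrArg Subtype.val hfa
  simpa using this

end Cfsg.Agent.Helper47.D11
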