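import Mathlib

/-!
# S0679 piece (OS) for helper54: orbit-stabiliser on `k`-tuples
-/

set_option autoImplicit false

namespace Cfsg.Agent.Helper47.D11

open Equiv MulAction

variable {α : Type*} [Fintype α] [DecidableEq α]

/-- (OS) -/
theorem card_stabilizer_mul (hα : Fintype.card α = 11) (G : Subgroup (Perm α)) (k : ℕ)
    (hk : IsMultiplyPretransitive G α k) (x : Fin k ↪ α) :
    Nat.card (stabilizer G x) * (11).descFactorial k = Nat.card G := by
  classical
  have h1 := MulAction.card_orbit_mul_card_stabilizer_eq_card_group G x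
  have h2 : orbit G x = Set.univ := @MulAction.orbit_eq_univ G _ (Fin k ↪ α) _ hk x
  have h3 : Nat.card (orbit G x) = (11).descFactorial k := by
    rw [h2, Nat.card_congr (Equiv.Set.univ _), Nat.card_eq_fintype_card,
      Fintype.card_embedding_eq, hα, Fintype.card_fin]
  rw [← h3, mul_comm]
  rw [← Nat.card_eq_fintype_card, ← Nat.card_eq_fintype_card, ← Nat.card_eq_fintype_card] at h1
  exact h1

end Cfsg.Agent.Helper47.D11
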