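import Mathlib
import Cfsg.Agent.Helper62.D8.Defs

/-!
# S3716 (helper62): coordinates in `N_G(T) = 3² : D₈` (shared core of the pieces (G6), (G7))

`actE i j (a, b)` = exponents of the conjugate of `x ^ a * y ^ b` by `f ^ i * t ^ j`.
-/

set_option autoImplicit false

namespace Cfsg.Agent.Helper47.D8

open Cfsg Cfsg.Agent.Helper62.D8

universe u

/-- the action of `t` on exponent pairs -/
def tauE (p : ℕ × ℕ) : ℕ × ℕ := (p.1, 2 * p.2)

/-- the action of `f` on exponent pairs -/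
def phiE (p : ℕ × ℕ) : ℕ × ℕ := (2 * p.2, p.1)

/-- the action of `f ^ i * t ^ j` on exponent pairs -/
def actE (i j : ℕ) (p : ℕ × ℕ) : ℕ × ℕ := phiE^[i] (tauE^[j] p)

variable {G : Type u} [Group G] {T : Subgroup G} {x y t f : G}

theorem xy_comm_pow8 (hd : NData8 T x y t f) (m n : ℕ) : x ^ m * y ^ n = y ^ n * x ^ m :=
  ((show Commute x y from hd.comm).pow_pow m n)

/-- uniqueness of the coordinates in `T = ⟨x⟩ × ⟨y⟩` -/
theorem pow_mul_pow_inj8 (hd : NData8 T x y t f) {i j k l : ℕ}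
    (h : x ^ i * y ^ j = x ^ k * y ^ l) : x ^ i = x ^ k ∧ y ^ j = y ^ l := by
  have hx3k : x ^ (3 * k) = 1 := by rw [pow_mul, hd.x3, one_pow]
  have hy3j : y ^ (3 * j) = 1 := by rw [pow_mul, hd.y3, one_pow]
  have h1 : x ^ (2 * k) * (x ^ i * y ^ j) * y ^ (2 * j) = x ^ (2 * k + i) := by
    calc x ^ (2 * k) * (x ^ i * y ^ j) * y ^ (2 * j)
        = (x ^ (2 * k) * x ^ i) * (y ^ j * y ^ (2 * j)) := by group
      _ = x ^ (2 * k + i) * y ^ (3 * j) := by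
          rw [← pow_add, ← pow_add]; congr 2; ring
      _ = x ^ (2 * k + i) := by rw [hy3j, mul_one]
  have h2 : x ^ (2 * k) * (x ^ k * y ^ l) * y ^ (2 * j) = y ^ (l + 2 * j) := by
    calc x ^ (2 * k) * (x ^ k * y ^ l) * y ^ (2 * j)
        = (x ^ (2 * k) * x ^ k) * (y ^ l * y ^ (2 * j)) := by group
      _ = x ^ (3 * k) * y ^ (l + 2 * j) := by
          rw [← pow_add, ← pow_add]; congr 2; ring
      _ = y ^ (l + 2 * j) := by rw [hx3k, one_mul]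
  have h3 : x ^ (2 * k + i) = y ^ (l + 2 * j) := by rw [← h1, ← h2, h]
  have h4 : x ^ (2 * k + i) = 1 := hd.indep _ _ h3
  have h5 : y ^ (l + 2 * j) = 1 := by rw [← h3, h4]
  constructor
  · have e : x ^ (2 * k) * x ^ i = x ^ (2 * k) * x ^ k := by
      rw [← pow_add, ← pow_add, h4, show 2 * k + k = 3 * k by ring, hx3k]
    exact mul_left_cancel e
  · have e : y ^ l * y ^ (2 * j) = y ^ j * y ^ (2 * j) := by
      rw [← pow_add, ← pow_add, h5, show j + 2 * j = 3 * j by ring, hy3j]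
    exact (mul_right_cancel e).symm

theorem orderOf_x8 (hd : NData8 T x y t f) : orderOf x = 3 :=
  haveI : Fact (Nat.Prime 3) := ⟨Nat.prime_three⟩
  orderOf_eq_prime hd.x3 hd.x1

theorem orderOf_y8 (hd : NData8 T x y t f) : orderOf y = 3 :=
  haveI : Fact (Nat.Prime 3) := ⟨Nat.prime_three⟩
  orderOf_eq_prime hd.y3 hd.y1

theorem x_pow_eq_iff8 (hd : NData8 T x y t f) (m n : ℕ) : x ^ m = x ^ n ↔ m % 3 = n % 3 := by
  rw [pow_eq_pow_iff_modEq, orderOf_x8 hd]; rfl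

theorem y_pow_eq_iff8 (hd : NData8 T x y t f) (m n : ℕ) : y ^ m = y ^ n ↔ m % 3 = n % 3 := by
  rw [pow_eq_pow_iff_modEq, orderOf_y8 hd]; rfl

/-- equality in coordinates -/
theorem pow_mul_pow_eq_iff8 (hd : NData8 T x y t f) (a b c d : ℕ) :
    x ^ a * y ^ b = x ^ c * y ^ d ↔ a % 3 = c % 3 ∧ b % 3 = d % 3 := by
  constructor
  · intro h
    obtain ⟨h1, h2⟩ := pow_mul_pow_inj8 hd h
    exact ⟨(x_pow_eq_iff8 hd a c).1 h1, (y_pow_eq_iff8 hd b d).1 h2⟩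
  · rintro ⟨h1, h2⟩
    rw [(x_pow_eq_iff8 hd a c).2 h1, (y_pow_eq_iff8 hd b d).2 h2]

theorem x_inv8 (hd : NData8 T x y t f) : x⁻¹ = x ^ 2 := by
  rw [inv_eq_iff_mul_eq_one, ← pow_succ', hd.x3]

theorem y_inv8 (hd : NData8 T x y t f) : y⁻¹ = y ^ 2 := by
  rw [inv_eq_iff_mul_eq_one, ← pow_succ', hd.y3]

theorem pow_mul_pow_mem8 (hd : NData8 T x y t f) (a b : ℕ) : x ^ a * y ^ b ∈ T :=
  T.mul_mem (T.pow_mem hd.xT a) (T.pow_mem hd.yT b)

theorem conj_T8 (hd : NData8 T x y t f) {s u : G} (hs : s ∈ T) (hu : u ∈ T) :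
    s * u * s⁻¹ = u := by
  rw [hd.commT s hs u hu, mul_inv_cancel_right]

theorem conj_mul_pow (g u v : G) (a b : ℕ) :
    g * (u ^ a * v ^ b) * g⁻¹ = (g * u * g⁻¹) ^ a * (g * v * g⁻¹) ^ b := by
  rw [conj_pow, conj_pow]; group

/-- the action of `t` -/
theorem t_act8 (hd : NData8 T x y t f) (p : ℕ × ℕ) :
    t * (x ^ p.1 * y ^ p.2) * t⁻¹ = x ^ (tauE p).1 * y ^ (tauE p).2 := by
  rw [conj_mul_pow, hd.tx, hd.ty, y_inv8 hd, ← pow_mul]
  rfl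

/-- the action of `f` -/
theorem f_act8 (hd : NData8 T x y t f) (p : ℕ × ℕ) :
    f * (x ^ p.1 * y ^ p.2) * f⁻¹ = x ^ (phiE p).1 * y ^ (phiE p).2 := by
  rw [conj_mul_pow, hd.fx, hd.fy, x_inv8 hd, ← pow_mul, ← xy_comm_pow8 hd]
  rfl

/-- iterating an action in coordinates -/
theorem pow_act8 (g : G) (E : ℕ × ℕ → ℕ × ℕ)
    (hE : ∀ p : ℕ × ℕ, g * (x ^ p.1 * y ^ p.2) * g⁻¹ = x ^ (E p).1 * y ^ (E p).2)
    (n : ℕ) (p : ℕ × ℕ) :
    g ^ n * (x ^ p.1 * y ^ p.2) * (g ^ n)⁻¹ = x ^ (E^[n] p).1 * y ^ (E^[n] p).2 := by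
  induction n with
  | zero => simp
  | succ n ih =>
    have e : g ^ (n + 1) * (x ^ p.1 * y ^ p.2) * (g ^ (n + 1))⁻¹ =
        g * (g ^ n * (x ^ p.1 * y ^ p.2) * (g ^ n)⁻¹) * g⁻¹ := by
      rw [pow_succ']; group
    rw [e, ih, hE, Function.iterate_succ_apply']

/-- the action of `f ^ i * t ^ j` -/
theorem w_act8 (hd : NData8 T x y t f) (i j : ℕ) (p : ℕ × ℕ) :
    (f ^ i * t ^ j) * (x ^ p.1 * y ^ p.2) * (f ^ i * t ^ j)⁻¹ =
      x ^ (actE i j p).1 * y ^ (actE i j p).2 := by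
  have e : (f ^ i * t ^ j) * (x ^ p.1 * y ^ p.2) * (f ^ i * t ^ j)⁻¹ =
      f ^ i * (t ^ j * (x ^ p.1 * y ^ p.2) * (t ^ j)⁻¹) * (f ^ i)⁻¹ := by group
  rw [e, pow_act8 t tauE (t_act8 hd) j p, pow_act8 f phiE (f_act8 hd) i]
  rfl

/-- the action of `s * (f ^ i * t ^ j)`, `s ∈ T` -/
theorem sw_act8 (hd : NData8 T x y t f) {s : G} (hs : s ∈ T) (i j : ℕ) (p : ℕ × ℕ) :
    (s * (f ^ i * t ^ j)) * (x ^ p.1 * y ^ p.2) * (s * (f ^ i * t ^ j))⁻¹ =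
      x ^ (actE i j p).1 * y ^ (actE i j p).2 := by
  have e : (s * (f ^ i * t ^ j)) * (x ^ p.1 * y ^ p.2) * (s * (f ^ i * t ^ j))⁻¹ =
      s * ((f ^ i * t ^ j) * (x ^ p.1 * y ^ p.2) * (f ^ i * t ^ j)⁻¹) * s⁻¹ := by group
  rw [e, w_act8 hd, conj_T8 hd hs (pow_mul_pow_mem8 hd _ _)]

/-- the eight elements of `D₈` act differently -/
theorem actE_inj : ∀ i i' : Fin 4, ∀ j j' : Fin 2,
    (actE i j (1, 0)).1 % 3 = (actE i' j' (1, 0)).1 % 3 →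
    (actE i j (1, 0)).2 % 3 = (actE i' j' (1, 0)).2 % 3 →
    (actE i j (0, 1)).1 % 3 = (actE i' j' (0, 1)).1 % 3 →
    (actE i j (0, 1)).2 % 3 = (actE i' j' (0, 1)).2 % 3 → i = i' ∧ j = j' := by
  decide

/-- uniqueness of the decomposition `n = s * (f ^ i * t ^ j)` -/
theorem decomp_unique8 (hd : NData8 T x y t f) {s s' : G} (hs : s ∈ T) (hs' : s' ∈ T)
    {i i' j j' : ℕ} (hi : i < 4) (hi' : i' < 4) (hj : j < 2) (hj' : j' < 2)
    (h : s * (f ^ i * t ^ j) = s' * (f ^ i' * t ^ j')) : s = s' ∧ i = i' ∧ j = j' := by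
  have h10 := sw_act8 hd hs i j (1, 0)
  have h10' := sw_act8 hd hs' i' j' (1, 0)
  have h01 := sw_act8 hd hs i j (0, 1)
  have h01' := sw_act8 hd hs' i' j' (0, 1)
  rw [h] at h10 h01
  have e1 := (pow_mul_pow_eq_iff8 hd _ _ _ _).1 (h10.symm.trans h10')
  have e2 := (pow_mul_pow_eq_iff8 hd _ _ _ _).1 (h01.symm.trans h01')
  have key := actE_inj ⟨i, hi⟩ ⟨i', hi'⟩ ⟨j, hj⟩ ⟨j', hj'⟩ e1.1 e1.2 e2.1 e2.2
  have hii : i = i' := congrArg Fin.val key.1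
  have hjj : j = j' := congrArg Fin.val key.2
  subst hii
  subst hjj
  exact ⟨mul_right_cancel h, rfl, rfl⟩

/-- `|T| = 9` -/
theorem card_T8 (hd : NData8 T x y t f) : Nat.card T = 9 := by
  have hbij : Function.Bijective (fun p : Fin 3 × Fin 3 =>
      (⟨x ^ p.1.val * y ^ p.2.val, pow_mul_pow_mem8 hd _ _⟩ : T)) := by
    constructor
    · rintro ⟨a, b⟩ ⟨c, d⟩ h
      have h' : x ^ a.val * y ^ b.val = x ^ c.val * y ^ d.val := congrArg Subtype.val h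
      obtain ⟨h1, h2⟩ := (pow_mul_pow_eq_iff8 hd _ _ _ _).1 h'
      have ha := a.2
      have hb := b.2
      have hc := c.2
      have hdd := d.2
      have e1 : a = c := Fin.ext (by omega)
      have e2 : b = d := Fin.ext (by omega)
      rw [e1, e2]
    · rintro ⟨s, hs⟩
      obtain ⟨i, k, rfl⟩ := hd.memT s hs
      refine ⟨(⟨i % 3, Nat.mod_lt _ (by norm_num)⟩, ⟨k % 3, Nat.mod_lt _ (by norm_num)⟩), ?_⟩
      apply Subtype.ext
      change x ^ (i % 3) * y ^ (k % 3) = x ^ i * y ^ k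
      rw [pow_mul_pow_eq_iff8 hd]
      exact ⟨Nat.mod_mod _ _, Nat.mod_mod _ _⟩
  rw [← Nat.card_eq_of_bijective _ hbij]
  simp

end Cfsg.Agent.Helper47.D8
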