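import Mathlib
import Cfsg.Agent.Helper62.D8.Defs
import Cfsg.Agent.Helper3.S3S3Defs
import Cfsg.Agent.Helper47.D8Coords

/-!
# S3716 piece (G6) for helper62: the two class multiplication counts `(a, b; a)`, `(a, b; b)`
in the `3² : D₈` configuration
-/

set_option autoImplicit false

namespace Cfsg.Agent.Helper47.D8

open Cfsg Finset Cfsg.Agent.Helper62.D8

open Cfsg.Agent.Helper3.S3S3 (pairCount)

universe u

/-- the pairs `(f^i t^j, f^i' t^j')` of elements of `D₈` with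
`x^(f^i t^j) * (x y)^(f^i' t^j') = x ^ r1 * y ^ r2` -/
def Qset (r1 r2 : ℕ) : Finset ((Fin 4 × Fin 2) × (Fin 4 × Fin 2)) :=
  Finset.univ.filter (fun q =>
    ((actE q.1.1 q.1.2 (1, 0)).1 + (actE q.2.1 q.2.2 (1, 1)).1) % 3 = r1 % 3 ∧
    ((actE q.1.1 q.1.2 (1, 0)).2 + (actE q.2.1 q.2.2 (1, 1)).2) % 3 = r2 % 3)

theorem Qset_card_10 : (Qset 1 0).card = 8 := by decide

theorem Qset_card_11 : (Qset 1 1).card = 8 := by decide

section grp
variable {G : Type u} [Group G] {T : Subgroup G} {x y t f : G}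

/-- evaluation of a product of conjugates in coordinates -/
theorem eval_pair8 (hd : NData8 T x y t f) {s s' : G} (hs : s ∈ T) (hs' : s' ∈ T)
    (i j i' j' : ℕ) :
    (s * (f ^ i * t ^ j)) * x * (s * (f ^ i * t ^ j))⁻¹ *
      ((s' * (f ^ i' * t ^ j')) * (x * y) * (s' * (f ^ i' * t ^ j'))⁻¹) =
      x ^ ((actE i j (1, 0)).1 + (actE i' j' (1, 1)).1) *
        y ^ ((actE i j (1, 0)).2 + (actE i' j' (1, 1)).2) := by
  have h1 := sw_act8 hd hs i j (1, 0)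
  have h2 := sw_act8 hd hs' i' j' (1, 1)
  simp only [pow_one, pow_zero, mul_one] at h1 h2
  rw [h1, h2, pow_add, pow_add]
  have hc := xy_comm_pow8 hd (actE i' j' (1, 1)).1 (actE i j (1, 0)).2
  calc x ^ (actE i j (1, 0)).1 * y ^ (actE i j (1, 0)).2 *
        (x ^ (actE i' j' (1, 1)).1 * y ^ (actE i' j' (1, 1)).2)
      = x ^ (actE i j (1, 0)).1 * (y ^ (actE i j (1, 0)).2 * x ^ (actE i' j' (1, 1)).1) *
          y ^ (actE i' j' (1, 1)).2 := by group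
    _ = x ^ (actE i j (1, 0)).1 * (x ^ (actE i' j' (1, 1)).1 * y ^ (actE i j (1, 0)).2) *
          y ^ (actE i' j' (1, 1)).2 := by rw [hc]
    _ = _ := by group

theorem xy_ne_one8 (hd : NData8 T x y t f) : x * y ≠ 1 := by
  intro h
  have h1 : x ^ 1 * y ^ 1 = x ^ 0 * y ^ 0 := by
    rw [pow_one, pow_one, pow_zero, pow_zero, h, one_mul]
  have h2 := ((pow_mul_pow_eq_iff8 hd _ _ _ _).1 h1).1
  omega

variable [Finite G] [Fintype G] [DecidableEq G]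

/-- the general count -/
theorem pairCount_eq8 (hd : NData8 T x y t f)
    (hpair : ∀ x₁ x₂ x₃ : G, x₁ ∈ T → x₂ ∈ T → x₃ ∈ T → x₁ ≠ 1 → x₂ ≠ 1 → x₃ ≠ 1 →
      ¬ IsConj x₁ x₂ → ∀ g h : G, g * x₁ * g⁻¹ * (h * x₂ * h⁻¹) = x₃ →
      g ∈ Subgroup.normalizer (T : Set G) ∧ h ∈ Subgroup.normalizer (T : Set G))
    (hnxz : ¬ IsConj x (x * y)) (r1 r2 : ℕ) (hr : x ^ r1 * y ^ r2 ≠ 1) :
    pairCount x (x * y) (x ^ r1 * y ^ r2) = 81 * (Qset r1 r2).card := by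
  classical
  haveI : Fintype T := Fintype.ofFinite T
  have hcT : Fintype.card T = 9 := by
    rw [← Nat.card_eq_fintype_card]; exact card_T8 hd
  let Φ : (T × T) × ((Fin 4 × Fin 2) × (Fin 4 × Fin 2)) → G × G := fun p =>
    ((p.1.1 : G) * (f ^ p.2.1.1.val * t ^ p.2.1.2.val),
      (p.1.2 : G) * (f ^ p.2.2.1.val * t ^ p.2.2.2.val))
  have hΦinj : Function.Injective Φ := by
    rintro ⟨⟨s1, s2⟩, ⟨⟨i1, j1⟩, ⟨i2, j2⟩⟩⟩ ⟨⟨s1', s2'⟩, ⟨⟨i1', j1'⟩, ⟨i2', j2'⟩⟩⟩ h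
    have ha : (s1 : G) * (f ^ i1.val * t ^ j1.val) = (s1' : G) * (f ^ i1'.val * t ^ j1'.val) :=
      congrArg Prod.fst h
    have hb : (s2 : G) * (f ^ i2.val * t ^ j2.val) = (s2' : G) * (f ^ i2'.val * t ^ j2'.val) :=
      congrArg Prod.snd h
    obtain ⟨a1, a2, a3⟩ := decomp_unique8 hd s1.2 s1'.2 i1.2 i1'.2 j1.2 j1'.2 ha
    obtain ⟨b1, b2, b3⟩ := decomp_unique8 hd s2.2 s2'.2 i2.2 i2'.2 j2.2 j2'.2 hb
    have e1 : s1 = s1' := Subtype.ext a1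
    have e2 : i1 = i1' := Fin.ext a2
    have e3 : j1 = j1' := Fin.ext a3
    have e4 : s2 = s2' := Subtype.ext b1
    have e5 : i2 = i2' := Fin.ext b2
    have e6 : j2 = j2' := Fin.ext b3
    rw [e1, e2, e3, e4, e5, e6]
  have hS : Finset.univ.filter (fun gh : G × G =>
      gh.1 * x * gh.1⁻¹ * (gh.2 * (x * y) * gh.2⁻¹) = x ^ r1 * y ^ r2) =
      ((Finset.univ : Finset (T × T)) ×ˢ Qset r1 r2).image Φ := by
    ext ⟨g, h⟩
    simp only [Finset.mem_filter, Finset.mem_univ, true_and, Finset.mem_image,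
      Finset.mem_product]
    constructor
    · intro hgh
      obtain ⟨hg, hh⟩ := hpair x (x * y) (x ^ r1 * y ^ r2) hd.xT (T.mul_mem hd.xT hd.yT)
        (pow_mul_pow_mem8 hd _ _) hd.x1 (xy_ne_one8 hd) hr hnxz g h hgh
      obtain ⟨s, hs, i, j, hi, hj, rfl⟩ := hd.memN g hg
      obtain ⟨s', hs', i', j', hi', hj', rfl⟩ := hd.memN h hh
      refine ⟨((⟨s, hs⟩, ⟨s', hs'⟩), ((⟨i, hi⟩, ⟨j, hj⟩), (⟨i', hi'⟩, ⟨j', hj'⟩))), ?_, rfl⟩
      rw [eval_pair8 hd hs hs', pow_mul_pow_eq_iff8 hd] at hgh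
      unfold Qset
      simp only [Finset.mem_filter, Finset.mem_univ, true_and]
      exact hgh
    · rintro ⟨⟨⟨s, s'⟩, ⟨⟨i, j⟩, ⟨i', j'⟩⟩⟩, hq, hΦ⟩
      have hg : (s : G) * (f ^ i.val * t ^ j.val) = g := congrArg Prod.fst hΦ
      have hh : (s' : G) * (f ^ i'.val * t ^ j'.val) = h := congrArg Prod.snd hΦ
      unfold Qset at hq
      simp only [Finset.mem_filter, Finset.mem_univ, true_and] at hq
      rw [← hg, ← hh, eval_pair8 hd s.2 s'.2, pow_mul_pow_eq_iff8 hd]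
      exact hq
  unfold pairCount
  rw [hS, Finset.card_image_of_injective _ hΦinj, Finset.card_product, Finset.card_univ,
    Fintype.card_prod, hcT]

/-- (G6) pair counts. `hpair` is `Helper3.S3S3.local_pair`. -/
theorem pair_count8 (T : Subgroup G) (x y t f : G)
    (hd : NData8 T x y t f)
    (hpair : ∀ x₁ x₂ x₃ : G, x₁ ∈ T → x₂ ∈ T → x₃ ∈ T → x₁ ≠ 1 → x₂ ≠ 1 → x₃ ≠ 1 →
      ¬ IsConj x₁ x₂ → ∀ g h : G, g * x₁ * g⁻¹ * (h * x₂ * h⁻¹) = x₃ →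
      g ∈ Subgroup.normalizer (T : Set G) ∧ h ∈ Subgroup.normalizer (T : Set G))
    (hnxz : ¬ IsConj x (x * y)) :
    pairCount x (x * y) x = 648 ∧ pairCount x (x * y) (x * y) = 648 := by
  have e10 : x ^ 1 * y ^ 0 = x := by rw [pow_one, pow_zero, mul_one]
  have e11 : x ^ 1 * y ^ 1 = x * y := by rw [pow_one, pow_one]
  have h10 := pairCount_eq8 hd hpair hnxz 1 0 (by rw [e10]; exact hd.x1)
  have h11 := pairCount_eq8 hd hpair hnxz 1 1 (by rw [e11]; exact xy_ne_one8 hd)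
  rw [e10, Qset_card_10] at h10
  rw [e11, Qset_card_11] at h11
  exact ⟨h10, h11⟩

end grp

end Cfsg.Agent.Helper47.D8
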