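import Mathlib
import Cfsg.Agent.Helper62.D8.Defs
import Cfsg.Agent.Helper47.D8Coords
import Cfsg.Agent.Helper89.S3S3G2
import Cfsg.Agent.Helper74.A6_GD

/-!
# S3716 piece (G7) for helper62: `|N_G(T)| = 72` and `|G : N_G(T)| ≡ 1 (mod 9)`
-/

set_option autoImplicit false

namespace Cfsg.Agent.Helper47.D8

open Cfsg Cfsg.Agent.Helper62.D8

universe u

section grp
variable {G : Type u} [Group G]

/-- `|N_G(T)| = 72` -/
theorem card_normalizer8 {T : Subgroup G} {x y t f : G} (hd : NData8 T x y t f) :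
    Nat.card (Subgroup.normalizer (T : Set G)) = 72 := by
  have hmem : ∀ p : T × (Fin 4 × Fin 2),
      (p.1 : G) * (f ^ p.2.1.val * t ^ p.2.2.val) ∈ Subgroup.normalizer (T : Set G) := by
    intro p
    exact mul_mem (Subgroup.le_normalizer p.1.2)
      (mul_mem (pow_mem hd.fN _) (pow_mem hd.tN _))
  have hbij : Function.Bijective (fun p : T × (Fin 4 × Fin 2) =>
      (⟨(p.1 : G) * (f ^ p.2.1.val * t ^ p.2.2.val), hmem p⟩ :
        Subgroup.normalizer (T : Set G))) := by
    constructor
    · rintro ⟨s, i, j⟩ ⟨s', i', j'⟩ h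
      have h' : (s : G) * (f ^ i.val * t ^ j.val) = (s' : G) * (f ^ i'.val * t ^ j'.val) :=
        congrArg Subtype.val h
      obtain ⟨h1, h2, h3⟩ := decomp_unique8 hd s.2 s'.2 i.2 i'.2 j.2 j'.2 h'
      have e1 : s = s' := Subtype.ext h1
      have e2 : i = i' := Fin.ext h2
      have e3 : j = j' := Fin.ext h3
      rw [e1, e2, e3]
    · rintro ⟨n, hn⟩
      obtain ⟨s, hs, i, j, hi, hj, rfl⟩ := hd.memN n hn
      exact ⟨(⟨s, hs⟩, ⟨i, hi⟩, ⟨j, hj⟩), rfl⟩
  rw [← Nat.card_eq_of_bijective _ hbij, Nat.card_prod, card_T8 hd]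
  simp

variable [Finite G]

/-- (G7) the order of `G`. -/
theorem card_eq8 (T : Sylow 3 G) (x y t f : G) (hd : NData8 (T : Subgroup G) x y t f)
    (hcard : Nat.card (T : Subgroup G) = 9)
    (hloc : ∀ u ∈ (T : Subgroup G), u ≠ 1 →
      Subgroup.centralizer ({u} : Set G) ≤ Subgroup.normalizer ((T : Subgroup G) : Set G)) :
    Nat.card (Subgroup.normalizer ((T : Subgroup G) : Set G)) = 72 ∧
      ∃ n : ℕ, Nat.card G = 72 * n ∧ n % 9 = 1 := by
  classical
  haveI : Fact (Nat.Prime 3) := ⟨Nat.prime_three⟩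
  have hN := card_normalizer8 hd
  refine ⟨hN, (Subgroup.normalizer ((T : Subgroup G) : Set G)).index, ?_, ?_⟩
  · rw [← hN]
    exact (Subgroup.card_mul_index _).symm
  have hidx : Nat.card (Sylow 3 G) =
      (Subgroup.normalizer ((T : Subgroup G) : Set G)).index := Sylow.card_eq_index_normalizer T
  rw [← hidx]
  obtain ⟨m, hm⟩ := Cfsg.Agent.Helper74.A6.exists_card_eq_one_add_mul
    (H := (T : Subgroup G)) (X := Sylow 3 G) T
    (by
      intro h
      rw [Subgroup.smul_def, Sylow.smul_eq_iff_mem_normalizer]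
      exact Subgroup.le_normalizer h.2)
    (by
      intro Q hQ h hh
      by_contra h1
      apply hQ
      obtain ⟨g, rfl⟩ := MulAction.exists_smul_eq G T Q
      rw [Subgroup.smul_def, Sylow.smul_eq_iff_mem_normalizer] at hh
      have hhQ : (h : G) ∈ ((g • T : Sylow 3 G) : Subgroup G) := by
        have := IsPGroup.inf_normalizer_sylow T.isPGroup' (g • T)
        have h2 : (h : G) ∈ (T : Subgroup G) ⊓
            Subgroup.normalizer ((g • T : Sylow 3 G) : Set G) := ⟨h.2, hh⟩
        rw [this] at h2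
        exact h2.2
      rw [Sylow.coe_subgroup_smul, Subgroup.mem_pointwise_smul_iff_inv_smul_mem] at hhQ
      have hhQ' : g⁻¹ * (h : G) * g ∈ (T : Subgroup G) := by
        simpa [MulAut.smul_def, mul_assoc] using hhQ
      have hne : g⁻¹ * (h : G) * g ≠ 1 := by
        intro h0
        apply h1
        have : (h : G) = 1 := by
          have : (h : G) = g * (g⁻¹ * (h : G) * g) * g⁻¹ := by group
          rw [this, h0]; group
        exact Subtype.ext this
      have hg : g ∈ Subgroup.normalizer ((T : Subgroup G) : Set G) := by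
        have := Cfsg.Agent.Helper89.S3S3.mem_normalizer_of_conj_mem T hd.commT hloc
          g (g⁻¹ * (h : G) * g) hhQ' hne
          (by
            have : g * (g⁻¹ * (h : G) * g) * g⁻¹ = (h : G) := by group
            rw [this]; exact h.2)
        exact this
      exact Sylow.smul_eq_iff_mem_normalizer.2 hg)
  rw [hm, hcard]
  omega

end grp

end Cfsg.Agent.Helper47.D8
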