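import Mathlib
import Cfsg.Agent.Helper62.D8.Defs

/-!
# S3716 piece (K1c) for helper62: the trichotomy `SecA1 / SecA2 / SecB` for a norm-4 vector
-/

set_option autoImplicit false

namespace Cfsg.Agent.Helper47.D8

open Cfsg Finset Cfsg.Agent.Helper62.D8

section
variable {ι : Type*} [Fintype ι] [DecidableEq ι]

theorem K1c_sum_ind_mul (j : ι) (z : ι → ℤ) : ∑ i, ind j i * z i = z j := by
  unfold ind
  simp

theorem K1c_inner (o θ α₁ α₂ : ι) (ε a₁ a₂ : ℤ) (u z : ι → ℤ)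
    (hu : ∀ i, u i = ind o i + ε * ind θ i + a₁ * ind α₁ i + a₂ * ind α₂ i) :
    ∑ i, u i * z i = z o + ε * z θ + a₁ * z α₁ + a₂ * z α₂ := by
  simp_rw [hu, add_mul, mul_assoc, Finset.sum_add_distrib, ← Finset.mul_sum, K1c_sum_ind_mul]

/-- all entries of `z` are `0, ±1` -/
theorem K1c_bound (u z : ι → ℤ) (hzz : ∑ i, z i ^ 2 = 4) (hzu : ∑ i, u i * z i = 1) (j : ι) :
    -1 ≤ z j ∧ z j ≤ 1 := by
  have hle : z j ^ 2 ≤ 4 := by
    rw [← hzz]
    exact Finset.single_le_sum (f := fun i => z i ^ 2) (fun i _ => sq_nonneg (z i))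
      (Finset.mem_univ j)
  have h2 : -2 ≤ z j ∧ z j ≤ 2 := by constructor <;> nlinarith
  by_contra hcon
  have h22 : z j = 2 ∨ z j = -2 := by omega
  have h4 : z j ^ 2 = 4 := by
    rcases h22 with h | h <;> rw [h] <;> norm_num
  have hrest : ∀ i, i ≠ j → z i = 0 := by
    have hsum : ∑ i ∈ Finset.univ.erase j, z i ^ 2 = 0 := by
      have := Finset.add_sum_erase Finset.univ (fun i => z i ^ 2) (Finset.mem_univ j)
      linarith
    intro i hi
    have := (Finset.sum_eq_zero_iff_of_nonneg (fun i _ => sq_nonneg (z i))).1 hsum i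
      (Finset.mem_erase.2 ⟨hi, Finset.mem_univ i⟩)
    exact pow_eq_zero_iff (two_ne_zero) |>.1 this
  have hsingle : ∑ i, u i * z i = u j * z j := by
    apply Finset.sum_eq_single j
    · intro i _ hi
      rw [hrest i hi, mul_zero]
    · intro h
      exact absurd (Finset.mem_univ j) h
  rw [hsingle] at hzu
  rcases h22 with h | h <;> rw [h] at hzu <;> omega

/-- splitting the norm of `z` along a list of distinct points -/
theorem K1c_norm_split (z : ι → ℤ) (hb : ∀ j, -1 ≤ z j ∧ z j ≤ 1) (L : List ι) (hL : L.Nodup) :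
    ∑ i, z i ^ 2 = (L.map (fun i => z i ^ 2)).sum +
      ((Finset.univ.filter (fun i => z i ≠ 0 ∧ i ∉ L)).card : ℤ) := by
  rw [← Finset.sum_add_sum_compl L.toFinset (fun i => z i ^ 2), List.sum_toFinset _ hL]
  congr 1
  rw [Finset.card_filter, Nat.cast_sum]
  rw [← Finset.sum_add_sum_compl L.toFinset
    (fun i => ((if z i ≠ 0 ∧ i ∉ L then 1 else 0 : ℕ) : ℤ))]
  have h1 : ∑ i ∈ L.toFinset, ((if z i ≠ 0 ∧ i ∉ L then 1 else 0 : ℕ) : ℤ) = 0 := by
    apply Finset.sum_eq_zero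
    intro i hi
    rw [List.mem_toFinset] at hi
    rw [if_neg (fun h => h.2 hi)]
    rfl
  rw [h1, zero_add]
  apply Finset.sum_congr rfl
  intro i hi
  rw [Finset.mem_compl, List.mem_toFinset] at hi
  obtain ⟨hb1, hb2⟩ := hb i
  by_cases h0 : z i = 0
  · rw [if_neg (fun h => h.1 h0), h0]
    norm_num
  · rw [if_pos ⟨h0, hi⟩]
    have : z i = 1 ∨ z i = -1 := by omega
    rcases this with h | h <;> rw [h] <;> norm_num

/-- the arithmetic core -/
theorem K1c_arith (ε a₁ a₂ b₁ b₂ t x₁ x₂ y₁ y₂ : ℤ) (hε : IsSign ε) (ha₁ : IsSign a₁)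
    (ha₂ : IsSign a₂) (hb₁ : IsSign b₁) (hb₂ : IsSign b₂)
    (ht : -1 ≤ t ∧ t ≤ 1) (hx₁ : -1 ≤ x₁ ∧ x₁ ≤ 1) (hx₂ : -1 ≤ x₂ ∧ x₂ ≤ 1)
    (hy₁ : -1 ≤ y₁ ∧ y₁ ≤ 1) (hy₂ : -1 ≤ y₂ ∧ y₂ ≤ 1)
    (E1 : ε * t + a₁ * x₁ + a₂ * x₂ = 1) (E2 : ε * t + b₁ * y₁ + b₂ * y₂ = 2) :
    (t = ε ∧ ((y₁ = b₁ ∧ y₂ = 0) ∨ (y₁ = 0 ∧ y₂ = b₂)) ∧
      ((x₁ = 0 ∧ x₂ = 0) ∨ (x₁ = a₁ ∧ x₂ = -a₂) ∨ (x₁ = -a₁ ∧ x₂ = a₂))) ∨
    (t = 0 ∧ y₁ = b₁ ∧ y₂ = b₂ ∧ ((x₁ = a₁ ∧ x₂ = 0) ∨ (x₁ = 0 ∧ x₂ = a₂))) := by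
  rcases hε with rfl | rfl <;> rcases ha₁ with rfl | rfl <;> rcases ha₂ with rfl | rfl <;>
    rcases hb₁ with rfl | rfl <;> rcases hb₂ with rfl | rfl <;> omega

/-- reconstruction of a vector supported on four distinct points -/
theorem K1c_four (z : ι → ℤ) (j₁ j₂ j₃ j₄ : ι) (h12 : j₁ ≠ j₂) (h13 : j₁ ≠ j₃) (h14 : j₁ ≠ j₄)
    (h23 : j₂ ≠ j₃) (h24 : j₂ ≠ j₄) (h34 : j₃ ≠ j₄)
    (hs : ∀ i, i ≠ j₁ → i ≠ j₂ → i ≠ j₃ → i ≠ j₄ → z i = 0) (i : ι) :
    z i = z j₁ * ind j₁ i + z j₂ * ind j₂ i + z j₃ * ind j₃ i + z j₄ * ind j₄ i := by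
  unfold ind
  by_cases e1 : i = j₁
  · subst e1
    simp [h12, h13, h14]
  by_cases e2 : i = j₂
  · subst e2
    simp [h12.symm, h23, h24]
  by_cases e3 : i = j₃
  · subst e3
    simp [h13.symm, h23.symm, h34]
  by_cases e4 : i = j₄
  · subst e4
    simp [h14.symm, h24.symm, h34.symm]
  simp [e1, e2, e3, e4, hs i e1 e2 e3 e4]

theorem K1c_sign_of_ne (x : ℤ) (hb : -1 ≤ x ∧ x ≤ 1) (h0 : x ≠ 0) : IsSign x := by
  unfold IsSign
  omega

theorem K1c_sq_sign {s : ℤ} (hs : IsSign s) : s ^ 2 = 1 := by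
  rcases hs with rfl | rfl <;> norm_num

theorem K1c_neg_sq_sign {s : ℤ} (hs : IsSign s) : (-s) ^ 2 = 1 := by
  rcases hs with rfl | rfl <;> norm_num

/-- (K1c) the trichotomy for a norm-4 vector `z` with `z o = 0`, `⟨u,z⟩ = 1`, `⟨v,z⟩ = 2`, where
`u = o + εθ + a₁α₁ + a₂α₂`, `v = o + εθ + b₁β₁ + b₂β₂`. -/
theorem sec_of_core (o : ι) (u v z : ι → ℤ) (θ α₁ α₂ β₁ β₂ : ι) (ε a₁ a₂ b₁ b₂ : ℤ)
    (hc : Core o u v θ α₁ α₂ β₁ β₂ ε a₁ a₂ b₁ b₂)
    (hz0 : z o = 0) (hzz : ∑ i, z i ^ 2 = 4) (hzu : ∑ i, u i * z i = 1)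
    (hzv : ∑ i, v i * z i = 2) :
    SecA1 o θ α₁ α₂ β₁ β₂ ε b₁ b₂ z ∨ SecA2 θ α₁ α₂ β₁ β₂ ε a₁ a₂ b₁ b₂ z ∨
      SecB o θ α₁ α₂ β₁ β₂ a₁ a₂ b₁ b₂ z := by
  obtain ⟨hnd, hε, ha₁, ha₂, hb₁, hb₂, hu, hv⟩ := hc
  have hb := K1c_bound u z hzz hzu
  have E1 := K1c_inner o θ α₁ α₂ ε a₁ a₂ u z hu
  have E2 := K1c_inner o θ β₁ β₂ ε b₁ b₂ v z hv
  rw [hzu, hz0, zero_add] at E1
  rw [hzv, hz0, zero_add] at E2
  have E3 := K1c_norm_split z hb [o, θ, α₁, α₂, β₁, β₂] hnd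
  rw [hzz] at E3
  simp only [List.map_cons, List.map_nil, List.sum_cons, List.sum_nil, add_zero, hz0] at E3
  have h02 : (0 : ℤ) ^ 2 = 0 := by norm_num
  rw [h02, zero_add] at E3
  -- the set of new support points
  set T := Finset.univ.filter (fun i => z i ≠ 0 ∧ i ∉ [o, θ, α₁, α₂, β₁, β₂]) with hT
  have hTmem : ∀ i, i ∈ T ↔ z i ≠ 0 ∧ i ∉ [o, θ, α₁, α₂, β₁, β₂] := by
    intro i
    rw [hT, Finset.mem_filter]
    exact ⟨fun h => h.2, fun h => ⟨Finset.mem_univ i, h⟩⟩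
  -- distinctness
  have hne : o ≠ θ ∧ o ≠ α₁ ∧ o ≠ α₂ ∧ o ≠ β₁ ∧ o ≠ β₂ ∧ θ ≠ α₁ ∧ θ ≠ α₂ ∧ θ ≠ β₁ ∧ θ ≠ β₂ ∧
      α₁ ≠ α₂ ∧ α₁ ≠ β₁ ∧ α₁ ≠ β₂ ∧ α₂ ≠ β₁ ∧ α₂ ≠ β₂ ∧ β₁ ≠ β₂ := by
    simp only [List.nodup_cons, List.mem_cons, List.not_mem_nil, or_false, not_or,
      List.nodup_nil, and_true] at hnd
    obtain ⟨⟨h1, h2, h3, h4, h5⟩, ⟨h6, h7, h8, h9⟩, ⟨h10, h11, h12⟩, ⟨h13, h14⟩, h15⟩ := hnd
    exact ⟨h1, h2, h3, h4, h5, h6, h7, h8, h9, h10, h11, h12, h13, h14, h15.1⟩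
  obtain ⟨n1, n2, n3, n4, n5, n6, n7, n8, n9, n10, n11, n12, n13, n14, n15⟩ := hne
  -- an element of the list `L` is one of the six points
  have hLmem : ∀ i, i ∈ [o, θ, α₁, α₂, β₁, β₂] ↔
      i = o ∨ i = θ ∨ i = α₁ ∨ i = α₂ ∨ i = β₁ ∨ i = β₂ := by
    intro i
    simp only [List.mem_cons, List.not_mem_nil, or_false]
  have key := K1c_arith ε a₁ a₂ b₁ b₂ (z θ) (z α₁) (z α₂) (z β₁) (z β₂) hε ha₁ ha₂ hb₁ hb₂
    (hb θ) (hb α₁) (hb α₂) (hb β₁) (hb β₂) E1.symm E2.symm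
  have sε := K1c_sq_sign hε
  have sa₁ := K1c_sq_sign ha₁
  have sa₂ := K1c_sq_sign ha₂
  have sb₁ := K1c_sq_sign hb₁
  have sb₂ := K1c_sq_sign hb₂
  have sna₁ := K1c_neg_sq_sign ha₁
  have sna₂ := K1c_neg_sq_sign ha₂
  rcases key with ⟨hθ, hβ, hα⟩ | ⟨hθ, hβ1, hβ2, hα⟩
  · rcases hα with ⟨hx1, hx2⟩ | hα
    · -- SecA1
      left
      have hcard : T.card = 2 := by
        rcases hβ with ⟨hy1, hy2⟩ | ⟨hy1, hy2⟩ <;>
          rw [hθ, hx1, hx2, hy1, hy2] at E3 <;> (try rw [sε] at E3) <;>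
          (try rw [sb₁] at E3) <;> (try rw [sb₂] at E3) <;> norm_num at E3 <;> omega
      obtain ⟨γ₁, γ₂, hγ, hTeq⟩ := Finset.card_eq_two.1 hcard
      have hγ₁ : γ₁ ∈ T := by rw [hTeq]; simp
      have hγ₂ : γ₂ ∈ T := by rw [hTeq]; simp
      obtain ⟨hz1, hL1⟩ := (hTmem γ₁).1 hγ₁
      obtain ⟨hz2, hL2⟩ := (hTmem γ₂).1 hγ₂
      have hL1' := hL1
      have hL2' := hL2
      rw [hLmem, not_or, not_or, not_or, not_or, not_or] at hL1' hL2'
      obtain ⟨p1, p2, p3, p4, p5, p6⟩ := hL1'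
      obtain ⟨q1, q2, q3, q4, q5, q6⟩ := hL2'
      have hnew : ∀ i, z i ≠ 0 → i ∉ [o, θ, α₁, α₂, β₁, β₂] → i = γ₁ ∨ i = γ₂ := by
        intro i hi hiL
        have : i ∈ T := (hTmem i).2 ⟨hi, hiL⟩
        rw [hTeq] at this
        simpa using this
      rcases hβ with ⟨hy1, hy2⟩ | ⟨hy1, hy2⟩
      · refine ⟨β₁, b₁, γ₁, γ₂, z γ₁, z γ₂, Or.inl ⟨rfl, rfl⟩, hγ, hL1, hL2,
          K1c_sign_of_ne _ (hb γ₁) hz1, K1c_sign_of_ne _ (hb γ₂) hz2, ?_⟩
        intro i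
        have := K1c_four z θ β₁ γ₁ γ₂ n8 (Ne.symm p2) (Ne.symm q2) (Ne.symm p5) (Ne.symm q5) hγ
          (by
            intro i i1 i2 i3 i4
            by_contra hzi
            by_cases hiL : i ∈ [o, θ, α₁, α₂, β₁, β₂]
            · rw [hLmem] at hiL
              rcases hiL with rfl | rfl | rfl | rfl | rfl | rfl
              · exact hzi hz0
              · exact i1 rfl
              · exact hzi hx1
              · exact hzi hx2
              · exact i2 rfl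
              · exact hzi hy2
            · rcases hnew i hzi hiL with h | h
              · exact i3 h
              · exact i4 h) i
        rw [this, hθ, hy1]
      · refine ⟨β₂, b₂, γ₁, γ₂, z γ₁, z γ₂, Or.inr ⟨rfl, rfl⟩, hγ, hL1, hL2,
          K1c_sign_of_ne _ (hb γ₁) hz1, K1c_sign_of_ne _ (hb γ₂) hz2, ?_⟩
        intro i
        have := K1c_four z θ β₂ γ₁ γ₂ n9 (Ne.symm p2) (Ne.symm q2) (Ne.symm p6) (Ne.symm q6) hγ
          (by
            intro i i1 i2 i3 i4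
            by_contra hzi
            by_cases hiL : i ∈ [o, θ, α₁, α₂, β₁, β₂]
            · rw [hLmem] at hiL
              rcases hiL with rfl | rfl | rfl | rfl | rfl | rfl
              · exact hzi hz0
              · exact i1 rfl
              · exact hzi hx1
              · exact hzi hx2
              · exact hzi hy1
              · exact i2 rfl
            · rcases hnew i hzi hiL with h | h
              · exact i3 h
              · exact i4 h) i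
        rw [this, hθ, hy2]
    · -- SecA2
      right; left
      have hcard : T.card = 0 := by
        rcases hβ with ⟨hy1, hy2⟩ | ⟨hy1, hy2⟩ <;> rcases hα with ⟨hx1, hx2⟩ | ⟨hx1, hx2⟩ <;>
          rw [hθ, hx1, hx2, hy1, hy2] at E3 <;> (try rw [sε] at E3) <;>
          (try rw [sb₁] at E3) <;> (try rw [sb₂] at E3) <;> (try rw [sa₁] at E3) <;>
          (try rw [sa₂] at E3) <;> (try rw [sna₁] at E3) <;> (try rw [sna₂] at E3) <;>
          rw [h02] at E3 <;> omega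
      have hTe : T = ∅ := Finset.card_eq_zero.1 hcard
      have hnew : ∀ i, z i ≠ 0 → i ∈ [o, θ, α₁, α₂, β₁, β₂] := by
        intro i hi
        by_contra hiL
        have : i ∈ T := (hTmem i).2 ⟨hi, hiL⟩
        rw [hTe] at this
        simp at this
      rcases hβ with ⟨hy1, hy2⟩ | ⟨hy1, hy2⟩
      · refine ⟨β₁, b₁, Or.inl ⟨rfl, rfl⟩, ?_⟩
        have hfour := K1c_four z θ β₁ α₁ α₂ n8 n6 n7 (Ne.symm n11) (Ne.symm n13) n10
          (by
            intro i i1 i2 i3 i4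
            by_contra hzi
            have hiL := hnew i hzi
            rw [hLmem] at hiL
            rcases hiL with rfl | rfl | rfl | rfl | rfl | rfl
            · exact hzi hz0
            · exact i1 rfl
            · exact i3 rfl
            · exact i4 rfl
            · exact i2 rfl
            · exact hzi hy2)
        rcases hα with ⟨hx1, hx2⟩ | ⟨hx1, hx2⟩
        · left
          intro i
          rw [hfour i, hθ, hy1, hx1, hx2]
          ring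
        · right
          intro i
          rw [hfour i, hθ, hy1, hx1, hx2]
          ring
      · refine ⟨β₂, b₂, Or.inr ⟨rfl, rfl⟩, ?_⟩
        have hfour := K1c_four z θ β₂ α₁ α₂ n9 n6 n7 (Ne.symm n12) (Ne.symm n14) n10
          (by
            intro i i1 i2 i3 i4
            by_contra hzi
            have hiL := hnew i hzi
            rw [hLmem] at hiL
            rcases hiL with rfl | rfl | rfl | rfl | rfl | rfl
            · exact hzi hz0
            · exact i1 rfl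
            · exact i3 rfl
            · exact i4 rfl
            · exact hzi hy1
            · exact i2 rfl)
        rcases hα with ⟨hx1, hx2⟩ | ⟨hx1, hx2⟩
        · left
          intro i
          rw [hfour i, hθ, hy2, hx1, hx2]
          ring
        · right
          intro i
          rw [hfour i, hθ, hy2, hx1, hx2]
          ring
  · -- SecB
    right; right
    have hcard : T.card = 1 := by
      rcases hα with ⟨hx1, hx2⟩ | ⟨hx1, hx2⟩ <;>
        rw [hθ, hx1, hx2, hβ1, hβ2] at E3 <;>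
        (try rw [sb₁] at E3) <;> (try rw [sb₂] at E3) <;> (try rw [sa₁] at E3) <;>
        (try rw [sa₂] at E3) <;> norm_num at E3 <;> omega
    obtain ⟨γ, hTeq⟩ := Finset.card_eq_one.1 hcard
    have hγT : γ ∈ T := by rw [hTeq]; simp
    obtain ⟨hz1, hL1⟩ := (hTmem γ).1 hγT
    have hL1' := hL1
    rw [hLmem, not_or, not_or, not_or, not_or, not_or] at hL1'
    obtain ⟨p1, p2, p3, p4, p5, p6⟩ := hL1'
    have hnew : ∀ i, z i ≠ 0 → i ∉ [o, θ, α₁, α₂, β₁, β₂] → i = γ := by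
      intro i hi hiL
      have : i ∈ T := (hTmem i).2 ⟨hi, hiL⟩
      rw [hTeq] at this
      simpa using this
    rcases hα with ⟨hx1, hx2⟩ | ⟨hx1, hx2⟩
    · refine ⟨α₁, a₁, γ, z γ, Or.inl ⟨rfl, rfl⟩, hL1, K1c_sign_of_ne _ (hb γ) hz1, ?_⟩
      intro i
      have := K1c_four z β₁ β₂ α₁ γ n15 (Ne.symm n11) (Ne.symm p5) (Ne.symm n12) (Ne.symm p6)
        (Ne.symm p3)
        (by
          intro i i1 i2 i3 i4
          by_contra hzi
          by_cases hiL : i ∈ [o, θ, α₁, α₂, β₁, β₂]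
          · rw [hLmem] at hiL
            rcases hiL with rfl | rfl | rfl | rfl | rfl | rfl
            · exact hzi hz0
            · exact hzi hθ
            · exact i3 rfl
            · exact hzi hx2
            · exact i1 rfl
            · exact i2 rfl
          · exact i4 (hnew i hzi hiL)) i
      rw [this, hβ1, hβ2, hx1]
    · refine ⟨α₂, a₂, γ, z γ, Or.inr ⟨rfl, rfl⟩, hL1, K1c_sign_of_ne _ (hb γ) hz1, ?_⟩
      intro i
      have := K1c_four z β₁ β₂ α₂ γ n15 (Ne.symm n13) (Ne.symm p5) (Ne.symm n14) (Ne.symm p6)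
        (Ne.symm p4)
        (by
          intro i i1 i2 i3 i4
          by_contra hzi
          by_cases hiL : i ∈ [o, θ, α₁, α₂, β₁, β₂]
          · rw [hLmem] at hiL
            rcases hiL with rfl | rfl | rfl | rfl | rfl | rfl
            · exact hzi hz0
            · exact hzi hθ
            · exact hzi hx1
            · exact i3 rfl
            · exact i1 rfl
            · exact i2 rfl
          · exact i4 (hnew i hzi hiL)) i
      rw [this, hβ1, hβ2, hx2]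

end

end Cfsg.Agent.Helper47.D8
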