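import Cfsg.Agent.Helper19.E8C.Facts

/-!
# S5751 farm (helper19), piece (XNEG): the root subgroup of `-p₄` meets `P_J` trivially and
`n_{p₄} ∉ P_J` (helper47)
-/

set_option autoImplicit false

namespace Cfsg.Agent.Helper47.E8C

open Cfsg Cfsg.Lie Cfsg.Agent.Helper18 Cfsg.Agent.Helper19.Poinc Cfsg.Agent.Helper19.E8C

variable {F : Type*} [Field F]

theorem XNEG_lev_109 : lev 109 = -1 := by decide +kernel

/-! ### (XNEG) -/
theorem xnegFact (h2 : (2 : F) = 0) (hc : CmpFacts F) : XnegFact F := by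
  intro t ht
  have h109 : 109 < chevE8.nroots := by rw [nroots_eq]; omega
  have h0 : cmp (xGL chevE8 F 109 t) 109 (jOdd 109) = 0 := by
    apply hc.zero 0 _ (hc.plow ht) 109 (jOdd 109)
    rw [XNEG_lev_109]
    simp
  rw [hc.gen_self h2 109 h109 t] at h0
  exact h0

theorem nB_not_mem_PJ (h31 : NConjHyp chevE8 F) (hx : XnegFact F) : nB F ∉ PJ F := by
  intro hn
  obtain ⟨η, hη, h⟩ := npGL_conj_xGL chevE8 hE8 h31 3 (by rw [rank_eq]; omega)
  have h130 : 130 < chevE8.nroots := by rw [nroots_eq]; omega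
  have hx130 : xGL chevE8 F 130 (1 : F) ∈ PJ F :=
    xGL_mem_PJ F 130 h130 (by rw [lev_simple_three]; omega) 1
  have h1 := h (1 : F)
  rw [simple_three, neg_eq 130 h130] at h1
  have hmem : xGL chevE8 F (239 - 130) ((η : F) * 1) ∈ PJ F := by
    rw [← h1]
    exact Subgroup.mul_mem _ (Subgroup.mul_mem _ hn hx130) (Subgroup.inv_mem _ hn)
  have h0 : (η : F) * 1 = 0 := hx _ hmem
  rw [mul_one] at h0
  rcases hη with rfl | rfl
  · simp at h0
  · simp at h0

end Cfsg.Agent.Helper47.E8C
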