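import Cfsg.Prelude.Def_LocalStructure
import Cfsg.Agent.Lib.Cores
import Cfsg.Agent.Helper64.Basic
import Cfsg.Agent.Helper47.Basic

set_option autoImplicit false

namespace Cfsg.Agent.Helper47

open Cfsg

variable {H : Type*} [Group H]

/-- In a `Y`-minimal finite group every proper subgroup containing `Y` lies in the unique maximal
subgroup over `Y`. -/
theorem IsMinimalOver.le_of_ne_top [Finite H] {Y M : Subgroup H} (hmin : Cfsg.IsMinimalOver Y)
    (hM : IsCoatom M ∧ Y ≤ M) {X : Subgroup H} (hYX : Y ≤ X) (hX : X ≠ ⊤) : X ≤ M := by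
  obtain ⟨M', hM', hXM'⟩ := Cfsg.Agent.Helper64.exists_coatom_ge X hX
  obtain ⟨M₀, -, huniq⟩ := hmin.2
  have h1 : M' = M₀ := huniq M' ⟨hM', hYX.trans hXM'⟩
  have h2 : M = M₀ := huniq M hM
  rw [h2, ← h1]; exact hXM'

/-- If `T ⊔ N = ⊤` for a `p`-subgroup `T` and a normal subgroup `N`, then `H ⧸ N` is a `p`-group. -/
theorem isPGroup_quotient_of_sup_eq_top {p : ℕ} {T N : Subgroup H} [N.Normal] (hT : IsPGroup p T)
    (h : T ⊔ N = ⊤) : IsPGroup p (H ⧸ N) := by
  have hmap : T.map (QuotientGroup.mk' N) = ⊤ := by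
    have h1 : (T ⊔ N).map (QuotientGroup.mk' N) = ⊤ := by
      rw [h, ← MonoidHom.range_eq_map, MonoidHom.range_eq_top]
      exact QuotientGroup.mk'_surjective N
    rw [Subgroup.map_sup, QuotientGroup.map_mk'_self, sup_bot_eq] at h1
    exact h1
  intro q
  have hq : q ∈ T.map (QuotientGroup.mk' N) := hmap ▸ Subgroup.mem_top q
  obtain ⟨t, ht, rfl⟩ := hq
  obtain ⟨k, hk⟩ := hT ⟨t, ht⟩
  refine ⟨k, ?_⟩
  have hk' : t ^ p ^ k = 1 := by simpa using congrArg Subtype.val hk
  rw [← map_pow, hk', map_one]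

/-- A group with a normal Sylow `p`-subgroup is `p`-closed. -/
theorem isPClosed_of_normal_sylow [Finite H] {p : ℕ} [Fact p.Prime] (Q : Sylow p H)
    (hQ : (Q : Subgroup H).Normal) : Cfsg.IsPClosed p H := by
  intro P
  obtain ⟨g, hg⟩ := MulAction.exists_smul_eq H Q P
  have : g • Q = Q := Sylow.smul_eq_of_normal
  rw [← hg, this]; exact hQ

end Cfsg.Agent.Helper47

namespace Cfsg.Agent.Helper47

/-- The image of a maximal subgroup containing the kernel under a surjective homomorphism is
maximal. -/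
theorem isCoatom_map_of_ker_le {G G' : Type*} [Group G] [Group G'] {f : G →* G'}
    (hf : Function.Surjective f) {M : Subgroup G} (hker : f.ker ≤ M) (hM : IsCoatom M) :
    IsCoatom (M.map f) := by
  refine ⟨fun h => ?_, fun b hb => ?_⟩
  · have h1 := congrArg (Subgroup.comap f) h
    rw [Subgroup.comap_map_eq_self hker, Subgroup.comap_top] at h1
    exact hM.1 h1
  · have h1 : M < b.comap f := by
      have := (Subgroup.comap_lt_comap_of_surjective hf).mpr hb
      rwa [Subgroup.comap_map_eq_self hker] at this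
    have h2 := hM.2 _ h1
    rw [← Subgroup.map_comap_eq_self_of_surjective hf b, h2, Subgroup.map_top_of_surjective f hf]

end Cfsg.Agent.Helper47
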