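import Mathlib.GroupTheory.Frattini
import Cfsg.Agent.Helper47.Minimal
import Cfsg.Agent.Helper49.SylowExtra
import Cfsg.Agent.Helper46.SylowIn

/-!
# `Y`-minimal groups: normal subgroups inside the maximal subgroup (helper47)
-/

set_option autoImplicit false

namespace Cfsg.Agent.Helper47

open Cfsg

/-- If `K = ker φ` and the codomain of `φ` is nilpotent, then `A ⧸ K` is nilpotent. -/
theorem isNilpotent_quotient_of_eq_ker {A B : Type*} [Group A] [Group B] (φ : A →* B)
    [hB : Group.IsNilpotent B] (K : Subgroup A) [hKn : K.Normal] (hK : K = φ.ker) :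
    Group.IsNilpotent (A ⧸ K) := by
  subst hK
  refine Subgroup.isNilpotent_of_ker_le_center (QuotientGroup.kerLift φ) ?_
  rw [(MonoidHom.ker_eq_bot_iff _).mpr (QuotientGroup.kerLift_injective φ)]
  exact bot_le

section

variable {L : Type*} [Group L] [Finite L] {p : ℕ} [hp : Fact p.Prime]

/-- A normal Sylow `p`-subgroup is the `p`-core. -/
theorem pCore_eq_of_normal_sylow (S : Sylow p L) (hS : (S : Subgroup L).Normal) :
    Cfsg.pCore p L = (S : Subgroup L) :=
  le_antisymm (Cfsg.Agent.Helper46.pCore_le_sylow S) (Cfsg.Agent.Helper46.le_pCore hS S.isPGroup')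

/-- If a Sylow `p`-subgroup is normal then the quotient by the `p`-core has order prime to `p`. -/
theorem card_quotient_pCore_coprime_of_normal_sylow (S : Sylow p L)
    (hS : (S : Subgroup L).Normal) : (Nat.card (L ⧸ Cfsg.pCore p L)).Coprime p := by
  have h1 : Nat.card (L ⧸ Cfsg.pCore p L) = (Cfsg.pCore p L).index := by
    rw [Subgroup.index_eq_card]
  rw [h1, pCore_eq_of_normal_sylow S hS]
  exact ((Nat.Prime.coprime_iff_not_dvd hp.out).mpr S.not_dvd_index).symm

end

end Cfsg.Agent.Helper47
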