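import Cfsg.Agent.Helper47.YL4
import Cfsg.Agent.Helper47.YMin
import Cfsg.Agent.Helper47.Large
import Cfsg.Agent.Helper49.SylowExtra

/-!
# Towards the basic property `𝔐_H` (helper47)

Generic lemmas for S2846 / S2847.
-/

set_option autoImplicit false

namespace Cfsg.Agent.Helper47

open Cfsg Cfsg.Agent.Helper46 Cfsg.Agent.Helper48

/-! ### A Frattini-quotient criterion -/

/-- Let `Q ≤ C` be normal subgroups of the finite group `G` with `|C : Q|` prime to `p`, `T` a Sylow
`p`-subgroup, and suppose that no proper subgroup `X ≥ T` satisfies `X C = G`. Then `C/Q ≤ Φ(G/Q)`. -/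
theorem map_le_frattini_of_min {G : Type*} [Group G] [Finite G] {p : ℕ} [hp : Fact p.Prime]
    (Q C : Subgroup G) [hQn : Q.Normal] [hCn : C.Normal] (hQC : Q ≤ C)
    (hidx : ¬ p ∣ Q.relIndex C) (T : Sylow p G)
    (hmin : ∀ X : Subgroup G, (T : Subgroup G) ≤ X → X ⊔ C = ⊤ → X = ⊤) :
    C.map (QuotientGroup.mk' Q) ≤ frattini (G ⧸ Q) := by
  have hπs : Function.Surjective (QuotientGroup.mk' Q) := QuotientGroup.mk'_surjective Q
  have hker : (QuotientGroup.mk' Q).ker = Q := QuotientGroup.ker_mk' Q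
  simp_rw [frattini, Order.radical, le_iInf_iff]
  intro Mb hMb
  rw [Subgroup.map_le_iff_le_comap]
  have hMco : IsCoatom (Mb.comap (QuotientGroup.mk' Q)) :=
    Subgroup.isCoatom_comap_of_surjective hπs hMb
  have hQM : Q ≤ Mb.comap (QuotientGroup.mk' Q) := by
    have := Subgroup.ker_le_comap (QuotientGroup.mk' Q) Mb
    rwa [hker] at this
  by_contra hCM
  have hsup : Mb.comap (QuotientGroup.mk' Q) ⊔ C = ⊤ := by
    apply hMco.2
    refine lt_of_le_of_ne le_sup_left (fun e => hCM ?_)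
    rw [e]; exact le_sup_right
  have hidx' : ¬ p ∣ (Mb.comap (QuotientGroup.mk' Q)).index := by
    have e1 : (Mb.comap (QuotientGroup.mk' Q)).index =
        (Mb.comap (QuotientGroup.mk' Q)).relIndex C := by
      rw [← Subgroup.relIndex_top_right, ← hsup,
        Cfsg.Agent.Helper49.relIndex_sup_eq_of_normal]
    have e2 : (Mb.comap (QuotientGroup.mk' Q)).relIndex C ∣ Q.relIndex C := by
      rw [← Subgroup.inf_relIndex_right (Mb.comap (QuotientGroup.mk' Q)) C]
      apply Subgroup.relIndex_dvd_of_le_left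
      exact le_inf hQM hQC
    intro hdvd
    exact hidx ((e1 ▸ hdvd).trans e2)
  obtain ⟨S⟩ : Nonempty (Sylow p (Mb.comap (QuotientGroup.mk' Q))) := inferInstance
  have hSp : IsPGroup p ((S : Subgroup (Mb.comap (QuotientGroup.mk' Q))).map
      (Mb.comap (QuotientGroup.mk' Q)).subtype) := S.isPGroup'.map _
  have hSidx : ¬ p ∣ ((S : Subgroup (Mb.comap (QuotientGroup.mk' Q))).map
      (Mb.comap (QuotientGroup.mk' Q)).subtype).index := by
    rw [Subgroup.index_map_subtype]
    intro hdvd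
    rcases (Nat.Prime.dvd_mul hp.out).mp hdvd with h | h
    · exact S.not_dvd_index h
    · exact hidx' h
  obtain ⟨h, -, hh⟩ := exists_conj_le_sylow (H := ⊤) (hSp.toSylow hSidx) le_top
    (Q := (T : Subgroup G)) le_top T.isPGroup'
  have hTM : conjSub h (T : Subgroup G) ≤ Mb.comap (QuotientGroup.mk' Q) := by
    refine hh.trans ?_
    show (S : Subgroup (Mb.comap (QuotientGroup.mk' Q))).map
      (Mb.comap (QuotientGroup.mk' Q)).subtype ≤ _
    exact Subgroup.map_subtype_le _
  -- the conjugate `X₂` of the maximal subgroup containing `T`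
  have hTX : (T : Subgroup G) ≤ conjSub h⁻¹ (Mb.comap (QuotientGroup.mk' Q)) := by
    intro t ht
    rw [mem_conjSub]
    have := hTM (conj_mem_conjSub (g := h) ht)
    simpa using this
  have hsup2 : conjSub h⁻¹ (Mb.comap (QuotientGroup.mk' Q)) ⊔ C = ⊤ := by
    have hC : conjSub h⁻¹ C = C := by
      apply Cfsg.Agent.Helper51.cj_eq_self_of_mem_normalizer
      rw [Subgroup.normalizer_eq_top_iff.mpr hCn]; trivial
    have h1 : conjSub h⁻¹ (Mb.comap (QuotientGroup.mk' Q) ⊔ C) =
        conjSub h⁻¹ (Mb.comap (QuotientGroup.mk' Q)) ⊔ conjSub h⁻¹ C := Subgroup.map_sup _ _ _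
    rw [hsup, hC] at h1
    rw [← h1]
    exact Subgroup.map_top_of_surjective _ (MulAut.conj h⁻¹).surjective
  have htop := hmin _ hTX hsup2
  apply hMco.1
  have h2 : conjSub h (conjSub h⁻¹ (Mb.comap (QuotientGroup.mk' Q))) = conjSub h ⊤ := by
    rw [htop]
  have h3 : conjSub h (conjSub h⁻¹ (Mb.comap (QuotientGroup.mk' Q))) =
      Mb.comap (QuotientGroup.mk' Q) := Cfsg.Agent.Helper51.cj_cj_inv h _
  rw [h3] at h2
  rw [h2]
  exact Subgroup.map_top_of_surjective _ (MulAut.conj h).surjective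

/-! ### `𝓛_H` -/

variable {H : Type*} [Group H] {p : ℕ}

theorem mem_charPSubgroups_iff {L : Subgroup H} :
    L ∈ Cfsg.charPSubgroups p H ↔ Cfsg.pCoreOf p L ≠ ⊥ ∧
      Subgroup.centralizer ((Cfsg.pCoreOf p L : Subgroup H) : Set H) ≤ Cfsg.pCoreOf p L := by
  unfold Cfsg.charPSubgroups Cfsg.pCoreOf
  rw [Set.mem_ofPred_eq]
  refine and_congr_left (fun _ => ?_)
  rw [Ne, Ne, Subgroup.map_eq_bot_iff_of_injective _ L.subtype_injective]

/-- Members of `𝓛_H` have characteristic `p`. -/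
theorem charP_of_mem_charPSubgroups {L : Subgroup H} (hL : L ∈ Cfsg.charPSubgroups p H) :
    Subgroup.centralizer (Cfsg.pCore p ↥L : Set ↥L) ≤ Cfsg.pCore p ↥L := by
  intro x hx
  have h1 : (x : H) ∈ Subgroup.centralizer ((Cfsg.pCoreOf p L : Subgroup H) : Set H) := by
    rw [Subgroup.mem_centralizer_iff]
    rintro _ ⟨y, hy, rfl⟩
    have := Subgroup.mem_centralizer_iff.mp hx y hy
    exact congrArg Subtype.val this
  obtain ⟨z, hz, hzx⟩ := (mem_charPSubgroups_iff.mp hL).2 h1
  have : z = x := Subtype.ext hzx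
  rw [← this]; exact hz

/-- Subgroups of a member of `𝓛_H` containing a Sylow `p`-subgroup of `H` lie in `𝓛_H`. -/
theorem mem_charPSubgroups_of_le [Finite H] [hp : Fact p.Prime] (T : Sylow p H)
    {M Mt : Subgroup H} (hTM : (T : Subgroup H) ≤ M) (hMMt : M ≤ Mt)
    (hMt : Mt ∈ Cfsg.charPSubgroups p H) : M ∈ Cfsg.charPSubgroups p H := by
  rw [mem_charPSubgroups_iff] at hMt ⊢
  have h1 : Cfsg.pCoreOf p Mt ≤ Cfsg.pCoreOf p M :=
    le_pCoreOf ((pCoreOf_le_sylow T (hTM.trans hMMt)).trans hTM) (pCoreOf_isPGroup Mt)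
      (hMMt.trans (pCoreOf_normalized Mt))
  refine ⟨fun h => hMt.1 (le_bot_iff.mp (h ▸ h1)), ?_⟩
  exact (Subgroup.centralizer_le h1).trans (hMt.2.trans h1)

/-- A nontrivial `p`-group has nontrivial `Ω₁ Z`. -/
theorem omegaOne_center_ne_bot [Finite H] [hp : Fact p.Prime] {T : Subgroup H} (hT : IsPGroup p T)
    (hne : T ≠ ⊥) :
    Cfsg.omegaOne p (T ⊓ Subgroup.centralizer (T : Set H)) ≠ ⊥ := by
  have h1 := inf_centralizer_ne_bot hT hne
  obtain ⟨a, ha, hord⟩ := Cfsg.Agent.Helper49.exists_orderOf_eq_of_isPGroup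
    (hT.to_le inf_le_left) h1
  intro hbot
  have h2 : a ∈ Cfsg.omegaOne p (T ⊓ Subgroup.centralizer (T : Set H)) :=
    Subgroup.subset_closure ⟨ha, by rw [← hord]; exact pow_orderOf_eq_one a⟩
  rw [hbot, Subgroup.mem_bot] at h2
  rw [h2, orderOf_one] at hord
  exact hp.out.one_lt.ne hord

/-- In a group of parabolic characteristic `p`, a maximal member `X ≥ T` of `𝓛_H` is the normalizer
of `Y_X`. -/
theorem normalizer_largestPReducedOf_eq [Finite H] [hp : Fact p.Prime]
    (hH : Cfsg.IsOfParabolicCharacteristic p H) (T : Sylow p H) {X : Subgroup H}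
    (hX : X ∈ Cfsg.maxCharPSubgroups p H) (hTX : (T : Subgroup H) ≤ X) :
    Subgroup.normalizer ((Cfsg.largestPReducedOf p X : Subgroup H) : Set H) = X := by
  have hXc := charP_of_mem_charPSubgroups hX.1
  have hXL := mem_charPSubgroups_iff.mp hX.1
  have hYr := isPRedIn_largestPReducedOf (p := p) X
  -- `Y_X ≠ 1`
  have hTne : (T : Subgroup H) ≠ ⊥ := by
    intro h
    apply hXL.1
    rw [eq_bot_iff, ← h]
    exact pCoreOf_le_sylow T hTX
  have hY1 : Cfsg.largestPReducedOf p X ≠ ⊥ := by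
    intro h
    apply omegaOne_center_ne_bot T.2 hTne
    rw [eq_bot_iff, ← h]
    exact (omega_center_le_sylowCenterClosure (isSylIn_of_sylow_le T hTX)).trans
      (isPRedIn_sylowCenterClosure (isCharPIn_of_subtype hXc)).le_largestPReducedOf
  have hYp : IsPGroup p (Cfsg.largestPReducedOf p X) :=
    Cfsg.Agent.Lib.isElementaryAbelian_isPGroup hYr.isElementaryAbelian
  have hXN : X ≤ Subgroup.normalizer ((Cfsg.largestPReducedOf p X : Subgroup H) : Set H) :=
    hYr.le_normalizer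
  have hpar : Cfsg.IsParabolic p
      (Subgroup.normalizer ((Cfsg.largestPReducedOf p X : Subgroup H) : Set H)) :=
    ⟨T, hTX.trans hXN⟩
  have hNc := hH _ hYp hY1 hpar
  -- `N(Y_X) ∈ 𝓛_H`
  have hYN : Cfsg.largestPReducedOf p X ≤
      Cfsg.pCoreOf p (Subgroup.normalizer ((Cfsg.largestPReducedOf p X : Subgroup H) : Set H)) :=
    le_pCoreOf Subgroup.le_normalizer hYp le_rfl
  have hN : Subgroup.normalizer ((Cfsg.largestPReducedOf p X : Subgroup H) : Set H) ∈
      Cfsg.charPSubgroups p H := by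
    rw [mem_charPSubgroups_iff]
    refine ⟨fun h => hY1 (le_bot_iff.mp (h ▸ hYN)), ?_⟩
    intro c hc
    have hcN : c ∈ Subgroup.normalizer ((Cfsg.largestPReducedOf p X : Subgroup H) : Set H) :=
      Subgroup.centralizer_le_normalizer _ (Subgroup.centralizer_le hYN hc)
    exact (isCharPIn_of_subtype hNc) ⟨hcN, hc⟩
  exact hX.2 _ hN hXN

/-- If `M ≥ T` covers `M̃` modulo `C_{M̃}(Y_{M̃})`, then `Y_M = Y_{M̃}`. -/
theorem largestPReducedOf_eq_of_sup_eq [Finite H] [hp : Fact p.Prime] (T : Sylow p H)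
    {M Mt : Subgroup H} (hTM : (T : Subgroup H) ≤ M) (hMMt : M ≤ Mt)
    (hMt : Mt ∈ Cfsg.charPSubgroups p H)
    (hfac : M ⊔ (Mt ⊓ Subgroup.centralizer ((Cfsg.largestPReducedOf p Mt : Subgroup H) : Set H)) =
      Mt) : Cfsg.largestPReducedOf p M = Cfsg.largestPReducedOf p Mt := by
  have hYt := isPRedIn_largestPReducedOf (p := p) Mt
  apply le_antisymm
  · exact (isPRedIn_largestPReducedOf (p := p) M).le_largestPReducedOf_of_parabolic
      (charP_of_mem_charPSubgroups hMt) T hTM hMMt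
  · have hYM : Cfsg.largestPReducedOf p Mt ≤ M :=
      (hYt.le_pCoreOf.trans (pCoreOf_le_sylow T (hTM.trans hMMt))).trans hTM
    have hfac' : M ⊔ Subgroup.centralizer ((Cfsg.largestPReducedOf p Mt : Subgroup H) : Set H) =
        Mt ⊔ Subgroup.centralizer ((Cfsg.largestPReducedOf p Mt : Subgroup H) : Set H) := by
      apply le_antisymm (sup_le_sup_right hMMt _)
      refine sup_le ?_ le_sup_right
      conv_lhs => rw [← hfac]
      exact sup_le le_sup_left (inf_le_right.trans le_sup_right)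
    exact (hYt.of_sup_centralizer_eq hYM hfac').le_largestPReducedOf

end Cfsg.Agent.Helper47
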