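import Cfsg.Agent.Helper18.InvOdd.G2D

/-!
# S4279 piece (C5a) for helper18, core version: every element of `G₂(F)` commuting with `τ` has one of the four
parametrised shapes.  The pieces (CD) `cent_decomp` (at `D = chevG2`, with `UmD chevG2 n = Um n` by `rfl`),
(C2) `cent_U`, (C3) `cent_N` enter as hypotheses `hCD`, `hC2`, `hC3`.
-/

set_option autoImplicit false
set_option maxRecDepth 100000

namespace Cfsg.Agent.Helper47.G2OddSkel

open Cfsg Cfsg.Lie Cfsg.Agent.Helper18 Cfsg.Agent.Helper18.G2Odd Cfsg.Agent.Helper40.SL2Hom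

variable {F : Type*} [Field F]

/-- negative root elements lie in `V` -/
theorem G2CC5a_X_mem_neg (r : ℕ) (hr : r < 6) (t : F) : X r t ∈ chevG2.negUnipotent F := by
  apply Subgroup.subset_closure
  refine ⟨r, t, ?_, by rw [X, xGL_val chevG2 _ (triOK_of_mem chevG2 hG2)]⟩
  have : ∀ r < 6, chevG2.IsNegRoot r := by decide
  exact this r hr

/-- `U ⊓ V = ⊥` elementwise -/
theorem G2CC5a_eq_one_of_pos_of_neg (x : GL chevG2.Idx F) (hp : x ∈ chevG2.posUnipotent F)
    (hn : x ∈ chevG2.negUnipotent F) : x = 1 := by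
  have hB : x ∈ chevG2.borelSubgroup F := (le_sup_left : chevG2.posUnipotent F ≤ chevG2.borelSubgroup F) hp
  have : x ∈ chevG2.borelSubgroup F ⊓ chevG2.negUnipotent F := ⟨hB, hn⟩
  rw [(Cfsg.Agent.S1037.result (F := F) chevG2 hG2).1] at this
  exact Subgroup.mem_bot.1 this

/-- conjugation by `k * n_w`, `k ∈ H`, on a root element -/
theorem G2CC5a_conj_word (k : GL chevG2.Idx F) (hk : k ∈ chevG2.diagonalSubgroup F) (w : List ℕ)
    (hw : ∀ i ∈ w, i < 2) (s : ℕ) (hs : s < 12) :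
    ∃ c : F, c ≠ 0 ∧ ∀ t : F, (k * nW w) * X s t * (k * nW w)⁻¹ = X (rho chevG2 w s) (c * t) := by
  obtain ⟨c₀, c₁, rfl⟩ := (mem_diagonal_iff k).mp hk
  obtain ⟨hlt, η, hη, hconj⟩ := nW_conj (F := F) w hw s hs
  refine ⟨((chr (rho chevG2 w s) c₀ c₁ : Fˣ) : F) * η, ?_, fun t => ?_⟩
  · refine mul_ne_zero (Units.ne_zero _) ?_
    rcases hη with h | h <;> rw [h] <;> simp
  · have e : tor c₀ c₁ * nW w * X s t * (tor c₀ c₁ * nW w)⁻¹ =
        tor c₀ c₁ * (nW w * X s t * (nW w)⁻¹) * (tor c₀ c₁)⁻¹ := by group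
    rw [e, hconj t, tor_conj c₀ c₁ _ hlt, mul_assoc]

/-- (C5a), core version with explicit shapes -/
theorem G2CC5a_core
    (hCD : ∀ g : GL chevG2.Idx F, g ∈ chevG2.group F → g * tau = tau * g →
      ∃ u₁ ∈ chevG2.posUnipotent F, ∃ h ∈ chevG2.diagonalSubgroup F, ∃ n ∈ chevG2.monomialSubgroup F,
        ∃ u ∈ Um n, g = u₁ * h * n * u ∧ u₁ * tau = tau * u₁ ∧ n * tau = tau * n ∧ u * tau = tau * u)
    (hC2 : ∀ u : GL chevG2.Idx F, u ∈ chevG2.posUnipotent F → u * tau = tau * u →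
      ∃ s s' : F, u = X 6 s * X 9 s')
    (hC3 : ∀ n : GL chevG2.Idx F, n ∈ chevG2.monomialSubgroup F → n * tau = tau * n →
      ∃ k ∈ chevG2.diagonalSubgroup F, ∃ w ∈ [[], [1], [0, 1, 0, 1, 0], [0, 1, 0, 1, 0, 1]], n = k * nW w)
    (g : GL chevG2.Idx F) (hg : g ∈ chevG2.group F) (hc : g * tau = tau * g) :
    ∃ (a b : F) (k : GL chevG2.Idx F), k ∈ chevG2.diagonalSubgroup F ∧
      (g = X 6 a * X 9 b * k * 1 ∨
        (∃ s : F, g = X 6 a * X 9 b * k * (nW [1] * X 6 s)) ∨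
        (∃ s' : F, g = X 6 a * X 9 b * k * (nW [0, 1, 0, 1, 0] * X 9 s')) ∨
        (∃ s s' : F, g = X 6 a * X 9 b * k * (nW [0, 1, 0, 1, 0, 1] * (X 6 s * X 9 s')))) := by
  obtain ⟨u₁, hu₁, h, hh, n, hn, u, hu, hgeq, hc1, hcn, hcu⟩ := hCD g hg hc
  obtain ⟨a, b, rfl⟩ := hC2 u₁ hu₁ hc1
  obtain ⟨s, s', hus⟩ := hC2 u (Um_le_pos n hu) hcu
  obtain ⟨k', hk', w, hw, hnw⟩ := hC3 n hn hcn
  have hneg := conj_Um_mem_neg n u hu
  refine ⟨a, b, h * k', mul_mem hh hk', ?_⟩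
  have hwlt : ∀ i ∈ w, i < 2 := by
    simp only [List.mem_cons, List.not_mem_nil, or_false] at hw
    rcases hw with rfl | rfl | rfl | rfl <;> decide
  obtain ⟨c6, hc6, h6⟩ := G2CC5a_conj_word k' hk' w hwlt 6 (by decide)
  obtain ⟨c9, hc9, h9⟩ := G2CC5a_conj_word k' hk' w hwlt 9 (by decide)
  have hconj : n * u * n⁻¹ = X (rho chevG2 w 6) (c6 * s) * X (rho chevG2 w 9) (c9 * s') := by
    rw [hus, hnw, ← h6 s, ← h9 s']
    group
  rw [hconj] at hneg
  simp only [List.mem_cons, List.not_mem_nil, or_false] at hw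
  rcases hw with rfl | rfl | rfl | rfl
  · -- w = []
    left
    have e6 : rho chevG2 [] 6 = 6 := by decide
    have e9 : rho chevG2 [] 9 = 9 := by decide
    rw [e6, e9] at hneg
    have hpos : X 6 (c6 * s) * X 9 (c9 * s') ∈ chevG2.posUnipotent F :=
      mul_mem (X_mem_pos 6 (by decide) _) (X_mem_pos 9 (by decide) _)
    have h1 := G2CC5a_eq_one_of_pos_of_neg _ hpos hneg
    rw [e6, e9, h1] at hconj
    have hu1 : u = 1 := by
      have : u = n⁻¹ * (n * u * n⁻¹) * n := by group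
      rw [this, hconj]; group
    rw [hgeq, hu1, hnw, nW_nil]
    group
  · -- w = [1]
    right; left
    have e6 : rho chevG2 [1] 6 = 5 := by decide
    have e9 : rho chevG2 [1] 9 = 9 := by decide
    rw [e6, e9] at hneg
    have h5 : X 5 (c6 * s) ∈ chevG2.negUnipotent F := G2CC5a_X_mem_neg 5 (by decide) _
    have h9n : X 9 (c9 * s') ∈ chevG2.negUnipotent F := by
      have : X 9 (c9 * s') = (X 5 (c6 * s))⁻¹ * (X 5 (c6 * s) * X 9 (c9 * s')) := by group
      rw [this]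
      exact mul_mem (inv_mem h5) hneg
    have h1 := G2CC5a_eq_one_of_pos_of_neg _ (X_mem_pos 9 (by decide) _) h9n
    have hz : c9 * s' = 0 := X_injective 9 (by decide) _ _ (by rw [h1, X_zero])
    have hs' : s' = 0 := by
      rcases mul_eq_zero.1 hz with h | h
      · exact absurd h hc9
      · exact h
    refine ⟨s, ?_⟩
    rw [hgeq, hus, hs', X_zero, hnw]
    group
  · -- w = [0,1,0,1,0]
    right; right; left
    have e6 : rho chevG2 [0, 1, 0, 1, 0] 6 = 6 := by decide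
    have e9 : rho chevG2 [0, 1, 0, 1, 0] 9 = 2 := by decide
    rw [e6, e9] at hneg
    have h2n : X 2 (c9 * s') ∈ chevG2.negUnipotent F := G2CC5a_X_mem_neg 2 (by decide) _
    have h6n : X 6 (c6 * s) ∈ chevG2.negUnipotent F := by
      have : X 6 (c6 * s) = (X 6 (c6 * s) * X 2 (c9 * s')) * (X 2 (c9 * s'))⁻¹ := by group
      rw [this]
      exact mul_mem hneg (inv_mem h2n)
    have h1 := G2CC5a_eq_one_of_pos_of_neg _ (X_mem_pos 6 (by decide) _) h6n
    have hz : c6 * s = 0 := X_injective 6 (by decide) _ _ (by rw [h1, X_zero])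
    have hs0 : s = 0 := by
      rcases mul_eq_zero.1 hz with h | h
      · exact absurd h hc6
      · exact h
    refine ⟨s', ?_⟩
    rw [hgeq, hus, hs0, X_zero, hnw]
    group
  · -- w = w₀
    right; right; right
    refine ⟨s, s', ?_⟩
    rw [hgeq, hus, hnw]
    group

end Cfsg.Agent.Helper47.G2OddSkel
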