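import Cfsg.Agent.Helper40.G2Tor.Defs

/-!
# S2371 piece (DIAG) for helper40: `rho K (diag(a, b, (ab)⁻¹)) = tor (a b) (a² b)`

In `SL₃(K)`: `dg a b = H₁₂(a) H₂₃(a b)` with `H_ij(t) = W_ij(t) W_ij(1)⁻¹`; `rho` maps these to `hh 6 a`, `hh 10 (a b)`,
which are identified with `tor 1 a`, `tor (a b) (a b)` through their action on `X 7`, `X 6`.
-/

set_option autoImplicit false
set_option maxRecDepth 100000

namespace Cfsg.Agent.Helper47.G2Tor

open Cfsg Cfsg.Lie Cfsg.Agent.Helper18 Cfsg.Agent.Helper18.G2Odd Cfsg.Agent.Helper40.G2Tor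
  Cfsg.Agent.Helper40.SL2Hom

section sl3

variable {K : Type*} [Field K]

theorem DIAG_tv01 (t : K) : Matrix.transvection (0 : Fin 3) 1 t = !![1, t, 0; 0, 1, 0; 0, 0, 1] := by
  ext i j
  fin_cases i <;> fin_cases j <;> simp [Matrix.transvection, Matrix.single]

theorem DIAG_tv10 (t : K) : Matrix.transvection (1 : Fin 3) 0 t = !![1, 0, 0; t, 1, 0; 0, 0, 1] := by
  ext i j
  fin_cases i <;> fin_cases j <;> simp [Matrix.transvection, Matrix.single]

theorem DIAG_tv12 (t : K) : Matrix.transvection (1 : Fin 3) 2 t = !![1, 0, 0; 0, 1, t; 0, 0, 1] := by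
  ext i j
  fin_cases i <;> fin_cases j <;> simp [Matrix.transvection, Matrix.single]

theorem DIAG_tv21 (t : K) : Matrix.transvection (2 : Fin 3) 1 t = !![1, 0, 0; 0, 1, 0; 0, t, 1] := by
  ext i j
  fin_cases i <;> fin_cases j <;> simp [Matrix.transvection, Matrix.single]

theorem DIAG_dg_val (a b : Kˣ) :
    ((dg a b : SL3 K) : Matrix (Fin 3) (Fin 3) K) = !![(a : K), 0, 0; 0, (b : K), 0; 0, 0, ((a * b)⁻¹ : Kˣ)] := by
  ext i j
  fin_cases i <;> fin_cases j <;> simp [dg, Matrix.diagonal]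

/-- `W₁₂(t)` as a matrix -/
theorem DIAG_w01 (t : K) (ht : t ≠ 0) :
    ((w (tv K 0 1 (by decide)) (tv K 1 0 (by decide)) t : SL3 K) : Matrix (Fin 3) (Fin 3) K)
      = !![0, t, 0; -t⁻¹, 0, 0; 0, 0, 1] := by
  have e : ((w (tv K 0 1 (by decide)) (tv K 1 0 (by decide)) t : SL3 K) : Matrix (Fin 3) (Fin 3) K)
      = Matrix.transvection (0 : Fin 3) 1 t * Matrix.transvection (1 : Fin 3) 0 (-t⁻¹)
        * Matrix.transvection (0 : Fin 3) 1 t := rfl
  rw [e, DIAG_tv01, DIAG_tv10, Matrix.mul_fin_three, Matrix.mul_fin_three]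
  ext i j
  fin_cases i <;> fin_cases j <;> simp <;> field_simp <;> norm_num

/-- `W₂₃(t)` as a matrix -/
theorem DIAG_w12 (t : K) (ht : t ≠ 0) :
    ((w (tv K 1 2 (by decide)) (tv K 2 1 (by decide)) t : SL3 K) : Matrix (Fin 3) (Fin 3) K)
      = !![1, 0, 0; 0, 0, t; 0, -t⁻¹, 0] := by
  have e : ((w (tv K 1 2 (by decide)) (tv K 2 1 (by decide)) t : SL3 K) : Matrix (Fin 3) (Fin 3) K)
      = Matrix.transvection (1 : Fin 3) 2 t * Matrix.transvection (2 : Fin 3) 1 (-t⁻¹)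
        * Matrix.transvection (1 : Fin 3) 2 t := rfl
  rw [e, DIAG_tv12, DIAG_tv21, Matrix.mul_fin_three, Matrix.mul_fin_three]
  ext i j
  fin_cases i <;> fin_cases j <;> simp <;> field_simp <;> norm_num

/-- `H₁₂(a) = diag(a, a⁻¹, 1)` -/
theorem DIAG_h01 (a : Kˣ) :
    h (tv K 0 1 (by decide)) (tv K 1 0 (by decide)) (a : K) = dg a a⁻¹ := by
  unfold h
  rw [mul_inv_eq_iff_eq_mul]
  apply Subtype.ext
  rw [Matrix.SpecialLinearGroup.coe_mul, DIAG_w01 _ a.ne_zero, DIAG_w01 _ one_ne_zero, DIAG_dg_val,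
    Matrix.mul_fin_three]
  ext i j
  fin_cases i <;> fin_cases j <;> simp

/-- `H₂₃(u) = diag(1, u, u⁻¹)` -/
theorem DIAG_h12 (u : Kˣ) :
    h (tv K 1 2 (by decide)) (tv K 2 1 (by decide)) (u : K) = dg 1 u := by
  unfold h
  rw [mul_inv_eq_iff_eq_mul]
  apply Subtype.ext
  rw [Matrix.SpecialLinearGroup.coe_mul, DIAG_w12 _ u.ne_zero, DIAG_w12 _ one_ne_zero, DIAG_dg_val,
    Matrix.mul_fin_three]
  ext i j
  fin_cases i <;> fin_cases j <;> simp

theorem DIAG_dg_split (a b : Kˣ) : dg a b = dg a a⁻¹ * dg 1 (a * b) := by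
  apply Subtype.ext
  rw [Matrix.SpecialLinearGroup.coe_mul, DIAG_dg_val, DIAG_dg_val, DIAG_dg_val, Matrix.mul_fin_three]
  ext i j
  fin_cases i <;> fin_cases j <;> simp

end sl3

section g2

variable {K : Type*} [Field K]

/-- a homomorphism maps `h x y t` to `h (f ∘ x) (f ∘ y) t` -/
theorem DIAG_map_h {Γ Δ : Type*} [Group Γ] [Group Δ] (f : Γ →* Δ) (x y : K → Γ) (t : K) :
    f (h x y t) = h (fun s => f (x s)) (fun s => f (y s)) t := by
  unfold h w
  simp only [map_mul, map_inv]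

/-- `h_r(u)` as a torus element, through its action on `X 7`, `X 6` -/
theorem DIAG_hh_eq_tor (r : ℕ) (hr : r < 12) (u : Kˣ) :
    hh r (u : K) = tor (u ^ (2 * pairing' chevG2 r 7 + pairing' chevG2 r 6))
      (u ^ (3 * pairing' chevG2 r 7 + 2 * pairing' chevG2 r 6)) := by
  obtain ⟨c₀, c₁, e⟩ := (mem_diagonal_iff _).mp (hh_mem_diagonal (F := K) r hr (u : K) u.ne_zero)
  have key : ∀ s < 12, chr s c₀ c₁ = u ^ pairing' chevG2 r s := by
    intro s hs
    have h1 := hh_conj r s hr hs (u : K) 1 u.ne_zero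
    rw [e, tor_conj c₀ c₁ s hs] at h1
    have h2 := X_injective s hs _ _ h1
    rw [mul_one, mul_one] at h2
    apply Units.ext
    rw [h2, Units.val_zpow_eq_zpow_val]
  have h7 := key 7 (by decide)
  have h6 := key 6 (by decide)
  have e0 : c₀ = chr 7 c₀ c₁ ^ (2 : ℤ) * chr 6 c₀ c₁ := by
    rw [chr7, chr6, mul_zpow, ← zpow_mul, ← zpow_mul, mul_mul_mul_comm, ← zpow_add, ← zpow_add]
    norm_num
  have e1 : c₁ = chr 7 c₀ c₁ ^ (3 : ℤ) * chr 6 c₀ c₁ ^ (2 : ℤ) := by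
    rw [chr7, chr6, mul_zpow, mul_zpow, ← zpow_mul, ← zpow_mul, ← zpow_mul, ← zpow_mul, mul_mul_mul_comm, ← zpow_add,
      ← zpow_add]
    norm_num
  rw [h7, h6] at e0 e1
  rw [e]
  congr 1
  · rw [e0, ← zpow_mul, ← zpow_add]
    congr 1
    ring
  · rw [e1, ← zpow_mul, ← zpow_mul, ← zpow_add]
    congr 1
    ring

theorem DIAG_hh6 (a : Kˣ) : hh 6 (a : K) = tor 1 a := by
  rw [DIAG_hh_eq_tor 6 (by decide) a]
  have p7 : pairing' chevG2 6 7 = -1 := by decide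
  have p6 : pairing' chevG2 6 6 = 2 := by decide
  rw [p7, p6]
  norm_num

theorem DIAG_hh10 (u : Kˣ) : hh 10 (u : K) = tor u u := by
  rw [DIAG_hh_eq_tor 10 (by decide) u]
  have p7 : pairing' chevG2 10 7 = 1 := by decide
  have p6 : pairing' chevG2 10 6 = -1 := by decide
  rw [p7, p6]
  norm_num

/-- (DIAG) -/
theorem rho_dg {K : Type*} [Field K] [Finite K] (a b : Kˣ) : rho K (dg a b) = tor (a * b) (a ^ 2 * b) := by
  rw [DIAG_dg_split, map_mul, ← DIAG_h01, ← DIAG_h12 (a * b), DIAG_map_h, DIAG_map_h]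
  have e01 : (fun s => rho K (tv K 0 1 (by decide) s)) = X (F := K) 6 :=
    funext fun s => rho_tv 0 1 (by decide) s
  have e10 : (fun s => rho K (tv K 1 0 (by decide) s)) = X (F := K) (11 - 6) :=
    funext fun s => rho_tv 1 0 (by decide) s
  have e12 : (fun s => rho K (tv K 1 2 (by decide) s)) = X (F := K) 10 :=
    funext fun s => rho_tv 1 2 (by decide) s
  have e21 : (fun s => rho K (tv K 2 1 (by decide) s)) = X (F := K) (11 - 10) :=
    funext fun s => rho_tv 2 1 (by decide) s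
  rw [e01, e10, e12, e21]
  have f6 : h (X (F := K) 6) (X (11 - 6)) (a : K) = hh 6 (a : K) := rfl
  have f10 : h (X (F := K) 10) (X (11 - 10)) ((a * b : Kˣ) : K) = hh 10 ((a * b : Kˣ) : K) := rfl
  rw [f6, f10, DIAG_hh6, DIAG_hh10, tor_mul, one_mul]
  congr 1
  rw [pow_two, mul_assoc]

end g2

end Cfsg.Agent.Helper47.G2Tor
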