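import Cfsg.Agent.Helper88.CtrlChain
import Cfsg.Agent.Helper88.FusionNormalCrit
import Cfsg.Agent.Helper84.KNorm
import Cfsg.Agent.Helper51.WCUtil
import Cfsg.Agent.Helper2.FusTh7

/-!
# Utilities for the generation theorem `F = ⟨C_F(℧¹(Z(S))), N_F(J(S))⟩` (helper47; S5220)
-/

set_option autoImplicit false
set_option linter.unusedSectionVars false

namespace Cfsg.Agent.Helper47.Gen

open Cfsg Cfsg.FusionSystem Cfsg.Agent.Helper87

universe u

variable {Ω : Type u} [Group Ω] {S : Subgroup Ω}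

/-! ### The intersection of two systems -/

/-- The maps of `F` which are maps of `E`, as a fusion system over `S`. -/
def interSys (F : FusionSystem S) {S' : Subgroup Ω} (E : FusionSystem S')
    (hconj : ∀ (P : Subgroup Ω) (g : Ω), P ≤ S → g ∈ S → conjHom P g ∈ E.Hom P) : FusionSystem S where
  Hom P := {φ | φ ∈ F.Hom P ∧ φ ∈ E.Hom P}
  le_of_mem h := F.le_of_mem h.1
  injective_of_mem h := F.injective_of_mem h.1
  conj_mem hP hg := ⟨F.conj_mem hP hg, hconj _ _ hP hg⟩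
  comp_mem h1 h2 h := ⟨F.comp_mem h1.1 h2.1 h, E.comp_mem h1.2 h2.2 h⟩
  inv_mem := by
    intro P φ hφ
    obtain ⟨ψ, hψ, hψx⟩ := F.inv_mem hφ.1
    obtain ⟨ψ', hψ', hψ'x⟩ := E.inv_mem hφ.2
    have : ψ = ψ' := by
      ext ⟨_, x, rfl⟩
      rw [hψx, hψ'x]
    exact ⟨ψ, ⟨hψ, this ▸ hψ'⟩, hψx⟩

theorem mem_interSys_iff (F : FusionSystem S) {S' : Subgroup Ω} (E : FusionSystem S')
    (hconj : ∀ (P : Subgroup Ω) (g : Ω), P ≤ S → g ∈ S → conjHom P g ∈ E.Hom P) {P : Subgroup Ω} (φ : P →* Ω) :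
    φ ∈ (interSys F E hconj).Hom P ↔ φ ∈ F.Hom P ∧ φ ∈ E.Hom P := Iff.rfl

/-! ### Transport -/

/-- If `χ` is a map of `E` on `N`, `ψ` is a map from `A ≤ N` into `N` whose transport along `χ` is a map of `E`, then
`ψ` is a map of `E`. -/
theorem transport_mem {S' : Subgroup Ω} (E : FusionSystem S') {N A : Subgroup Ω} {χ : N →* Ω} (hχ : χ ∈ E.Hom N)
    (hAN : A ≤ N) {ψ : A →* Ω} (hψN : ∀ x : A, ψ x ∈ N)
    {ψ' : (χ.comp (Subgroup.inclusion hAN)).range →* Ω}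
    (hψ' : ψ' ∈ E.Hom (χ.comp (Subgroup.inclusion hAN)).range)
    (hval : ∀ x : A, ψ' ⟨χ (Subgroup.inclusion hAN x), ⟨x, rfl⟩⟩ = χ ⟨ψ x, hψN x⟩) : ψ ∈ E.Hom A := by
  have hχA : χ.comp (Subgroup.inclusion hAN) ∈ E.Hom A := restrict_mem E hχ hAN
  have h1 : ∀ x : A, (χ.comp (Subgroup.inclusion hAN)) x ∈ (χ.comp (Subgroup.inclusion hAN)).range :=
    fun x => ⟨x, rfl⟩
  have hθ := E.comp_mem hχA hψ' h1
  obtain ⟨κ, hκ, hκx⟩ := E.inv_mem hχ
  have h2 : ∀ x : A, (ψ'.comp ((χ.comp (Subgroup.inclusion hAN)).codRestrict _ h1)) x ∈ χ.range := by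
    intro x
    refine ⟨⟨ψ x, hψN x⟩, ?_⟩
    exact (hval x).symm
  have h3 := E.comp_mem hθ hκ h2
  refine mem_of_eq E h3 (fun x => ?_)
  show ψ x = κ ⟨ψ' ⟨χ (Subgroup.inclusion hAN x), ⟨x, rfl⟩⟩, h2 x⟩
  have h4 : (⟨ψ' ⟨χ (Subgroup.inclusion hAN x), ⟨x, rfl⟩⟩, h2 x⟩ : χ.range) =
      ⟨χ ⟨ψ x, hψN x⟩, ⟨⟨ψ x, hψN x⟩, rfl⟩⟩ := Subtype.ext (hval x)
  rw [h4, hκx]

/-! ### Normalizer growth -/

/-- If `D ≤ S` is normal in the finite `p`-group `S` and `N_S(R) ∩ D ≤ R`, then `D ≤ R`. -/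
theorem le_of_normalizerIn_inf_le [Finite S] {p : ℕ} [Fact p.Prime] (hS : IsPGroup p S) {D R : Subgroup Ω}
    (hDS : D ≤ S) (hRS : R ≤ S) (hD : ∀ g ∈ S, ∀ x ∈ D, g * x * g⁻¹ ∈ D)
    (h : normalizerIn S R ⊓ D ≤ R) : D ≤ R := by
  by_contra hnot
  have hKS : D ⊔ R ≤ S := sup_le hDS hRS
  have hlt : R < D ⊔ R := lt_of_le_of_ne le_sup_right (fun h' => hnot (h' ▸ le_sup_left))
  have hfin : Finite ↥(D ⊔ R) := finite_of_le hKS
  have hp' : IsPGroup p ↥(D ⊔ R) := hS.to_le hKS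
  obtain ⟨g, hgN, hgP⟩ := SetLike.exists_of_lt (lt_normalizerIn hp' hlt)
  obtain ⟨u, hu, r, hr, rfl⟩ := Cfsg.Agent.Helper88.FS.exists_mul_of_mem_sup hRS hD hgN.1
  apply hgP
  have huN : u ∈ Subgroup.normalizer (R : Set Ω) := by
    have h1 : u = u * r * r⁻¹ := by group
    rw [h1]
    exact Subgroup.mul_mem _ hgN.2 (Subgroup.inv_mem _ (Subgroup.le_normalizer hr))
  exact R.mul_mem (h ⟨⟨hDS hu, huN⟩, hu⟩) hr

/-! ### The Thompson subgroup of a finite subgroup of a possibly infinite group -/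

section J

open Cfsg.Agent.Helper51.WC

theorem AA_nonempty' (T : Subgroup Ω) [Finite T] : (AA T).Nonempty := by
  obtain ⟨m, ⟨A, hAT, hAc, rfl⟩, hmax⟩ := exists_max_nat
    {n | ∃ A : Subgroup Ω, A ≤ T ∧ IsMulCommutative A ∧ n = Nat.card A}
    ⟨_, ⊥, bot_le, by
      refine ⟨⟨fun a b => ?_⟩⟩
      have ha : a = 1 := Subsingleton.elim _ _
      have hb : b = 1 := Subsingleton.elim _ _
      rw [ha, hb], rfl⟩ (Nat.card T) (by
      rintro n ⟨A, hAT, -, rfl⟩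
      exact Subgroup.card_le_of_le hAT)
  exact ⟨A, hAT, hAc, fun B hB hBc => hmax _ ⟨B, hB, hBc, rfl⟩⟩

/-- an element of `T` commuting with a member of `𝒜(T)` lies in it -/
theorem mem_of_mem_AA_of_commute' {T A : Subgroup Ω} [Finite T] (hA : A ∈ AA T) {y : Ω} (hyT : y ∈ T)
    (hy : A ≤ Subgroup.centralizer ({y} : Set Ω)) : y ∈ A := by
  obtain ⟨hAT, hAc, hmax⟩ := hA
  have h1 : A ≤ Subgroup.centralizer ((Subgroup.zpowers y : Subgroup Ω) : Set Ω) := by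
    intro a ha
    rw [Subgroup.mem_centralizer_iff]
    intro z hz
    obtain ⟨k, rfl⟩ := Subgroup.mem_zpowers_iff.mp hz
    have := Subgroup.mem_centralizer_singleton_iff.mp (hy ha)
    exact ((Commute.zpow_left (show Commute y a from this.symm) k)).eq
  have h2 : IsMulCommutative ↥(A ⊔ Subgroup.zpowers y) :=
    isMulCommutative_sup hAc (isMulCommutative_zpowers y) h1
  have hle : A ⊔ Subgroup.zpowers y ≤ T := sup_le hAT (by rw [Subgroup.zpowers_le]; exact hyT)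
  have h3 := hmax _ hle h2
  have hfin : Finite ↥(A ⊔ Subgroup.zpowers y) := finite_of_le (S := T) hle
  have h4 : A = A ⊔ Subgroup.zpowers y := Subgroup.eq_of_le_of_card_ge le_sup_left h3
  rw [h4]
  exact le_sup_right (a := A) (Subgroup.mem_zpowers y)

/-- `C_T(J(T)) ≤ J(T)`. -/
theorem centralizerIn_J_le (T : Subgroup Ω) [Finite T] :
    centralizerIn T (Cfsg.thompsonSubgroupAOf T) ≤ Cfsg.thompsonSubgroupAOf T := by
  rw [thompsonSubgroupAOf_eq_JJ]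
  intro y hy
  obtain ⟨A, hA⟩ := AA_nonempty' T
  apply le_JJ hA
  apply mem_of_mem_AA_of_commute' hA hy.1
  intro a ha
  rw [Subgroup.mem_centralizer_singleton_iff]
  exact ((Subgroup.mem_centralizer_iff.mp hy.2) a (le_JJ hA ha))

/-- If `J(S) ≤ D ≤ S` then `J(D) = J(S)`. -/
theorem J_eq_of_le {T D : Subgroup Ω} [Finite T] (h1 : Cfsg.thompsonSubgroupAOf T ≤ D) (h2 : D ≤ T) :
    Cfsg.thompsonSubgroupAOf D = Cfsg.thompsonSubgroupAOf T := by
  rw [thompsonSubgroupAOf_eq_JJ, thompsonSubgroupAOf_eq_JJ] at *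
  have hfam : AA D = AA T := by
    obtain ⟨A₀, hA₀⟩ := AA_nonempty' T
    have hA₀H : A₀ ≤ D := (le_JJ hA₀).trans h1
    ext A
    constructor
    · rintro ⟨hAH, hg, hmax⟩
      refine ⟨hAH.trans h2, hg, fun B hB hgB => ?_⟩
      exact (hA₀.2.2 B hB hgB).trans (hmax A₀ hA₀H hA₀.2.1)
    · intro hA
      exact ⟨(le_JJ hA).trans h1, hA.2.1, fun B hB hgB => hA.2.2 B (hB.trans h2) hgB⟩
  show sSup (AA D) = sSup (AA T)
  rw [hfam]

end J

/-! ### Power closures of centres -/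

/-- `℧¹(Z(T))`. -/
abbrev Zp (p : ℕ) (T : Subgroup Ω) : Subgroup Ω :=
  Cfsg.powerClosure p 1 (T ⊓ Subgroup.centralizer (T : Set Ω))

theorem powerClosure_mono (p n : ℕ) {H K : Subgroup Ω} (h : H ≤ K) :
    Cfsg.powerClosure p n H ≤ Cfsg.powerClosure p n K := by
  unfold Cfsg.powerClosure
  apply Subgroup.closure_mono
  rintro y ⟨x, hx, rfl⟩
  exact ⟨x, h hx, rfl⟩

theorem powerClosure_le (p n : ℕ) (H : Subgroup Ω) : Cfsg.powerClosure p n H ≤ H := by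
  unfold Cfsg.powerClosure
  rw [Subgroup.closure_le]
  rintro y ⟨x, hx, rfl⟩
  exact H.pow_mem hx _

theorem Zp_le_center (p : ℕ) (T : Subgroup Ω) : Zp p T ≤ T ⊓ Subgroup.centralizer (T : Set Ω) :=
  powerClosure_le p 1 _

/-- If `T ≤ S` contains `Z(S)` then `℧¹(Z(S)) ≤ ℧¹(Z(T))`. -/
theorem Zp_le_Zp (p : ℕ) {T : Subgroup Ω} (hTS : T ≤ S)
    (hZ : S ⊓ Subgroup.centralizer (S : Set Ω) ≤ T) : Zp p S ≤ Zp p T := by
  apply powerClosure_mono
  intro z hz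
  refine ⟨hZ hz, ?_⟩
  show z ∈ Subgroup.centralizer (T : Set Ω)
  rw [Subgroup.mem_centralizer_iff]
  intro t ht
  exact (Subgroup.mem_centralizer_iff.mp hz.2) t (hTS ht)

/-- An element commuting with all `p`-th powers of elements of `V` centralizes `℧¹(V)`. -/
theorem mem_centralizer_powerClosure {p : ℕ} {V : Subgroup Ω} {u : Ω} (hu : ∀ v ∈ V, Commute u (v ^ p)) :
    u ∈ Subgroup.centralizer ((Cfsg.powerClosure p 1 V : Subgroup Ω) : Set Ω) := by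
  have hle : Cfsg.powerClosure p 1 V ≤ Subgroup.centralizer ({u} : Set Ω) := by
    unfold Cfsg.powerClosure
    rw [Subgroup.closure_le]
    rintro y ⟨v, hv, rfl⟩
    rw [pow_one]
    show v ^ p ∈ Subgroup.centralizer ({u} : Set Ω)
    rw [Subgroup.mem_centralizer_singleton_iff]
    exact (hu v hv).eq.symm
  rw [Subgroup.mem_centralizer_iff]
  intro y hy
  have := Subgroup.mem_centralizer_singleton_iff.mp (hle hy)
  exact this

end Cfsg.Agent.Helper47.Gen
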