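import Cfsg.Agent.Helper47.GenFus1

/-!
# The local splitting lemma (helper47; S5220)

For a fully automized receptive subgroup `R` and an `Aut_F(R)`-invariant subgroup `U ≤ R`, every `α ∈ Aut_F(R)` is the
product of an automorphism fixing `U` elementwise and one extending to `C_{N_S(R)}(U) R`.
-/

set_option autoImplicit false
set_option linter.unusedSectionVars false

namespace Cfsg.Agent.Helper47.Gen

open Cfsg Cfsg.FusionSystem Cfsg.Agent.Helper87 Cfsg.Agent.Helper84

universe u

variable {Ω : Type u} [Group Ω] {S : Subgroup Ω}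

/-- The automorphisms of `R` fixing every element of `U ∩ R`. -/
def fixer (U R : Subgroup Ω) : Subgroup (MulAut R) where
  carrier := {β | ∀ x : R, (x : Ω) ∈ U → β x = x}
  one_mem' := fun _ _ => rfl
  mul_mem' := by
    intro a b ha hb x hx
    rw [MulAut.mul_apply, hb x hx, ha x hx]
  inv_mem' := by
    intro a ha x hx
    have h1 := ha x hx
    have h2 : a⁻¹ (a x) = x := MulAut.inv_apply_self _ a x
    rw [h1] at h2
    exact h2

theorem mem_fixer_iff (U R : Subgroup Ω) (β : MulAut R) :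
    β ∈ fixer U R ↔ ∀ x : R, (x : Ω) ∈ U → β x = x := Iff.rfl

/-- Membership in `N_S^K(R)` for `K` the fixer of `U ≤ R`. -/
theorem mem_NK_fixer_iff {U R : Subgroup Ω} (hUR : U ≤ R) (g : Ω) :
    g ∈ NK S R (fixer U R) ↔ g ∈ normalizerIn S R ∧ g ∈ Subgroup.centralizer (U : Set Ω) := by
  rw [mem_NK_iff]
  constructor
  · rintro ⟨hgS, hgN, hK⟩
    refine ⟨⟨hgS, hgN⟩, ?_⟩
    rw [Subgroup.mem_centralizer_iff]
    intro x hx
    have h1 := (mem_fixer_iff U R _).mp hK ⟨x, hUR hx⟩ hx
    have h2 := congrArg Subtype.val h1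
    rw [conjAut_apply] at h2
    have h3 : g * x * g⁻¹ = x := h2
    calc x * g = g * x * g⁻¹ * g := by rw [h3]
      _ = g * x := by group
  · rintro ⟨⟨hgS, hgN⟩, hgC⟩
    refine ⟨hgS, hgN, ?_⟩
    rw [mem_fixer_iff]
    intro x hx
    apply Subtype.ext
    rw [conjAut_apply]
    have := (Subgroup.mem_centralizer_iff.mp hgC) x hx
    calc g * x * g⁻¹ = x * g * g⁻¹ := by rw [this]
      _ = x := by group

/-- A group of automorphisms normalized by `Aut_F(R)` is `K`-automized at a fully automized `R`. -/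
theorem isKAutomized_of_normalized [Finite S] {p : ℕ} [Fact p.Prime] (hS : IsPGroup p S) (F : FusionSystem S)
    {R : Subgroup Ω} (hRa : F.IsFullyAutomized p R) (K : Subgroup (MulAut R))
    (hK : ∀ a ∈ F.autGroup R, ∀ k ∈ K, a * k * a⁻¹ ∈ K) : IsKAutomized F p R K := by
  have hRS : R ≤ S := hRa.1
  have : Finite (MulAut R) := finite_mulAut_of_le hRS
  have hidx : ¬ p ∣ (autInducedBy S R).relIndex (F.autGroup R) := by
    obtain ⟨-, T, hT⟩ := hRa
    have h1 := T.not_dvd_index
    rw [hT] at h1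
    exact h1
  obtain ⟨α, hαA, hα⟩ := exists_conj_inf_relIndex (F.autGroup R) (autInducedBy S R) K
    (autInducedBy_le_autGroup F hRS) (isPGroup_autInducedBy hS R) hidx
  have hmap : K.map (MulAut.conj α).toMonoidHom = K := by
    ext β
    constructor
    · rintro ⟨k, hk, rfl⟩
      show MulAut.conj α k ∈ K
      rw [MulAut.conj_apply]
      exact hK α hαA k hk
    · intro hβ
      refine ⟨α⁻¹ * β * α, ?_, ?_⟩
      · have := hK α⁻¹ ((F.autGroup R).inv_mem hαA) β hβ
        rwa [inv_inv] at this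
      · show MulAut.conj α (α⁻¹ * β * α) = β
        rw [MulAut.conj_apply]
        group
  rw [hmap] at hα
  exact hα

/-- **The local splitting lemma.** -/
theorem local_split [Finite S] {p : ℕ} [Fact p.Prime] (hS : IsPGroup p S) (F : FusionSystem S)
    {R U : Subgroup Ω} (hRa : F.IsFullyAutomized p R) (hRr : F.IsReceptive R)
    (hUinv : ∀ α ∈ F.autGroup R, ∀ x : R, (x : Ω) ∈ U → ((α x : R) : Ω) ∈ U)
    (α : MulAut R) (hα : α ∈ F.autGroup R) :
    ∃ χ ∈ F.autGroup R, (∀ x : R, (x : Ω) ∈ U → χ x = x) ∧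
      ∃ φ ∈ F.Hom (NK S R (fixer U R) ⊔ R),
        ∀ x : R, φ (Subgroup.inclusion le_sup_right x) = ((α (χ x) : R) : Ω) := by
  have hRS : R ≤ S := hRa.1
  have hnorm : ∀ a ∈ F.autGroup R, ∀ k ∈ fixer U R, a * k * a⁻¹ ∈ fixer U R := by
    intro a ha k hk x hx
    rw [MulAut.mul_apply, MulAut.mul_apply]
    have h1 : ((a⁻¹ x : R) : Ω) ∈ U := hUinv a⁻¹ ((F.autGroup R).inv_mem ha) x hx
    rw [hk _ h1, MulAut.apply_inv_self]
  have htr : tr (α : R ≃* R) (fixer U R) = fixer U R := by
    ext β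
    rw [mem_tr_iff]
    have e : MulAut.congr (α : R ≃* R).symm β = α⁻¹ * β * α := by
      ext y
      rfl
    rw [e]
    constructor
    · intro h
      have := hnorm α hα _ h
      have e2 : α * (α⁻¹ * β * α) * α⁻¹ = β := by group
      rwa [e2] at this
    · intro h
      have := hnorm α⁻¹ ((F.autGroup R).inv_mem hα) _ h
      rwa [inv_inv] at this
  have haut : IsKAutomized F p R (tr (α : R ≃* R) (fixer U R)) := by
    rw [htr]
    exact isKAutomized_of_normalized hS F hRa _ hnorm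
  have he : IsIso F (α : R ≃* R) := (mem_autGroup_iff F hRS α).mp hα
  obtain ⟨χ, ⟨hχK, hχF⟩, φ, hφ, hφx, -⟩ := exists_extension_NK hS F (fixer U R) (α : R ≃* R) he hRr haut
  exact ⟨χ, hχF, hχK, φ, hφ, fun x => hφx x⟩

end Cfsg.Agent.Helper47.Gen
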