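import Cfsg.Agent.Helper1.ReplComm

/-!
# A quadratic element centralizing the `p`-th powers (helper47; for S5220)

If `J(S)` does not centralize the abelian normal subgroup `V` of the finite `p`-group `S`, then some
element of `S` does not centralize `V` but centralizes all `p`-th powers of elements of `V`.
-/

set_option autoImplicit false

namespace Cfsg.Agent.Helper47.Gen

open Subgroup
open scoped commutatorElement

section PowLemma

variable {G : Type*} [Group G]

/-- If the `p`-element `g₀` acts quadratically on the abelian normal subgroup `V` and does not centralize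
it, then a suitable power of `g₀` still does not centralize `V` but centralizes all `p`-th powers of
elements of `V`. -/
theorem exists_pow_centralizes_gen {p : ℕ} (V : Subgroup G) [hVn : V.Normal] (hV : IsMulCommutative V)
    (g₀ : G) (hg₀ : ∃ k : ℕ, g₀ ^ p ^ k = 1) (hgV : g₀ ∉ centralizer (V : Set G))
    (hquad : ⁅⁅V, zpowers g₀⁆, zpowers g₀⁆ = ⊥) :
    ∃ u ∈ zpowers g₀, u ∉ centralizer (V : Set G) ∧ ∀ v ∈ V, Commute u (v ^ p) := by
  classical
  have hex : ∃ m : ℕ, g₀ ^ p ^ m ∈ centralizer (V : Set G) := by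
    obtain ⟨k, hk⟩ := hg₀
    exact ⟨k, by rw [hk]; exact Subgroup.one_mem _⟩
  have hm0 : Nat.find hex ≠ 0 := by
    intro h0
    have := Nat.find_spec hex
    rw [h0, pow_zero, pow_one] at this
    exact hgV this
  obtain ⟨m', hm'⟩ := Nat.exists_eq_succ_of_ne_zero hm0
  have huP : g₀ ^ p ^ m' ∉ centralizer (V : Set G) := Nat.find_min hex (by omega)
  have hupP : (g₀ ^ p ^ m') ^ p ∈ centralizer (V : Set G) := by
    have := Nat.find_spec hex
    rw [hm', pow_succ, pow_mul] at this
    exact this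
  refine ⟨g₀ ^ p ^ m', Subgroup.pow_mem _ (Subgroup.mem_zpowers g₀) _, huP, ?_⟩
  intro v hv
  set u := g₀ ^ p ^ m' with hu
  have huz : u ∈ Subgroup.zpowers g₀ := Subgroup.pow_mem _ (Subgroup.mem_zpowers g₀) _
  have hVc : V ≤ centralizer (V : Set G) := le_centralizer_iff_isMulCommutative.mpr hV
  -- c = [v, u]
  have hcV : ⁅v, u⁆ ∈ V := by
    rw [commutatorElement_def]
    have h1 : u * v⁻¹ * u⁻¹ ∈ V := hVn.conj_mem _ (Subgroup.inv_mem _ hv) u
    have h2 := Subgroup.mul_mem _ hv h1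
    simpa [mul_assoc] using h2
  have hcu : Commute ⁅v, u⁆ u := by
    have h1 : ⁅⁅v, u⁆, u⁆ ∈ ⁅⁅V, Subgroup.zpowers g₀⁆, Subgroup.zpowers g₀⁆ :=
      Subgroup.commutator_mem_commutator (Subgroup.commutator_mem_commutator hv huz) huz
    rw [hquad, Subgroup.mem_bot] at h1
    exact commutatorElement_eq_one_iff_commute.mp h1
  have hcv : Commute ⁅v, u⁆ v := by
    have := (Subgroup.mem_centralizer_iff.mp (hVc hcV)) v hv
    exact this.symm
  have hconj : u * v * u⁻¹ = ⁅v, u⁆⁻¹ * v := by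
    rw [commutatorElement_def]; group
  have hiter : ∀ j : ℕ, u ^ j * v * (u ^ j)⁻¹ = (⁅v, u⁆⁻¹) ^ j * v := by
    intro j
    induction j with
    | zero => simp
    | succ j ih =>
      have hcj : Commute u ((⁅v, u⁆⁻¹) ^ j) := (hcu.symm.inv_right).pow_right j
      calc u ^ (j + 1) * v * (u ^ (j + 1))⁻¹
          = u * (u ^ j * v * (u ^ j)⁻¹) * u⁻¹ := by rw [pow_succ']; group
        _ = u * ((⁅v, u⁆⁻¹) ^ j * v) * u⁻¹ := by rw [ih]
        _ = (⁅v, u⁆⁻¹) ^ j * (u * v * u⁻¹) := by
            rw [← mul_assoc u, hcj.eq]; group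
        _ = (⁅v, u⁆⁻¹) ^ (j + 1) * v := by rw [hconj, pow_succ]; group
  have hcp : (⁅v, u⁆⁻¹) ^ p = 1 := by
    have h1 := hiter p
    have h2 : u ^ p * v * (u ^ p)⁻¹ = v := by
      have := (Subgroup.mem_centralizer_iff.mp hupP) v hv
      rw [← this]; group
    rw [h2] at h1
    exact (mul_eq_right.mp h1.symm)
  have hfin : u * v ^ p * u⁻¹ = v ^ p := by
    calc u * v ^ p * u⁻¹ = (u * v * u⁻¹) ^ p := (conj_pow).symm
      _ = (⁅v, u⁆⁻¹ * v) ^ p := by rw [hconj]
      _ = (⁅v, u⁆⁻¹) ^ p * v ^ p := (hcv.inv_left).mul_pow p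
      _ = v ^ p := by rw [hcp, one_mul]
  show u * v ^ p = v ^ p * u
  calc u * v ^ p = (u * v ^ p * u⁻¹) * u := by group
    _ = v ^ p * u := by rw [hfin]

end PowLemma

section Intrinsic

variable {G : Type*} [Group G] [Finite G] {p : ℕ} [Fact p.Prime]

/-- Intrinsic form: in a finite `p`-group `G` with an abelian normal subgroup `V` not centralized by `J(G)`, some
element does not centralize `V` but centralizes the `p`-th powers of its elements. -/
theorem exists_quad_elem (hG : IsPGroup p G) (V : Subgroup G) [V.Normal] (hV : IsMulCommutative V)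
    (h : ¬ Cfsg.thompsonSubgroupA G ≤ centralizer (V : Set G)) :
    ∃ u : G, u ∉ centralizer (V : Set G) ∧ ∀ v ∈ V, Commute u (v ^ p) := by
  have h1 : ∃ A ∈ Cfsg.maxAbelianSubgroups G, ¬ A ≤ centralizer (V : Set G) := by
    by_contra hcon
    push Not at hcon
    exact h (sSup_le hcon)
  obtain ⟨A, hA, hAV⟩ := h1
  have hVA : ⁅V, A⁆ ≠ ⊥ := by
    intro hbot
    apply hAV
    rw [Subgroup.commutator_comm] at hbot
    exact (Subgroup.commutator_eq_bot_iff_le_centralizer).mp hbot
  obtain ⟨-, hq, hne⟩ := Cfsg.Agent.Helper1.replacement_comm hG V hV A hA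
  set A' := ⁅V, A⁆ ⊔ (A ⊓ Subgroup.centralizer ((⁅V, A⁆ : Subgroup G) : Set G)) with hA'
  have hne' := hne hVA
  have h2 : ∃ a ∈ A', a ∉ centralizer (V : Set G) := by
    by_contra hcon
    push Not at hcon
    apply hne'
    rw [Subgroup.commutator_comm]
    exact (Subgroup.commutator_eq_bot_iff_le_centralizer).mpr hcon
  obtain ⟨a, haA', haV⟩ := h2
  have hapow : ∃ k : ℕ, a ^ p ^ k = 1 := hG a
  have hquad : ⁅⁅V, zpowers a⁆, zpowers a⁆ = ⊥ := by
    have hz : zpowers a ≤ A' := (zpowers_le).mpr haA'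
    have := Subgroup.commutator_mono (Subgroup.commutator_mono (le_refl V) hz) hz
    rw [hq] at this
    exact le_bot_iff.mp this
  obtain ⟨u, -, huV, hu⟩ := exists_pow_centralizes_gen V hV a hapow haV hquad
  exact ⟨u, huV, hu⟩

end Intrinsic

section Ambient

variable {Ω : Type*} [Group Ω] {S : Subgroup Ω} [Finite S] {p : ℕ} [Fact p.Prime]

/-- Ambient form of `exists_quad_elem`. -/
theorem exists_quad_elem_amb (hS : IsPGroup p S) (V : Subgroup Ω) (hVS : V ≤ S)
    (hSV : S ≤ normalizer (V : Set Ω)) (hV : IsMulCommutative V)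
    (h : ¬ Cfsg.thompsonSubgroupAOf S ≤ centralizer (V : Set Ω)) :
    ∃ u ∈ S, u ∉ centralizer (V : Set Ω) ∧ ∀ v ∈ V, Commute u (v ^ p) := by
  have hV'n : (V.subgroupOf S).Normal := (Subgroup.normal_subgroupOf_iff_le_normalizer hVS).mpr hSV
  have hVc : V ≤ centralizer (V : Set Ω) := le_centralizer_iff_isMulCommutative.mpr hV
  have hV'e : IsMulCommutative (V.subgroupOf S) := by
    refine ⟨⟨fun a b => ?_⟩⟩
    apply Subtype.ext
    apply Subtype.ext
    have := hVc (Subgroup.mem_subgroupOf.mp a.2)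
    exact ((mem_centralizer_iff.mp this) _ (Subgroup.mem_subgroupOf.mp b.2)).symm
  have h' : ¬ Cfsg.thompsonSubgroupA S ≤ centralizer ((V.subgroupOf S : Subgroup S) : Set S) := by
    intro hle
    apply h
    unfold Cfsg.thompsonSubgroupAOf
    rintro _ ⟨x, hx, rfl⟩
    rw [mem_centralizer_iff]
    intro v hv
    have h1 := (mem_centralizer_iff.mp (hle hx)) ⟨v, hVS hv⟩ (Subgroup.mem_subgroupOf.mpr hv)
    exact congrArg Subtype.val h1
  obtain ⟨u, huV, hu⟩ := exists_quad_elem hS (V.subgroupOf S) hV'e h'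
  refine ⟨u, u.2, ?_, ?_⟩
  · intro hcon
    apply huV
    rw [mem_centralizer_iff]
    intro v hv
    apply Subtype.ext
    exact (mem_centralizer_iff.mp hcon) v (Subgroup.mem_subgroupOf.mp hv)
  · intro v hv
    have h1 := hu ⟨v, hVS hv⟩ (Subgroup.mem_subgroupOf.mpr hv)
    have h2 := congrArg Subtype.val h1.eq
    show (u : Ω) * v ^ p = v ^ p * (u : Ω)
    simpa using h2

end Ambient

end Cfsg.Agent.Helper47.Gen
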