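import Cfsg.Agent.Helper47.GenFus2
import Cfsg.Agent.Helper47.GenQuad
import Cfsg.Agent.Helper2.FusTh1
import Cfsg.Agent.S5096

/-!
# The generation property, and the subgroup generated by the images of `Z(S)` (helper47; S5220)
-/

set_option autoImplicit false
set_option linter.unusedSectionVars false
set_option linter.dupNamespace false

namespace Cfsg.Agent.Helper47.Gen

open Cfsg Cfsg.FusionSystem Cfsg.Agent.Helper87 Cfsg.Agent.Helper84

universe u

variable {Ω : Type u} [Group Ω] {S : Subgroup Ω}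

/-- `E` contains the centralizer system of `℧¹(Z(S))` and the normalizer system of `J(S)`. -/
structure Cont (p : ℕ) (F : FusionSystem S) {S' : Subgroup Ω} (E : FusionSystem S') : Prop where
  hC : ∀ P : Subgroup Ω, F.centralizerHom (Zp p S) P ⊆ E.Hom P
  hN : ∀ P : Subgroup Ω, F.normalizerHom (Cfsg.thompsonSubgroupAOf S) P ⊆ E.Hom P

/-- The generation property: every system containing both contains `F`. -/
def Gen (p : ℕ) (F : FusionSystem S) : Prop :=
  ∀ (S' : Subgroup Ω) (E : FusionSystem S'), Cont p F E → ∀ P : Subgroup Ω, F.Hom P ⊆ E.Hom P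

theorem le_centralizerIn_Zp (p : ℕ) {P : Subgroup Ω} (hP : P ≤ S) : P ≤ centralizerIn S (Zp p S) := by
  intro x hx
  refine ⟨hP hx, ?_⟩
  show x ∈ Subgroup.centralizer ((Zp p S : Subgroup Ω) : Set Ω)
  rw [Subgroup.mem_centralizer_iff]
  intro z hz
  have hz' := (Zp_le_center p S hz).2
  exact ((Subgroup.mem_centralizer_iff.mp hz') x (hP hx)).symm

/-- Conjugation maps are maps of the centralizer system of `℧¹(Z(S))`. -/
theorem conj_mem_of_cont {p : ℕ} {F : FusionSystem S} {S' : Subgroup Ω} {E : FusionSystem S'} (h : Cont p F E)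
    (P : Subgroup Ω) (g : Ω) (hP : P ≤ S) (hg : g ∈ S) : conjHom P g ∈ E.Hom P := by
  apply h.hC P
  have hle : P ⊔ Zp p S ≤ S := sup_le hP ((Zp_le_center p S).trans inf_le_left)
  refine ⟨F.conj_mem hP hg, le_centralizerIn_Zp p hP, fun x => ?_, conjHom (P ⊔ Zp p S) g, F.conj_mem hle hg,
    fun x => rfl, fun x => ?_⟩
  · apply le_centralizerIn_Zp p (le_refl S)
    exact S.mul_mem (S.mul_mem hg (hP x.2)) (S.inv_mem hg)
  · show g * (x : Ω) * g⁻¹ = x
    have hx := (Zp_le_center p S x.2).2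
    have := (Subgroup.mem_centralizer_iff.mp hx) g hg
    calc g * (x : Ω) * g⁻¹ = (x : Ω) * g * g⁻¹ := by rw [this]
      _ = x := by group

/-- An automorphism-like map on `R ⊇ ℧¹(Z(S))` fixing `℧¹(Z(S))` elementwise lies in `E`. -/
theorem mem_of_fixes {p : ℕ} {F : FusionSystem S} {S' : Subgroup Ω} {E : FusionSystem S'} (h : Cont p F E)
    {R : Subgroup Ω} (hZR : Zp p S ≤ R) {ψ : R →* Ω} (hψ : ψ ∈ F.Hom R)
    (hfix : ∀ x : R, (x : Ω) ∈ Zp p S → ψ x = x) : ψ ∈ E.Hom R :=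
  h.hC R (Cfsg.Agent.Helper2.FusGT.mem_centralizerHom_of_le F hZR (le_centralizerIn_Zp p (F.le_of_mem hψ).1) hψ hfix)

/-! ### Normalizer systems -/

section NormSys

variable {p : ℕ} (F : FusionSystem S) {H : Subgroup Ω} (hHS : H ≤ S) (EH : FusionSystem (normalizerIn S H))
  (hEH : F.IsNormalizerSystem H EH)

include hEH in
theorem hom_normSys_subset (P : Subgroup Ω) : EH.Hom P ⊆ F.Hom P := by
  intro φ hφ
  rw [hEH P] at hφ
  exact hφ.1

include hHS hEH in
theorem centralizerHom_normSys_subset (P : Subgroup Ω) :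
    EH.centralizerHom (Zp p (normalizerIn S H)) P ⊆ F.centralizerHom (Zp p S) P := by
  rintro φ ⟨hφ, hP, -, ψ, hψ, hψφ, hψfix⟩
  have hφF := hom_normSys_subset F EH hEH P hφ
  have hψF := hom_normSys_subset F EH hEH _ hψ
  have hTS : normalizerIn S H ≤ S := inf_le_left
  have hZT : S ⊓ Subgroup.centralizer (S : Set Ω) ≤ normalizerIn S H := by
    intro z hz
    refine ⟨hz.1, ?_⟩
    apply Subgroup.centralizer_le_normalizer
    exact Subgroup.centralizer_le (by exact_mod_cast hHS) hz.2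
  have hZZ : Zp p S ≤ Zp p (normalizerIn S H) := Zp_le_Zp p hTS hZT
  have hle : P ⊔ Zp p S ≤ P ⊔ Zp p (normalizerIn S H) := sup_le_sup_left hZZ P
  refine ⟨hφF, le_centralizerIn_Zp p (F.le_of_mem hφF).1, fun x => ?_, ψ.comp (Subgroup.inclusion hle),
    restrict_mem F hψF hle, fun x => ?_, fun x => ?_⟩
  · exact le_centralizerIn_Zp p (le_refl S) ((F.le_of_mem hφF).2 x)
  · rw [← hψφ x]
    rfl
  · have := hψfix ⟨x, hZZ x.2⟩
    rw [← this]
    rfl

include hEH in
theorem normalizerHom_normSys_subset (W : Subgroup Ω) (P : Subgroup Ω) :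
    EH.normalizerHom W P ⊆ F.normalizerHom W P := by
  rintro φ ⟨hφ, hP, hval, ψ, hψ, hψφ, hψW⟩
  have hφF := hom_normSys_subset F EH hEH P hφ
  have hψF := hom_normSys_subset F EH hEH _ hψ
  have hle : normalizerIn (normalizerIn S H) W ≤ normalizerIn S W := by
    intro x hx
    exact ⟨hx.1.1, hx.2⟩
  exact ⟨hφF, hP.trans hle, fun x => hle (hval x), ψ, hψF, hψφ, hψW⟩

end NormSys

/-! ### The subgroup generated by the images of `Z(S)` -/

/-- The subgroup generated by the images of `Z(S)` under the maps of the system. -/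
def VF (F : FusionSystem S) : Subgroup Ω :=
  sSup {X | ∃ φ ∈ F.Hom (S ⊓ Subgroup.centralizer (S : Set Ω)), X = φ.range}

theorem zS_le_VF (F : FusionSystem S) : S ⊓ Subgroup.centralizer (S : Set Ω) ≤ VF F := by
  apply le_sSup
  exact ⟨_, subtype_mem F inf_le_left, (Subgroup.range_subtype _).symm⟩

theorem VF_le (F : FusionSystem S) : VF F ≤ S := by
  apply sSup_le
  rintro X ⟨φ, hφ, rfl⟩ _ ⟨z, rfl⟩
  exact (F.le_of_mem hφ).2 z

/-- In a constrained system the images of `Z(S)` lie in `Z(Q)`. -/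
theorem VF_le_center (F : FusionSystem S) {Q : Subgroup Ω} (hQ : F.IsNormal Q) (hcon : centralizerIn S Q ≤ Q) :
    VF F ≤ Q ⊓ Subgroup.centralizer (Q : Set Ω) := by
  have hQS : Q ≤ S := hQ.1
  apply sSup_le
  rintro X ⟨φ, hφ, rfl⟩ _ ⟨z, rfl⟩
  obtain ⟨ψ, hψ, hψφ, hψQ⟩ := hQ.2 _ φ hφ
  rw [Helper85.map_subgroupOf_eq_iff] at hψQ
  have hzQ : (z : Ω) ∈ Q := hcon ⟨z.2.1, Subgroup.centralizer_le (by exact_mod_cast hQS) z.2.2⟩
  have e1 : φ z = ψ (Subgroup.inclusion le_sup_left z) := (hψφ z).symm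
  refine ⟨?_, ?_⟩
  · show φ z ∈ Q
    rw [e1]
    exact hψQ.1 _ hzQ
  · show φ z ∈ Subgroup.centralizer (Q : Set Ω)
    rw [Subgroup.mem_centralizer_iff]
    intro q hq
    obtain ⟨x, -, rfl⟩ := hψQ.2 q hq
    have hxS : (x : Ω) ∈ S := (F.le_of_mem hψ).1 x.2
    have h1 : (x : Ω) * z = z * x := (Subgroup.mem_centralizer_iff.mp z.2.2) x hxS
    have h2 : x * Subgroup.inclusion le_sup_left z = Subgroup.inclusion le_sup_left z * x := Subtype.ext h1
    have h3 := congrArg ψ h2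
    rw [map_mul, map_mul] at h3
    rw [e1]
    exact h3

/-- The maps of the system defined on a subgroup containing `V` carry `V` into itself. -/
theorem VF_map_mem (F : FusionSystem S) {A : Subgroup Ω} (hVA : VF F ≤ A) {ψ : A →* Ω} (hψ : ψ ∈ F.Hom A)
    (x : A) (hx : (x : Ω) ∈ VF F) : ψ x ∈ VF F := by
  have key : VF F ≤ ((VF F).comap ψ).map A.subtype := by
    apply sSup_le
    rintro X ⟨φ, hφ, rfl⟩ _ ⟨z, rfl⟩
    have hmem : φ.range ∈ {X | ∃ φ ∈ F.Hom (S ⊓ Subgroup.centralizer (S : Set Ω)), X = φ.range} :=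
      ⟨φ, hφ, rfl⟩
    have hφA : ∀ z, φ z ∈ A := fun z => hVA (le_sSup hmem ⟨z, rfl⟩)
    have hcomp := F.comp_mem hφ hψ hφA
    refine ⟨⟨φ z, hφA z⟩, ?_, rfl⟩
    show ψ ⟨φ z, hφA z⟩ ∈ VF F
    have hmem2 : (ψ.comp (φ.codRestrict A hφA)).range ∈
        {X | ∃ φ ∈ F.Hom (S ⊓ Subgroup.centralizer (S : Set Ω)), X = φ.range} := ⟨_, hcomp, rfl⟩
    exact le_sSup hmem2 ⟨z, rfl⟩
  obtain ⟨y, hy, hyx⟩ := key hx
  have : y = x := Subtype.ext hyx
  rw [← this]
  exact hy

/-- The maps of the system defined on a subgroup containing `V` carry `℧¹(V)` into itself. -/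
theorem MF_map_mem (p : ℕ) (F : FusionSystem S) {A : Subgroup Ω} (hVA : VF F ≤ A) {ψ : A →* Ω}
    (hψ : ψ ∈ F.Hom A) (x : A) (hx : (x : Ω) ∈ Cfsg.powerClosure p 1 (VF F)) :
    ψ x ∈ Cfsg.powerClosure p 1 (VF F) := by
  have key : Cfsg.powerClosure p 1 (VF F) ≤ ((Cfsg.powerClosure p 1 (VF F)).comap ψ).map A.subtype := by
    unfold Cfsg.powerClosure
    rw [Subgroup.closure_le]
    rintro _ ⟨v, hv, rfl⟩
    refine ⟨⟨v, hVA hv⟩ ^ (p ^ 1), ?_, rfl⟩
    show ψ (⟨v, hVA hv⟩ ^ (p ^ 1)) ∈ Subgroup.closure _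
    rw [map_pow]
    apply Subgroup.subset_closure
    exact ⟨_, VF_map_mem F hVA hψ ⟨v, hVA hv⟩ hv, rfl⟩
  obtain ⟨y, hy, hyx⟩ := key hx
  have : y = x := Subtype.ext hyx
  rw [← this]
  exact hy

end Cfsg.Agent.Helper47.Gen
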