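import Cfsg.Agent.Helper47.GenFus3

/-!
# The constrained step (helper47; S5220)
-/

set_option autoImplicit false
set_option linter.unusedSectionVars false

namespace Cfsg.Agent.Helper47.Gen

open Cfsg Cfsg.FusionSystem Cfsg.Agent.Helper87 Cfsg.Agent.Helper84

universe u

variable {Ω : Type u} [Group Ω] {S : Subgroup Ω}

/-- `C_S(U)` is normalized by `S` when `U` is. -/
theorem conj_mem_centralizerIn {U : Subgroup Ω} (hUS : ∀ g ∈ S, ∀ x ∈ U, g * x * g⁻¹ ∈ U) :
    ∀ g ∈ S, ∀ x ∈ centralizerIn S U, g * x * g⁻¹ ∈ centralizerIn S U := by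
  intro g hg x hx
  refine ⟨S.mul_mem (S.mul_mem hg hx.1) (S.inv_mem hg), ?_⟩
  show g * x * g⁻¹ ∈ Subgroup.centralizer (U : Set Ω)
  rw [Subgroup.mem_centralizer_iff]
  intro w hw
  have hw' : g⁻¹ * w * g⁻¹⁻¹ ∈ U := hUS g⁻¹ (S.inv_mem hg) w hw
  rw [inv_inv] at hw'
  have h1 : g⁻¹ * w * g * x = x * (g⁻¹ * w * g) := (Subgroup.mem_centralizer_iff.mp hx.2) _ hw'
  calc w * (g * x * g⁻¹) = g * (g⁻¹ * w * g * x) * g⁻¹ := by group
    _ = g * (x * (g⁻¹ * w * g)) * g⁻¹ := by rw [h1]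
    _ = g * x * g⁻¹ * w := by group

theorem le_normalizer_of_conj_mem {H D : Subgroup Ω} (h : ∀ g ∈ H, ∀ x ∈ D, g * x * g⁻¹ ∈ D) :
    H ≤ Subgroup.normalizer (D : Set Ω) := by
  intro g hg
  rw [Subgroup.mem_normalizer_iff]
  intro n
  refine ⟨h g hg n, fun hn => ?_⟩
  have := h g⁻¹ (H.inv_mem hg) _ hn
  simpa [mul_assoc] using this

/-- Automorphisms of `R` in the system preserve `C_S(U)` when it lies in `R` and `U` is invariant. -/
theorem aut_centralizerIn_mem (F : FusionSystem S) {R U : Subgroup Ω} (hRS : R ≤ S) (hUR : U ≤ R)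
    (hUinv : ∀ α ∈ F.autGroup R, ∀ x : R, (x : Ω) ∈ U → ((α x : R) : Ω) ∈ U)
    (β : MulAut R) (hβ : β ∈ F.autGroup R) (x : R) (hx : (x : Ω) ∈ centralizerIn S U) :
    ((β x : R) : Ω) ∈ centralizerIn S U := by
  refine ⟨hRS (β x).2, ?_⟩
  show ((β x : R) : Ω) ∈ Subgroup.centralizer (U : Set Ω)
  rw [Subgroup.mem_centralizer_iff]
  intro w hw
  have hw' : ((β⁻¹ ⟨w, hUR hw⟩ : R) : Ω) ∈ U := hUinv β⁻¹ ((F.autGroup R).inv_mem hβ) ⟨w, hUR hw⟩ hw
  have hcomm : (β⁻¹ ⟨w, hUR hw⟩) * x = x * (β⁻¹ ⟨w, hUR hw⟩) :=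
    Subtype.ext ((Subgroup.mem_centralizer_iff.mp hx.2) _ hw')
  have h2 := congrArg β hcomm
  rw [map_mul, map_mul, MulAut.apply_inv_self] at h2
  exact congrArg Subtype.val h2

/-- **The core of the constrained step.** -/
theorem split_core [Finite S] {p : ℕ} [Fact p.Prime] (hS : IsPGroup p S) (F : FusionSystem S)
    {S' : Subgroup Ω} (E : FusionSystem S') (hE : Cont p F E)
    {R U : Subgroup Ω} (hRa : F.IsFullyAutomized p R) (hRr : F.IsReceptive R)
    (ih : ∀ (N : Subgroup Ω) (ψ : N →* Ω), Nat.card R < Nat.card N → ψ ∈ F.Hom N → ψ ∈ E.Hom N)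
    (hUR : U ≤ R) (hZU : Zp p S ≤ U)
    (hUinv : ∀ α ∈ F.autGroup R, ∀ x : R, (x : Ω) ∈ U → ((α x : R) : Ω) ∈ U)
    (hUS : ∀ g ∈ S, ∀ x ∈ U, g * x * g⁻¹ ∈ U)
    (hD : centralizerIn S U ≤ R → ∀ ν ∈ F.Hom R,
      ((centralizerIn S U).subgroupOf R).map ν = centralizerIn S U → ν ∈ E.Hom R)
    (α : MulAut R) (hα : α ∈ F.autGroup R) : R.subtype.comp (α : R ≃* R).toMonoidHom ∈ E.Hom R := by
  have hRS : R ≤ S := hRa.1
  obtain ⟨χ, hχF, hχfix, φ, hφ, hφx⟩ := local_split hS F hRa hRr hUinv α hα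
  -- the part fixing `U`
  have hχinv : R.subtype.comp ((χ⁻¹ : MulAut R) : R ≃* R).toMonoidHom ∈ F.Hom R :=
    (mem_autGroup_iff F hRS χ⁻¹).mp ((F.autGroup R).inv_mem hχF)
  have hχinvE : R.subtype.comp ((χ⁻¹ : MulAut R) : R ≃* R).toMonoidHom ∈ E.Hom R := by
    apply mem_of_fixes hE (hZU.trans hUR) hχinv
    intro x hx
    show ((χ⁻¹ x : R) : Ω) = x
    have h1 : χ x = x := hχfix x (hZU hx)
    have h2 : χ⁻¹ (χ x) = x := MulAut.inv_apply_self _ χ x
    rw [h1] at h2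
    rw [h2]
  -- the part extending to a larger subgroup
  have hνF : R.subtype.comp ((α * χ : MulAut R) : R ≃* R).toMonoidHom ∈ F.Hom R :=
    (mem_autGroup_iff F hRS (α * χ)).mp ((F.autGroup R).mul_mem hα hχF)
  have hνE : R.subtype.comp ((α * χ : MulAut R) : R ≃* R).toMonoidHom ∈ E.Hom R := by
    by_cases hK : NK S R (fixer U R) ≤ R
    · have hDR : centralizerIn S U ≤ R := by
        apply le_of_normalizerIn_inf_le hS inf_le_left hRS (conj_mem_centralizerIn hUS)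
        intro g hg
        exact hK ((mem_NK_fixer_iff hUR g).mpr ⟨hg.1, hg.2.2⟩)
      apply hD hDR _ hνF
      rw [Helper85.map_subgroupOf_eq_iff]
      refine ⟨fun x hx => ?_, fun y hy => ?_⟩
      · exact aut_centralizerIn_mem F hRS hUR hUinv (α * χ) ((F.autGroup R).mul_mem hα hχF) x hx
      · refine ⟨(α * χ)⁻¹ ⟨y, hDR hy⟩, ?_, ?_⟩
        · exact aut_centralizerIn_mem F hRS hUR hUinv (α * χ)⁻¹
            ((F.autGroup R).inv_mem ((F.autGroup R).mul_mem hα hχF)) ⟨y, hDR hy⟩ hy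
        · have h5 : (α * χ) ((α * χ)⁻¹ ⟨y, hDR hy⟩) = ⟨y, hDR hy⟩ := MulAut.apply_inv_self _ (α * χ) _
          exact congrArg Subtype.val h5
    · have hKS : NK S R (fixer U R) ⊔ R ≤ S := sup_le (NK_le S R _) hRS
      have hfin : Finite ↥(NK S R (fixer U R) ⊔ R) := finite_of_le hKS
      have hlt : R < NK S R (fixer U R) ⊔ R := by
        refine lt_of_le_of_ne le_sup_right (fun h => hK ?_)
        have h6 : NK S R (fixer U R) ≤ NK S R (fixer U R) ⊔ R := le_sup_left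
        rw [← h] at h6
        exact h6
      have hφE := ih _ φ (card_lt_card_of_lt hlt) hφ
      have h1 := restrict_mem E hφE (le_sup_right : R ≤ NK S R (fixer U R) ⊔ R)
      refine mem_of_eq E h1 (fun x => ?_)
      show (((α * χ) x : R) : Ω) = φ (Subgroup.inclusion le_sup_right x)
      rw [hφx]
      rfl
  -- compose
  have hcomp := E.comp_mem hχinvE hνE (fun x => ((χ⁻¹ x : R)).2)
  refine mem_of_eq E hcomp (fun x => ?_)
  show ((α x : R) : Ω) = (((α * χ) (χ⁻¹ x) : R) : Ω)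
  rw [MulAut.mul_apply, MulAut.apply_inv_self]

/-- **The constrained step.** -/
theorem step_constrained [Finite S] {p : ℕ} [Fact p.Prime] (hS : IsPGroup p S) (F : FusionSystem S)
    {Q : Subgroup Ω} (hQ : F.IsNormal Q) (hcon : centralizerIn S Q ≤ Q)
    {S' : Subgroup Ω} (E : FusionSystem S') (hE : Cont p F E)
    (IHD : ∀ D : Subgroup Ω, D ≤ S → S ≤ Subgroup.normalizer (D : Set Ω) → Q ≤ D → D ≠ Q →
      ∀ ED : FusionSystem (normalizerIn S D), F.IsNormalizerSystem D ED → Gen p ED)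
    {R : Subgroup Ω} (hQR : Q ≤ R) (hRa : F.IsFullyAutomized p R) (hRr : F.IsReceptive R)
    (ih : ∀ (N : Subgroup Ω) (ψ : N →* Ω), Nat.card R < Nat.card N → ψ ∈ F.Hom N → ψ ∈ E.Hom N)
    (α : MulAut R) (hα : α ∈ F.autGroup R) : R.subtype.comp (α : R ≃* R).toMonoidHom ∈ E.Hom R := by
  have hRS : R ≤ S := hRa.1
  have hQS : Q ≤ S := hQ.1
  have hVZ : VF F ≤ Q ⊓ Subgroup.centralizer (Q : Set Ω) := VF_le_center F hQ hcon
  have hVQ : VF F ≤ Q := hVZ.trans inf_le_left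
  have hVR : VF F ≤ R := hVQ.trans hQR
  have hVS : VF F ≤ S := VF_le F
  have hVc : VF F ≤ Subgroup.centralizer ((VF F : Subgroup Ω) : Set Ω) :=
    (hVZ.trans inf_le_right).trans (Subgroup.centralizer_le (by exact_mod_cast hVQ))
  have hVab : IsMulCommutative (VF F) := Subgroup.le_centralizer_iff_isMulCommutative.mp hVc
  have hVinvS : ∀ g ∈ S, ∀ x ∈ VF F, g * x * g⁻¹ ∈ VF F := by
    intro g hg x hx
    exact VF_map_mem F hVS (F.conj_mem le_rfl hg) ⟨x, hVS hx⟩ hx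
  have hSV : S ≤ Subgroup.normalizer ((VF F : Subgroup Ω) : Set Ω) := le_normalizer_of_conj_mem hVinvS
  have hVinv : ∀ α ∈ F.autGroup R, ∀ x : R, (x : Ω) ∈ VF F → ((α x : R) : Ω) ∈ VF F := by
    intro β hβ x hx
    exact VF_map_mem F hVR ((mem_autGroup_iff F hRS β).mp hβ) x hx
  have hZV : Zp p S ≤ VF F := (Zp_le_center p S).trans (zS_le_VF F)
  have hSJ : S ≤ Subgroup.normalizer ((Cfsg.thompsonSubgroupAOf S : Subgroup Ω) : Set Ω) :=
    Subgroup.le_normalizer.trans Cfsg.Agent.Helper2.FusGT.j_normalizer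
  by_cases hJ : Cfsg.thompsonSubgroupAOf S ≤ Subgroup.centralizer ((VF F : Subgroup Ω) : Set Ω)
  · -- `J(S)` centralizes `V`
    apply split_core hS F E hE hRa hRr ih hVR hZV hVinv hVinvS _ α hα
    intro hDR ν hν hmap
    have hJD : Cfsg.thompsonSubgroupAOf S ≤ centralizerIn S (VF F) :=
      le_inf (Cfsg.Agent.Helper2.FusGT.j_le S) hJ
    have hJR : Cfsg.thompsonSubgroupAOf S ≤ R := hJD.trans hDR
    apply hE.hN R
    apply mem_normalizerHom_of_le F hJR (le_inf hRS (hRS.trans hSJ)) hν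
    -- `ν` carries `J(S) = J(D)` onto itself
    have hmap' := (Helper85.map_subgroupOf_eq_iff ν).mp hmap
    have hinj : Function.Injective (ν.comp (Subgroup.inclusion hDR)) :=
      F.injective_of_mem (restrict_mem F hν hDR)
    have hrange : centralizerIn S (VF F) = (ν.comp (Subgroup.inclusion hDR)).range := by
      ext y
      constructor
      · intro hy
        obtain ⟨x, hx, rfl⟩ := hmap'.2 y hy
        exact ⟨⟨x, hx⟩, rfl⟩
      · rintro ⟨d, rfl⟩
        exact hmap'.1 _ d.2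
    have hJ1 := Cfsg.Agent.Helper2.FusGT.j_range (ν.comp (Subgroup.inclusion hDR)) hinj _ hrange
    have hfinD : Finite ↥(centralizerIn S (VF F)) := finite_of_le inf_le_left
    have hJ2 : Cfsg.thompsonSubgroupAOf (centralizerIn S (VF F)) = Cfsg.thompsonSubgroupAOf S :=
      J_eq_of_le hJD inf_le_left
    rw [← hJ2, Helper85.map_subgroupOf_eq_iff]
    refine ⟨fun x hx => ?_, fun y hy => ?_⟩
    · have hxD : (x : Ω) ∈ centralizerIn S (VF F) := Cfsg.Agent.Helper2.FusGT.j_le _ hx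
      have h1 : ν x ∈ ((Cfsg.thompsonSubgroupAOf (centralizerIn S (VF F))).subgroupOf
          (centralizerIn S (VF F))).map (ν.comp (Subgroup.inclusion hDR)) :=
        ⟨⟨x, hxD⟩, Subgroup.mem_subgroupOf.mpr hx, rfl⟩
      rw [← hJ1] at h1
      exact h1
    · rw [hJ1] at hy
      obtain ⟨d, hd, rfl⟩ := hy
      exact ⟨Subgroup.inclusion hDR d, Subgroup.mem_subgroupOf.mp hd, rfl⟩
  · -- a quadratic element
    obtain ⟨u, huS, huV, hu⟩ := exists_quad_elem_amb hS (VF F) hVS hSV hVab hJ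
    have hMV : Cfsg.powerClosure p 1 (VF F) ≤ VF F := powerClosure_le p 1 _
    have hMinvS : ∀ g ∈ S, ∀ x ∈ Cfsg.powerClosure p 1 (VF F), g * x * g⁻¹ ∈ Cfsg.powerClosure p 1 (VF F) := by
      intro g hg x hx
      exact MF_map_mem p F hVS (F.conj_mem le_rfl hg) ⟨x, hVS (hMV hx)⟩ hx
    have hMinv : ∀ α ∈ F.autGroup R, ∀ x : R, (x : Ω) ∈ Cfsg.powerClosure p 1 (VF F) →
        ((α x : R) : Ω) ∈ Cfsg.powerClosure p 1 (VF F) := by
      intro β hβ x hx
      exact MF_map_mem p F hVR ((mem_autGroup_iff F hRS β).mp hβ) x hx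
    have hZM : Zp p S ≤ Cfsg.powerClosure p 1 (VF F) := powerClosure_mono p 1 (zS_le_VF F)
    apply split_core hS F E hE hRa hRr ih (hMV.trans hVR) hZM hMinv hMinvS _ α hα
    intro hDR ν hν hmap
    have hDS : centralizerIn S (Cfsg.powerClosure p 1 (VF F)) ≤ S := inf_le_left
    have hSD : S ≤ Subgroup.normalizer ((centralizerIn S (Cfsg.powerClosure p 1 (VF F)) : Subgroup Ω) : Set Ω) :=
      le_normalizer_of_conj_mem (conj_mem_centralizerIn hMinvS)
    have hQcV : Q ≤ Subgroup.centralizer ((VF F : Subgroup Ω) : Set Ω) := by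
      intro x hx
      rw [Subgroup.mem_centralizer_iff]
      intro v hv
      exact ((Subgroup.mem_centralizer_iff.mp (hVZ hv).2) x hx).symm
    have hQD : Q ≤ centralizerIn S (Cfsg.powerClosure p 1 (VF F)) := by
      intro x hx
      exact ⟨hQS hx, Subgroup.centralizer_le (by exact_mod_cast hMV) (hQcV hx)⟩
    have huD : u ∈ centralizerIn S (Cfsg.powerClosure p 1 (VF F)) := ⟨huS, mem_centralizer_powerClosure hu⟩
    have hDQ : centralizerIn S (Cfsg.powerClosure p 1 (VF F)) ≠ Q := by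
      intro h
      exact huV (hQcV (h ▸ huD))
    obtain ⟨ED, hED⟩ := Cfsg.Agent.S5096.result F _ hDS
    have hνED : ν ∈ ED.Hom R := by
      rw [hED R]
      exact mem_normalizerHom_of_le F hDR (le_inf hRS (hRS.trans hSD)) hν hmap
    have hT : normalizerIn S (centralizerIn S (Cfsg.powerClosure p 1 (VF F))) = S :=
      le_antisymm inf_le_left (le_inf le_rfl hSD)
    refine IHD _ hDS hSD hQD hDQ ED hED S' E ⟨fun P φ hφ => ?_, fun P φ hφ => ?_⟩ R hνED
    · exact hE.hC P (centralizerHom_normSys_subset F hDS ED hED P hφ)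
    · have := normalizerHom_normSys_subset F ED hED _ P hφ
      rw [hT] at this
      exact hE.hN P this

end Cfsg.Agent.Helper47.Gen
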