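import Cfsg.Agent.Helper47.GenFus4

/-!
# The chain lemma and the non-constrained step (helper47; S5220)
-/

set_option autoImplicit false
set_option linter.unusedSectionVars false

namespace Cfsg.Agent.Helper47.Gen

open Cfsg Cfsg.FusionSystem Cfsg.Agent.Helper87 Cfsg.Agent.Helper84

universe u

variable {Ω : Type u} [Group Ω] {S : Subgroup Ω}

/-! ### Small lemmas on images and normalizers -/

theorem normalizer_inf_le_normalizer_sup (A B : Subgroup Ω) :
    Subgroup.normalizer (A : Set Ω) ⊓ Subgroup.normalizer (B : Set Ω) ≤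
      Subgroup.normalizer ((A ⊔ B : Subgroup Ω) : Set Ω) := by
  apply le_normalizer_of_conj_mem
  intro g hg x hx
  have hA : A.map (MulAut.conj g).toMonoidHom ≤ A := by
    rintro _ ⟨a, ha, rfl⟩
    exact (Subgroup.mem_normalizer_iff.mp hg.1 a).mp ha
  have hB : B.map (MulAut.conj g).toMonoidHom ≤ B := by
    rintro _ ⟨b, hb, rfl⟩
    exact (Subgroup.mem_normalizer_iff.mp hg.2 b).mp hb
  have h1 : (A ⊔ B).map (MulAut.conj g).toMonoidHom ≤ A ⊔ B := by
    rw [Subgroup.map_sup]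
    exact sup_le_sup hA hB
  exact h1 ⟨x, hx, rfl⟩

theorem map_subgroupOf_sup_eq {A U V : Subgroup Ω} (ψ : A →* Ω) (hU : U ≤ A) (hV : V ≤ A)
    (h1 : (U.subgroupOf A).map ψ = U) (h2 : (V.subgroupOf A).map ψ = V) :
    ((U ⊔ V).subgroupOf A).map ψ = U ⊔ V := by
  rw [Subgroup.subgroupOf_sup hU hV, Subgroup.map_sup, h1, h2]

theorem map_subgroupOf_eq_of_extends {B A U : Subgroup Ω} (hBA : B ≤ A) (hUB : U ≤ B) (ψ : B →* Ω) (ψ₂ : A →* Ω)
    (hext : ∀ x : B, ψ₂ (Subgroup.inclusion hBA x) = ψ x) (h : (U.subgroupOf B).map ψ = U) :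
    (U.subgroupOf A).map ψ₂ = U := by
  rw [Helper85.map_subgroupOf_eq_iff] at h ⊢
  refine ⟨fun x hx => ?_, fun y hy => ?_⟩
  · have h1 := h.1 ⟨x, hUB hx⟩ hx
    rw [← hext] at h1
    exact h1
  · obtain ⟨x, hx, hxy⟩ := h.2 y hy
    refine ⟨Subgroup.inclusion hBA x, hx, ?_⟩
    rw [hext]
    exact hxy

/-- An injective map carrying `D` onto `D` carries `J(D)` onto `J(D)`. -/
theorem map_J_eq {R D : Subgroup Ω} (hDR : D ≤ R) (ν : R →* Ω) (hinj : Function.Injective ν)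
    (hmap : (D.subgroupOf R).map ν = D) :
    ((Cfsg.thompsonSubgroupAOf D).subgroupOf R).map ν = Cfsg.thompsonSubgroupAOf D := by
  have hmap' := (Helper85.map_subgroupOf_eq_iff ν).mp hmap
  have hinj' : Function.Injective (ν.comp (Subgroup.inclusion hDR)) :=
    hinj.comp (Subgroup.inclusion_injective hDR)
  have hrange : D = (ν.comp (Subgroup.inclusion hDR)).range := by
    ext y
    constructor
    · intro hy
      obtain ⟨x, hx, rfl⟩ := hmap'.2 y hy
      exact ⟨⟨x, hx⟩, rfl⟩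
    · rintro ⟨d, rfl⟩
      exact hmap'.1 _ d.2
  have hJ1 := Cfsg.Agent.Helper2.FusGT.j_range (ν.comp (Subgroup.inclusion hDR)) hinj' _ hrange
  rw [Helper85.map_subgroupOf_eq_iff]
  refine ⟨fun x hx => ?_, fun y hy => ?_⟩
  · have hxD : (x : Ω) ∈ D := Cfsg.Agent.Helper2.FusGT.j_le _ hx
    have h1 : ν x ∈ ((Cfsg.thompsonSubgroupAOf D).subgroupOf D).map (ν.comp (Subgroup.inclusion hDR)) :=
      ⟨⟨x, hxD⟩, Subgroup.mem_subgroupOf.mpr hx, rfl⟩
    rw [← hJ1] at h1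
    exact h1
  · rw [hJ1] at hy
    obtain ⟨d, hd, rfl⟩ := hy
    exact ⟨Subgroup.inclusion hDR d, Subgroup.mem_subgroupOf.mp hd, rfl⟩

/-- A subgroup normal in the system lies in every conjugate of a subgroup containing it. -/
theorem le_of_isConj_of_isNormal (F : FusionSystem S) {Q R R' : Subgroup Ω} (hQ : F.IsNormal Q) (hQR : Q ≤ R)
    (e : R ≃* R') (he : IsIso F e) : Q ≤ R' := by
  obtain ⟨ψ, hψ, hψx, hψQ⟩ := hQ.2 R _ he
  rw [Helper85.map_subgroupOf_eq_iff] at hψQ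
  intro y hy
  obtain ⟨x, hx, rfl⟩ := hψQ.2 y hy
  have e1 : x = Subgroup.inclusion le_sup_left (⟨x, hQR hx⟩ : R) := Subtype.ext rfl
  rw [e1, hψx]
  exact (e _).2

/-! ### Transporting the maps normalizing a subgroup to a fully normalized conjugate -/

/-- If the maps of the system on `N_S(R)` are maps of `E`, and the maps normalizing the fully normalized conjugates of
`R` are maps of `E`, then so are the maps normalizing `R`. -/
theorem transport_normalizer [Finite S] {p : ℕ} [Fact p.Prime] (hS : IsPGroup p S) (F : FusionSystem S)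
    (hF : F.IsSaturated p) {S' : Subgroup Ω} (E : FusionSystem S') {R : Subgroup Ω} (hRS : R ≤ S)
    (hχE : ∀ χ : normalizerIn S R →* Ω, χ ∈ F.Hom (normalizerIn S R) → χ ∈ E.Hom (normalizerIn S R))
    (hR' : ∀ R' : Subgroup Ω, F.IsFullyNormalized R' → ∀ e : R ≃* R', IsIso F e →
      ∀ (A' : Subgroup Ω) (ψ' : A' →* Ω), ψ' ∈ F.Hom A' → R' ≤ A' → A' ≤ normalizerIn S R' →
        (R'.subgroupOf A').map ψ' = R' → ψ' ∈ E.Hom A')
    (A : Subgroup Ω) (ψ : A →* Ω) (hψ : ψ ∈ F.Hom A) (hRA : R ≤ A) (hAN : A ≤ normalizerIn S R)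
    (hψR : (R.subgroupOf A).map ψ = R) : ψ ∈ E.Hom A := by
  obtain ⟨R', hconj, hfn⟩ := exists_isConj_fullyNormalized F hRS
  obtain ⟨hfc, hfa⟩ := fullyAutomized_fullyCentralized_of_fullyNormalized hS F hF hfn
  have hrec := receptive_of_fullyCentralized hS F hF hfc
  obtain ⟨e, he⟩ := (isConj_iff F R R').mp hconj
  obtain ⟨χ, hχ, e', he', hχx⟩ := exists_extension_normalizerIn hS F hfa hrec e he
  have hR'S : R' ≤ S := hfn.1
  have hχS : ∀ z, χ z ∈ S := (F.le_of_mem hχ).2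
  have hχinj := F.injective_of_mem hχ
  have hψN : ∀ x : A, ψ x ∈ normalizerIn S R := (mem_normalizerHom_of_le F hRA hAN hψ hψR).2.2.1
  obtain ⟨ψ', hψ', hval⟩ := Cfsg.Agent.Helper88.Ctrl.exists_transport F hχ hAN hψ hψN
  have hχR : ∀ (r : Ω) (hr : r ∈ R), χ ⟨r, le_normalizerIn hRS hr⟩ = e' ⟨r, hr⟩ := fun r hr => hχx ⟨r, hr⟩
  have hψRR := (Helper85.map_subgroupOf_eq_iff ψ).mp hψR
  have hR'A' : R' ≤ (χ.comp (Subgroup.inclusion hAN)).range := by
    intro y hy
    obtain ⟨r, hr⟩ := e'.surjective ⟨y, hy⟩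
    refine ⟨⟨r, hRA r.2⟩, ?_⟩
    have := hχR r r.2
    show χ ⟨r, _⟩ = y
    rw [this, Subtype.coe_eta, hr]
  have hA'N : (χ.comp (Subgroup.inclusion hAN)).range ≤ normalizerIn S R' := by
    rintro _ ⟨x, rfl⟩
    refine ⟨hχS _, ?_⟩
    refine map_mem_normalizer χ (le_normalizerIn hRS) (fun q => ?_) (fun y hy => ?_) _ (hAN x.2).2
    · have := hχR q q.2
      show χ ⟨q, _⟩ ∈ R'
      rw [this]
      exact (e' _).2
    · obtain ⟨r, hr⟩ := e'.surjective ⟨y, hy⟩
      refine ⟨r, ?_⟩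
      have := hχR r r.2
      show χ ⟨r, _⟩ = y
      rw [this, Subtype.coe_eta, hr]
  have hψ'R' : (R'.subgroupOf (χ.comp (Subgroup.inclusion hAN)).range).map ψ' = R' := by
    rw [Helper85.map_subgroupOf_eq_iff]
    constructor
    · rintro ⟨_, x, rfl⟩ hy
      obtain ⟨r, hr⟩ := e'.surjective ⟨_, hy⟩
      have h3 : χ ⟨r, le_normalizerIn hRS r.2⟩ = χ (Subgroup.inclusion hAN x) := by
        rw [hχR r r.2, Subtype.coe_eta, hr]
        rfl
      have h4 := hχinj h3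
      have hxR : (x : Ω) ∈ R := by
        have : (r : Ω) = x := congrArg Subtype.val h4
        rw [← this]
        exact r.2
      have h5 : ψ x ∈ R := hψRR.1 x hxR
      have h6 := hval x
      show ψ' ⟨χ (Subgroup.inclusion hAN x), ⟨x, rfl⟩⟩ ∈ R'
      rw [h6]
      have := hχR (ψ x) h5
      rw [this]
      exact (e' _).2
    · intro y hy
      obtain ⟨r, hr⟩ := e'.surjective ⟨y, hy⟩
      obtain ⟨r₀, hr₀, hr₀r⟩ := hψRR.2 r r.2
      refine ⟨⟨χ (Subgroup.inclusion hAN r₀), ⟨r₀, rfl⟩⟩, ?_, ?_⟩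
      · have := hχR r₀ hr₀
        show χ ⟨r₀, _⟩ ∈ R'
        rw [this]
        exact (e' _).2
      · rw [hval r₀]
        have h7 : (⟨ψ r₀, hψN r₀⟩ : normalizerIn S R) = ⟨r, le_normalizerIn hRS r.2⟩ := Subtype.ext hr₀r
        rw [h7, hχR r r.2, Subtype.coe_eta, hr]
  have hψ'E := hR' R' hfn e' he' _ ψ' hψ' hR'A' hA'N hψ'R'
  exact transport_mem E (hχE χ hχ) hAN hψN hψ'E hval

/-! ### The chain lemma -/

/-- **The chain lemma.** In a non-constrained situation (`C_S(Q) ≰ Q` for the normal subgroup `Q`), if all the maps of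
the system on subgroups of order larger than `t` are maps of `E`, and the normalizer systems of the fully normalized
subgroups properly containing `Q` have the generation property, then the maps normalizing `J(N_S(Y))` are maps of `E`
whenever `Q ≤ Y` and `|N_S(Y)| > t`. -/
theorem chain_J [Finite S] {p : ℕ} [Fact p.Prime] (hS : IsPGroup p S) (F : FusionSystem S) (hF : F.IsSaturated p)
    {Q : Subgroup Ω} (hQ : F.IsNormal Q) (hncon : ¬ centralizerIn S Q ≤ Q)
    {S' : Subgroup Ω} (E : FusionSystem S') (hE : Cont p F E)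
    (IHH : ∀ H : Subgroup Ω, F.IsFullyNormalized H → Q ≤ H → H ≠ Q →
      ∀ EH : FusionSystem (normalizerIn S H), F.IsNormalizerSystem H EH → Gen p EH)
    (t : ℕ) (hbig : ∀ (N : Subgroup Ω) (ψ : N →* Ω), t < Nat.card N → ψ ∈ F.Hom N → ψ ∈ E.Hom N) :
    ∀ (d : ℕ) (Y T : Subgroup Ω), T = normalizerIn S Y → Q ≤ Y → Y ≤ S → Nat.card S - Nat.card T = d →
      t < Nat.card T →
      ∀ P : Subgroup Ω, F.normalizerHom (Cfsg.thompsonSubgroupAOf T) P ⊆ E.Hom P := by
  intro d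
  induction d using Nat.strong_induction_on with
  | _ d IH =>
  intro Y T hT hQY hYS hd ht P φ hφ
  have hTS : T ≤ S := by rw [hT]; exact inf_le_left
  have hfinT : Finite T := finite_of_le hTS
  by_cases hTeq : T = S
  · rw [hTeq] at hφ
    exact hE.hN P hφ
  · have hTlt : T < S := lt_of_le_of_ne hTS hTeq
    have hQS : Q ≤ S := hQ.1
    have hSQ : S ≤ Subgroup.normalizer (Q : Set Ω) := le_normalizer_of_isNormal F hQ
    have hYT : Y ≤ T := by rw [hT]; exact le_normalizerIn hYS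
    have hQT : Q ≤ T := hQY.trans hYT
    have hJT : Cfsg.thompsonSubgroupAOf T ≤ T := Cfsg.Agent.Helper2.FusGT.j_le T
    have hHS : Cfsg.thompsonSubgroupAOf T ⊔ Q ≤ S := sup_le (hJT.trans hTS) hQS
    have hQH : Q ≤ Cfsg.thompsonSubgroupAOf T ⊔ Q := le_sup_right
    -- `H ≠ Q`
    have hHQ : Cfsg.thompsonSubgroupAOf T ⊔ Q ≠ Q := by
      intro h
      have hJQ : Cfsg.thompsonSubgroupAOf T ≤ Q := by
        have h1 : Cfsg.thompsonSubgroupAOf T ≤ Cfsg.thompsonSubgroupAOf T ⊔ Q := le_sup_left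
        rw [h] at h1
        exact h1
      apply hncon
      have hcen : Subgroup.centralizer (Q : Set Ω) ≤
          Subgroup.centralizer ((Cfsg.thompsonSubgroupAOf T : Subgroup Ω) : Set Ω) :=
        Subgroup.centralizer_le (by exact_mod_cast hJQ)
      have h2 : normalizerIn S Y ⊓ centralizerIn S Q ≤ Y := by
        intro x hx
        apply hQY
        apply hJQ
        apply centralizerIn_J_le T
        refine ⟨by rw [hT]; exact hx.1, hcen hx.2.2⟩
      have hD : ∀ g ∈ S, ∀ x ∈ centralizerIn S Q, g * x * g⁻¹ ∈ centralizerIn S Q := by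
        apply conj_mem_centralizerIn
        intro g hg x hx
        exact (Subgroup.mem_normalizer_iff.mp (hSQ hg) x).mp hx
      have h3 : centralizerIn S Q ≤ Y := le_of_normalizerIn_inf_le hS inf_le_left hYS hD h2
      intro x hx
      apply hJQ
      apply centralizerIn_J_le T
      exact ⟨hYT (h3 hx), hcen hx.2⟩
    -- the normalizer of `H` is larger than `T`
    have hNTH : normalizerIn S T ≤ normalizerIn S (Cfsg.thompsonSubgroupAOf T ⊔ Q) := by
      intro g hg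
      refine ⟨hg.1, ?_⟩
      apply normalizer_inf_le_normalizer_sup
      exact ⟨Cfsg.Agent.Helper2.FusGT.j_normalizer hg.2, hSQ hg.1⟩
    have hTNT : T < normalizerIn S T := lt_normalizerIn hS hTlt
    have hfinNH : Finite ↥(normalizerIn S (Cfsg.thompsonSubgroupAOf T ⊔ Q)) := finite_of_le inf_le_left
    have hcardH : Nat.card T < Nat.card (normalizerIn S (Cfsg.thompsonSubgroupAOf T ⊔ Q)) :=
      card_lt_card_of_lt (lt_of_lt_of_le hTNT hNTH)
    have hcardS : Nat.card T ≤ Nat.card S := Subgroup.card_le_of_le hTS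
    -- the map
    obtain ⟨hφF, hPN, hval, ψ, hψ, hψφ, hψJ⟩ := hφ
    obtain ⟨ψ₂, hψ₂, hψ₂ψ, hψ₂Q⟩ := hQ.2 _ ψ hψ
    have hJA : Cfsg.thompsonSubgroupAOf T ≤ (P ⊔ Cfsg.thompsonSubgroupAOf T) ⊔ Q :=
      le_sup_right.trans le_sup_left
    have hQA : Q ≤ (P ⊔ Cfsg.thompsonSubgroupAOf T) ⊔ Q := le_sup_right
    have hPA : P ≤ (P ⊔ Cfsg.thompsonSubgroupAOf T) ⊔ Q := le_sup_left.trans le_sup_left
    have hHA : Cfsg.thompsonSubgroupAOf T ⊔ Q ≤ (P ⊔ Cfsg.thompsonSubgroupAOf T) ⊔ Q := sup_le hJA hQA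
    have hψ₂J : ((Cfsg.thompsonSubgroupAOf T).subgroupOf ((P ⊔ Cfsg.thompsonSubgroupAOf T) ⊔ Q)).map ψ₂ =
        Cfsg.thompsonSubgroupAOf T :=
      map_subgroupOf_eq_of_extends le_sup_left le_sup_right ψ ψ₂ hψ₂ψ hψJ
    have hψ₂H : ((Cfsg.thompsonSubgroupAOf T ⊔ Q).subgroupOf ((P ⊔ Cfsg.thompsonSubgroupAOf T) ⊔ Q)).map ψ₂ =
        Cfsg.thompsonSubgroupAOf T ⊔ Q :=
      map_subgroupOf_sup_eq ψ₂ hJA hQA hψ₂J hψ₂Q
    have hPNH : P ≤ normalizerIn S (Cfsg.thompsonSubgroupAOf T ⊔ Q) := by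
      intro x hx
      have h1 := hPN hx
      exact ⟨h1.1, normalizer_inf_le_normalizer_sup _ _ ⟨h1.2, hSQ h1.1⟩⟩
    have hHN : Cfsg.thompsonSubgroupAOf T ⊔ Q ≤ normalizerIn S (Cfsg.thompsonSubgroupAOf T ⊔ Q) :=
      le_normalizerIn hHS
    have hAN : (P ⊔ Cfsg.thompsonSubgroupAOf T) ⊔ Q ≤ normalizerIn S (Cfsg.thompsonSubgroupAOf T ⊔ Q) :=
      sup_le (sup_le hPNH (le_sup_left.trans hHN)) (le_sup_right.trans hHN)
    have hψ₂E : ψ₂ ∈ E.Hom ((P ⊔ Cfsg.thompsonSubgroupAOf T) ⊔ Q) := by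
      refine transport_normalizer hS F hF E hHS (fun χ hχ => hbig _ χ (by omega) hχ) ?_ _ ψ₂ hψ₂ hHA hAN hψ₂H
      intro R' hfn e he A' ψ' hψ' hR'A' hA'N hψ'R'
      have hR'S : R' ≤ S := hfn.1
      have hQR' : Q ≤ R' := le_of_isConj_of_isNormal F hQ hQH e he
      have hfinH : Finite ↥(Cfsg.thompsonSubgroupAOf T ⊔ Q) := finite_of_le hHS
      have hfinR' : Finite R' := finite_of_le hR'S
      have hR'Q : R' ≠ Q := by
        intro h
        apply hHQ
        have hc : Nat.card ↥(Cfsg.thompsonSubgroupAOf T ⊔ Q) = Nat.card R' := Nat.card_congr e.toEquiv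
        have hc2 : Nat.card R' = Nat.card Q := by rw [h]
        exact (Subgroup.eq_of_le_of_card_ge hQH (by omega)).symm
      have hcard' : Nat.card (normalizerIn S (Cfsg.thompsonSubgroupAOf T ⊔ Q)) ≤ Nat.card (normalizerIn S R') :=
        hfn.2 _ ((isConj_iff F R' _).mpr ⟨e.symm, he.symm⟩)
      have hcardS' : Nat.card (normalizerIn S R') ≤ Nat.card S := Subgroup.card_le_of_le inf_le_left
      have hIH := IH (Nat.card S - Nat.card (normalizerIn S R')) (by omega) R' (normalizerIn S R') rfl hQR' hR'S rfl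
        (by omega)
      obtain ⟨ER, hER⟩ := Cfsg.Agent.S5096.result F R' hR'S
      have hgen := IHH R' hfn hQR' hR'Q ER hER
      have hsub := hgen S' E ⟨fun P₁ φ₁ hφ₁ => hE.hC P₁ (centralizerHom_normSys_subset F hR'S ER hER P₁ hφ₁),
        fun P₁ φ₁ hφ₁ => hIH P₁ (normalizerHom_normSys_subset F ER hER _ P₁ hφ₁)⟩
      apply hsub A'
      rw [hER A']
      exact mem_normalizerHom_of_le F hR'A' hA'N hψ' hψ'R'
    have h1 := restrict_mem E hψ₂E hPA
    refine mem_of_eq E h1 (fun x => ?_)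
    rw [← hψφ x, ← hψ₂ψ]
    rfl

end Cfsg.Agent.Helper47.Gen
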