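import Cfsg.Agent.Helper47.GenFus5
import Cfsg.Agent.Helper87.FusionInduct
import Cfsg.Agent.S5080
import Cfsg.Agent.S5098
import Cfsg.Agent.S5145

/-!
# The generation theorem `F = ⟨C_F(℧¹(Z(S))), N_F(J(S))⟩`: the induction (helper47; S5220)
-/

set_option autoImplicit false
set_option linter.unusedSectionVars false

namespace Cfsg.Agent.Helper47.Gen

open Cfsg Cfsg.FusionSystem Cfsg.Agent.Helper87 Cfsg.Agent.Helper84

universe u

variable {Ω : Type u} [Group Ω] {S : Subgroup Ω}

/-- An automorphism carries the whole subgroup onto itself. -/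
theorem map_subgroupOf_self_aut {R : Subgroup Ω} (α : MulAut R) :
    (R.subgroupOf R).map (R.subtype.comp (α : R ≃* R).toMonoidHom) = R := by
  rw [Helper85.map_subgroupOf_eq_iff]
  refine ⟨fun x _ => (α x).2, fun y hy => ⟨α⁻¹ ⟨y, hy⟩, (α⁻¹ ⟨y, hy⟩).2, ?_⟩⟩
  show ((α (α⁻¹ ⟨y, hy⟩) : R) : Ω) = y
  rw [MulAut.apply_inv_self]

/-- **The non-constrained step.** -/
theorem step_nonconstrained [Finite S] {p : ℕ} [Fact p.Prime] (hS : IsPGroup p S) (F : FusionSystem S)
    (hF : F.IsSaturated p) {Q : Subgroup Ω} (hQ : F.IsNormal Q) (hncon : ¬ centralizerIn S Q ≤ Q)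
    {S' : Subgroup Ω} (E : FusionSystem S') (hE : Cont p F E)
    (IHH : ∀ H : Subgroup Ω, F.IsFullyNormalized H → Q ≤ H → H ≠ Q →
      ∀ EH : FusionSystem (normalizerIn S H), F.IsNormalizerSystem H EH → Gen p EH)
    {R : Subgroup Ω} (hQR : Q ≤ R) (hRlt : R < S) (hRc : F.IsCentric R) (hRfn : F.IsFullyNormalized R)
    (ih : ∀ (N : Subgroup Ω) (ψ : N →* Ω), Nat.card R < Nat.card N → ψ ∈ F.Hom N → ψ ∈ E.Hom N)
    (α : MulAut R) (hα : α ∈ F.autGroup R) : R.subtype.comp (α : R ≃* R).toMonoidHom ∈ E.Hom R := by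
  have hRS : R ≤ S := hRlt.le
  have hRQ : R ≠ Q := by
    intro h
    apply hncon
    have h1 := hRc.2 R (isConj_refl F hRS)
    rw [h] at h1
    exact h1
  obtain ⟨ER, hER⟩ := Cfsg.Agent.S5096.result F R hRS
  have hgen := IHH R hRfn hQR hRQ ER hER
  have hfinN : Finite ↥(normalizerIn S R) := finite_of_le inf_le_left
  have hcard : Nat.card R < Nat.card (normalizerIn S R) := card_lt_card_of_lt (lt_normalizerIn hS hRlt)
  have hchain := chain_J hS F hF hQ hncon E hE IHH (Nat.card R) ih _ R (normalizerIn S R) rfl hQR hRS rfl hcard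
  have hsub := hgen S' E ⟨fun P₁ φ₁ hφ₁ => hE.hC P₁ (centralizerHom_normSys_subset F hRS ER hER P₁ hφ₁),
    fun P₁ φ₁ hφ₁ => hchain P₁ (normalizerHom_normSys_subset F ER hER _ P₁ hφ₁)⟩
  apply hsub R
  rw [hER R]
  exact mem_normalizerHom_of_le F le_rfl (le_normalizerIn hRS) ((mem_autGroup_iff F hRS α).mp hα)
    (map_subgroupOf_self_aut α)

/-- The inner induction: systems over groups of order `n`, by the index of the core. -/
theorem gen_step {p : ℕ} [Fact p.Prime] (n : ℕ)
    (IH : ∀ (S' : Subgroup Ω) [Finite S'], IsPGroup p S' → Nat.card S' < n →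
      ∀ F' : FusionSystem S', F'.IsSaturated p → Gen p F') :
    ∀ (d : ℕ) (S : Subgroup Ω) [Finite S], IsPGroup p S → Nat.card S = n →
      ∀ F : FusionSystem S, F.IsSaturated p → n - Nat.card F.core = d → Gen p F := by
  intro d
  induction d using Nat.strong_induction_on with
  | _ d IHd =>
  intro S _ hS hn F hF hd
  have hQ := Cfsg.Agent.S5145.result F
  have hQS : F.core ≤ S := hQ.1
  have hfinQ : Finite F.core := finite_of_le hQS
  have hcardQ : Nat.card F.core ≤ n := by rw [← hn]; exact Subgroup.card_le_of_le hQS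
  -- the normalizer systems of the fully normalized subgroups properly containing the core
  have IHH : ∀ H : Subgroup Ω, F.IsFullyNormalized H → F.core ≤ H → H ≠ F.core →
      ∀ EH : FusionSystem (normalizerIn S H), F.IsNormalizerSystem H EH → Gen p EH := by
    intro H hfn hQH hHQ EH hEH
    have hHS : H ≤ S := hfn.1
    have hEsat := Cfsg.Agent.S5098.result p hS F hF H hfn EH hEH
    have hNS : normalizerIn S H ≤ S := inf_le_left
    have hfinN : Finite ↥(normalizerIn S H) := finite_of_le hNS
    have hNp : IsPGroup p ↥(normalizerIn S H) := hS.to_le hNS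
    have hcardN : Nat.card ↥(normalizerIn S H) ≤ Nat.card S := Subgroup.card_le_of_le hNS
    by_cases hlt : Nat.card ↥(normalizerIn S H) < n
    · exact IH (normalizerIn S H) hNp hlt EH hEsat
    · have hcard : Nat.card ↥(normalizerIn S H) = n := by omega
      have hHcore : H ≤ EH.core := le_sSup (isNormal_normalizerSystem F hHS EH hEH)
      have hEcoreN : EH.core ≤ normalizerIn S H := (Cfsg.Agent.S5145.result EH).1
      have hfinEc : Finite EH.core := finite_of_le (hEcoreN.trans hNS)
      have hlt2 : F.core < EH.core := lt_of_lt_of_le (lt_of_le_of_ne hQH (Ne.symm hHQ)) hHcore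
      have hc1 : Nat.card F.core < Nat.card EH.core := card_lt_card_of_lt hlt2
      have hc2 : Nat.card EH.core ≤ Nat.card ↥(normalizerIn S H) := Subgroup.card_le_of_le hEcoreN
      exact IHd (n - Nat.card EH.core) (by omega) (normalizerIn S H) hNp hcard EH hEsat rfl
  -- the systems containing the two subsystems
  intro S' E hE P
  have key : ∀ R : Subgroup Ω, F.IsFullyAutomized p R → F.IsReceptive R →
      (∀ (N : Subgroup Ω) (ψ : N →* Ω), Nat.card R < Nat.card N → ψ ∈ F.Hom N → ψ ∈ E.Hom N) →
      ∀ α ∈ F.autGroup R, R.subtype.comp (α : R ≃* R).toMonoidHom ∈ E.Hom R := by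
    intro R hRa hRr ih α hα
    have hRS : R ≤ S := hRa.1
    have hαF : R.subtype.comp (α : R ≃* R).toMonoidHom ∈ F.Hom R := (mem_autGroup_iff F hRS α).mp hα
    by_cases hReq : R = S
    · subst hReq
      have hSJ : R ≤ Subgroup.normalizer ((Cfsg.thompsonSubgroupAOf R : Subgroup Ω) : Set Ω) :=
        Subgroup.le_normalizer.trans Cfsg.Agent.Helper2.FusGT.j_normalizer
      apply hE.hN R
      exact mem_normalizerHom_of_le F (Cfsg.Agent.Helper2.FusGT.j_le R) (le_inf le_rfl hSJ) hαF
        (map_J_eq le_rfl _ (F.injective_of_mem hαF) (map_subgroupOf_self_aut α))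
    · have hRlt : R < S := lt_of_le_of_ne hRS hReq
      -- work inside the intersection system
      have hle : F.autGroup R ≤ (interSys F E (fun P g hP hg => conj_mem_of_cont hE P g hP hg)).autGroup R := by
        apply autGroup_le_of_larger hS F _ hRa hRr hRlt
        · intro hess β hβ
          rw [mem_autGroup_iff _ hRS]
          refine ⟨(mem_autGroup_iff F hRS β).mp hβ, ?_⟩
          have hRc : F.IsCentric R := hess.1
          have hRfn : F.IsFullyNormalized R := hess.2.1
          have hRrad : F.IsRadical p R := Cfsg.Agent.S5080.result p hS F hF R hess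
          have hQR : F.core ≤ R := le_of_isNormal_of_centric_radical hS F hQ hRc hRrad
          by_cases hcon : centralizerIn S F.core ≤ F.core
          · refine step_constrained hS F hQ hcon E hE ?_ hQR hRa hRr ih β hβ
            intro D hDS hSD hQD hDQ ED hED
            exact IHH D (Cfsg.Agent.Helper88.Ctrl.isFullyNormalized_of_le_normalizer F hDS hSD) hQD hDQ ED hED
          · exact step_nonconstrained hS F hF hQ hcon E hE IHH hQR hRlt hRc hRfn ih β hβ
        · intro N ψ hlt hψ
          have hNS : N ≤ S := (F.le_of_mem hψ).1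
          have hfinN : Finite N := finite_of_le hNS
          exact ⟨hψ, ih N ψ (card_lt_card_of_lt hlt) hψ⟩
      have := (mem_autGroup_iff _ hRS α).mp (hle hα)
      exact this.2
  have hsub := hom_subset_of_autGroup_le hS F (interSys F E (fun P g hP hg => conj_mem_of_cont hE P g hP hg)) hF
    (fun R hRa hRr ih => by
      intro α hα
      have hRS : R ≤ S := hRa.1
      rw [mem_autGroup_iff _ hRS]
      exact ⟨(mem_autGroup_iff F hRS α).mp hα, key R hRa hRr (fun N ψ hlt hψ => (ih N ψ hlt hψ).2) α hα⟩) P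
  intro φ hφ
  exact (hsub hφ).2

/-- **The generation theorem.** -/
theorem gen_main {p : ℕ} [Fact p.Prime] :
    ∀ (n : ℕ) (S : Subgroup Ω) [Finite S], IsPGroup p S → Nat.card S = n →
      ∀ F : FusionSystem S, F.IsSaturated p → Gen p F := by
  intro n
  induction n using Nat.strong_induction_on with
  | _ n IHn =>
  intro S _ hS hn F hF
  refine gen_step n ?_ _ S hS hn F hF rfl
  intro S' _ hS' hlt F' hF'
  exact IHn (Nat.card S') hlt S' hS' rfl F' hF'

end Cfsg.Agent.Helper47.Gen
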