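import Mathlib
import Cfsg.Agent.Helper47.SGBound
import Cfsg.Agent.Helper50.HH3

set_option autoImplicit false

/-!
# Shult–Gross (S3793): the generalized bound applied on the stabilizer of a character (helper47)
-/

namespace Cfsg.Agent.Helper47.SG

open Cfsg.Agent.Helper50
open scoped commutatorElement

section Apply

variable {K : Type*} [Field K] {M : Type*} [AddCommGroup M] [Module K M]
variable {Γ : Type*} [Group Γ]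

/-- the stabilizer of the "character" `χ` of the normal subgroup `Z` -/
def chiStab (Z : Subgroup Γ) [hZ : Z.Normal] (χ : Γ → Kˣ) : Subgroup Γ where
  carrier := {g | ∀ z ∈ Z, χ (g * z * g⁻¹) = χ z}
  one_mem' := by
    intro z _
    simp
  mul_mem' := by
    intro g h hg hh z hz
    have h1 : g * h * z * (g * h)⁻¹ = g * (h * z * h⁻¹) * g⁻¹ := by group
    rw [h1, hg _ (hZ.conj_mem z hz h), hh z hz]
  inv_mem' := by
    intro g hg z hz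
    have hz' : g⁻¹ * z * g⁻¹⁻¹ ∈ Z := hZ.conj_mem z hz g⁻¹
    have h1 := hg _ hz'
    have h2 : g * (g⁻¹ * z * g⁻¹⁻¹) * g⁻¹ = z := by group
    rw [h2] at h1
    exact h1.symm

theorem mem_chiStab {Z : Subgroup Γ} [Z.Normal] {χ : Γ → Kˣ} {g : Γ} :
    g ∈ chiStab Z χ ↔ ∀ z ∈ Z, χ (g * z * g⁻¹) = χ z := Iff.rfl

theorem bound_apply [IsAlgClosed K] [FiniteDimensional K M] [Finite Γ]
    (ρ : Γ →* Module.End K M) (Q Z T₀ : Subgroup Γ) [hQn : Q.Normal] [hZn : Z.Normal] (hZQ : Z ≤ Q)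
    (hcomm : ∀ a ∈ Q, ∀ b ∈ Q, ⁅a, b⁆ ∈ Z) (hZc : ∀ z ∈ Z, ∀ a ∈ Q, a * z = z * a)
    (hQK : (Nat.card Q : K) ≠ 0) (χ : Γ → Kˣ)
    (hχmul : ∀ z ∈ Z, ∀ z' ∈ Z, χ (z * z') = χ z * χ z')
    (hT₀ : ∀ a, a ∈ T₀ ↔ a ∈ Q ∧ ∀ b ∈ Q, χ ⁅a, b⁆ = 1)
    (y : Γ) (hyK : (orderOf y : K) ≠ 0)
    (hyχ : ∀ z ∈ Z, χ (y * z * y⁻¹) = χ z)
    (hyZ : ∀ y' ∈ Subgroup.zpowers y, y' ∈ Z → y' = 1)
    (hfree : ∀ y' ∈ Subgroup.zpowers y, y' ≠ 1 → ∀ a ∈ Q, ⁅y', a⁆ ∈ Z → a ∈ Z)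
    (M₁ : Submodule K M) (hM₁ : M₁ ≠ ⊥)
    (hscal : ∀ z ∈ Z, ∀ m ∈ M₁, ρ z m = ((χ z : Kˣ) : K) • m)
    (hinv : ∀ g : Γ, (∀ z ∈ Z, χ (g * z * g⁻¹) = χ z) → ∀ m ∈ M₁, ρ g m ∈ M₁)
    (hfix₁ : ∀ m ∈ M₁, ρ y m = m → m = 0) :
    T₀.relIndex Q ≤ (orderOf y - 1) ^ 2 := by
  classical
  set Γ₁ : Subgroup Γ := chiStab Z χ with hΓ₁
  have hQΓ : Q ≤ Γ₁ := by
    intro a ha z hz
    have h1 : a * z * a⁻¹ = z := by rw [hZc z hz a ha]; group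
    rw [h1]
  have hyΓ : y ∈ Γ₁ := hyχ
  have hχ1 : χ 1 = 1 := by
    have h := hχmul 1 Z.one_mem 1 Z.one_mem
    rw [mul_one] at h
    exact (mul_eq_left (a := χ 1) (b := χ 1)).mp h.symm
  have hχinv : ∀ z ∈ Z, χ z⁻¹ = (χ z)⁻¹ := by
    intro z hz
    have h := hχmul z hz z⁻¹ (Z.inv_mem hz)
    rw [mul_inv_cancel, hχ1] at h
    exact eq_inv_of_mul_eq_one_right h.symm
  have hMnt : Nontrivial ↥M₁ := (Submodule.nontrivial_iff_ne_bot).mpr hM₁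
  let ρ₁ : ↥Γ₁ →* Module.End K ↥M₁ :=
    restrictRep (ρ.comp Γ₁.subtype) M₁ (fun g m hm => hinv (g : Γ) g.2 m hm)
  have hρ₁ : ∀ (g : ↥Γ₁) (m : ↥M₁), ((ρ₁ g m : ↥M₁) : M) = ρ (g : Γ) (m : M) := fun g m => rfl
  have hcoe : ∀ a b : ↥Γ₁, ((⁅a, b⁆ : ↥Γ₁) : Γ) = ⁅(a : Γ), (b : Γ)⁆ := fun a b => rfl
  -- scalars
  have hscal₁ : ∀ z : ↥Γ₁, (z : Γ) ∈ Z → ρ₁ z = ((χ (z : Γ) : Kˣ) : K) • (1 : Module.End K ↥M₁) := by
    intro z hz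
    apply LinearMap.ext
    intro m
    apply Subtype.ext
    rw [hρ₁, LinearMap.smul_apply, Submodule.coe_smul, Module.End.one_apply]
    exact hscal _ hz m m.2
  have hsne : ∀ s : K, s • (1 : Module.End K ↥M₁) = 1 → s = 1 := by
    intro s hs
    obtain ⟨m, hm⟩ := exists_ne (0 : ↥M₁)
    have h1 := LinearMap.congr_fun hs m
    rw [LinearMap.smul_apply, Module.End.one_apply] at h1
    have h2 : (s - 1) • m = 0 := by rw [sub_smul, one_smul, h1, sub_self]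
    rcases smul_eq_zero.mp h2 with h3 | h3
    · exact sub_eq_zero.mp h3
    · exact absurd h3 hm
  have hrel : (T₀.subgroupOf Γ₁).relIndex (Q.subgroupOf Γ₁) = T₀.relIndex Q :=
    Subgroup.relIndex_subgroupOf hQΓ
  rw [← hrel]
  have hord : orderOf (⟨y, hyΓ⟩ : ↥Γ₁) = orderOf y := by
    rw [← Subgroup.orderOf_coe]
  have hzp : ∀ y' : ↥Γ₁, y' ∈ Subgroup.zpowers (⟨y, hyΓ⟩ : ↥Γ₁) → (y' : Γ) ∈ Subgroup.zpowers y := by
    intro y' hy'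
    obtain ⟨k, rfl⟩ := Subgroup.mem_zpowers_iff.mp hy'
    rw [Subgroup.coe_zpow]
    exact Subgroup.zpow_mem_zpowers y k
  apply shult_bound_gen (M := ↥M₁) ρ₁ (Q.subgroupOf Γ₁) (Z.subgroupOf Γ₁) (T₀.subgroupOf Γ₁)
    (⟨y, hyΓ⟩ : ↥Γ₁) ?_ ?_ ?_ ?_ hyK hord ?_ ?_ ?_
  · intro a ha b hb
    rw [Subgroup.mem_subgroupOf, hcoe]
    exact hcomm _ (Subgroup.mem_subgroupOf.mp ha) _ (Subgroup.mem_subgroupOf.mp hb)
  · intro z hz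
    exact ⟨_, hscal₁ z (Subgroup.mem_subgroupOf.mp hz)⟩
  · intro c hc hcT
    rw [Subgroup.mem_subgroupOf] at hc hcT
    have h1 : ¬ ∀ b ∈ Q, χ ⁅(c : Γ), b⁆ = 1 := fun h => hcT ((hT₀ _).mpr ⟨hc, h⟩)
    push Not at h1
    obtain ⟨b, hb, hbne⟩ := h1
    refine ⟨⟨b, hQΓ hb⟩, Subgroup.mem_subgroupOf.mpr hb, ?_⟩
    have hz : ⁅b, (c : Γ)⁆ ∈ Z := hcomm b hb _ hc
    have hz' : ⁅(c : Γ), b⁆ ∈ Z := hcomm _ hc b hb
    have h2 : ⁅b, (c : Γ)⁆ = ⁅(c : Γ), b⁆⁻¹ := (commutatorElement_inv _ _).symm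
    rw [hscal₁ _ (by rw [hcoe]; exact hz)]
    intro h3
    have h4 := hsne _ h3
    rw [hcoe] at h4
    have h5 : χ ⁅b, (c : Γ)⁆ = 1 := Units.ext h4
    rw [h2, hχinv _ hz', inv_eq_one] at h5
    exact hbne h5
  · have h1 : Nat.card (Q.subgroupOf Γ₁) = Nat.card Q :=
      Nat.card_congr (Subgroup.subgroupOfEquivOfLe hQΓ).toEquiv
    rw [h1]
    exact hQK
  · intro y' hy' hy'Z
    apply Subtype.ext
    exact hyZ _ (hzp y' hy') (Subgroup.mem_subgroupOf.mp hy'Z)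
  · intro y' hy' hne a ha hmem
    rw [Subgroup.mem_subgroupOf] at ha hmem ⊢
    rw [hcoe] at hmem
    refine hfree _ (hzp y' hy') ?_ _ ha hmem
    intro h
    apply hne
    exact Subtype.ext h
  · intro m hm
    apply Subtype.ext
    apply hfix₁ _ m.2
    have := congrArg Subtype.val hm
    rw [hρ₁] at this
    exact this

end Apply

end Cfsg.Agent.Helper47.SG
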