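import Mathlib
import Cfsg.Agent.Helper47.SGDefs
import Cfsg.Agent.Helper47.SGBoundApply
import Cfsg.Agent.Helper50.SGW1
import Cfsg.Agent.Helper81.SGW2
import Cfsg.Agent.Helper14.SGW3
import Cfsg.Agent.Helper31.SGW4a
import Cfsg.Agent.Helper14.SGW4b
import Cfsg.Agent.Helper70.SGW5

set_option autoImplicit false

/-!
# Shult–Gross (S3793): the special case in representation form (helper47; assembly)
-/

namespace Cfsg.Agent.Helper47.SG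

open scoped commutatorElement

section Pairing

variable {K : Type*} [Field K] {Γ : Type*} [Group Γ]

theorem chi_one {Z : Subgroup Γ} {χ : Γ → Kˣ}
    (hχmul : ∀ z ∈ Z, ∀ z' ∈ Z, χ (z * z') = χ z * χ z') : χ 1 = 1 := by
  have h := hχmul 1 Z.one_mem 1 Z.one_mem
  rw [mul_one] at h
  exact (mul_eq_left (a := χ 1) (b := χ 1)).mp h.symm

theorem chi_inv {Z : Subgroup Γ} {χ : Γ → Kˣ}
    (hχmul : ∀ z ∈ Z, ∀ z' ∈ Z, χ (z * z') = χ z * χ z') {z : Γ} (hz : z ∈ Z) :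
    χ z⁻¹ = (χ z)⁻¹ := by
  have h := hχmul z hz z⁻¹ (Z.inv_mem hz)
  rw [mul_inv_cancel, chi_one hχmul] at h
  exact eq_inv_of_mul_eq_one_right h.symm

theorem chi_pow {Z : Subgroup Γ} {χ : Γ → Kˣ}
    (hχmul : ∀ z ∈ Z, ∀ z' ∈ Z, χ (z * z') = χ z * χ z') {z : Γ} (hz : z ∈ Z) (i : ℕ) :
    χ (z ^ i) = χ z ^ i := by
  induction i with
  | zero => rw [pow_zero, pow_zero, chi_one hχmul]
  | succ i ih => rw [pow_succ, pow_succ, hχmul _ (Z.pow_mem hz i) _ hz, ih]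

/-- the radical of the commutator pairing `(a, b) ↦ χ ⁅a, b⁆` on `Q` -/
def radical (Q Z : Subgroup Γ) (χ : Γ → Kˣ) (hcomm : ∀ a ∈ Q, ∀ b ∈ Q, ⁅a, b⁆ ∈ Z)
    (hZc : ∀ z ∈ Z, ∀ a ∈ Q, a * z = z * a)
    (hχmul : ∀ z ∈ Z, ∀ z' ∈ Z, χ (z * z') = χ z * χ z') : Subgroup Γ where
  carrier := {a | a ∈ Q ∧ ∀ b ∈ Q, χ ⁅a, b⁆ = 1}
  one_mem' := by
    refine ⟨Q.one_mem, fun b _ => ?_⟩
    rw [commutatorElement_one_left, chi_one hχmul]
  mul_mem' := by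
    rintro a a' ⟨ha, hab⟩ ⟨ha', hab'⟩
    refine ⟨Q.mul_mem ha ha', fun b hb => ?_⟩
    have hz' : ⁅a', b⁆ ∈ Z := hcomm a' ha' b hb
    have h1 : ⁅a * a', b⁆ = a * ⁅a', b⁆ * a⁻¹ * ⁅a, b⁆ := by
      simp only [commutatorElement_def]; group
    have h2 : a * ⁅a', b⁆ * a⁻¹ = ⁅a', b⁆ := by rw [hZc _ hz' a ha]; group
    rw [h1, h2, hχmul _ hz' _ (hcomm a ha b hb), hab b hb, hab' b hb, mul_one]
  inv_mem' := by
    rintro a ⟨ha, hab⟩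
    refine ⟨Q.inv_mem ha, fun b hb => ?_⟩
    have hz : ⁅a, b⁆ ∈ Z := hcomm a ha b hb
    have h1 : ⁅a⁻¹, b⁆ = a⁻¹ * ⁅a, b⁆⁻¹ * a⁻¹⁻¹ := by
      simp only [commutatorElement_def]; group
    have h2 : a⁻¹ * ⁅a, b⁆⁻¹ * a⁻¹⁻¹ = ⁅a, b⁆⁻¹ := by
      rw [hZc _ (Z.inv_mem hz) a⁻¹ (Q.inv_mem ha)]; group
    rw [h1, h2, chi_inv hχmul hz, hab b hb, inv_one]

theorem mem_radical {Q Z : Subgroup Γ} {χ : Γ → Kˣ} {hcomm : ∀ a ∈ Q, ∀ b ∈ Q, ⁅a, b⁆ ∈ Z}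
    {hZc : ∀ z ∈ Z, ∀ a ∈ Q, a * z = z * a}
    {hχmul : ∀ z ∈ Z, ∀ z' ∈ Z, χ (z * z') = χ z * χ z'} (a : Γ) :
    a ∈ radical Q Z χ hcomm hZc hχmul ↔ a ∈ Q ∧ ∀ b ∈ Q, χ ⁅a, b⁆ = 1 := Iff.rfl

end Pairing

theorem special_rep.{uK, uM, uΓ} : SpecialRepStmt.{uK, uM, uΓ} := by
  intro K _ _ M _ _ _ Γ _ _ ρ Q Z hQn hZn p q N x hZQ hcomm hZc hgen hp hp2 hq hpq hQ hZq hqK hpK
    hxord hfree hirr hZfix hfix hZρ
  classical
  haveI : Fact q.Prime := ⟨hq⟩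
  have hZab : ∀ z ∈ Z, ∀ z' ∈ Z, z * z' = z' * z := fun z hz z' hz' => hZc z' hz' z (hZQ hz)
  have hcardK : ∀ S : Subgroup Γ, S ≤ Q → (Nat.card S : K) ≠ 0 := by
    intro S hS
    obtain ⟨e, he⟩ := (IsPGroup.iff_card).mp (hQ.to_le hS)
    rw [he, Nat.cast_pow]
    exact pow_ne_zero _ hqK
  obtain ⟨χ, j, M₁, hχmul, hχne, hstab, hM₁, hscal, hinv, hfix₁⟩ :=
    Cfsg.Agent.Helper50.SGW.clifford_step ρ Z hZab (hcardK Z hZQ) x hp hxord hfix hZρ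
  have hχ1 : χ 1 = 1 := chi_one hχmul
  -- `j < N`
  have hjN : j < N := by
    by_contra hcon
    push Not at hcon
    have h1 : x ^ (p ^ j) = 1 := by
      apply orderOf_dvd_iff_pow_eq_one.mp
      rw [hxord]
      exact pow_dvd_pow p hcon
    obtain ⟨m, hm, hm0⟩ := (Submodule.ne_bot_iff _).mp hM₁
    apply hm0
    apply hfix₁ m hm
    rw [h1, map_one, Module.End.one_apply]
  set y : Γ := x ^ (p ^ j) with hy
  set b : ℕ := N - j with hb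
  have hb1 : 1 ≤ b := by omega
  have hyord : orderOf y = p ^ b := by
    rw [hy, orderOf_pow_of_dvd (pow_ne_zero _ hp.ne_zero) (by rw [hxord]; exact pow_dvd_pow p hjN.le),
      hxord, Nat.pow_div hjN.le hp.pos]
  have hypow : ∀ i : ℕ, y ^ i = x ^ (p ^ j * i) := fun i => by rw [hy, ← pow_mul]
  -- the radical
  set T₀ : Subgroup Γ := radical Q Z χ hcomm hZc hχmul with hT₀def
  have hT₀ : ∀ a, a ∈ T₀ ↔ a ∈ Q ∧ ∀ b ∈ Q, χ ⁅a, b⁆ = 1 := fun a => Iff.rfl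
  have hT₀Q : T₀ ≤ Q := fun a ha => ((hT₀ a).mp ha).1
  have hZT₀ : Z ≤ T₀ := by
    intro z hz
    refine (hT₀ z).mpr ⟨hZQ hz, fun b hb => ?_⟩
    have h1 : ⁅z, b⁆ = 1 := by
      rw [commutatorElement_def, ← hZc z hz b hb]; group
    rw [h1, hχ1]
  -- `T₀ ≠ Q`
  have hT₀ne : T₀ ≠ Q := by
    intro h
    obtain ⟨z, hz, hzne⟩ := hχne
    apply hzne
    have h1 : ∀ g ∈ Subgroup.closure {g | ∃ a ∈ Q, ∃ b ∈ Q, ⁅a, b⁆ = g}, g ∈ Z ∧ χ g = 1 := by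
      intro g hg
      induction hg using Subgroup.closure_induction with
      | mem g hg =>
        obtain ⟨a, ha, b, hb, rfl⟩ := hg
        refine ⟨hcomm a ha b hb, ?_⟩
        have ha' : a ∈ T₀ := by rw [h]; exact ha
        exact ((hT₀ a).mp ha').2 b hb
      | one => exact ⟨Z.one_mem, hχ1⟩
      | mul g g' _ _ ih ih' =>
        exact ⟨Z.mul_mem ih.1 ih'.1, by rw [hχmul _ ih.1 _ ih'.1, ih.2, ih'.2, mul_one]⟩
      | inv g _ ih =>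
        exact ⟨Z.inv_mem ih.1, by rw [chi_inv hχmul ih.1, ih.2, inv_one]⟩
    exact (h1 z (hgen hz)).2
  -- `y` normalizes `T₀`
  have hyT₀ : ∀ a ∈ T₀, y * a * y⁻¹ ∈ T₀ := by
    intro a ha
    obtain ⟨haQ, hab⟩ := (hT₀ a).mp ha
    refine (hT₀ _).mpr ⟨hQn.conj_mem a haQ y, fun c hc => ?_⟩
    have hc' : y⁻¹ * c * y⁻¹⁻¹ ∈ Q := hQn.conj_mem c hc y⁻¹
    have h1 : ⁅y * a * y⁻¹, c⁆ = y * ⁅a, y⁻¹ * c * y⁻¹⁻¹⁆ * y⁻¹ := by
      simp only [commutatorElement_def]; group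
    rw [h1, hstab _ (hcomm a haQ _ hc'), hab _ hc']
  have hyQ : ∀ a ∈ Q, y * a * y⁻¹ ∈ Q := fun a ha => hQn.conj_mem a ha y
  have hxQ : ∀ a ∈ Q, x * a * x⁻¹ ∈ Q := fun a ha => hQn.conj_mem a ha x
  have hfreey : ∀ i : ℕ, y ^ i ≠ 1 → ∀ a ∈ Q, ⁅y ^ i, a⁆ ∈ Z → a ∈ Z := by
    intro i hi a ha hmem
    rw [hypow] at hi hmem
    exact hfree _ hi a ha hmem
  -- the bound
  have hbound : T₀.relIndex Q ≤ (p ^ b - 1) ^ 2 := by
    rw [← hyord]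
    apply bound_apply ρ Q Z T₀ hZQ hcomm hZc (hcardK Q le_rfl) χ hχmul hT₀ y ?_ hstab ?_ ?_ M₁ hM₁
      hscal hinv hfix₁
    · rw [hyord, Nat.cast_pow]
      exact pow_ne_zero _ hpK
    · intro y' hy' hy'Z
      -- `y'` has `p`-power order and lies in the `q`-group `Z`
      have h1 : orderOf y' ∣ p ^ b := by
        rw [← hyord]
        exact orderOf_dvd_of_mem_zpowers hy'
      obtain ⟨e, he⟩ := (hQ.to_le hZQ) ⟨y', hy'Z⟩
      have h2 : orderOf y' ∣ q ^ e := by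
        apply orderOf_dvd_of_pow_eq_one
        have := congrArg Subtype.val he
        simpa using this
      have hcop : (p ^ b).Coprime (q ^ e) :=
        Nat.Coprime.pow _ _ ((Nat.coprime_primes hp hq).mpr hpq)
      have h3 : orderOf y' = 1 := Nat.eq_one_of_dvd_coprimes hcop h1 h2
      exact orderOf_eq_one_iff.mp h3
    · intro y' hy' hne a ha hmem
      obtain ⟨i, rfl⟩ := Cfsg.Agent.Helper50.mem_zpowers_exists_pow hy'
      exact hfreey i hne a ha hmem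
  -- the square
  have hχq : ∀ z ∈ Z, χ z ^ q = 1 := by
    intro z hz
    rw [← chi_pow hχmul hz, hZq z hz, hχ1]
  obtain ⟨k, hk⟩ := Cfsg.Agent.Helper81.SG.sq_index Q Z T₀ hZQ hcomm hZc hq χ hχmul hχq hT₀
  have hk1 : 1 ≤ k := by
    by_contra hcon
    have hk0 : k = 0 := by omega
    rw [hk0, mul_zero, pow_zero, Subgroup.relIndex_eq_one] at hk
    exact hT₀ne (le_antisymm hT₀Q hk)
  -- the congruence
  have hcong : T₀.relIndex Q ≡ 1 [MOD p ^ b] := by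
    have h1 := Cfsg.Agent.Helper14.SG.free_index Q Z hZQ y hyQ hfreey
    have h2 := Cfsg.Agent.Helper14.SG.free_index T₀ Z hZT₀ y hyT₀ (fun i hi a ha => hfreey i hi a (hT₀Q ha))
    rw [hyord] at h1 h2
    have h3 : Z.relIndex T₀ * T₀.relIndex Q = Z.relIndex Q :=
      Subgroup.relIndex_mul_relIndex Z T₀ Q hZT₀ hT₀Q
    have h4 : Z.relIndex T₀ * T₀.relIndex Q ≡ 1 * T₀.relIndex Q [MOD p ^ b] :=
      Nat.ModEq.mul_right _ h2
    rw [h3, one_mul] at h4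
    exact h4.symm.trans h1
  -- numerics
  rw [hk] at hbound hcong
  obtain ⟨hq2, hpk⟩ := Cfsg.Agent.Helper31.SG.numerics hp hp2 hq hb1 hk1 hbound hcong
  subst hq2
  -- the exceptional case
  have hfi : Z.relIndex Q ≡ 1 [MOD p ^ N] := by
    have h1 := Cfsg.Agent.Helper14.SG.free_index Q Z hZQ x hxQ hfree
    rw [hxord] at h1
    exact h1
  have hnt : ∀ d : ℕ, 2 ^ d ≡ 1 [MOD p ^ N] → 2 * k * p ^ j ∣ d := by
    intro d hd
    have h1 := Cfsg.Agent.Helper14.SG.nt_order hp hp2 hb1 (Nat.sub_le N j) hpk hd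
    rwa [hb, Nat.sub_sub_self hjN.le] at h1
  exact Cfsg.Agent.Helper70.SG.exceptional Q Z T₀ hZQ hcomm hZc hQ χ hχmul hχq hT₀ hT₀ne x hp hp2 hxord hjN hk1 hstab hk
    hfi hnt hirr hZfix

end Cfsg.Agent.Helper47.SG
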