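import Mathlib
import Cfsg.Agent.Helper64.GrossDefs
import Cfsg.Agent.Helper47.SGSpecialRep
import Cfsg.Agent.Helper50.SGW7

/-!
# Piece (REP) of helper64's WANTED #6202 for S3795 (Gross): the representation data for `p = 2`
(helper47).  Bridge `W → K ⊗ W` as in `Helper50/SGW7.lean`, then the first two thirds of
`Helper47/SGSpecialRep.lean` with `p = 2`.
-/

set_option autoImplicit false
set_option linter.style.haveILetI false

namespace Cfsg.Agent.Helper47.Gross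

open Subgroup Cfsg.Agent.Helper47.SG Cfsg.Agent.Helper62.FrobAct Cfsg.Agent.Helper71.Shult
open scoped commutatorElement TensorProduct

universe uΓ uW

section Kernel

variable {K : Type*} [Field K] {Γ : Type*} [Group Γ]

/-- the kernel of `χ` on `Z` -/
def chiKer (Z : Subgroup Γ) (χ : Γ → Kˣ)
    (hχmul : ∀ z ∈ Z, ∀ z' ∈ Z, χ (z * z') = χ z * χ z') : Subgroup Γ where
  carrier := {z | z ∈ Z ∧ χ z = 1}
  one_mem' := ⟨Z.one_mem, chi_one hχmul⟩
  mul_mem' := by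
    rintro a b ⟨ha, ha'⟩ ⟨hb, hb'⟩
    exact ⟨Z.mul_mem ha hb, by rw [hχmul a ha b hb, ha', hb', mul_one]⟩
  inv_mem' := by
    rintro a ⟨ha, ha'⟩
    exact ⟨Z.inv_mem ha, by rw [chi_inv hχmul ha, ha', inv_one]⟩

theorem mem_chiKer {Z : Subgroup Γ} {χ : Γ → Kˣ}
    {hχmul : ∀ z ∈ Z, ∀ z' ∈ Z, χ (z * z') = χ z * χ z'} (z : Γ) :
    z ∈ chiKer Z χ hχmul ↔ z ∈ Z ∧ χ z = 1 := Iff.rfl

theorem chiKer_le {Z : Subgroup Γ} {χ : Γ → Kˣ}
    {hχmul : ∀ z ∈ Z, ∀ z' ∈ Z, χ (z * z') = χ z * χ z'} : chiKer Z χ hχmul ≤ Z :=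
  fun _ hz => hz.1

/-- the index of the kernel of a nontrivial character of exponent `q` is `q` -/
theorem relIndex_chiKer [Finite Γ] {Z : Subgroup Γ} {χ : Γ → Kˣ}
    (hχmul : ∀ z ∈ Z, ∀ z' ∈ Z, χ (z * z') = χ z * χ z') {q : ℕ} (hq : q.Prime)
    (hχq : ∀ z ∈ Z, χ z ^ q = 1) (hχne : ∃ z ∈ Z, χ z ≠ 1) :
    (chiKer Z χ hχmul).relIndex Z = q := by
  classical
  let f : ↥Z →* Kˣ :=
    { toFun := fun z => χ z
      map_one' := chi_one hχmul
      map_mul' := fun a b => hχmul a a.2 b b.2 }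
  have hker : f.ker = (chiKer Z χ hχmul).subgroupOf Z := by
    ext z
    rw [MonoidHom.mem_ker, mem_subgroupOf, mem_chiKer]
    exact ⟨fun h => ⟨z.2, h⟩, fun h => h.2⟩
  have h1 : (chiKer Z χ hχmul).relIndex Z = Nat.card f.range := by
    rw [relIndex, ← hker]
    exact Subgroup.index_ker f
  rw [h1]
  have hf : ∀ z : ↥Z, f z = χ z := fun _ => rfl
  haveI : Finite f.range := Finite.of_surjective f.rangeRestrict f.rangeRestrict_surjective
  haveI : IsCyclic f.range := isCyclic_subgroup_units f.range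
  have h2 : Monoid.exponent f.range = Nat.card f.range := IsCyclic.exponent_eq_card
  have h3 : Monoid.exponent f.range ∣ q := by
    apply Monoid.exponent_dvd_of_forall_pow_eq_one
    rintro ⟨_, z, rfl⟩
    apply Subtype.ext
    have h5 : f z ^ q = 1 := by rw [hf]; exact hχq z z.2
    simpa using h5
  rcases (Nat.dvd_prime hq).mp h3 with h4 | h4
  · exfalso
    obtain ⟨z, hz, hz1⟩ := hχne
    apply hz1
    have h5 : Nat.card f.range = 1 := by rw [← h2, h4]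
    have h6 : Subsingleton f.range := (Nat.card_eq_one_iff_unique.mp h5).1
    have h7 : (⟨f ⟨z, hz⟩, ⟨_, rfl⟩⟩ : f.range) = 1 := Subsingleton.elim _ _
    have h8 := congrArg Subtype.val h7
    have h9 : f ⟨z, hz⟩ = 1 := by simpa using h8
    rw [hf] at h9
    exact h9
  · rw [← h2, h4]

end Kernel

/-- (REP) representation theory: Clifford step + crude Shult bound, `p = 2`. -/
theorem rep_data {Γ : Type uΓ} [Group Γ] [Finite Γ] {W : Type uW} [CommGroup W] [Finite W]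
    (q r N : ℕ) (φ : Γ →* MulAut W) (P Z : Subgroup Γ) [P.Normal] [Z.Normal] (x : Γ)
    (hq : q.Prime) (hr : r.Prime) (hq2 : q ≠ 2) (hr2 : r ≠ 2) (hqr : q ≠ r)
    (hexp : ∀ w : W, w ^ r = 1) (hP : IsPGroup q P) (hZP : Z ≤ P)
    (hcomm : ∀ a ∈ P, ∀ b ∈ P, ⁅a, b⁆ ∈ Z) (hZc : ∀ z ∈ Z, ∀ a ∈ P, a * z = z * a)
    (hgen : Z ≤ closure {g | ∃ a ∈ P, ∃ b ∈ P, ⁅a, b⁆ = g}) (hZq : ∀ z ∈ Z, z ^ q = 1)
    (hxord : orderOf x = 2 ^ N)
    (hfree : ∀ i : ℕ, x ^ i ≠ 1 → ∀ a ∈ P, ⁅x ^ i, a⁆ ∈ Z → a ∈ Z)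
    (hfaith : ∀ z ∈ Z, φ z = 1 → z = 1) (hZne : Z ≠ ⊥)
    (hWfix : ∀ w : W, φ x w = w → w = 1) :
    ∃ (Z0 T : Subgroup Γ) (j k : ℕ), Z0 ≤ Z ∧ Z0.relIndex Z = q ∧ j < N ∧
      (∀ z ∈ Z0, x ^ (2 ^ j) * z * (x ^ (2 ^ j))⁻¹ ∈ Z0) ∧
      (∀ z ∈ Z, ⁅x ^ (2 ^ j), z⁆ ∈ Z0) ∧
      (∀ a, a ∈ T ↔ a ∈ P ∧ ∀ b ∈ P, ⁅a, b⁆ ∈ Z0) ∧
      1 ≤ k ∧ T.relIndex P = q ^ (2 * k) ∧ q ^ k + 1 ≤ 2 ^ (N - j) := by
  classical
  haveI : Fact q.Prime := ⟨hq⟩
  haveI : Fact r.Prime := ⟨hr⟩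
  have hp : (2 : ℕ).Prime := Nat.prime_two
  have hpq : (2 : ℕ) ≠ q := fun h => hq2 h.symm
  have hpr : (2 : ℕ) ≠ r := fun h => hr2 h.symm
  have hQn : P.Normal := inferInstance
  -- the linear side
  have hexp' : ∀ v : Additive W, r • v = 0 := by
    intro v
    have : r • v = Additive.ofMul ((Additive.toMul v) ^ r) := rfl
    rw [this, hexp]
    rfl
  let _ : Module (ZMod r) (Additive W) := AddCommGroup.zmodModule (n := r) hexp'
  let ρ₀ : Γ →* Module.End (ZMod r) (Additive W) :=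
    { toFun := fun a => AddMonoidHom.toZModLinearMap r (MonoidHom.toAdditive (φ a).toMonoidHom)
      map_one' := by
        apply LinearMap.ext
        intro v
        change Additive.ofMul (φ 1 (Additive.toMul v)) = v
        rw [map_one]
        rfl
      map_mul' := by
        intro a b
        apply LinearMap.ext
        intro v
        change Additive.ofMul (φ (a * b) (Additive.toMul v)) =
          Additive.ofMul (φ a (φ b (Additive.toMul v)))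
        rw [map_mul]
        rfl }
  have hρ₀ : ∀ (a : Γ) (v : Additive W), ρ₀ a v = Additive.ofMul (φ a (Additive.toMul v)) :=
    fun _ _ => rfl
  let K := AlgebraicClosure (ZMod r)
  have hcastF : ∀ m : ℕ, ¬ r ∣ m → (m : ZMod r) ≠ 0 := fun m hm h =>
    hm ((ZMod.natCast_eq_zero_iff m r).mp h)
  have hcastK : ∀ m : ℕ, ¬ r ∣ m → (m : K) ≠ 0 := by
    intro m hm
    rw [← map_natCast (algebraMap (ZMod r) K)]
    exact (map_ne_zero (algebraMap (ZMod r) K)).mpr (hcastF m hm)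
  have hrndq : ¬ r ∣ q := fun h => hqr ((Nat.prime_dvd_prime_iff_eq hr hq).mp h).symm
  have hrndp : ¬ r ∣ 2 := fun h => hpr ((Nat.prime_dvd_prime_iff_eq hr hp).mp h).symm
  have hcardX : Nat.card (Subgroup.zpowers x) = 2 ^ N := by rw [Nat.card_zpowers, hxord]
  have hrndX : ¬ r ∣ 2 ^ N := fun h => hrndp (hr.dvd_of_dvd_pow h)
  have hXF : (Nat.card (Subgroup.zpowers x) : ZMod r) ≠ 0 := by rw [hcardX]; exact hcastF _ hrndX
  have hXK : (Nat.card (Subgroup.zpowers x) : K) ≠ 0 := by rw [hcardX]; exact hcastK _ hrndX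
  have havg0 : avg (ZMod r) ρ₀ (Subgroup.zpowers x) = (0 : Module.End (ZMod r) (Additive W)) := by
    apply LinearMap.ext
    intro v
    rw [LinearMap.zero_apply]
    have hmem : avg (ZMod r) ρ₀ (Subgroup.zpowers x) v ∈
        LinearMap.range (avg (ZMod r) ρ₀ (Subgroup.zpowers x)) := ⟨v, rfl⟩
    rw [mem_range_avg_iff ρ₀ (Subgroup.zpowers x) hXF] at hmem
    have h1 := hmem x (Subgroup.mem_zpowers x)
    rw [hρ₀] at h1
    have h3 := hWfix _ (Additive.ofMul.injective h1)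
    exact Additive.toMul.injective h3
  have havgK0 : avg K (baseRep K ρ₀) (Subgroup.zpowers x) =
      (0 : Module.End K (K ⊗[ZMod r] (Additive W))) := by
    rw [avg_baseRep, havg0, map_zero]
  have hfix := Cfsg.Agent.Helper50.fixed_eq_zero_of_avg_eq_zero (baseRep K ρ₀) x hXK havgK0
  -- some element of `Z` acts nontrivially
  have hZρ : ∃ z ∈ Z, baseRep K ρ₀ z ≠ 1 := by
    obtain ⟨z', hz'⟩ := (Subgroup.ne_bot_iff_exists_ne_one).mp hZne
    obtain ⟨z, hz, hz1⟩ : ∃ z : Γ, z ∈ Z ∧ z ≠ 1 := ⟨(z' : Γ), z'.2, fun h => hz' (Subtype.ext h)⟩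
    refine ⟨z, hz, ?_⟩
    intro h2
    have h3 : ρ₀ z = 1 := by
      apply baseChangeHom_injective (F := ZMod r) (V := Additive W) K
      rw [map_one]
      exact h2
    apply hz1
    apply hfaith z hz
    ext w
    have h4 := LinearMap.congr_fun h3 (Additive.ofMul w)
    rw [hρ₀] at h4
    exact Additive.ofMul.injective h4
  set ρ := baseRep K ρ₀ with hρdef
  have hqK : (q : K) ≠ 0 := hcastK q hrndq
  have hpK : ((2 : ℕ) : K) ≠ 0 := hcastK 2 hrndp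
  -- now the first part of `special_rep` with `p = 2`
  have hZab : ∀ z ∈ Z, ∀ z' ∈ Z, z * z' = z' * z := fun z hz z' hz' => hZc z' hz' z (hZP hz)
  have hcardK : ∀ S : Subgroup Γ, S ≤ P → (Nat.card S : K) ≠ 0 := by
    intro S hS
    obtain ⟨e, he⟩ := (IsPGroup.iff_card).mp (hP.to_le hS)
    rw [he, Nat.cast_pow]
    exact pow_ne_zero _ hqK
  obtain ⟨χ, j, M₁, hχmul, hχne, hstab, hM₁, hscal, hinv, hfix₁⟩ :=
    Cfsg.Agent.Helper50.SGW.clifford_step ρ Z hZab (hcardK Z hZP) x hp hxord hfix hZρ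
  have hχ1 : χ 1 = 1 := chi_one hχmul
  have hjN : j < N := by
    by_contra hcon
    push Not at hcon
    have h1 : x ^ (2 ^ j) = 1 := by
      apply orderOf_dvd_iff_pow_eq_one.mp
      rw [hxord]
      exact pow_dvd_pow 2 hcon
    obtain ⟨m, hm, hm0⟩ := (Submodule.ne_bot_iff _).mp hM₁
    apply hm0
    apply hfix₁ m hm
    rw [h1, map_one, Module.End.one_apply]
  set y : Γ := x ^ (2 ^ j) with hy
  set b : ℕ := N - j with hb
  have hyord : orderOf y = 2 ^ b := by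
    rw [hy, orderOf_pow_of_dvd (pow_ne_zero _ two_ne_zero)
      (by rw [hxord]; exact pow_dvd_pow 2 hjN.le), hxord, Nat.pow_div hjN.le two_pos]
  have hypow : ∀ i : ℕ, y ^ i = x ^ (2 ^ j * i) := fun i => by rw [hy, ← pow_mul]
  set T₀ : Subgroup Γ := radical P Z χ hcomm hZc hχmul with hT₀def
  have hT₀ : ∀ a, a ∈ T₀ ↔ a ∈ P ∧ ∀ b ∈ P, χ ⁅a, b⁆ = 1 := fun a => Iff.rfl
  have hT₀Q : T₀ ≤ P := fun a ha => ((hT₀ a).mp ha).1
  -- `T₀ ≠ P`
  have hT₀ne : T₀ ≠ P := by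
    intro h
    obtain ⟨z, hz, hzne⟩ := hχne
    apply hzne
    have h1 : ∀ g ∈ Subgroup.closure {g | ∃ a ∈ P, ∃ b ∈ P, ⁅a, b⁆ = g}, g ∈ Z ∧ χ g = 1 := by
      intro g hg
      induction hg using Subgroup.closure_induction with
      | mem g hg =>
        obtain ⟨a, ha, b, hb, rfl⟩ := hg
        refine ⟨hcomm a ha b hb, ?_⟩
        have ha' : a ∈ T₀ := by rw [h]; exact ha
        exact ((hT₀ a).mp ha').2 b hb
      | one => exact ⟨Z.one_mem, hχ1⟩
      | mul g g' _ _ ih ih' =>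
        exact ⟨Z.mul_mem ih.1 ih'.1, by rw [hχmul _ ih.1 _ ih'.1, ih.2, ih'.2, mul_one]⟩
      | inv g _ ih =>
        exact ⟨Z.inv_mem ih.1, by rw [chi_inv hχmul ih.1, ih.2, inv_one]⟩
    exact (h1 z (hgen hz)).2
  have hfreey : ∀ i : ℕ, y ^ i ≠ 1 → ∀ a ∈ P, ⁅y ^ i, a⁆ ∈ Z → a ∈ Z := by
    intro i hi a ha hmem
    rw [hypow] at hi hmem
    exact hfree _ hi a ha hmem
  -- the bound
  have hbound : T₀.relIndex P ≤ (2 ^ b - 1) ^ 2 := by
    rw [← hyord]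
    apply bound_apply ρ P Z T₀ hZP hcomm hZc (hcardK P le_rfl) χ hχmul hT₀ y ?_ hstab ?_ ?_ M₁ hM₁
      hscal hinv hfix₁
    · rw [hyord, Nat.cast_pow]
      exact pow_ne_zero _ hpK
    · intro y' hy' hy'Z
      have h1 : orderOf y' ∣ 2 ^ b := by
        rw [← hyord]
        exact orderOf_dvd_of_mem_zpowers hy'
      obtain ⟨e, he⟩ := (hP.to_le hZP) ⟨y', hy'Z⟩
      have h2 : orderOf y' ∣ q ^ e := by
        apply orderOf_dvd_of_pow_eq_one
        have := congrArg Subtype.val he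
        simpa using this
      have hcop : (2 ^ b).Coprime (q ^ e) :=
        Nat.Coprime.pow _ _ ((Nat.coprime_primes hp hq).mpr hpq)
      have h3 : orderOf y' = 1 := Nat.eq_one_of_dvd_coprimes hcop h1 h2
      exact orderOf_eq_one_iff.mp h3
    · intro y' hy' hne a ha hmem
      obtain ⟨i, rfl⟩ := Cfsg.Agent.Helper50.mem_zpowers_exists_pow hy'
      exact hfreey i hne a ha hmem
  -- the square
  have hχq : ∀ z ∈ Z, χ z ^ q = 1 := by
    intro z hz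
    rw [← chi_pow hχmul hz, hZq z hz, hχ1]
  obtain ⟨k, hk⟩ := Cfsg.Agent.Helper81.SG.sq_index P Z T₀ hZP hcomm hZc hq χ hχmul hχq hT₀
  have hk1 : 1 ≤ k := by
    by_contra hcon
    have hk0 : k = 0 := by omega
    rw [hk0, mul_zero, pow_zero, Subgroup.relIndex_eq_one] at hk
    exact hT₀ne (le_antisymm hT₀Q hk)
  -- the output
  set Z0 : Subgroup Γ := chiKer Z χ hχmul with hZ0def
  have hZ0 : ∀ z, z ∈ Z0 ↔ z ∈ Z ∧ χ z = 1 := fun z => Iff.rfl
  have hconjZ : ∀ (g z : Γ), z ∈ Z → g * z * g⁻¹ ∈ Z := fun g z hz =>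
    (inferInstance : Z.Normal).conj_mem z hz g
  refine ⟨Z0, T₀, j, k, chiKer_le, relIndex_chiKer hχmul hq hχq hχne, hjN, ?_, ?_, ?_, hk1, hk, ?_⟩
  · intro z hz
    obtain ⟨hzZ, hz1⟩ := (hZ0 z).mp hz
    exact (hZ0 _).mpr ⟨hconjZ _ z hzZ, by rw [hstab z hzZ, hz1]⟩
  · intro z hz
    refine (hZ0 _).mpr ⟨?_, ?_⟩
    · rw [commutatorElement_def]
      exact Z.mul_mem (hconjZ _ z hz) (Z.inv_mem hz)
    · rw [commutatorElement_def, hχmul _ (hconjZ _ z hz) _ (Z.inv_mem hz), hstab z hz,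
        chi_inv hχmul hz, mul_inv_cancel]
  · intro a
    rw [hT₀ a]
    constructor
    · rintro ⟨ha, hab⟩
      exact ⟨ha, fun c hc => (hZ0 _).mpr ⟨hcomm a ha c hc, hab c hc⟩⟩
    · rintro ⟨ha, hab⟩
      exact ⟨ha, fun c hc => ((hZ0 _).mp (hab c hc)).2⟩
  · -- `q ^ k + 1 ≤ 2 ^ b`
    rw [hk] at hbound
    have h1 : q ^ (2 * k) = (q ^ k) ^ 2 := by rw [mul_comm, pow_mul]
    rw [h1] at hbound
    have h2 : q ^ k ≤ 2 ^ b - 1 := by
      by_contra hcon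
      push Not at hcon
      have h5 : (2 ^ b - 1) ^ 2 < (q ^ k) ^ 2 := Nat.pow_lt_pow_left hcon two_ne_zero
      exact absurd hbound (not_le.mpr h5)
    have h3 : 1 ≤ 2 ^ b := Nat.one_le_two_pow
    have h4 := Nat.add_le_add_right h2 1
    rwa [Nat.sub_add_cancel h3] at h4

end Cfsg.Agent.Helper47.Gross
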