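import Mathlib
import Cfsg.Agent.Helper82.ExtraFrob

set_option autoImplicit false

/-!
# (SYMP) for Gross's theorem, part a: generic lemmas (helper47, for helper64's S3795)

* `centSec A B`: the elements normalizing `A` with `⁅g, b⁆ ∈ A` for all `b ∈ B`, a subgroup.
* `relIndex_sup_of_le_normalizer'`: `|HN : N| = |H : H ∩ N|` for `H ≤ N_G(N)`.
* `quot_extraspecial_frobenius`: `Helper82.extraspecial_frobenius_dvd` applied to `G ⧸ N`.
* `section_extraspecial_frobenius`: the same for a section `P ⟨y⟩ / N` of an ambient group.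
-/

namespace Cfsg.Agent.Helper47.Gross

open Subgroup
open scoped commutatorElement

universe u

section generic

variable {Γ : Type*} [Group Γ]

/-- The elements `g` normalizing `A` with `⁅g, b⁆ ∈ A` for all `b ∈ B`. -/
def centSec (A : Subgroup Γ) (B : Set Γ) : Subgroup Γ where
  carrier := {g | g ∈ normalizer (A : Set Γ) ∧ ∀ b ∈ B, ⁅g, b⁆ ∈ A}
  one_mem' := by
    refine ⟨one_mem _, fun b _ => ?_⟩
    rw [commutatorElement_def]; simp
  mul_mem' := by
    rintro g h ⟨hg, hg'⟩ ⟨hh, hh'⟩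
    refine ⟨mul_mem hg hh, fun b hb => ?_⟩
    have h1 : ⁅g * h, b⁆ = g * ⁅h, b⁆ * g⁻¹ * ⁅g, b⁆ := by
      simp only [commutatorElement_def]; group
    rw [h1]
    exact A.mul_mem ((mem_normalizer_iff.mp hg _).mp (hh' b hb)) (hg' b hb)
  inv_mem' := by
    rintro g ⟨hg, hg'⟩
    refine ⟨inv_mem hg, fun b hb => ?_⟩
    have h1 : ⁅g⁻¹, b⁆ = g⁻¹ * ⁅g, b⁆⁻¹ * g⁻¹⁻¹ := by
      simp only [commutatorElement_def]; group
    rw [h1]
    exact (mem_normalizer_iff.mp (inv_mem hg) _).mp (A.inv_mem (hg' b hb))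

theorem mem_centSec {A : Subgroup Γ} {B : Set Γ} {g : Γ} :
    g ∈ centSec A B ↔ g ∈ normalizer (A : Set Γ) ∧ ∀ b ∈ B, ⁅g, b⁆ ∈ A := Iff.rfl

/-- `|HN : N| = |H : H ∩ N|` for `H ≤ N_G(N)`. -/
theorem relIndex_sup_of_le_normalizer' (H N : Subgroup Γ) (hLE : H ≤ normalizer (N : Set Γ)) :
    N.relIndex (H ⊔ N) = N.relIndex H := by
  have h1 := Subgroup.normal_subgroupOf_of_le_normalizer hLE
  have h2 := Subgroup.normal_subgroupOf_sup_of_le_normalizer hLE
  exact (Nat.card_congr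
    (QuotientGroup.quotientInfEquivProdNormalizerQuotient H N hLE).toEquiv).symm

end generic

/-- `Helper82.extraspecial_frobenius_dvd` applied to the quotient `G ⧸ N`. -/
theorem quot_extraspecial_frobenius {G : Type u} [Group G] [Finite G] (N T P : Subgroup G)
    [hN : N.Normal] [hT : T.Normal] [hP : P.Normal] {p n : ℕ} (hp : p.Prime)
    (hNT : N ≤ T) (hTP : T ≤ P) (hPtop : P ≠ ⊤) (hcyc : IsCyclic (G ⧸ P))
    (hcen : ∀ t ∈ T, ∀ x : G, x * t * x⁻¹ * t⁻¹ ∈ N)
    (hNTidx : N.relIndex T = p) (hNPidx : N.relIndex P = p ^ (2 * n + 1))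
    (hnc : ∀ g ∈ P, g ∉ T → ∃ x ∈ P, x * g * x⁻¹ * g⁻¹ ∈ T ∧ x * g * x⁻¹ * g⁻¹ ∉ N)
    (hfrob : ∀ x : G, x ∉ P → ∀ g ∈ P, x * g * x⁻¹ * g⁻¹ ∈ T → g ∈ T) :
    (P.index : ℤ) ∣ ((p ^ n : ℕ) : ℤ) - 1 ∨ (P.index : ℤ) ∣ ((p ^ n : ℕ) : ℤ) + 1 := by
  classical
  set π : G →* G ⧸ N := QuotientGroup.mk' N with hπdef
  have hπ : Function.Surjective π := QuotientGroup.mk'_surjective N
  have hker : π.ker = N := QuotientGroup.ker_mk' N
  haveI : Fintype (G ⧸ N) := Fintype.ofFinite _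
  have hQn : (P.map π).Normal := Subgroup.Normal.map hP π hπ
  have hZn : (T.map π).Normal := Subgroup.Normal.map hT π hπ
  haveI : Fintype (P.map π) := Fintype.ofFinite _
  haveI : Fintype (T.map π) := Fintype.ofFinite _
  have hmemP : ∀ g : G, π g ∈ P.map π ↔ g ∈ P := by
    intro g
    constructor
    · intro h
      have h1 : g ∈ (P.map π).comap π := h
      rw [Subgroup.comap_map_eq, hker, sup_eq_left.mpr (hNT.trans hTP)] at h1
      exact h1
    · intro h; exact Subgroup.mem_map_of_mem π h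
  have hmemT : ∀ g : G, π g ∈ T.map π ↔ g ∈ T := by
    intro g
    constructor
    · intro h
      have h1 : g ∈ (T.map π).comap π := h
      rw [Subgroup.comap_map_eq, hker, sup_eq_left.mpr hNT] at h1
      exact h1
    · intro h; exact Subgroup.mem_map_of_mem π h
  have hidx : (P.map π).index = P.index :=
    Subgroup.index_map_eq P hπ (by rw [hker]; exact hNT.trans hTP)
  have hone : ∀ g : G, π g = 1 ↔ g ∈ N := fun g => QuotientGroup.eq_one_iff g
  have key := Cfsg.Agent.Helper82.extraspecial_frobenius_dvd (K := G ⧸ N) (P.map π) (T.map π)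
    (p := p) (n := n) hp (Subgroup.map_mono hTP) ?_ ?_ ?_ ?_ ?_ ?_ ?_
  · rw [hidx] at key; exact key
  · -- Q ≠ ⊤
    intro h
    apply hPtop
    rw [eq_top_iff]
    intro g _
    rw [← hmemP g, h]; exact Subgroup.mem_top _
  · -- cyclic
    let f : G ⧸ P →* (G ⧸ N) ⧸ (P.map π) :=
      QuotientGroup.map P (P.map π) π (Subgroup.le_comap_map π P)
    have hf : Function.Surjective f := by
      intro x
      obtain ⟨x', rfl⟩ := QuotientGroup.mk_surjective x
      obtain ⟨g, rfl⟩ := hπ x'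
      exact ⟨(g : G ⧸ P), rfl⟩
    exact isCyclic_of_surjective f hf
  · -- central
    intro z hz x
    obtain ⟨t, ht, rfl⟩ := Subgroup.mem_map.mp hz
    obtain ⟨g, rfl⟩ := hπ x
    have h1 := (hone _).mpr (hcen t ht g)
    have h2 : π g * π t * (π g)⁻¹ * (π t)⁻¹ = 1 := by
      rw [← h1]; simp
    calc π g * π t = (π g * π t * (π g)⁻¹ * (π t)⁻¹) * (π t * π g) := by group
      _ = π t * π g := by rw [h2, one_mul]
  · -- card Z
    have h := Subgroup.relIndex_ker (K := T) π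
    rw [hker] at h
    rw [← h]; exact hNTidx
  · -- hnc
    intro g hg hgT
    obtain ⟨g0, hg0, rfl⟩ := Subgroup.mem_map.mp hg
    have hg0T : g0 ∉ T := fun h => hgT ((hmemT g0).mpr h)
    obtain ⟨x0, hx0, hx0T, hx0N⟩ := hnc g0 hg0 hg0T
    refine ⟨π x0, Subgroup.mem_map_of_mem π hx0, ?_, ?_⟩
    · have := Subgroup.mem_map_of_mem π hx0T
      simpa using this
    · intro h
      apply hx0N
      rw [← hone]
      simpa using h
  · -- card Q
    have h := Subgroup.relIndex_ker (K := P) π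
    rw [hker] at h
    rw [← h]; exact hNPidx
  · -- hfrob
    intro x hx g hg hc
    obtain ⟨x0, rfl⟩ := hπ x
    obtain ⟨g0, hg0, rfl⟩ := Subgroup.mem_map.mp hg
    have hx0 : x0 ∉ P := fun h => hx ((hmemP x0).mpr h)
    have hc' : π (x0 * g0 * x0⁻¹ * g0⁻¹) ∈ T.map π := by simpa using hc
    exact (hmemT g0).mpr (hfrob x0 hx0 g0 hg0 ((hmemT _).mp hc'))

/-- The same for the section `(zpowers y ⊔ P) / N` of an ambient group. -/
theorem section_extraspecial_frobenius {Γ : Type u} [Group Γ] [Finite Γ] (N T P : Subgroup Γ)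
    (y : Γ) {p n : ℕ} (hp : p.Prime) (hNT : N ≤ T) (hTP : T ≤ P)
    (hyP : y ∈ normalizer (P : Set Γ)) (hyT : y ∈ normalizer (T : Set Γ))
    (hyN : y ∈ normalizer (N : Set Γ))
    (hPT : P ≤ normalizer (T : Set Γ)) (hPN : P ≤ normalizer (N : Set Γ))
    (hyP' : y ∉ P)
    (hcen : ∀ t ∈ T, ∀ l ∈ zpowers y ⊔ P, ⁅l, t⁆ ∈ N)
    (hNTidx : N.relIndex T = p) (hNPidx : N.relIndex P = p ^ (2 * n + 1))
    (hnc : ∀ g ∈ P, g ∉ T → ∃ x ∈ P, ⁅x, g⁆ ∈ T ∧ ⁅x, g⁆ ∉ N)
    (hfrob : ∀ l ∈ zpowers y ⊔ P, l ∉ P → ∀ g ∈ P, ⁅l, g⁆ ∈ T → g ∈ T) :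
    ((P.relIndex (zpowers y ⊔ P) : ℕ) : ℤ) ∣ ((p ^ n : ℕ) : ℤ) - 1 ∨
      ((P.relIndex (zpowers y ⊔ P) : ℕ) : ℤ) ∣ ((p ^ n : ℕ) : ℤ) + 1 := by
  set L : Subgroup Γ := zpowers y ⊔ P with hL
  have hzP : zpowers y ≤ normalizer (P : Set Γ) := (zpowers_le).mpr hyP
  have hLP : L ≤ normalizer (P : Set Γ) := sup_le hzP le_normalizer
  have hLT : L ≤ normalizer (T : Set Γ) := sup_le (zpowers_le.mpr hyT) hPT
  have hLN : L ≤ normalizer (N : Set Γ) := sup_le (zpowers_le.mpr hyN) hPN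
  have hPL : P ≤ L := le_sup_right
  have hyL : y ∈ L := le_sup_left (a := zpowers y) (mem_zpowers y)
  have hPn : (P.subgroupOf L).Normal := normal_subgroupOf_of_le_normalizer hLP
  have hTn : (T.subgroupOf L).Normal := normal_subgroupOf_of_le_normalizer hLT
  have hNn : (N.subgroupOf L).Normal := normal_subgroupOf_of_le_normalizer hLN
  have hcyc : IsCyclic (↥L ⧸ P.subgroupOf L) := by
    have h1 := Subgroup.normal_subgroupOf_of_le_normalizer hzP
    have e := QuotientGroup.quotientInfEquivProdNormalizerQuotient (zpowers y) P hzP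
    have h2 : IsCyclic (↥(zpowers y) ⧸ P.subgroupOf (zpowers y)) :=
      isCyclic_of_surjective (QuotientGroup.mk' (P.subgroupOf (zpowers y)))
        (QuotientGroup.mk'_surjective _)
    exact isCyclic_of_surjective e e.surjective
  have key := quot_extraspecial_frobenius (G := ↥L) (N.subgroupOf L) (T.subgroupOf L)
    (P.subgroupOf L) (p := p) (n := n) hp
    (fun x hx => hNT hx) (fun x hx => hTP hx) ?_ hcyc ?_ ?_ ?_ ?_ ?_
  · exact key
  · -- P' ≠ ⊤
    intro h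
    rw [subgroupOf_eq_top] at h
    exact hyP' (h hyL)
  · -- hcen
    intro t ht x
    have h1 := hcen (t : Γ) ht (x : Γ) x.2
    rw [commutatorElement_def] at h1
    exact h1
  · rw [relIndex_subgroupOf (hTP.trans hPL)]; exact hNTidx
  · rw [relIndex_subgroupOf hPL]; exact hNPidx
  · -- hnc
    intro g hg hgT
    obtain ⟨x, hx, hxT, hxN⟩ := hnc (g : Γ) hg hgT
    rw [commutatorElement_def] at hxT hxN
    exact ⟨⟨x, hPL hx⟩, hx, hxT, hxN⟩
  · -- hfrob
    intro x hx g hg hc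
    have h1 := hfrob (x : Γ) x.2 hx (g : Γ) hg
    rw [commutatorElement_def] at h1
    exact h1 hc

end Cfsg.Agent.Helper47.Gross
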