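import Mathlib
import Cfsg.Agent.Helper47.GrossSYMPa
import Cfsg.Agent.S0022
import Cfsg.Agent.S3784

set_option autoImplicit false

/-!
# (SYMP) for Gross's theorem: the symplectic constraint (helper47, for helper64's S3795)

`symp_num`: in the configuration of the three level lemma, `|P : T| = q ^ (2 k)` and
`q ^ k + 1 ≤ 2 ^ b = o(y)` force `k = 1` and `q + 1 = 2 ^ b`.

Proof: with `u` the involution of `⟨y⟩`, `T / Z0 = Z / Z0 × N / Z0` where `N / Z0` is the subgroup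
inverted by `u`; `P ⟨y⟩ / N` has the extraspecial-type normal subgroup `P / N` of order
`q ^ (2 k + 1)` with centre `T / N` of order `q`, and `⟨y⟩` acts on it Frobenius-like, so
`2 ^ b ∣ q ^ k ± 1` (`Helper82.extraspecial_frobenius_dvd`), and `S3784` finishes.
-/

namespace Cfsg.Agent.Helper47.Gross

open Subgroup
open scoped commutatorElement

universe u

/-- The subgroup of `T` inverted by the involution `u` modulo `Z0`. -/
theorem exists_invSub {Γ : Type u} [Group Γ] (q : ℕ) (P Z Z0 T : Subgroup Γ) (u : Γ)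
    (hqodd : Odd q) (hPexp : ∀ a ∈ P, a ^ q = 1) (hZP : Z ≤ P)
    (hZc : ∀ z ∈ Z, ∀ a ∈ P, a * z = z * a) (hZ0 : Z0 ≤ Z) (hTP : T ≤ P) (hZT : Z ≤ T)
    (hTc : ∀ t ∈ T, ∀ b ∈ P, ⁅t, b⁆ ∈ Z0)
    (huu : u * u = 1) (huZ0 : u ∈ normalizer (Z0 : Set Γ)) (huT : u ∈ normalizer (T : Set Γ))
    (hutriv : ∀ z ∈ Z, ⁅u, z⁆ ∈ Z0) (hufree : ∀ a ∈ P, ⁅u, a⁆ ∈ Z → a ∈ Z) :
    ∃ N : Subgroup Γ, (∀ t, t ∈ N ↔ t ∈ T ∧ u * t * u⁻¹ * t ∈ Z0) ∧ Z0 ≤ N ∧ N ⊓ Z = Z0 ∧
      T ≤ Z ⊔ N := by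
  obtain ⟨m, hm⟩ := hqodd
  have hconjT : ∀ t ∈ T, u * t * u⁻¹ ∈ T := fun t ht => (mem_normalizer_iff.mp huT t).mp ht
  have hsqrt : ∀ a ∈ P, a = (a * a) ^ (m + 1) := by
    intro a ha
    rw [← pow_two, ← pow_mul, show 2 * (m + 1) = q + 1 by omega, pow_succ, hPexp a ha, one_mul]
  let N : Subgroup Γ :=
    { carrier := {t | t ∈ T ∧ u * t * u⁻¹ * t ∈ Z0}
      one_mem' := by
        refine ⟨T.one_mem, ?_⟩
        have : u * 1 * u⁻¹ * 1 = 1 := by group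
        rw [this]; exact Z0.one_mem
      mul_mem' := by
        rintro t t' ⟨ht, h1⟩ ⟨ht', h1'⟩
        refine ⟨T.mul_mem ht ht', ?_⟩
        have hs := hconjT t ht
        have hs' := hconjT t' ht'
        have hc : ⁅u * t' * u⁻¹, t⁆ ∈ Z0 := hTc _ hs' t (hTP ht)
        have hcomm := hZc _ (hZ0 hc) _ (hTP hs)
        have e : u * (t * t') * u⁻¹ * (t * t') =
            ⁅u * t' * u⁻¹, t⁆ * (u * t * u⁻¹ * t) * (u * t' * u⁻¹ * t') := by
          calc u * (t * t') * u⁻¹ * (t * t')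
              = (u * t * u⁻¹ * ⁅u * t' * u⁻¹, t⁆) * t * (u * t' * u⁻¹ * t') := by
                rw [commutatorElement_def]; group
            _ = (⁅u * t' * u⁻¹, t⁆ * (u * t * u⁻¹)) * t * (u * t' * u⁻¹ * t') := by rw [hcomm]
            _ = _ := by group
        rw [e]
        exact Z0.mul_mem (Z0.mul_mem hc h1) h1'
      inv_mem' := by
        rintro t ⟨ht, h1⟩
        refine ⟨T.inv_mem ht, ?_⟩
        have hs := hconjT t ht
        have hc : ⁅t, u * t * u⁻¹⁆ ∈ Z0 := hTc _ ht _ (hTP hs)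
        have e : u * t⁻¹ * u⁻¹ * t⁻¹ = (⁅t, u * t * u⁻¹⁆ * (u * t * u⁻¹ * t))⁻¹ := by
          rw [commutatorElement_def]; group
        rw [e]
        exact Z0.inv_mem (Z0.mul_mem hc h1) }
  have hNmem : ∀ t, t ∈ N ↔ t ∈ T ∧ u * t * u⁻¹ * t ∈ Z0 := fun t => Iff.rfl
  have hZ0N : Z0 ≤ N := by
    intro z hz
    exact (hNmem z).mpr ⟨hZT (hZ0 hz), Z0.mul_mem ((mem_normalizer_iff.mp huZ0 z).mp hz) hz⟩
  refine ⟨N, hNmem, hZ0N, ?_, ?_⟩
  · apply le_antisymm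
    · rintro z ⟨hzN, hzZ⟩
      have h1 := ((hNmem z).mp hzN).2
      have h2 := hutriv z hzZ
      have e : z * z = ⁅u, z⁆⁻¹ * (u * z * u⁻¹ * z) := by
        rw [commutatorElement_def]; group
      have h3 : z * z ∈ Z0 := by rw [e]; exact Z0.mul_mem (Z0.inv_mem h2) h1
      rw [hsqrt z (hZP hzZ)]
      exact Z0.pow_mem h3 _
    · exact le_inf hZ0N hZ0
  · intro t ht
    have hs := hconjT t ht
    have huinv : u⁻¹ = u := inv_eq_of_mul_eq_one_left huu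
    have hus : u * (u * t * u⁻¹) * u⁻¹ = t := by
      calc u * (u * t * u⁻¹) * u⁻¹ = (u * u) * t * (u⁻¹ * u⁻¹) := by group
        _ = t := by rw [huinv, huu]; group
    have hst : ⁅u * t * u⁻¹, t⁆ ∈ Z0 := hTc _ hs t (hTP ht)
    -- c = t * s is fixed
    have hcP : t * (u * t * u⁻¹) ∈ P := P.mul_mem (hTP ht) (hTP hs)
    have hcZ : t * (u * t * u⁻¹) ∈ Z := by
      apply hufree _ hcP
      have e : ⁅u, t * (u * t * u⁻¹)⁆ = ⁅u * t * u⁻¹, t⁆ := by
        have : ⁅u, t * (u * t * u⁻¹)⁆ =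
            (u * t * u⁻¹) * (u * (u * t * u⁻¹) * u⁻¹) * (t * (u * t * u⁻¹))⁻¹ := by
          rw [commutatorElement_def]; group
        rw [this, hus, commutatorElement_def]; group
      rw [e]; exact hZ0 hst
    -- d = t * s⁻¹ is inverted
    have hdN : t * (u * t * u⁻¹)⁻¹ ∈ N := by
      refine (hNmem _).mpr ⟨T.mul_mem ht (T.inv_mem hs), ?_⟩
      have e : u * (t * (u * t * u⁻¹)⁻¹) * u⁻¹ * (t * (u * t * u⁻¹)⁻¹) =
          (u * t * u⁻¹) * (u * (u * t * u⁻¹) * u⁻¹)⁻¹ * (t * (u * t * u⁻¹)⁻¹) := by group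
      rw [e, hus]
      have : (u * t * u⁻¹) * t⁻¹ * (t * (u * t * u⁻¹)⁻¹) = 1 := by group
      rw [this]; exact Z0.one_mem
    have hcomm := hZc _ (hZ0 hst) t (hTP ht)
    have e : t * t = (⁅u * t * u⁻¹, t⁆⁻¹ * (t * (u * t * u⁻¹))) * (t * (u * t * u⁻¹)⁻¹) := by
      have h1 : (t * (u * t * u⁻¹)) * (t * (u * t * u⁻¹)⁻¹) = (t * ⁅u * t * u⁻¹, t⁆) * t := by
        rw [commutatorElement_def]; group
      rw [mul_assoc, h1, hcomm]; group
    have h2 : t * t ∈ Z ⊔ N := by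
      rw [e]
      exact mul_mem (mem_sup_left (Z.mul_mem (Z.inv_mem (hZ0 hst)) hcZ)) (mem_sup_right hdN)
    rw [hsqrt t (hTP ht)]
    exact pow_mem h2 _

/-- (SYMP) the symplectic constraint. -/
theorem symp_num {Γ : Type u} [Group Γ] [Finite Γ] (q b k : ℕ) (P Z Z0 T : Subgroup Γ) (y : Γ)
    (hq : q.Prime) (hq2 : q ≠ 2) (hP : IsPGroup q P) (hPexp : ∀ a ∈ P, a ^ q = 1)
    (hZP : Z ≤ P) (hcomm : ∀ a ∈ P, ∀ b ∈ P, ⁅a, b⁆ ∈ Z) (hZc : ∀ z ∈ Z, ∀ a ∈ P, a * z = z * a)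
    (hZ0 : Z0 ≤ Z) (hidx : Z0.relIndex Z = q)
    (hT : ∀ a, a ∈ T ↔ a ∈ P ∧ ∀ b ∈ P, ⁅a, b⁆ ∈ Z0)
    (hyP : y ∈ normalizer (P : Set Γ)) (hyZ : y ∈ normalizer (Z : Set Γ))
    (hyZ0 : y ∈ normalizer (Z0 : Set Γ)) (hytriv : ∀ z ∈ Z, ⁅y, z⁆ ∈ Z0)
    (hyord : orderOf y = 2 ^ b)
    (hfree : ∀ i : ℕ, y ^ i ≠ 1 → ∀ a ∈ P, ⁅y ^ i, a⁆ ∈ Z → a ∈ Z)
    (hk : 1 ≤ k) (hTidx : T.relIndex P = q ^ (2 * k)) (hbound : q ^ k + 1 ≤ 2 ^ b) :
    k = 1 ∧ q + 1 = 2 ^ b := by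
  have _ := hyZ
  haveI : Fact q.Prime := ⟨hq⟩
  have hq3 : 3 ≤ q := by
    have := hq.two_le
    omega
  have hqodd : Odd q := hq.odd_of_ne_two hq2
  have hqk3 : 3 ≤ q ^ k := by
    calc 3 ≤ q := hq3
      _ = q ^ 1 := (pow_one q).symm
      _ ≤ q ^ k := Nat.pow_le_pow_right (by omega) hk
  have hb2 : 2 ≤ b := by
    by_contra hcon
    have hb1 : b ≤ 1 := by omega
    have : 2 ^ b ≤ 2 ^ 1 := Nat.pow_le_pow_right (by norm_num) hb1
    omega
  -- basic facts on `T`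
  have hTP : T ≤ P := fun a ha => ((hT a).mp ha).1
  have hTc : ∀ t ∈ T, ∀ b ∈ P, ⁅t, b⁆ ∈ Z0 := fun t ht => ((hT t).mp ht).2
  have hZT : Z ≤ T := by
    intro z hz
    refine (hT z).mpr ⟨hZP hz, fun b hb => ?_⟩
    have h1 : ⁅z, b⁆ = 1 := by
      rw [commutatorElement_def, ← hZc z hz b hb]; group
    rw [h1]; exact Z0.one_mem
  have hconjT : ∀ g : Γ, g ∈ normalizer (P : Set Γ) → g ∈ normalizer (Z0 : Set Γ) →
      g ∈ normalizer (T : Set Γ) := by
    intro g hgP hgZ0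
    apply mem_normalizer_fintype
    intro t ht
    refine (hT _).mpr ⟨(mem_normalizer_iff.mp hgP t).mp (hTP ht), fun b hb => ?_⟩
    have e : ⁅g * t * g⁻¹, b⁆ = g * ⁅t, g⁻¹ * b * g⁆ * g⁻¹ := by
      simp only [commutatorElement_def]; group
    rw [e]
    exact (mem_normalizer_iff.mp hgZ0 _).mp
      (hTc t ht _ ((mem_normalizer_iff''.mp hgP b).mp hb))
  have hPZ0 : P ≤ normalizer (Z0 : Set Γ) := by
    intro a ha
    apply mem_normalizer_fintype
    intro n hn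
    have h1 := hZc n (hZ0 hn) a ha
    have h2 : a * n * a⁻¹ = n := by rw [h1]; group
    rw [h2]; exact hn
  have hPT : P ≤ normalizer (T : Set Γ) := fun a ha => hconjT a (le_normalizer ha) (hPZ0 ha)
  have hyT : y ∈ normalizer (T : Set Γ) := hconjT y hyP hyZ0
  -- the involution
  set u : Γ := y ^ (2 ^ (b - 1)) with hu
  have hpow : 2 ^ (b - 1) + 2 ^ (b - 1) = 2 ^ b := by
    have : b = (b - 1) + 1 := by omega
    conv_rhs => rw [this, pow_succ]
    ring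
  have huu : u * u = 1 := by
    rw [hu, ← pow_add, hpow, ← hyord]; exact pow_orderOf_eq_one y
  have hu1 : u ≠ 1 := by
    intro h
    have h1 : orderOf y ∣ 2 ^ (b - 1) := orderOf_dvd_of_pow_eq_one h
    rw [hyord] at h1
    have h2 := Nat.le_of_dvd (by positivity) h1
    have h3 : 0 < 2 ^ (b - 1) := by positivity
    omega
  have huP : u ∈ normalizer (P : Set Γ) := pow_mem hyP _
  have huZ0 : u ∈ normalizer (Z0 : Set Γ) := pow_mem hyZ0 _
  have huT : u ∈ normalizer (T : Set Γ) := pow_mem hyT _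
  have hycs : y ∈ centSec Z0 (Z : Set Γ) := ⟨hyZ0, hytriv⟩
  have hutriv : ∀ z ∈ Z, ⁅u, z⁆ ∈ Z0 := (pow_mem hycs (2 ^ (b - 1))).2
  have hufree : ∀ a ∈ P, ⁅u, a⁆ ∈ Z → a ∈ Z := hfree _ hu1
  obtain ⟨N, hNmem, hZ0N, hNZ, hTle⟩ := exists_invSub q P Z Z0 T u hqodd hPexp hZP hZc hZ0 hTP hZT
    hTc huu huZ0 huT hutriv hufree
  have hNT : N ≤ T := fun t ht => ((hNmem t).mp ht).1
  have hPN : P ≤ normalizer (N : Set Γ) := by
    intro a ha
    apply mem_normalizer_fintype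
    intro n hn
    have h1 : ⁅n, a⁆ ∈ Z0 := hTc n (hNT hn) a ha
    have e : a * n * a⁻¹ = ⁅n, a⁆⁻¹ * n := by rw [commutatorElement_def]; group
    rw [e]
    exact N.mul_mem (N.inv_mem (hZ0N h1)) hn
  have hyN : y ∈ normalizer (N : Set Γ) := by
    apply mem_normalizer_fintype
    intro n hn
    obtain ⟨hnT, hn2⟩ := (hNmem n).mp hn
    refine (hNmem _).mpr ⟨(mem_normalizer_iff.mp hyT n).mp hnT, ?_⟩
    have e : u * (y * n * y⁻¹) * u⁻¹ * (y * n * y⁻¹) = y * (u * n * u⁻¹ * n) * y⁻¹ := by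
      rw [hu]; group
    rw [e]
    exact (mem_normalizer_iff.mp hyZ0 _).mp hn2
  -- `y` centralizes `T / N`
  have hceny : ∀ t ∈ T, ⁅y, t⁆ ∈ N := by
    have h1 : Z ⊔ N ≤ centSec N ({y} : Set Γ) := by
      refine sup_le ?_ ?_
      · intro z hz
        refine ⟨hPN (hZP hz), fun c hc => ?_⟩
        rw [Set.mem_singleton_iff] at hc
        subst hc
        have e : ⁅z, c⁆ = ⁅c, z⁆⁻¹ := (commutatorElement_inv _ _).symm
        rw [e]
        exact N.inv_mem (hZ0N (hytriv z hz))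
      · intro n hn
        refine ⟨le_normalizer hn, fun c hc => ?_⟩
        rw [Set.mem_singleton_iff] at hc
        subst hc
        have e : ⁅n, c⁆ = n * (c * n * c⁻¹)⁻¹ := by rw [commutatorElement_def]; group
        rw [e]
        exact N.mul_mem hn (N.inv_mem ((mem_normalizer_iff.mp hyN n).mp hn))
    intro t ht
    have h2 := (h1 (hTle ht)).2 y (Set.mem_singleton y)
    have e : ⁅y, t⁆ = ⁅t, y⁆⁻¹ := (commutatorElement_inv _ _).symm
    rw [e]
    exact N.inv_mem h2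
  have hcen : ∀ t ∈ T, ∀ l ∈ zpowers y ⊔ P, ⁅l, t⁆ ∈ N := by
    have h1 : zpowers y ⊔ P ≤ centSec N (T : Set Γ) := by
      refine sup_le ((zpowers_le).mpr ⟨hyN, hceny⟩) ?_
      intro a ha
      refine ⟨hPN ha, fun t ht => ?_⟩
      have e : ⁅a, t⁆ = ⁅t, a⁆⁻¹ := (commutatorElement_inv _ _).symm
      rw [e]
      exact N.inv_mem (hZ0N (hTc t ht a ha))
    intro t ht l hl
    exact (h1 hl).2 t ht
  -- indices
  have hTeq : T = Z ⊔ N := le_antisymm hTle (sup_le hZT hNT)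
  have hNTidx : N.relIndex T = q := by
    rw [hTeq, relIndex_sup_of_le_normalizer' Z N (hZP.trans hPN), ← inf_relIndex_right, hNZ, hidx]
  have hNPidx : N.relIndex P = q ^ (2 * k + 1) := by
    rw [← relIndex_mul_relIndex N T P hNT hTP, hNTidx, hTidx, pow_succ']
  -- `⟨y⟩ ∩ P = 1`
  have hmeet : ∀ h ∈ zpowers y, h ∈ P → h = 1 := by
    intro h hhy hhP
    obtain ⟨e, he⟩ := hP ⟨h, hhP⟩
    have he' : h ^ (q ^ e) = 1 := by
      have := congrArg Subtype.val he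
      simpa using this
    obtain ⟨j, rfl⟩ := mem_zpowers_iff.mp hhy
    have h2 : (y ^ j) ^ (2 ^ b) = 1 := by
      rw [← zpow_natCast, ← zpow_mul, mul_comm, zpow_mul, zpow_natCast, ← hyord,
        pow_orderOf_eq_one, one_zpow]
    have h3 : orderOf (y ^ j) ∣ Nat.gcd (q ^ e) (2 ^ b) :=
      Nat.dvd_gcd (orderOf_dvd_of_pow_eq_one he') (orderOf_dvd_of_pow_eq_one h2)
    have h4 : Nat.gcd (q ^ e) (2 ^ b) = 1 :=
      Nat.Coprime.pow _ _ ((Nat.coprime_primes hq Nat.prime_two).mpr hq2)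
    rw [h4, Nat.dvd_one] at h3
    exact orderOf_eq_one_iff.mp h3
  have hy1 : y ≠ 1 := by
    intro h
    rw [h, orderOf_one] at hyord
    have : 2 ^ 2 ≤ 2 ^ b := Nat.pow_le_pow_right (by norm_num) hb2
    omega
  have hyP' : y ∉ P := fun h => hy1 (hmeet y (mem_zpowers y) h)
  have hzP : zpowers y ≤ normalizer (P : Set Γ) := (zpowers_le).mpr hyP
  have hzT : zpowers y ≤ normalizer (T : Set Γ) := (zpowers_le).mpr hyT
  have hidxL : P.relIndex (zpowers y ⊔ P) = 2 ^ b := by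
    have hbot : P ⊓ zpowers y = ⊥ := by
      rw [eq_bot_iff]
      rintro h ⟨h1, h2⟩
      exact (mem_bot).mpr (hmeet h h2 h1)
    rw [relIndex_sup_of_le_normalizer' (zpowers y) P hzP, ← inf_relIndex_right, hbot,
      relIndex_bot_left, Nat.card_zpowers, hyord]
  -- non-centrality
  have hnc : ∀ g ∈ P, g ∉ T → ∃ x ∈ P, ⁅x, g⁆ ∈ T ∧ ⁅x, g⁆ ∉ N := by
    intro g hg hgT
    have h1 : ¬ ∀ b ∈ P, ⁅g, b⁆ ∈ Z0 := fun h => hgT ((hT g).mpr ⟨hg, h⟩)
    push Not at h1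
    obtain ⟨x, hx, hxg⟩ := h1
    refine ⟨x, hx, hZT (hcomm x hx g hg), fun h => hxg ?_⟩
    have h2 : ⁅x, g⁆ ∈ N ⊓ Z := ⟨h, hcomm x hx g hg⟩
    rw [hNZ] at h2
    have e : ⁅g, x⁆ = ⁅x, g⁆⁻¹ := (commutatorElement_inv _ _).symm
    rw [e]
    exact Z0.inv_mem h2
  -- the Frobenius condition
  have hfrob : ∀ l ∈ zpowers y ⊔ P, l ∉ P → ∀ g ∈ P, ⁅l, g⁆ ∈ T → g ∈ T := by
    intro l hl hlP g hg hlg
    have hl' : l ∈ ((zpowers y ⊔ P : Subgroup Γ) : Set Γ) := hl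
    rw [coe_mul_of_left_le_normalizer_right (zpowers y) P hzP] at hl'
    obtain ⟨h, hh, a, ha, rfl⟩ := hl'
    have hh : h ∈ zpowers y := hh
    have ha : a ∈ P := ha
    have hhP : h ∉ P := fun hc => hlP (P.mul_mem hc ha)
    have hh1 : h ≠ 1 := fun hc => hhP (hc ▸ P.one_mem)
    have hhT : h ∈ normalizer (T : Set Γ) := hzT hh
    -- `⁅h, g⁆ ∈ T`
    have hhg : ⁅h, g⁆ ∈ T := by
      have e : ⁅h, g⁆ = (h * ⁅a, g⁆ * h⁻¹)⁻¹ * ⁅h * a, g⁆ := by
        simp only [commutatorElement_def]; group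
      rw [e]
      exact T.mul_mem (T.inv_mem ((mem_normalizer_iff.mp hhT _).mp (hZT (hcomm a ha g hg)))) hlg
    obtain ⟨i, hi⟩ : ∃ i : ℕ, y ^ i = h := by
      have := (isOfFinOrder_of_finite y).mem_powers_iff_mem_zpowers.mpr hh
      exact (Submonoid.mem_powers_iff _ _).mp this
    have hAle : zpowers h ≤ zpowers y := (zpowers_le).mpr hh
    have hcop : (Nat.card (zpowers h)).Coprime (Nat.card P) := by
      obtain ⟨f, hf⟩ := (IsPGroup.iff_card).mp hP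
      rw [hf]
      have h1 : Nat.card (zpowers h) ∣ 2 ^ b := by
        have := Subgroup.card_dvd_of_le hAle
        rwa [Nat.card_zpowers y, hyord] at this
      exact Nat.Coprime.coprime_dvd_left h1
        (Nat.Coprime.pow _ _ ((Nat.coprime_primes Nat.prime_two hq).mpr (Ne.symm hq2)))
    have hsolv : Group.IsSolvable (zpowers h) ∨ Group.IsSolvable P := Or.inr (by
      haveI := hP.isNilpotent
      infer_instance)
    have hfix : ∀ c ∈ zpowers h, c * g * c⁻¹ * g⁻¹ ∈ T := by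
      have h1 : zpowers h ≤ centSec T ({g} : Set Γ) := by
        refine (zpowers_le).mpr ⟨hhT, fun c hc => ?_⟩
        rw [Set.mem_singleton_iff] at hc
        subst hc
        exact hhg
      intro c hc
      have := (h1 hc).2 g (Set.mem_singleton g)
      rwa [commutatorElement_def] at this
    obtain ⟨c, hc, hgc⟩ := Cfsg.Agent.S0022.result (zpowers h) P (hAle.trans hzP) hcop hsolv T hTP
      hPT (hAle.trans hzT) g hg hfix
    have hcP : c ∈ P := hc.1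
    have hch : h * c = c * h :=
      mem_centralizer_iff.mp hc.2 h (mem_zpowers h)
    have hcZ : c ∈ Z := by
      apply hfree i (by rw [hi]; exact hh1) c hcP
      rw [hi]
      have e : ⁅h, c⁆ = 1 := by rw [commutatorElement_def, hch]; group
      rw [e]; exact Z.one_mem
    have e : g = ((g⁻¹ * c) * c⁻¹)⁻¹ := by group
    rw [e]
    exact T.inv_mem (T.mul_mem hgc (T.inv_mem (hZT hcZ)))
  have key := section_extraspecial_frobenius N T P y (p := q) (n := k) hq hNT hTP hyP hyT hyN hPT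
    hPN hyP' hcen hNTidx hNPidx hnc hfrob
  rw [hidxL] at key
  -- arithmetic
  have hA : q ^ k + 1 = 2 ^ b := by
    generalize hAdef : 2 ^ b = A at key hbound
    generalize hBdef : q ^ k = B at key hbound hqk3
    rcases key with h | h
    · exfalso
      have h1 : ((B : ℕ) : ℤ) - 1 = ((B - 1 : ℕ) : ℤ) := by
        rw [Nat.cast_sub (by omega)]; simp
      rw [h1, Int.natCast_dvd_natCast] at h
      have := Nat.le_of_dvd (by omega) h
      omega
    · have h1 : ((B : ℕ) : ℤ) + 1 = ((B + 1 : ℕ) : ℤ) := by simp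
      rw [h1, Int.natCast_dvd_natCast] at h
      have := Nat.le_of_dvd (by omega) h
      omega
  have hb1 : 1 ≤ b := by omega
  rcases Cfsg.Agent.S3784.result 2 q b k Nat.prime_two hq hb1 hk hA.symm with h | h | h
  · exact ⟨h.2.1, h.2.2.2⟩
  · exact absurd h.1 hq2
  · exfalso
    have h1 : q ∣ 8 := by
      rw [← h.2]; exact dvd_pow_self q (by omega)
    have h2 : q ∣ 2 ^ 3 := by norm_num; exact h1
    have h3 := (Nat.prime_dvd_prime_iff_eq hq Nat.prime_two).mp (hq.dvd_of_dvd_pow h2)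
    exact hq2 h3

end Cfsg.Agent.Helper47.Gross
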