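import Mathlib
import Cfsg.Prelude.Def_Classical
import Cfsg.Agent.Helper99.Is8.Defs

/-!
# S3590 piece (FINI) for helper99: `H = V^κ ⋊ Ω⁻_8(F)` is finite
-/

set_option autoImplicit false

universe u

namespace Cfsg.Agent.Helper47.Is8

open Matrix Cfsg.Agent.Helper99.Is8

variable {F : Type u} [Field F] [Fintype F]

/-- (FINI) `H` is finite. -/
theorem hm_finite (a b : F) (κ : Type) [Finite κ] : Finite (Hm F a b κ) := by
  haveI : Finite (Matrix I8 I8 F)ˣ := Finite.of_injective Units.val Units.val_injective
  haveI : Finite (Matrix.GeneralLinearGroup I8 F) := this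
  haveI : Finite (Matrix I8 κ F) := by
    unfold Matrix
    infer_instance
  exact Finite.of_equiv _ (Aff.equivProd (ρ := rho F a b) (κ := κ)).symm

end Cfsg.Agent.Helper47.Is8
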