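import Mathlib
import Cfsg.Prelude.Def_Classical
import Cfsg.Agent.Helper45.OmegaParity

/-!
# S3590 piece (ODD) for helper99: elements of odd order of an orthogonal group in characteristic 2 lie in `Ω`
-/

set_option autoImplicit false

universe u

namespace Cfsg.Agent.Helper47.Is8

open Matrix Polynomial QuadraticMap

variable {F : Type u} [Field F] [Fintype F]

/-- (ODD) elements of odd order lie in `Ω` (characteristic 2). -/
theorem mem_Omega_of_odd [CharP F 2] {ι : Type} [Fintype ι] [DecidableEq ι]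
    (Q : QuadraticForm F (ι → F)) (hQ : (QuadraticMap.polarBilin Q).Nondegenerate)
    (h : Fintype.card F ≠ 2 ∨ Fintype.card ι ≠ 4) (g : ↥(Cfsg.isometryGroup F ⇑Q))
    (hodd : Odd (orderOf g)) : g ∈ Cfsg.Omega F ⇑Q := by
  rw [Cfsg.Agent.Helper45.OmegaParity.mem_Omega_iff_even_rank Q hQ h g]
  have hrk := Cfsg.Agent.Helper45.OmegaParity.rank_sub_one_add_fixD Q g
  set φ := Cfsg.Agent.Helper45.OmegaParity.parityHom Q hQ h with hφ
  -- `φ g = 1`
  have h1 : φ g = 1 := by
    have hsq : ∀ a : Multiplicative (ZMod 2), a ^ 2 = 1 := by decide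
    have hpow : (φ g) ^ orderOf g = 1 := by
      rw [← map_pow, pow_orderOf_eq_one, map_one]
    obtain ⟨k, hk⟩ := hodd
    rw [hk, pow_succ, pow_mul, hsq, one_pow, one_mul] at hpow
    exact hpow
  have key : ∀ a b : ℕ, ((a : ℕ) : ZMod 2) + (b : ZMod 2) = 0 ↔ Even (a + b) := by
    intro a b
    rw [← Nat.cast_add, ZMod.natCast_eq_zero_iff_even]
  have h2 : (Cfsg.Agent.Helper45.OmegaParity.fixD Q g : ZMod 2) + (Fintype.card ι : ZMod 2) = 0 := by
    have := congrArg Multiplicative.toAdd h1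
    exact this
  rw [key] at h2
  rw [← hrk] at h2
  have h3 : Even (((g.1 : Matrix ι ι F) - 1).rank + 2 * Cfsg.Agent.Helper45.OmegaParity.fixD Q g) := by
    have : Cfsg.Agent.Helper45.OmegaParity.fixD Q g
        + (((g.1 : Matrix ι ι F) - 1).rank + Cfsg.Agent.Helper45.OmegaParity.fixD Q g)
        = ((g.1 : Matrix ι ι F) - 1).rank + 2 * Cfsg.Agent.Helper45.OmegaParity.fixD Q g := by ring
    rw [← this]
    exact h2
  rw [Nat.even_add] at h3
  exact h3.2 (even_two_mul _)

end Cfsg.Agent.Helper47.Is8
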