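import Cfsg.Agent.Helper33.KInfSub
import Cfsg.Agent.Helper33.KInfMap
import Cfsg.Agent.Helper33.KInfCent
import Cfsg.Agent.Helper33.InducedFunctor
import Cfsg.Agent.Helper33.Tower
import Cfsg.Agent.Helper46.SylowIn

/-!
# The lower K-infinity subgroup as a conjugacy functor; quadratic elements (helper47)
-/

set_option autoImplicit false

namespace Cfsg.Agent.Helper47

open Cfsg

universe u

section Iso

variable {Q R : Type*} [Group Q] [Group R] (φ : Q ≃* R)

theorem map_sSup_lowerStar_equiv (K : Subgroup Q) :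
    (sSup (Cfsg.kLowerStarFamily K)).map φ.toMonoidHom =
      sSup (Cfsg.kLowerStarFamily (K.map φ.toMonoidHom)) := by
  rw [Cfsg.Agent.Helper33.map_sSup_lowerStar φ.toMonoidHom φ.injective]
  have hr : φ.toMonoidHom.range = ⊤ := MonoidHom.range_eq_top.mpr φ.surjective
  congr 1
  ext B'
  simp [hr]

theorem map_sSup_upperStar_equiv (K : Subgroup Q) :
    (sSup (Cfsg.kUpperStarFamily K)).map φ.toMonoidHom =
      sSup (Cfsg.kUpperStarFamily (K.map φ.toMonoidHom)) := by
  rw [Cfsg.Agent.Helper33.map_sSup_upperStar φ.toMonoidHom φ.injective]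
  have hr : φ.toMonoidHom.range = ⊤ := MonoidHom.range_eq_top.mpr φ.surjective
  congr 1
  ext B'
  simp [hr]

theorem kSeqOdd_map_equiv (n : ℕ) :
    (Cfsg.kSeqOdd Q n).map φ.toMonoidHom = Cfsg.kSeqOdd R n := by
  induction n with
  | zero =>
    show (⊤ : Subgroup Q).map φ.toMonoidHom = ⊤
    exact Subgroup.map_top_of_surjective _ φ.surjective
  | succ n ih =>
    show (sSup (Cfsg.kUpperStarFamily (sSup (Cfsg.kLowerStarFamily (Cfsg.kSeqOdd Q n))))).map
      φ.toMonoidHom = sSup (Cfsg.kUpperStarFamily (sSup (Cfsg.kLowerStarFamily (Cfsg.kSeqOdd R n))))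
    rw [map_sSup_upperStar_equiv, map_sSup_lowerStar_equiv, ih]

theorem kSeqEven_map_equiv (n : ℕ) :
    (Cfsg.kSeqEven Q n).map φ.toMonoidHom = Cfsg.kSeqEven R n := by
  show (sSup (Cfsg.kLowerStarFamily (Cfsg.kSeqOdd Q n))).map φ.toMonoidHom =
    sSup (Cfsg.kLowerStarFamily (Cfsg.kSeqOdd R n))
  rw [map_sSup_lowerStar_equiv, kSeqOdd_map_equiv]

theorem kInfLower_map_equiv {Q R : Type u} [Group Q] [Group R] (φ : Q ≃* R) :
    (Cfsg.kInfLower Q).map φ.toMonoidHom = Cfsg.kInfLower R := by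
  unfold Cfsg.kInfLower
  rw [Subgroup.map_iSup]
  congr 1
  funext n
  exact kSeqEven_map_equiv φ n

end Iso

theorem center_le_kInfLower {Q : Type u} [Group Q] [Finite Q] {p : ℕ} [Fact p.Prime]
    (hQ : IsPGroup p Q) : Subgroup.center Q ≤ Cfsg.kInfLower Q :=
  (Cfsg.Agent.Helper33.center_le_centralizer' _).trans
    (Cfsg.Agent.Helper33.centralizer_kInfLower_le hQ)

theorem isCharPFunctor_kInfLower (p : ℕ) [Fact p.Prime] :
    Cfsg.IsCharPFunctor.{u} p Cfsg.kInfLower := by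
  refine ⟨?_, ?_⟩
  · intro Q _ _ hQ hnt hbot
    have h1 : Subgroup.center Q ≤ ⊥ := hbot ▸ center_le_kInfLower hQ
    have h2 : Nontrivial (Subgroup.center Q) := hQ.center_nontrivial
    rw [Subgroup.nontrivial_iff_ne_bot] at h2
    exact h2 (le_bot_iff.mp h1)
  · intro Q R _ _ _ _ φ
    exact kInfLower_map_equiv φ

theorem isConjugacyFunctor_kInfLower (G : Type u) [Group G] [Finite G] (p : ℕ) [Fact p.Prime] :
    Cfsg.IsConjugacyFunctor p (Cfsg.inducedFunctor (G := G) Cfsg.kInfLower) :=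
  Cfsg.Agent.Helper33.isConjugacyFunctor_inducedFunctor (isCharPFunctor_kInfLower p) G

theorem center_le_inducedFunctor_kInfLower {G : Type u} [Group G] [Finite G] {p : ℕ} [Fact p.Prime]
    (P : Subgroup G) (hP : IsPGroup p ↥P) :
    P ⊓ Subgroup.centralizer ((P : Subgroup G) : Set G) ≤
      Cfsg.inducedFunctor Cfsg.kInfLower P := by
  intro x hx
  refine ⟨⟨x, hx.1⟩, ?_, rfl⟩
  apply center_le_kInfLower hP
  rw [Subgroup.mem_center_iff]
  intro y
  apply Subtype.ext
  exact (Subgroup.mem_centralizer_iff.mp hx.2) y y.2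

/-- If `K_∞(T)` is not normal in `H` (`T` a Sylow `p`-subgroup of `H`), some element of
`T ∖ O_p(H)` acts quadratically on `Z(O_p(H))`. -/
theorem exists_quadratic_kInfLower {G : Type u} [Group G] [Finite G] {p : ℕ} [Fact p.Prime]
    (H T : Subgroup G) (hTH : T ≤ H) (hT : IsPGroup p ↥T) (hidx : ¬ p ∣ T.relIndex H)
    (hn : ¬ H ≤ Subgroup.normalizer ((Cfsg.inducedFunctor Cfsg.kInfLower T : Subgroup G) : Set G)) :
    ∃ g : G, g ∈ T ∧ g ∉ Cfsg.pCoreOf p H ∧
      ⁅⁅Cfsg.pCoreOf p H ⊓ Subgroup.centralizer ((Cfsg.pCoreOf p H : Subgroup G) : Set G),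
        Subgroup.zpowers g⁆, Subgroup.zpowers g⁆ = ⊥ := by
  have hSyl : Cfsg.Agent.Helper46.IsSylIn p T H :=
    ⟨(hT.comap_subtype : IsPGroup p ↥(T.subgroupOf H)).toSylow hidx, by
      show (T.subgroupOf H).map H.subtype = T
      exact Subgroup.map_subgroupOf_eq_of_le hTH⟩
  have hPT : Cfsg.pCoreOf p H ≤ T := hSyl.pCoreOf_le
  have hP'n : ((Cfsg.pCoreOf p H).subgroupOf T).Normal :=
    (Subgroup.normal_subgroupOf_iff_le_normalizer hPT).mpr
      (hTH.trans (Cfsg.Agent.Helper46.pCoreOf_normalized H))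
  have hA'n : ((Cfsg.pCoreOf p H).subgroupOf T ⊓
      Subgroup.centralizer (((Cfsg.pCoreOf p H).subgroupOf T : Subgroup ↥T) : Set ↥T)).Normal :=
    inferInstance
  have hA'c : IsMulCommutative ↥((Cfsg.pCoreOf p H).subgroupOf T ⊓
      Subgroup.centralizer (((Cfsg.pCoreOf p H).subgroupOf T : Subgroup ↥T) : Set ↥T)) :=
    ⟨⟨fun a b => Subtype.ext ((Subgroup.mem_centralizer_iff.mp b.2.2) a a.2.1)⟩⟩
  by_cases hall : ∀ n : ℕ, Cfsg.kSeqEven ↥T n ≤ (Cfsg.pCoreOf p H).subgroupOf T ∧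
      Cfsg.kSeqOdd ↥T (n + 1) ≤ (Cfsg.pCoreOf p H).subgroupOf T
  · exfalso
    apply hn
    have h1 := (Cfsg.Agent.Helper33.kInf_subgroup_eq ((Cfsg.pCoreOf p H).subgroupOf T) hall).1
    have h2 : Cfsg.inducedFunctor Cfsg.kInfLower T =
        Cfsg.inducedFunctor Cfsg.kInfLower (Cfsg.pCoreOf p H) := by
      unfold Cfsg.inducedFunctor
      rw [← h1, Subgroup.map_map,
        ← kInfLower_map_equiv (Subgroup.subgroupOfEquivOfLe hPT), Subgroup.map_map]
      congr 1
    rw [h2]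
    exact (Cfsg.Agent.Helper46.pCoreOf_normalized H).trans
      (Cfsg.Agent.Helper33.normalizer_le_normalizer_functor (isConjugacyFunctor_kInfLower G p)
        (Cfsg.Agent.Helper46.pCoreOf_isPGroup H))
  · push Not at hall
    obtain ⟨n, hn'⟩ := hall
    have hB : ∃ B : Subgroup ↥T, ¬ B ≤ (Cfsg.pCoreOf p H).subgroupOf T ∧
        ⁅⁅(Cfsg.pCoreOf p H).subgroupOf T ⊓
          Subgroup.centralizer (((Cfsg.pCoreOf p H).subgroupOf T : Subgroup ↥T) : Set ↥T), B⁆, B⁆ = ⊥ := by
      by_cases he : Cfsg.kSeqEven ↥T n ≤ (Cfsg.pCoreOf p H).subgroupOf T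
      · have ho := hn' he
        have hex : ∃ B ∈ Cfsg.kUpperStarFamily (Cfsg.kSeqEven ↥T n),
            ¬ B ≤ (Cfsg.pCoreOf p H).subgroupOf T := by
          by_contra hcon
          push Not at hcon
          apply ho
          show sSup (Cfsg.kUpperStarFamily (sSup (Cfsg.kLowerStarFamily (Cfsg.kSeqOdd ↥T n)))) ≤ _
          exact sSup_le hcon
        obtain ⟨B, hBm, hBP⟩ := hex
        refine ⟨B, hBP, ?_⟩
        have hA'le := Cfsg.Agent.Helper33.normal_abelian_le_kSeqEven _ hA'c n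
        rw [Subgroup.commutator_eq_bot_iff_le_centralizer, Subgroup.commutator_comm]
        exact (Subgroup.commutator_mono le_rfl hA'le).trans (hBm.2.trans inf_le_right)
      · have hex : ∃ B ∈ Cfsg.kLowerStarFamily (Cfsg.kSeqOdd ↥T n),
            ¬ B ≤ (Cfsg.pCoreOf p H).subgroupOf T := by
          by_contra hcon
          push Not at hcon
          apply he
          show sSup (Cfsg.kLowerStarFamily (Cfsg.kSeqOdd ↥T n)) ≤ _
          exact sSup_le hcon
        obtain ⟨B, ⟨-, -, hBcond⟩, hBP⟩ := hex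
        refine ⟨B, hBP, ?_⟩
        have hA'cls := Cfsg.Agent.Helper33.abelian_mem_classTwo _ hA'c
        have hA'le := Cfsg.Agent.Helper33.normal_abelian_le_kSeqOdd _ hA'c n
        have hAA : ⁅(Cfsg.pCoreOf p H).subgroupOf T ⊓
            Subgroup.centralizer (((Cfsg.pCoreOf p H).subgroupOf T : Subgroup ↥T) : Set ↥T),
            (Cfsg.pCoreOf p H).subgroupOf T ⊓
            Subgroup.centralizer (((Cfsg.pCoreOf p H).subgroupOf T : Subgroup ↥T) : Set ↥T)⁆ = ⊥ :=
          Subgroup.commutator_eq_bot_iff_le_centralizer.mpr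
            (Cfsg.Agent.Helper33.le_centralizer_of_comm _ hA'c)
        have h3 := hBcond _ hA'cls hA'le
          (by rw [Subgroup.normalizer_eq_top_iff.mpr hA'n]; exact le_top)
          (by rw [hAA]; exact Subgroup.commutator_bot_right B)
          (by
            rw [eq_bot_iff, ← hAA]
            exact Subgroup.commutator_mono (Subgroup.commutator_le_right _ _) le_rfl)
        rw [Subgroup.commutator_eq_bot_iff_le_centralizer, Subgroup.commutator_comm]
        exact h3.trans inf_le_right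
    obtain ⟨B, hBP, hBq⟩ := hB
    obtain ⟨b, hbB, hbP⟩ := SetLike.not_le_iff_exists.mp hBP
    refine ⟨(b : G), b.2, fun h => hbP (Subgroup.mem_subgroupOf.mpr h), ?_⟩
    have hA'map : ((Cfsg.pCoreOf p H).subgroupOf T ⊓
        Subgroup.centralizer (((Cfsg.pCoreOf p H).subgroupOf T : Subgroup ↥T) : Set ↥T)).map T.subtype =
        Cfsg.pCoreOf p H ⊓ Subgroup.centralizer ((Cfsg.pCoreOf p H : Subgroup G) : Set G) := by
      rw [Cfsg.Agent.Helper33.map_inf_centralizer T.subtype T.subtype_injective,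
        Subgroup.map_subgroupOf_eq_of_le hPT]
    have hz : Subgroup.zpowers (b : G) ≤ B.map T.subtype := by
      rw [Subgroup.zpowers_le]; exact ⟨b, hbB, rfl⟩
    rw [eq_bot_iff]
    calc ⁅⁅Cfsg.pCoreOf p H ⊓ Subgroup.centralizer ((Cfsg.pCoreOf p H : Subgroup G) : Set G),
          Subgroup.zpowers (b : G)⁆, Subgroup.zpowers (b : G)⁆
        ≤ ⁅⁅((Cfsg.pCoreOf p H).subgroupOf T ⊓ Subgroup.centralizer
            (((Cfsg.pCoreOf p H).subgroupOf T : Subgroup ↥T) : Set ↥T)).map T.subtype,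
            B.map T.subtype⁆, B.map T.subtype⁆ := by
          rw [hA'map]
          exact Subgroup.commutator_mono (Subgroup.commutator_mono le_rfl hz) hz
      _ = (⁅⁅(Cfsg.pCoreOf p H).subgroupOf T ⊓ Subgroup.centralizer
            (((Cfsg.pCoreOf p H).subgroupOf T : Subgroup ↥T) : Set ↥T), B⁆, B⁆).map T.subtype := by
          rw [Subgroup.map_commutator, Subgroup.map_commutator]
      _ = ⊥ := by rw [hBq, Subgroup.map_bot]

end Cfsg.Agent.Helper47
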