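import Mathlib
import Cfsg.Prelude.Def_ConjugacyFunctors
import Cfsg.Agent.Helper33.KInf

/-!
# The K-sequence stays inside a subgroup `T`, given a family of test subgroups (helper47)

Abstract induction behind Glauberman's K-infinity theorems: a family `𝒜` of normal subgroups of `P` inside `T`, of
class at most two, with `[A, T] ≤ Z(A)`, each satisfying the defining condition of the lower-star families, and
such that every class-two subgroup `B ≰ T` fails, against some member `A` of the family, the (restricted)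
condition of the lower-star family.  Then every term of the K-sequence of `P` (of nonnegative index) lies in `T`.
-/

set_option autoImplicit false

namespace Cfsg.Agent.Helper47

open Subgroup Cfsg Cfsg.Agent.Helper33

theorem kSeq_le_of_family {P : Type*} [Group P] (T : Subgroup P) (𝒜 : Set (Subgroup P))
    (h1 : ∀ A ∈ 𝒜, A.Normal)
    (h2 : ∀ A ∈ 𝒜, A ∈ Cfsg.classTwoSubgroups P)
    (h3 : ∀ A ∈ 𝒜, ⁅A, T⁆ ≤ A ⊓ centralizer (A : Set P))
    (h4 : ∀ A ∈ 𝒜, ∀ A' ∈ Cfsg.classTwoSubgroups P, A ≤ normalizer (A' : Set P) → ⁅A, ⁅A', A'⁆⁆ = ⊥ →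
        ⁅⁅A ⊓ centralizer (A : Set P), A'⁆, A'⁆ = ⊥ → ⁅A, A'⁆ ≤ A ⊓ centralizer (A : Set P))
    (h5 : ∀ B ∈ Cfsg.classTwoSubgroups P, ¬ B ≤ T → ∃ A ∈ 𝒜, ¬ (A ≤ normalizer (B : Set P) ∧
        ∀ A' ∈ Cfsg.classTwoSubgroups P, A' ≤ A → B ≤ normalizer (A' : Set P) → ⁅B, ⁅A', A'⁆⁆ = ⊥ →
          ⁅⁅B ⊓ centralizer (B : Set P), A'⁆, A'⁆ = ⊥ → ⁅B, A'⁆ ≤ B ⊓ centralizer (B : Set P))) :
    ∀ n, (∀ A ∈ 𝒜, A ≤ Cfsg.kSeqOdd P n) ∧ Cfsg.kSeqEven P n ≤ T ∧
      (∀ A ∈ 𝒜, A ≤ Cfsg.kSeqEven P n) ∧ Cfsg.kSeqOdd P (n + 1) ≤ T := by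
  -- the step from an odd term containing the family
  have step : ∀ n, (∀ A ∈ 𝒜, A ≤ Cfsg.kSeqOdd P n) →
      Cfsg.kSeqEven P n ≤ T ∧ (∀ A ∈ 𝒜, A ≤ Cfsg.kSeqEven P n) ∧ Cfsg.kSeqOdd P (n + 1) ≤ T ∧
        (∀ A ∈ 𝒜, A ≤ Cfsg.kSeqOdd P (n + 1)) := by
    intro n hodd
    have hE : Cfsg.kSeqEven P n ≤ T := by
      unfold Cfsg.kSeqEven
      apply sSup_le
      intro B hB
      by_contra hBT
      obtain ⟨A, hA, hcon⟩ := h5 B hB.1 hBT
      apply hcon
      refine ⟨(hodd A hA).trans hB.2.1, ?_⟩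
      intro A' hA'2 hA'A
      exact hB.2.2 A' hA'2 (hA'A.trans (hodd A hA))
    have hAE : ∀ A ∈ 𝒜, A ≤ Cfsg.kSeqEven P n := by
      intro A hA
      unfold Cfsg.kSeqEven
      apply le_sSup
      refine ⟨h2 A hA, ?_, ?_⟩
      · rw [Subgroup.normalizer_eq_top_iff.mpr (h1 A hA)]; exact le_top
      · intro A' hA'2 _
        exact h4 A hA A' hA'2
    have hO : Cfsg.kSeqOdd P (n + 1) ≤ T := by
      rw [kSeqOdd_succ]
      apply sSup_le
      intro B hB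
      by_contra hBT
      obtain ⟨A, hA, hcon⟩ := h5 B hB.1 hBT
      apply hcon
      have hBA : ⁅B, A⁆ ≤ B ⊓ centralizer (B : Set P) :=
        (Subgroup.commutator_mono le_rfl (hAE A hA)).trans hB.2
      refine ⟨?_, ?_⟩
      · rw [Subgroup.le_normalizer_iff_commutator_le_right, Subgroup.commutator_comm]
        exact hBA.trans inf_le_left
      · intro A' _ hA'A _ _ _
        exact (Subgroup.commutator_mono le_rfl hA'A).trans hBA
    refine ⟨hE, hAE, hO, ?_⟩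
    intro A hA
    rw [kSeqOdd_succ]
    apply le_sSup
    refine ⟨h2 A hA, ?_⟩
    exact (Subgroup.commutator_mono le_rfl hE).trans (h3 A hA)
  intro n
  induction n with
  | zero =>
    have h0 : ∀ A ∈ 𝒜, A ≤ Cfsg.kSeqOdd P 0 := fun A _ => by rw [kSeqOdd_zero]; exact le_top
    obtain ⟨a, b, c, _⟩ := step 0 h0
    exact ⟨h0, a, b, c⟩
  | succ n ih =>
    obtain ⟨_, _, _, d⟩ := step n ih.1
    obtain ⟨a, b, c, _⟩ := step (n + 1) d
    exact ⟨d, a, b, c⟩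

end Cfsg.Agent.Helper47
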