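import Mathlib
import Cfsg.Prelude.Def_ConjugacyFunctors
import Cfsg.Prelude.Def_LocalEven
import Cfsg.Agent.Lib.ZJ9
import Cfsg.Agent.Lib.Cores

/-!
# Internal form of normalizer-`p`-stability of sections (helper47)

`exists_stab_subgroup`: if every section of `G` is `p`-stable in the normalizer form, `N ≤ P ≤ H ≤ G` with `N`, `P`
normalized by `H` and `P` a `p`-group, then there is an `H`-invariant subgroup `D ≤ H` containing every element of
`H` that acts quadratically on `P / N`, and acting as a `p`-group on `P / N`.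
-/

set_option autoImplicit false

namespace Cfsg.Agent.Helper47

open Subgroup Cfsg
open scoped commutatorElement

universe u

theorem exists_stab_subgroup {G : Type u} [Group G] [Finite G] {p : ℕ} [Fact p.Prime]
    (hst : ∀ (K R : Subgroup G) [(R.subgroupOf K).Normal],
      Cfsg.IsNormalizerPStable p (↥K ⧸ R.subgroupOf K))
    (H N P : Subgroup G) (hNP : N ≤ P) (hPH : P ≤ H) (hHN : H ≤ normalizer (N : Set G))
    (hHP : H ≤ normalizer (P : Set G)) (hP : IsPGroup p P) :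
    ∃ D : Subgroup G, D ≤ H ∧ (∀ h ∈ H, ∀ d ∈ D, h * d * h⁻¹ ∈ D) ∧
      (∀ g ∈ H, ⁅⁅P, zpowers g⁆, zpowers g⁆ ≤ N → g ∈ D) ∧
      (∀ d ∈ D, (orderOf d).Coprime p → ∀ x ∈ P, ⁅x, d⁆ ∈ N) ∧
      (∀ d ∈ D, ∃ k : ℕ, ∀ x ∈ P, ⁅x, d ^ (p ^ k)⁆ ∈ N) := by
  have hNn : (N.subgroupOf H).Normal :=
    (Subgroup.normal_subgroupOf_iff_le_normalizer (hNP.trans hPH)).2 hHN
  have hPn : (P.subgroupOf H).Normal := (Subgroup.normal_subgroupOf_iff_le_normalizer hPH).2 hHP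
  obtain ⟨φ, hφ⟩ : ∃ φ : ↥H →* ↥H ⧸ N.subgroupOf H, φ = QuotientGroup.mk' (N.subgroupOf H) := ⟨_, rfl⟩
  have hφs : Function.Surjective φ := hφ ▸ QuotientGroup.mk'_surjective _
  have hφk : φ.ker = N.subgroupOf H := hφ ▸ QuotientGroup.ker_mk' _
  obtain ⟨V, hV⟩ : ∃ V : Subgroup (↥H ⧸ N.subgroupOf H), V = (P.subgroupOf H).map φ := ⟨_, rfl⟩
  have hVn : V.Normal := hV ▸ hPn.map φ hφs
  have hVp : IsPGroup p V := by
    rw [hV]
    exact (hP.comap_of_injective H.subtype H.subtype_injective).map φ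
  have hstab := Cfsg.Agent.Lib.ZJ.isPStableOn_of_isNormalizerPStable (hst H N) V hVp
  have hCn : (centralizer (V : Set (↥H ⧸ N.subgroupOf H))).Normal := Subgroup.normal_centralizer
  have hcoreN : (Cfsg.pCore p ((↥H ⧸ N.subgroupOf H) ⧸ centralizer (V : Set (↥H ⧸ N.subgroupOf H)))).Normal :=
    @Subgroup.normal_of_characteristic _ _ _ (Cfsg.Agent.Lib.pCore_characteristic p)
  obtain ⟨ψ, hψ⟩ : ∃ ψ : (↥H ⧸ N.subgroupOf H) →* (↥H ⧸ N.subgroupOf H) ⧸
      centralizer (V : Set (↥H ⧸ N.subgroupOf H)), ψ = QuotientGroup.mk' _ := ⟨_, rfl⟩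
  have hψk : ψ.ker = centralizer (V : Set (↥H ⧸ N.subgroupOf H)) := hψ ▸ QuotientGroup.ker_mk' _
  obtain ⟨D', hD'⟩ : ∃ D' : Subgroup ↥H, D' = ((Cfsg.pCore p ((↥H ⧸ N.subgroupOf H) ⧸
      centralizer (V : Set (↥H ⧸ N.subgroupOf H)))).comap ψ).comap φ := ⟨_, rfl⟩
  have hD'n : D'.Normal := hD' ▸ (hcoreN.comap ψ).comap φ
  -- elements of `H` whose image centralizes `V` act trivially on `P / N`
  have hcent : ∀ y : ↥H, ψ (φ y) = 1 → ∀ x ∈ P, ⁅x, (y : G)⁆ ∈ N := by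
    intro y hy x hx
    have h1 : φ y ∈ centralizer (V : Set (↥H ⧸ N.subgroupOf H)) := by
      rw [← hψk]; exact hy
    have hxV : φ ⟨x, hPH hx⟩ ∈ V := by
      rw [hV]
      exact Subgroup.mem_map_of_mem _ (by rw [Subgroup.mem_subgroupOf]; exact hx)
    have h2 := (Subgroup.mem_centralizer_iff.mp h1) _ hxV
    have h3 : φ (⁅(⟨x, hPH hx⟩ : ↥H), y⁆) = 1 := by
      rw [map_commutatorElement, commutatorElement_def, h2]
      group
    have h4 : ⁅(⟨x, hPH hx⟩ : ↥H), y⁆ ∈ N.subgroupOf H := by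
      rw [← hφk]; exact h3
    rw [Subgroup.mem_subgroupOf] at h4
    simpa [commutatorElement_def] using h4
  refine ⟨D'.map H.subtype, Subgroup.map_subtype_le _, ?_, ?_, ?_, ?_⟩
  · rintro h hh _ ⟨d, hd, rfl⟩
    refine ⟨⟨h, hh⟩ * d * ⟨h, hh⟩⁻¹, hD'n.conj_mem d hd _, ?_⟩
    simp
  · intro g hg hq
    refine ⟨⟨g, hg⟩, ?_, rfl⟩
    rw [hD']
    show ψ (φ ⟨g, hg⟩) ∈ Cfsg.pCore p _
    rw [hψ]
    apply hstab
    rw [hV, ← MonoidHom.map_zpowers, ← Subgroup.map_commutator, ← Subgroup.map_commutator]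
    rw [← le_bot_iff, Subgroup.map_le_iff_le_comap]
    have hkb : (⊥ : Subgroup (↥H ⧸ N.subgroupOf H)).comap φ = N.subgroupOf H := hφk
    rw [hkb]
    rw [← Subgroup.map_le_map_iff_of_injective H.subtype_injective,
      Subgroup.map_subgroupOf_eq_of_le (hNP.trans hPH), Subgroup.map_commutator,
      Subgroup.map_commutator, Subgroup.map_subgroupOf_eq_of_le hPH, MonoidHom.map_zpowers]
    exact hq
  · rintro _ ⟨d, hd, rfl⟩ hcop x hx
    apply hcent d _ x hx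
    rw [hD'] at hd
    have h1 : ψ (φ d) ∈ Cfsg.pCore p _ := hd
    obtain ⟨k, hk⟩ := (Cfsg.Agent.Lib.isPGroup_pCore p) ⟨_, h1⟩
    have h2 : (ψ (φ d)) ^ p ^ k = 1 := congrArg Subtype.val hk
    have h3 : orderOf (ψ (φ d)) ∣ p ^ k := orderOf_dvd_of_pow_eq_one h2
    have h4 : orderOf (ψ (φ d)) ∣ orderOf (d : G) := by
      rw [Subgroup.orderOf_coe]
      exact (orderOf_map_dvd ψ (φ d)).trans (orderOf_map_dvd φ d)
    have h5 : (orderOf (ψ (φ d))).Coprime (p ^ k) :=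
      Nat.Coprime.coprime_dvd_left h4 (Nat.Coprime.pow_right k hcop)
    have h6 : orderOf (ψ (φ d)) = 1 := Nat.eq_one_of_dvd_coprimes h5 dvd_rfl h3
    exact orderOf_eq_one_iff.mp h6
  · rintro _ ⟨d, hd, rfl⟩
    rw [hD'] at hd
    have h1 : ψ (φ d) ∈ Cfsg.pCore p _ := hd
    obtain ⟨k, hk⟩ := (Cfsg.Agent.Lib.isPGroup_pCore p) ⟨_, h1⟩
    have h2 : (ψ (φ d)) ^ p ^ k = 1 := congrArg Subtype.val hk
    refine ⟨k, fun x hx => ?_⟩
    have := hcent (d ^ p ^ k) (by rw [map_pow, map_pow]; exact h2) x hx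
    simpa using this

end Cfsg.Agent.Helper47
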