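import Cfsg.Agent.Helper47.Basic
import Mathlib.Tactic.Group

set_option autoImplicit false

namespace Cfsg.Agent.Helper47

open scoped commutatorElement

variable {G : Type*} [Group G]

theorem mem_sectionKernel_iff {K N : Subgroup G} [N.Normal] {g : G} :
    g ∈ Cfsg.sectionKernel K N ↔ ∀ k ∈ K, ⁅k, g⁆ ∈ N := by
  unfold Cfsg.sectionKernel
  rw [Subgroup.mem_comap, Subgroup.mem_centralizer_iff]
  constructor
  · intro h k hk
    have := h (QuotientGroup.mk' N k) (Subgroup.mem_map_of_mem _ hk)
    rw [← QuotientGroup.eq_one_iff (N := N), commutatorElement_def]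
    simp only [QuotientGroup.mk'_apply] at this
    rw [QuotientGroup.mk_mul, QuotientGroup.mk_mul, QuotientGroup.mk_mul, QuotientGroup.mk_inv,
      QuotientGroup.mk_inv, this]
    group
  · intro h y hy
    obtain ⟨k, hk, rfl⟩ := Subgroup.mem_map.mp hy
    have := h k hk
    rw [← QuotientGroup.eq_one_iff (N := N), commutatorElement_def] at this
    rw [QuotientGroup.mk_mul, QuotientGroup.mk_mul, QuotientGroup.mk_mul, QuotientGroup.mk_inv,
      QuotientGroup.mk_inv] at this
    simp only [QuotientGroup.mk'_apply]
    have h2 := congrArg (fun t => t * ((g : G ⧸ N) * (k : G ⧸ N))) this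
    simp only [one_mul] at h2
    rw [← h2]
    group

theorem commutator_le_iff_le_sectionKernel {K N L : Subgroup G} [N.Normal] :
    ⁅K, L⁆ ≤ N ↔ L ≤ Cfsg.sectionKernel K N := by
  rw [Subgroup.commutator_le]
  constructor
  · intro h l hl
    exact mem_sectionKernel_iff.mpr fun k hk => h k hk l hl
  · intro h k hk l hl
    exact mem_sectionKernel_iff.mp (h hl) k hk

theorem sectionKernel_normal {K N : Subgroup G} [N.Normal] (hK : K.Normal) :
    (Cfsg.sectionKernel K N).Normal := by
  unfold Cfsg.sectionKernel
  have : (K.map (QuotientGroup.mk' N)).Normal :=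
    hK.map _ (QuotientGroup.mk'_surjective N)
  infer_instance

end Cfsg.Agent.Helper47
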