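import Mathlib
import Cfsg.Prelude.Def_ConjugacyFunctors
import Cfsg.Prelude.Def_LocalEven
import Cfsg.Agent.Lib.Cores
import Cfsg.Agent.Helper54.SectionAct
import Cfsg.Agent.Helper47.SectionKernel

/-!
# Auxiliary lemmas for the K-infinity theorem in `p`-stable groups (helper47)

* `ppc p L`: the subgroup generated by the `p'`-elements of `L` (in the ambient group).
* `eq_bot_of_commutator_le_pGroup`: the endgame in a group with trivial `p`-core.
* `exists_fixed_of_isPGroup_section`: fixed points of a normal subgroup acting as a `p`-group on a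
  nontrivial `p`-section.
-/

set_option autoImplicit false

namespace Cfsg.Agent.Helper47

open Subgroup Cfsg
open scoped commutatorElement

section ppc

variable {G : Type*} [Group G]

/-- the subgroup generated by the elements of `L` of order prime to `p` -/
def ppc (p : ℕ) (L : Subgroup G) : Subgroup G :=
  Subgroup.closure {x : G | x ∈ L ∧ (orderOf x).Coprime p}

theorem ppc_le (p : ℕ) (L : Subgroup G) : ppc p L ≤ L :=
  (Subgroup.closure_le L).2 fun _ hx => hx.1

theorem mem_ppc {p : ℕ} {L : Subgroup G} {x : G} (hx : x ∈ L) (hc : (orderOf x).Coprime p) :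
    x ∈ ppc p L := Subgroup.subset_closure ⟨hx, hc⟩

theorem ppc_normal (p : ℕ) (L : Subgroup G) [hL : L.Normal] : (ppc p L).Normal := by
  constructor
  intro n hn g
  unfold ppc at hn ⊢
  induction hn using Subgroup.closure_induction with
  | mem x hx =>
    apply Subgroup.subset_closure
    refine ⟨hL.conj_mem x hx.1 g, ?_⟩
    have : orderOf (g * x * g⁻¹) = orderOf x := by
      have := orderOf_injective (MulAut.conj g).toMonoidHom (MulAut.conj g).injective x
      simpa using this
    rw [this]; exact hx.2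
  | one => simp
  | mul x y _ _ hx hy =>
    have : g * (x * y) * g⁻¹ = (g * x * g⁻¹) * (g * y * g⁻¹) := by group
    rw [this]; exact Subgroup.mul_mem _ hx hy
  | inv x _ hx =>
    have : g * x⁻¹ * g⁻¹ = (g * x * g⁻¹)⁻¹ := by group
    rw [this]; exact Subgroup.inv_mem _ hx

theorem ppc_le_of_forall {p : ℕ} {L C : Subgroup G}
    (h : ∀ x ∈ L, (orderOf x).Coprime p → x ∈ C) : ppc p L ≤ C :=
  (Subgroup.closure_le C).2 fun x hx => h x hx.1 hx.2

/-- every element of a finite group has a `p`-power power of order prime to `p` -/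
theorem exists_pow_coprime [Finite G] (p : ℕ) [hp : Fact p.Prime] (d : G) :
    ∃ k : ℕ, (orderOf (d ^ (p ^ k))).Coprime p := by
  have h0 : orderOf d ≠ 0 := (orderOf_pos d).ne'
  obtain ⟨e, n', hn', hn⟩ := Nat.exists_eq_pow_mul_and_not_dvd h0 p hp.out.ne_one
  refine ⟨e, ?_⟩
  have hdvd : p ^ e ∣ orderOf d := ⟨n', hn⟩
  rw [orderOf_pow_of_dvd (pow_ne_zero e hp.out.ne_zero) hdvd, hn,
    Nat.mul_div_cancel_left _ (pow_pos hp.out.pos e)]
  exact ((Nat.Prime.coprime_iff_not_dvd hp.out).2 hn').symm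

theorem exists_pow_mem_ppc [Finite G] (p : ℕ) [Fact p.Prime] {L : Subgroup G} {x : G} (hx : x ∈ L) :
    ∃ k : ℕ, x ^ (p ^ k) ∈ ppc p L := by
  obtain ⟨k, hk⟩ := exists_pow_coprime p x
  exact ⟨k, mem_ppc (L.pow_mem hx _) hk⟩

end ppc

section endgame

variable {Q : Type*} [Group Q] [Finite Q] {p : ℕ} [Fact p.Prime]

/-- **Endgame.** In a group with trivial `p`-core, let `K`, `L` be normal subgroups, `L / (L ∩ K)` a `p`-group,
`B ≤ L` a `p`-subgroup and `N ≤ K` a `p`-subgroup normalized by `K` with `[K, B] ≤ N`. Then `B = 1`. -/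
theorem eq_bot_of_commutator_le_pGroup (hO : Cfsg.pCore p Q = ⊥) (K L B N : Subgroup Q)
    [hKn : K.Normal] [hLn : L.Normal] (hB : IsPGroup p B) (hBL : B ≤ L) (hNK : N ≤ K)
    (hN : IsPGroup p N) (hKN : K ≤ normalizer (N : Set Q)) (hKB : ⁅K, B⁆ ≤ N)
    (hL : ∀ x ∈ L, ∃ k : ℕ, x ^ (p ^ k) ∈ K) : B = ⊥ := by
  -- Step 1: `N = 1`
  have hN0 : N = ⊥ := by
    have hN' : (N.subgroupOf K).Normal := (Subgroup.normal_subgroupOf_iff_le_normalizer hNK).2 hKN
    have h1 : N.subgroupOf K ≤ Cfsg.pCore p ↥K :=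
      Cfsg.Agent.Lib.le_pCore hN' (hN.comap_of_injective K.subtype K.subtype_injective)
    haveI := Cfsg.Agent.Lib.pCore_characteristic p (G := ↥K)
    have hOn : ((Cfsg.pCore p ↥K).map K.subtype).Normal := inferInstance
    have hO2 : (Cfsg.pCore p ↥K).map K.subtype ≤ Cfsg.pCore p Q :=
      Cfsg.Agent.Lib.le_pCore hOn ((Cfsg.Agent.Lib.isPGroup_pCore p).map _)
    rw [hO] at hO2
    rw [eq_bot_iff, ← Subgroup.map_subgroupOf_eq_of_le hNK]
    exact (Subgroup.map_mono h1).trans hO2
  -- Step 2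
  have hBK : B ≤ centralizer (K : Set Q) := by
    rw [← Subgroup.commutator_eq_bot_iff_le_centralizer, Subgroup.commutator_comm, eq_bot_iff, ← hN0]
    exact hKB
  -- Step 3
  have hCn : (centralizer (K : Set Q)).Normal := Subgroup.normal_centralizer
  obtain ⟨L', hL'⟩ : ∃ L' : Subgroup Q, L' = L ⊓ centralizer (K : Set Q) := ⟨_, rfl⟩
  have hL'n : L'.Normal := hL' ▸ Subgroup.normal_inf_normal _ _
  have hBL' : B ≤ L' := hL' ▸ le_inf hBL hBK
  have hnil : Group.IsNilpotent ↥L' := by
    have hKn' : (K.subgroupOf L').Normal := inferInstance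
    have hp' : IsPGroup p (↥L' ⧸ K.subgroupOf L') := by
      intro x
      induction x using QuotientGroup.induction_on with
      | H y =>
      have hyL : (y : Q) ∈ L := by
        have h2 : L' ≤ L := hL' ▸ inf_le_left
        exact h2 y.2
      obtain ⟨k, hk⟩ := hL y hyL
      refine ⟨k, ?_⟩
      rw [← QuotientGroup.mk_pow, QuotientGroup.eq_one_iff, Subgroup.mem_subgroupOf]
      push_cast
      exact hk
    haveI := hp'.isNilpotent
    apply Subgroup.isNilpotent_of_ker_le_center (QuotientGroup.mk' (K.subgroupOf L'))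
    · rw [QuotientGroup.ker_mk']
      rintro ⟨x, hxL⟩ hxK
      rw [Subgroup.mem_subgroupOf] at hxK
      rw [Subgroup.mem_center_iff]
      rintro ⟨y, hyL⟩
      apply Subtype.ext
      have hy : y ∈ centralizer (K : Set Q) := by
        have h2 : L' ≤ centralizer (K : Set Q) := hL' ▸ inf_le_right
        exact h2 hyL
      exact (Subgroup.mem_centralizer_iff.mp hy x hxK).symm
  have hcop := Cfsg.Agent.Lib.relIndex_pCore_coprime_of_nilpotent p hL'n hnil
  rw [hO, Subgroup.relIndex_bot_left] at hcop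
  have hdvd : Nat.card B ∣ Nat.card L' := Subgroup.card_dvd_of_le hBL'
  obtain ⟨n, hn⟩ := IsPGroup.iff_card.mp hB
  have h1 : (Nat.card B).Coprime p := Nat.Coprime.coprime_dvd_left hdvd hcop
  rw [hn] at h1
  have hn0 : n = 0 := by
    by_contra hne
    have := (Nat.coprime_pow_left_iff (Nat.pos_of_ne_zero hne) p p).1 h1
    rw [Nat.coprime_self] at this
    exact (Fact.out : p.Prime).ne_one this
  rw [hn0, pow_zero] at hn
  exact Subgroup.card_eq_one.mp hn

end endgame

section fixed

variable {G : Type*} [Group G]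

/-- A nontrivial fixed point of a subgroup acting as a `p`-group on a nontrivial section `K / N` with `K` a
`p`-group (variant of `Helper54.exists_fixed_of_isPGroup`, which asks for exponent `p`). -/
theorem exists_fixed_of_isPGroup_section [Finite G] (K N D₀ : Subgroup G) [K.Normal] [N.Normal]
    {p : ℕ} [hp : Fact p.Prime] (hK : IsPGroup p K) (hKN : ¬ K ≤ N)
    (hD₀ : ∀ d ∈ D₀, ∃ n : ℕ, d ^ p ^ n ∈ Cfsg.sectionKernel K N) :
    ∃ k ∈ K, k ∉ N ∧ ∀ d ∈ D₀, (d * k)⁻¹ * (k * d) ∈ N := by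
  classical
  set Q := ↥K ⧸ N.subgroupOf K with hQ
  set Γ : Subgroup (MulAut Q) := D₀.map (Cfsg.Agent.Helper54.Quad.secAct K N) with hΓ
  have hΓp : IsPGroup p Γ := by
    rintro ⟨_, ⟨d, hd, rfl⟩⟩
    obtain ⟨n, hn⟩ := hD₀ d hd
    refine ⟨n, ?_⟩
    apply Subtype.ext
    rw [← Cfsg.Agent.Helper54.Quad.secAct_ker, MonoidHom.mem_ker, map_pow] at hn
    exact hn
  have hQp : IsPGroup p Q := hK.to_quotient _
  haveI : Nontrivial Q := by
    obtain ⟨k, hk, hkN⟩ := SetLike.not_le_iff_exists.mp hKN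
    refine ⟨⟨QuotientGroup.mk ⟨k, hk⟩, 1, ?_⟩⟩
    intro h
    rw [QuotientGroup.eq_one_iff, Subgroup.mem_subgroupOf] at h
    exact hkN h
  have hdvd : p ∣ Nat.card Q := by
    obtain ⟨n, hn0, hn⟩ := (hQp.nontrivial_iff_card).mp inferInstance
    rw [hn]; exact dvd_pow_self p (by omega)
  have h1fix : (1 : Q) ∈ MulAction.fixedPoints Γ Q := by
    intro γ
    show (γ : MulAut Q) 1 = 1
    exact map_one _
  obtain ⟨b, hb, hb1⟩ := hΓp.exists_fixed_point_of_prime_dvd_card_of_fixed_point Q hdvd h1fix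
  induction b using QuotientGroup.induction_on with
  | H k =>
  refine ⟨k, k.2, ?_, ?_⟩
  · intro hkN
    apply hb1
    symm
    rw [QuotientGroup.eq_one_iff, Subgroup.mem_subgroupOf]
    exact hkN
  · intro d hd
    have h1 : Cfsg.Agent.Helper54.Quad.secAct K N d (QuotientGroup.mk k) = QuotientGroup.mk k :=
      hb ⟨Cfsg.Agent.Helper54.Quad.secAct K N d, Subgroup.mem_map_of_mem _ hd⟩
    rw [Cfsg.Agent.Helper54.Quad.secAct_mk, QuotientGroup.eq, Subgroup.mem_subgroupOf] at h1
    have e : (d * (k : G))⁻¹ * (k * d) =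
        d⁻¹ * (((MulAut.conjNormal d k : K)⁻¹ * k : K) : G) * d⁻¹⁻¹ := by
      push_cast; rw [MulAut.conjNormal_apply]; group
    rw [e]
    exact (inferInstance : N.Normal).conj_mem _ h1 _

end fixed

end Cfsg.Agent.Helper47
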