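import Mathlib
import Cfsg.Agent.Helper47.KInfStableB
import Cfsg.Agent.Helper47.KInfStableC
import Cfsg.Agent.Helper33.CritDegree
import Cfsg.Agent.Helper33.CoprimeStab

/-!
# Minimal normal subgroups of `O_p(G)` not centralized by `O^p(L)` (helper47)

`MinLike p A`: `A` is a normal subgroup of `G` inside `O_p(G)` all of whose proper `G`-normal subgroups are central in
`A`.  Such `A` has class at most two, `[O_p(G), A] ≤ Z(A)`, and `A / Z(A)` is a chief factor (or trivial).
-/

set_option autoImplicit false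

namespace Cfsg.Agent.Helper47

open Subgroup Cfsg
open scoped commutatorElement

universe u

variable {G : Type u} [Group G] [Finite G] {p : ℕ} [Fact p.Prime]

/-- `A ≤ O_p(G)` is normal in `G` and every proper `G`-normal subgroup of `A` is central in `A`. -/
def MinLike (p : ℕ) (A : Subgroup G) : Prop :=
  A.Normal ∧ A ≤ Cfsg.pCore p G ∧ ∀ Y : Subgroup G, Y.Normal → Y < A → Y ≤ centralizer (A : Set G)

theorem MinLike.isPGroup {A : Subgroup G} (hA : MinLike p A) : IsPGroup p A :=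
  (Cfsg.Agent.Lib.isPGroup_pCore p).to_le hA.2.1

theorem normal_inf_centralizer_self {A : Subgroup G} (hA : A.Normal) :
    (A ⊓ centralizer (A : Set G)).Normal := by
  have := hA
  have hCn : (centralizer (A : Set G)).Normal := Subgroup.normal_centralizer
  exact Subgroup.normal_inf_normal _ _

theorem MinLike.commutator_pCore_le {A : Subgroup G} (hA : MinLike p A) :
    ⁅Cfsg.pCore p G, A⁆ ≤ A ⊓ centralizer (A : Set G) := by
  obtain ⟨hAn, hAT, hmin⟩ := hA
  have := hAn
  have hZn := normal_inf_centralizer_self hAn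
  by_cases hab : A ≤ centralizer (A : Set G)
  · rw [show A ⊓ centralizer (A : Set G) = A from inf_eq_left.mpr hab]
    exact Subgroup.commutator_le_right _ _
  · have hlt : A ⊓ centralizer (A : Set G) < A := by
      refine lt_of_le_of_ne inf_le_left ?_
      intro h
      exact hab (h.ge.trans inf_le_right)
    have hchief : Cfsg.IsChiefFactor A (A ⊓ centralizer (A : Set G)) := by
      refine ⟨hlt, hAn, hZn, fun N hN hZN hNA => ?_⟩
      rcases eq_or_lt_of_le hNA with h | h
      · right; exact h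
      · left; exact le_antisymm (le_inf hNA (hmin N hN h)) hZN
    have hTn : (Cfsg.pCore p G).Normal :=
      @Subgroup.normal_of_characteristic _ _ _ (Cfsg.Agent.Lib.pCore_characteristic p)
    exact Cfsg.Agent.Helper33.commutator_le_of_isChiefFactor (Cfsg.pCore p G)
      (Cfsg.Agent.Lib.isPGroup_pCore p) hchief

theorem MinLike.classTwo {A : Subgroup G} (hA : MinLike p A) :
    ⁅A, A⁆ ≤ centralizer (A : Set G) :=
  (Subgroup.commutator_mono hA.2.1 le_rfl).trans (hA.commutator_pCore_le.trans inf_le_right)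

/-- A normal subgroup acting as a `p`-group on the chief factor `A / Z(A)` centralizes it. -/
theorem MinLike.le_sectionKernel {A : Subgroup G} (hA : MinLike p A)
    (hnab : ¬ A ≤ centralizer (A : Set G)) (Z : Subgroup G) [hZn : Z.Normal]
    (hZ : Z = A ⊓ centralizer (A : Set G))
    (D : Subgroup G) (hDn : D.Normal)
    (hD : ∀ d ∈ D, ∃ n : ℕ, d ^ p ^ n ∈ Cfsg.sectionKernel A Z) :
    D ≤ Cfsg.sectionKernel A Z := by
  obtain ⟨hAn, hAT, hmin⟩ := id hA
  have := hAn
  have := hDn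
  have hZA : Z ≤ A := hZ ▸ inf_le_left
  have hZC : Z ≤ centralizer (A : Set G) := hZ ▸ inf_le_right
  have hKN : ¬ A ≤ Z := fun h => hnab (h.trans hZC)
  obtain ⟨k0, hk0A, hk0Z, hfix⟩ :=
    exists_fixed_of_isPGroup_section A Z D hA.isPGroup hKN hD
  have hSKn : (Cfsg.sectionKernel D Z).Normal := sectionKernel_normal hDn
  have hY'n : (A ⊓ Cfsg.sectionKernel D Z).Normal := Subgroup.normal_inf_normal _ _
  have hk0 : k0 ∈ A ⊓ Cfsg.sectionKernel D Z := by
    refine Subgroup.mem_inf.mpr ⟨hk0A, ?_⟩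
    rw [mem_sectionKernel_iff]
    intro d hd
    have h1 := hfix d⁻¹ (D.inv_mem hd)
    have h2 := hZn.conj_mem _ h1 k0
    have e : k0 * ((d⁻¹ * k0)⁻¹ * (k0 * d⁻¹)) * k0⁻¹ = ⁅d, k0⁆ := by
      rw [commutatorElement_def]; group
    rw [e] at h2
    exact h2
  have hY'A : A ⊓ Cfsg.sectionKernel D Z = A := by
    by_contra hne
    have hlt : A ⊓ Cfsg.sectionKernel D Z < A := lt_of_le_of_ne inf_le_left hne
    have := hmin _ hY'n hlt hk0
    apply hk0Z
    rw [hZ]
    exact ⟨hk0A, this⟩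
  have hAle : A ≤ Cfsg.sectionKernel D Z := hY'A.ge.trans inf_le_right
  intro d hd
  rw [mem_sectionKernel_iff]
  intro a ha
  have h1 := (mem_sectionKernel_iff.mp (hAle ha)) d hd
  have e : ⁅a, d⁆ = ⁅d, a⁆⁻¹ := by rw [commutatorElement_inv]
  rw [e]
  exact Subgroup.inv_mem _ h1

/-- An element acting quadratically on `A / Z(A)` centralizes it. -/
theorem MinLike.commutator_zpowers_le
    (hst : ∀ (K R : Subgroup G) [(R.subgroupOf K).Normal],
      Cfsg.IsNormalizerPStable p (↥K ⧸ R.subgroupOf K))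
    {A : Subgroup G} (hA : MinLike p A) (g : G)
    (hq : ⁅⁅A, zpowers g⁆, zpowers g⁆ ≤ A ⊓ centralizer (A : Set G)) :
    ⁅A, zpowers g⁆ ≤ A ⊓ centralizer (A : Set G) := by
  obtain ⟨hAn, hAT, hmin⟩ := id hA
  have := hAn
  by_cases hab : A ≤ centralizer (A : Set G)
  · rw [show A ⊓ centralizer (A : Set G) = A from inf_eq_left.mpr hab]
    exact Subgroup.commutator_le_left _ _
  · obtain ⟨Z, hZ⟩ : ∃ Z : Subgroup G, Z = A ⊓ centralizer (A : Set G) := ⟨_, rfl⟩
    have hZn : Z.Normal := hZ ▸ normal_inf_centralizer_self hAn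
    rw [← hZ] at hq ⊢
    obtain ⟨D, -, hDinv, hDq, -, hDp⟩ := exists_stab_subgroup hst ⊤ Z A
      (hZ ▸ inf_le_left) le_top (by rw [Subgroup.normalizer_eq_top]) (by rw [Subgroup.normalizer_eq_top])
      hA.isPGroup
    have hDn : D.Normal := ⟨fun d hd h => hDinv h (Subgroup.mem_top h) d hd⟩
    have hgD : g ∈ D := hDq g (Subgroup.mem_top g) hq
    have hD : ∀ d ∈ D, ∃ n : ℕ, d ^ p ^ n ∈ Cfsg.sectionKernel A Z := by
      intro d hd
      obtain ⟨k, hk⟩ := hDp d hd
      exact ⟨k, mem_sectionKernel_iff.mpr hk⟩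
    have hle := hA.le_sectionKernel hab Z hZ D hDn hD
    rw [commutator_le_iff_le_sectionKernel, Subgroup.zpowers_le]
    exact hle hgD

/-- `O_p(G / C_G(A / Z(A))) = 1` for nonabelian `A`. -/
theorem MinLike.pCore_quotient_sectionKernel {A : Subgroup G} (hA : MinLike p A)
    (hnab : ¬ A ≤ centralizer (A : Set G)) (Z : Subgroup G) [hZn : Z.Normal]
    (hZ : Z = A ⊓ centralizer (A : Set G)) [hCn : (Cfsg.sectionKernel A Z).Normal] :
    Cfsg.pCore p (G ⧸ Cfsg.sectionKernel A Z) = ⊥ := by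
  have hPn : (Cfsg.pCore p (G ⧸ Cfsg.sectionKernel A Z)).Normal :=
    @Subgroup.normal_of_characteristic _ _ _ (Cfsg.Agent.Lib.pCore_characteristic p)
  obtain ⟨D, hDdef⟩ : ∃ D : Subgroup G, D =
    (Cfsg.pCore p (G ⧸ Cfsg.sectionKernel A Z)).comap (QuotientGroup.mk' _) := ⟨_, rfl⟩
  have hDn : D.Normal := hDdef ▸ hPn.comap _
  have hD : ∀ d ∈ D, ∃ n : ℕ, d ^ p ^ n ∈ Cfsg.sectionKernel A Z := by
    intro d hd
    rw [hDdef] at hd
    have hd' : (QuotientGroup.mk' (Cfsg.sectionKernel A Z) d) ∈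
      Cfsg.pCore p (G ⧸ Cfsg.sectionKernel A Z) := hd
    obtain ⟨m, hm⟩ := (Cfsg.Agent.Lib.isPGroup_pCore p) ⟨_, hd'⟩
    refine ⟨m, ?_⟩
    have h1 : (QuotientGroup.mk' (Cfsg.sectionKernel A Z) d) ^ p ^ m = 1 :=
      congrArg Subtype.val hm
    rw [← map_pow, QuotientGroup.mk'_apply, QuotientGroup.eq_one_iff] at h1
    exact h1
  have hle := hA.le_sectionKernel hnab Z hZ D hDn hD
  rw [eq_bot_iff]
  intro x hx
  obtain ⟨d, rfl⟩ := QuotientGroup.mk'_surjective _ x
  have hdD : d ∈ D := by rw [hDdef]; exact hx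
  rw [Subgroup.mem_bot, QuotientGroup.mk'_apply, QuotientGroup.eq_one_iff]
  exact hle hdD

/-- Existence of a minimal normal subgroup of `O_p(G)` not centralized by `O^p(L)`. -/
theorem exists_minLike (L : Subgroup G) [hLn : L.Normal]
    (hne : ¬ ppc p L ≤ centralizer (Cfsg.pCore p G : Set G)) :
    ∃ A : Subgroup G, MinLike p A ∧ ¬ ppc p L ≤ centralizer (A : Set G) ∧
      ∀ Y : Subgroup G, Y.Normal → Y < A → ppc p L ≤ centralizer (Y : Set G) := by
  have hTn : (Cfsg.pCore p G).Normal :=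
    @Subgroup.normal_of_characteristic _ _ _ (Cfsg.Agent.Lib.pCore_characteristic p)
  have hK0n : (ppc p L).Normal := ppc_normal p L
  obtain ⟨A, ⟨hAn, hAT, hAK⟩, hmin⟩ := wellFounded_lt.has_min
    {A : Subgroup G | A.Normal ∧ A ≤ Cfsg.pCore p G ∧ ¬ ppc p L ≤ centralizer (A : Set G)}
    ⟨Cfsg.pCore p G, hTn, le_rfl, hne⟩
  have hY : ∀ Y : Subgroup G, Y.Normal → Y < A → ppc p L ≤ centralizer (Y : Set G) := by
    intro Y hYn hYA
    by_contra hcon
    exact hmin Y ⟨hYn, hYA.le.trans hAT, hcon⟩ hYA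
  have hAp : IsPGroup p A := (Cfsg.Agent.Lib.isPGroup_pCore p).to_le hAT
  have := hAn
  -- `[A, K0] = A`
  have hAK0 : ⁅A, ppc p L⁆ = A := by
    by_contra hne'
    have hlt : ⁅A, ppc p L⁆ < A := lt_of_le_of_ne (Subgroup.commutator_le_left _ _) hne'
    have hn0 : (⁅A, ppc p L⁆).Normal := Subgroup.commutator_normal _ _
    have hc := hY _ hn0 hlt
    apply hAK
    apply ppc_le_of_forall
    intro d hdL hdc
    have hdK : d ∈ ppc p L := mem_ppc hdL hdc
    have hcomm := Cfsg.Agent.Helper33.commute_of_coprime_stab (p := p) (Q := ⁅A, ppc p L⁆) (U := A)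
      (hAp.to_le (Subgroup.commutator_le_left _ _)) hdc
      (fun q hq => ((Subgroup.mem_centralizer_iff.mp (hc hdK)) q hq).symm)
      (fun u hu => by
        have h1 : ⁅u⁻¹, d⁻¹⁆ ∈ ⁅A, ppc p L⁆ :=
          Subgroup.commutator_mem_commutator (A.inv_mem hu) ((ppc p L).inv_mem hdK)
        have e : u⁻¹ * (d⁻¹ * u * d) = ⁅u⁻¹, d⁻¹⁆ := by rw [commutatorElement_def]; group
        rw [e]; exact h1)
    rw [Subgroup.mem_centralizer_iff]
    intro u hu
    exact ((hcomm u hu).eq).symm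
  refine ⟨A, ⟨hAn, hAT, ?_⟩, hAK, hY⟩
  intro Y hYn hYA
  have := hYn
  have hc := hY Y hYn hYA
  have hYK : ⁅Y, ppc p L⁆ = ⊥ := by
    rw [Subgroup.commutator_comm, Subgroup.commutator_eq_bot_iff_le_centralizer]; exact hc
  have h1 : ⁅⁅A, Y⁆, ppc p L⁆ = ⊥ := by
    rw [eq_bot_iff, ← hYK]
    exact Subgroup.commutator_mono (Subgroup.commutator_le_right _ _) le_rfl
  have h2 : ⁅⁅Y, ppc p L⁆, A⁆ = ⊥ := by
    rw [hYK]; exact Subgroup.commutator_bot_left A
  have h3 := Subgroup.commutator_commutator_eq_bot_of_rotate h1 h2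
  rw [Subgroup.commutator_comm (ppc p L) A, hAK0] at h3
  rw [← Subgroup.commutator_eq_bot_iff_le_centralizer, Subgroup.commutator_comm]
  exact h3

/-- If every element of `Hs` acts quadratically on the normal `p`-subgroup `A`, then `O^p` of the normal closure of
`Hs` centralizes `A`. -/
theorem ppc_le_centralizer_of_quadratic
    (hst : ∀ (K R : Subgroup G) [(R.subgroupOf K).Normal],
      Cfsg.IsNormalizerPStable p (↥K ⧸ R.subgroupOf K))
    (A : Subgroup G) [hAn : A.Normal] (hAp : IsPGroup p A) (Hs : Subgroup G)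
    (hquad : ∀ g ∈ Hs, ⁅⁅A, zpowers g⁆, zpowers g⁆ = ⊥) :
    ppc p (Subgroup.normalClosure (Hs : Set G)) ≤ centralizer (A : Set G) := by
  obtain ⟨D, -, hDinv, hDq, hDc, -⟩ := exists_stab_subgroup hst ⊤ ⊥ A bot_le le_top
    (by rw [Subgroup.normalizer_eq_top]) (by rw [Subgroup.normalizer_eq_top]) hAp
  have hDn : D.Normal := ⟨fun d hd h => hDinv h (Subgroup.mem_top h) d hd⟩
  have hHD : (Hs : Set G) ⊆ D := fun g hg => hDq g (Subgroup.mem_top g) (hquad g hg).le
  have hLD : Subgroup.normalClosure (Hs : Set G) ≤ D := Subgroup.normalClosure_le_normal hHD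
  apply ppc_le_of_forall
  intro d hdL hdc
  rw [Subgroup.mem_centralizer_iff]
  intro x hx
  have h1 := hDc d (hLD hdL) hdc x hx
  rw [Subgroup.mem_bot, commutatorElement_def] at h1
  have : x * d = d * x := by
    have h2 := congrArg (fun t => t * d * x) h1
    simpa [mul_assoc] using h2
  exact this

end Cfsg.Agent.Helper47
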