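import Mathlib
import Cfsg.Agent.Helper47.KInfStableD
import Cfsg.Agent.Helper33.KInfElement

/-!
# The main case: members of the lower-star family lie in `O_p(G)` (helper47)
-/

set_option autoImplicit false

namespace Cfsg.Agent.Helper47

open Subgroup Cfsg
open scoped commutatorElement

universe u

/-- The subgroup of `A` (of class at most two) of the elements whose commutators with `A` centralize `B`. -/
theorem exists_comm_centralizer_subgroup {G : Type*} [Group G] (A B : Subgroup G)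
    (hA2 : ⁅A, A⁆ ≤ centralizer (A : Set G)) :
    ∃ X1 : Subgroup G, ∀ x, x ∈ X1 ↔ x ∈ A ∧ ∀ a ∈ A, ⁅x, a⁆ ∈ centralizer (B : Set G) := by
  refine ⟨{ carrier := {x | x ∈ A ∧ ∀ a ∈ A, ⁅x, a⁆ ∈ centralizer (B : Set G)}
            mul_mem' := ?_
            one_mem' := ?_
            inv_mem' := ?_ }, fun x => Iff.rfl⟩
  · rintro x y ⟨hx, hx'⟩ ⟨hy, hy'⟩
    refine ⟨A.mul_mem hx hy, fun a ha => ?_⟩
    have hc : ⁅y, a⁆ ∈ centralizer (A : Set G) := hA2 (Subgroup.commutator_mem_commutator hy ha)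
    have h1 : x * ⁅y, a⁆ = ⁅y, a⁆ * x := Subgroup.mem_centralizer_iff.mp hc x hx
    have e : ⁅x * y, a⁆ = ⁅y, a⁆ * ⁅x, a⁆ := by
      have e1 : ⁅x * y, a⁆ = x * ⁅y, a⁆ * x⁻¹ * ⁅x, a⁆ := by
        simp only [commutatorElement_def]; group
      rw [e1, h1]; group
    rw [e]
    exact Subgroup.mul_mem _ (hy' a ha) (hx' a ha)
  · refine ⟨A.one_mem, fun a _ => ?_⟩
    rw [commutatorElement_one_left]
    exact Subgroup.one_mem _
  · rintro x ⟨hx, hx'⟩
    refine ⟨A.inv_mem hx, fun a ha => ?_⟩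
    have hc : ⁅x, a⁆ ∈ centralizer (A : Set G) := hA2 (Subgroup.commutator_mem_commutator hx ha)
    have h1 : x * ⁅x, a⁆ = ⁅x, a⁆ * x := Subgroup.mem_centralizer_iff.mp hc x hx
    have e : ⁅x⁻¹, a⁆ = (⁅x, a⁆)⁻¹ := by
      have e1 : ⁅x⁻¹, a⁆ = x⁻¹ * (⁅x, a⁆)⁻¹ * x := by
        simp only [commutatorElement_def]; group
      have h2 : x⁻¹ * (⁅x, a⁆)⁻¹ = (⁅x, a⁆)⁻¹ * x⁻¹ := by
        rw [← mul_inv_rev, ← mul_inv_rev, h1]
      rw [e1, h2]; group
    rw [e]
    exact Subgroup.inv_mem _ (hx' a ha)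

variable {G : Type u} [Group G] [Finite G] {p : ℕ} [Fact p.Prime]

set_option maxHeartbeats 1000000 in
theorem false_of_lowerStar
    (hst : ∀ (K R : Subgroup G) [(R.subgroupOf K).Normal],
      Cfsg.IsNormalizerPStable p (↥K ⧸ R.subgroupOf K))
    (B : Subgroup G) (hBp : IsPGroup p B) (hB2 : ⁅B, B⁆ ≤ centralizer (B : Set G))
    (A : Subgroup G) (hA : MinLike p A) (hnab : ¬ A ≤ centralizer (A : Set G))
    (hK0A : ¬ ppc p (Subgroup.normalClosure (B : Set G)) ≤ centralizer (A : Set G))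
    (hK0Y : ∀ Y : Subgroup G, Y.Normal → Y < A →
      ppc p (Subgroup.normalClosure (B : Set G)) ≤ centralizer (Y : Set G))
    (hAB : ⁅A, B⁆ ≤ B)
    (hZBT : B ⊓ centralizer (B : Set G) ≤ Cfsg.pCore p G)
    (hstar : ∀ A' : Subgroup G, A' ≤ A → ⁅B, A'⁆ ≤ A' → ⁅B, ⁅A', A'⁆⁆ = ⊥ →
      ⁅⁅B ⊓ centralizer (B : Set G), A'⁆, A'⁆ = ⊥ → ⁅B, A'⁆ ≤ B ⊓ centralizer (B : Set G)) :
    False := by
  obtain ⟨hAn, hAT, hmin⟩ := id hA
  have := hAn
  obtain ⟨Z, hZ⟩ : ∃ Z : Subgroup G, Z = A ⊓ centralizer (A : Set G) := ⟨_, rfl⟩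
  have hZn : Z.Normal := hZ ▸ normal_inf_centralizer_self hAn
  have hZA : Z ≤ A := hZ ▸ inf_le_left
  have hZC : Z ≤ centralizer (A : Set G) := hZ ▸ inf_le_right
  have hZlt : Z < A := lt_of_le_of_ne hZA (fun h => hnab (h.ge.trans hZC))
  obtain ⟨L, hL⟩ : ∃ L : Subgroup G, L = Subgroup.normalClosure (B : Set G) := ⟨_, rfl⟩
  have hLn : L.Normal := hL ▸ Subgroup.normalClosure_normal
  obtain ⟨K0, hK0⟩ : ∃ K0 : Subgroup G, K0 = ppc p L := ⟨_, rfl⟩
  rw [← hL, ← hK0] at hK0A hK0Y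
  have hK0n : K0.Normal := hK0 ▸ ppc_normal p L
  have hBL : B ≤ L := hL ▸ Subgroup.le_normalClosure
  have hK0L : K0 ≤ L := hK0 ▸ ppc_le p L
  have hA2 := hA.classTwo
  have hTA := hA.commutator_pCore_le
  rw [← hZ] at hTA
  have hK0Z : K0 ≤ centralizer (Z : Set G) := hK0Y Z hZn hZlt
  have hMZ : ⁅A, A⁆ ≤ Z := hZ ▸ le_inf (Subgroup.commutator_le_left A A) hA2
  have hAp : IsPGroup p A := hA.isPGroup
  -- the subgroup `X1`
  obtain ⟨X1, hX1⟩ := exists_comm_centralizer_subgroup A B hA2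
  have hX1A : X1 ≤ A := fun x hx => ((hX1 x).1 hx).1
  have hZX1 : Z ≤ X1 := by
    intro x hx
    rw [hX1]
    refine ⟨hZA hx, fun a ha => ?_⟩
    have h1 : ⁅x, a⁆ = 1 := by
      rw [commutatorElement_eq_one_iff_commute]
      exact (Subgroup.mem_centralizer_iff.mp (hZC hx) a ha).symm
    rw [h1]; exact Subgroup.one_mem _
  have hinv : ∀ y : G, (∀ c ∈ Z, c ∈ centralizer (B : Set G) → y * c = c * y) →
      ∀ x ∈ X1, y * x * y⁻¹ ∈ X1 := by
    intro y hy x hx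
    obtain ⟨hxA, hxc⟩ := (hX1 x).1 hx
    rw [hX1]
    refine ⟨hAn.conj_mem x hxA y, fun a ha => ?_⟩
    have ha' : y⁻¹ * a * y ∈ A := by
      have := hAn.conj_mem a ha y⁻¹
      simpa using this
    have hcB := hxc _ ha'
    have hcZ : ⁅x, y⁻¹ * a * y⁆ ∈ Z := hMZ (Subgroup.commutator_mem_commutator hxA ha')
    have e : ⁅y * x * y⁻¹, a⁆ = y * ⁅x, y⁻¹ * a * y⁆ * y⁻¹ := by
      simp only [commutatorElement_def]; group
    rw [e, hy _ hcZ hcB]
    simpa using hcB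
  have hnorm : ∀ y : G, (∀ c ∈ Z, c ∈ centralizer (B : Set G) → y * c = c * y) →
      y ∈ normalizer (X1 : Set G) := by
    intro y hy
    rw [Subgroup.mem_normalizer_iff]
    intro x
    constructor
    · exact hinv y hy x
    · intro hx
      have hy' : ∀ c ∈ Z, c ∈ centralizer (B : Set G) → y⁻¹ * c = c * y⁻¹ := by
        intro c hcZ hcB
        have h1 := hy c hcZ hcB
        calc y⁻¹ * c = y⁻¹ * (c * y) * y⁻¹ := by group
          _ = y⁻¹ * (y * c) * y⁻¹ := by rw [h1]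
          _ = c * y⁻¹ := by group
      have := hinv y⁻¹ hy' _ hx
      simpa [mul_assoc] using this
  have hBX1n : B ≤ normalizer (X1 : Set G) := fun b hb =>
    hnorm b (fun c _ hcB => Subgroup.mem_centralizer_iff.mp hcB b hb)
  have hK0X1n : K0 ≤ normalizer (X1 : Set G) := fun k hk =>
    hnorm k (fun c hcZ _ => (Subgroup.mem_centralizer_iff.mp (hK0Z hk) c hcZ).symm)
  have hAX1n : A ≤ normalizer (X1 : Set G) := fun a ha =>
    hnorm a (fun c hcZ _ => Subgroup.mem_centralizer_iff.mp (hZC hcZ) a ha)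
  -- `A` normalizes `B` and `Z(B)`
  have hAnB : ∀ a ∈ A, ∀ b ∈ B, a * b * a⁻¹ ∈ B := by
    intro a ha b hb
    have h := hAB (Subgroup.commutator_mem_commutator ha hb)
    have e : a * b * a⁻¹ = ⁅a, b⁆ * b := by rw [commutatorElement_def]; group
    rw [e]; exact B.mul_mem h hb
  have hAnZB : ∀ a ∈ A, ∀ y ∈ B ⊓ centralizer (B : Set G), a * y * a⁻¹ ∈ B ⊓ centralizer (B : Set G) := by
    intro a ha y hy
    refine Subgroup.mem_inf.mpr ⟨hAnB a ha y hy.1, ?_⟩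
    rw [Subgroup.mem_centralizer_iff]
    intro b hb
    have hb' : a⁻¹ * b * a ∈ B := by
      have := hAnB a⁻¹ (A.inv_mem ha) b hb
      simpa using this
    have h1 := Subgroup.mem_centralizer_iff.mp hy.2 _ hb'
    calc b * (a * y * a⁻¹) = a * ((a⁻¹ * b * a) * y) * a⁻¹ := by group
      _ = a * (y * (a⁻¹ * b * a)) * a⁻¹ := by rw [h1]
      _ = a * y * a⁻¹ * b := by group
  have hZBX1 : ∀ y ∈ B ⊓ centralizer (B : Set G), y ∈ A → y ∈ X1 := by
    intro y hy hyA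
    rw [hX1]
    refine ⟨hyA, fun a ha => ?_⟩
    have h1 := hAnZB a ha y⁻¹ (Subgroup.inv_mem _ hy)
    have e : ⁅y, a⁆ = y * (a * y⁻¹ * a⁻¹) := by rw [commutatorElement_def]; group
    rw [e]
    exact (Subgroup.mul_mem _ hy h1).2
  -- the defining condition of the lower-star family applied to `X1`
  have hBX1 : ⁅B, X1⁆ ≤ B ⊓ centralizer (B : Set G) := by
    apply hstar X1 hX1A
    · exact Subgroup.le_normalizer_iff_commutator_le_right.mp hBX1n
    · rw [Subgroup.commutator_comm, Subgroup.commutator_eq_bot_iff_le_centralizer,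
        Subgroup.commutator_le]
      intro x hx x' hx'
      exact ((hX1 x).1 hx).2 x' (hX1A hx')
    · rw [Subgroup.commutator_eq_bot_iff_le_centralizer]
      calc ⁅B ⊓ centralizer (B : Set G), X1⁆ ≤ ⁅Cfsg.pCore p G, A⁆ :=
            Subgroup.commutator_mono hZBT hX1A
        _ ≤ Z := hTA
        _ ≤ centralizer (A : Set G) := hZC
        _ ≤ centralizer (X1 : Set G) := Subgroup.centralizer_le hX1A
  have hq1 : ⁅⁅X1, B⁆, B⁆ = ⊥ := Cfsg.Agent.Helper33.quadratic_of_commutator_le_center X1 B hBX1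
  have hq2 : ⁅⁅A, B⁆, B⁆ ≤ X1 := by
    intro y hy
    apply hZBX1 y
    · have h1 : ⁅⁅A, B⁆, B⁆ ≤ ⁅B, B⁆ := Subgroup.commutator_mono hAB le_rfl
      have h2 : ⁅B, B⁆ ≤ B := by
        rw [Subgroup.commutator_le]
        intro x hx y hy
        rw [commutatorElement_def]
        exact B.mul_mem (B.mul_mem (B.mul_mem hx hy) (B.inv_mem hx)) (B.inv_mem hy)
      exact ⟨h2 (h1 hy), hB2 (h1 hy)⟩
    · have h1 : ⁅⁅A, B⁆, B⁆ ≤ ⁅A, B⁆ :=
        (Subgroup.commutator_mono (Subgroup.commutator_le_left A B) le_rfl)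
      exact (Subgroup.commutator_le_left A B) (h1 hy)
  -- the group `G2 = K0 A B`
  obtain ⟨G2, hG2⟩ : ∃ G2 : Subgroup G, G2 = K0 ⊔ A ⊔ B := ⟨_, rfl⟩
  have hK0G2 : K0 ≤ G2 := hG2 ▸ le_sup_left.trans le_sup_left
  have hAG2 : A ≤ G2 := hG2 ▸ le_sup_right.trans le_sup_left
  have hBG2 : B ≤ G2 := hG2 ▸ le_sup_right
  have hG2X1 : G2 ≤ normalizer (X1 : Set G) := hG2 ▸ sup_le (sup_le hK0X1n hAX1n) hBX1n
  have hG2A : G2 ≤ normalizer (A : Set G) := by rw [Subgroup.normalizer_eq_top]; exact le_top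
  obtain ⟨E1, -, hE1inv, hE1q, hE1c, -⟩ := exists_stab_subgroup hst G2 ⊥ X1 bot_le (hX1A.trans hAG2)
    (by rw [Subgroup.normalizer_eq_top]; exact le_top) hG2X1 (hAp.to_le hX1A)
  obtain ⟨E2, -, hE2inv, hE2q, hE2c, -⟩ := exists_stab_subgroup hst G2 X1 A hX1A hAG2 hG2X1 hG2A hAp
  have hBE1 : B ≤ E1 := by
    intro g hg
    apply hE1q g (hBG2 hg)
    rw [← hq1]
    have hgB : zpowers g ≤ B := (Subgroup.zpowers_le).2 hg
    exact Subgroup.commutator_mono (Subgroup.commutator_mono le_rfl hgB) hgB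
  have hBE2 : B ≤ E2 := by
    intro g hg
    apply hE2q g (hBG2 hg)
    have hgB : zpowers g ≤ B := (Subgroup.zpowers_le).2 hg
    exact (Subgroup.commutator_mono (Subgroup.commutator_mono le_rfl hgB) hgB).trans hq2
  -- `p'`-elements of `E1 ⊓ E2` centralize `A`
  have hEc : ∀ d ∈ E1 ⊓ E2, (orderOf d).Coprime p → d ∈ centralizer (A : Set G) := by
    intro d hd hcop
    have hcomm := Cfsg.Agent.Helper33.commute_of_coprime_stab (p := p) (Q := X1) (U := A)
      (hAp.to_le hX1A) hcop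
      (fun q hq => by
        have h1 := hE1c d hd.1 hcop q hq
        rw [Subgroup.mem_bot, commutatorElement_eq_one_iff_commute] at h1
        exact h1.symm)
      (fun u hu => by
        have hcop' : (orderOf d⁻¹).Coprime p := by rw [orderOf_inv]; exact hcop
        have h1 := hE2c d⁻¹ (Subgroup.inv_mem _ hd.2) hcop' u⁻¹ (A.inv_mem hu)
        have e : u⁻¹ * (d⁻¹ * u * d) = ⁅u⁻¹, d⁻¹⁆ := by rw [commutatorElement_def]; group
        rw [e]; exact h1)
    rw [Subgroup.mem_centralizer_iff]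
    intro u hu
    exact ((hcomm u hu).eq).symm
  -- the quotient by the kernel of the action on `A / Z`
  have hC1n : (Cfsg.sectionKernel A Z).Normal := sectionKernel_normal hAn
  have hO := hA.pCore_quotient_sectionKernel hnab Z hZ
  have hπs : Function.Surjective (QuotientGroup.mk' (Cfsg.sectionKernel A Z)) :=
    QuotientGroup.mk'_surjective _
  have hKbn : (K0.map (QuotientGroup.mk' (Cfsg.sectionKernel A Z))).Normal := hK0n.map _ hπs
  have hLbn : (L.map (QuotientGroup.mk' (Cfsg.sectionKernel A Z))).Normal := hLn.map _ hπs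
  have hcentC1 : centralizer (A : Set G) ≤ Cfsg.sectionKernel A Z := by
    intro y hy
    rw [mem_sectionKernel_iff]
    intro a ha
    have : ⁅a, y⁆ = 1 := by
      rw [commutatorElement_eq_one_iff_commute]
      exact Subgroup.mem_centralizer_iff.mp hy a ha
    rw [this]; exact Subgroup.one_mem _
  have hNbp : IsPGroup p ((K0 ⊓ (E1 ⊓ E2)).map (QuotientGroup.mk' (Cfsg.sectionKernel A Z))) := by
    rintro ⟨_, ⟨x, hx, rfl⟩⟩
    obtain ⟨k, hk⟩ := exists_pow_coprime p x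
    refine ⟨k, ?_⟩
    apply Subtype.ext
    have h1 : x ^ p ^ k ∈ Cfsg.sectionKernel A Z :=
      hcentC1 (hEc _ (Subgroup.pow_mem _ hx.2 _) hk)
    show (QuotientGroup.mk' (Cfsg.sectionKernel A Z) x) ^ p ^ k = 1
    rw [← map_pow, QuotientGroup.mk'_apply, QuotientGroup.eq_one_iff]
    exact h1
  have hEinv : ∀ h ∈ G2, ∀ d ∈ E1 ⊓ E2, h * d * h⁻¹ ∈ E1 ⊓ E2 :=
    fun h hh d hd => ⟨hE1inv h hh d hd.1, hE2inv h hh d hd.2⟩
  have hK0N : K0 ≤ normalizer ((K0 ⊓ (E1 ⊓ E2) : Subgroup G) : Set G) := by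
    intro k hk
    rw [Subgroup.mem_normalizer_iff]
    intro x
    constructor
    · intro hx
      exact ⟨hK0n.conj_mem x hx.1 k, hEinv k (hK0G2 hk) x hx.2⟩
    · intro hx
      have h1 := hK0n.conj_mem _ hx.1 k⁻¹
      have h2 := hEinv k⁻¹ (G2.inv_mem (hK0G2 hk)) _ hx.2
      have e : k⁻¹ * (k * x * k⁻¹) * k⁻¹⁻¹ = x := by group
      rw [e] at h1 h2
      exact ⟨h1, h2⟩
  have hKB : ⁅K0, B⁆ ≤ K0 ⊓ (E1 ⊓ E2) := by
    refine le_inf (Subgroup.commutator_le_left K0 B) ?_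
    rw [Subgroup.commutator_le]
    intro k hk b hb
    have hbE : b ∈ E1 ⊓ E2 := ⟨hBE1 hb, hBE2 hb⟩
    have h1 := hEinv k (hK0G2 hk) b hbE
    have e : ⁅k, b⁆ = k * b * k⁻¹ * b⁻¹ := commutatorElement_def k b
    rw [e]
    exact Subgroup.mul_mem _ h1 (Subgroup.inv_mem _ hbE)
  have hBbot := eq_bot_of_commutator_le_pGroup hO
    (K0.map (QuotientGroup.mk' (Cfsg.sectionKernel A Z)))
    (L.map (QuotientGroup.mk' (Cfsg.sectionKernel A Z)))
    (B.map (QuotientGroup.mk' (Cfsg.sectionKernel A Z)))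
    ((K0 ⊓ (E1 ⊓ E2)).map (QuotientGroup.mk' (Cfsg.sectionKernel A Z)))
    (hBp.map _) (Subgroup.map_mono hBL) (Subgroup.map_mono inf_le_left) hNbp
    ((Subgroup.map_mono hK0N).trans (Subgroup.le_normalizer_map _))
    (by rw [← Subgroup.map_commutator]; exact Subgroup.map_mono hKB)
    (by
      rintro _ ⟨x, hx, rfl⟩
      obtain ⟨k, hk⟩ := exists_pow_mem_ppc p hx
      refine ⟨k, ?_⟩
      rw [← map_pow]
      exact Subgroup.mem_map_of_mem _ (hK0 ▸ hk))
  have hBC1 : B ≤ Cfsg.sectionKernel A Z := by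
    have h1 := (Subgroup.map_eq_bot_iff _).mp hBbot
    rwa [QuotientGroup.ker_mk'] at h1
  have hLC1 : L ≤ Cfsg.sectionKernel A Z := by
    rw [hL]
    exact Subgroup.normalClosure_le_normal hBC1
  apply hK0A
  rw [hK0]
  apply ppc_le_of_forall
  intro d hdL hdc
  have hdK : d ∈ K0 := hK0 ▸ mem_ppc hdL hdc
  have hdC1 : d⁻¹ ∈ Cfsg.sectionKernel A Z := Subgroup.inv_mem _ (hLC1 hdL)
  have hcomm := Cfsg.Agent.Helper33.commute_of_coprime_stab (p := p) (Q := Z) (U := A)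
    (hAp.to_le hZA) hdc
    (fun q hq => ((Subgroup.mem_centralizer_iff.mp (hK0Z hdK)) q hq).symm)
    (fun u hu => by
      have h1 := (mem_sectionKernel_iff.mp hdC1) u⁻¹ (A.inv_mem hu)
      have e : u⁻¹ * (d⁻¹ * u * d) = ⁅u⁻¹, d⁻¹⁆ := by rw [commutatorElement_def]; group
      rw [e]; exact h1)
  rw [Subgroup.mem_centralizer_iff]
  intro u hu
  exact ((hcomm u hu).eq).symm

end Cfsg.Agent.Helper47
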