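import Mathlib
import Cfsg.Agent.Helper47.KInfStableA
import Cfsg.Agent.Helper47.KInfStableE

/-!
# Group-level inputs of the K-sequence induction (helper47)
-/

set_option autoImplicit false

namespace Cfsg.Agent.Helper47

open Subgroup Cfsg
open scoped commutatorElement

universe u

variable {G : Type u} [Group G] [Finite G] {p : ℕ} [Fact p.Prime]

/-- If `C_G(O_p(G)) ≤ O_p(G)` and the `p`-subgroup `Hs` is not inside `O_p(G)`, then `O^p` of its normal closure
does not centralize `O_p(G)`. -/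
theorem ppc_not_le_centralizer_pCore
    (hcon : centralizer (Cfsg.pCore p G : Set G) ≤ Cfsg.pCore p G) (Hs : Subgroup G)
    (hHs : ¬ Hs ≤ Cfsg.pCore p G) :
    ¬ ppc p (Subgroup.normalClosure (Hs : Set G)) ≤ centralizer (Cfsg.pCore p G : Set G) := by
  intro hle
  apply hHs
  have hLn : (Subgroup.normalClosure (Hs : Set G)).Normal := Subgroup.normalClosure_normal
  have hTp : IsPGroup p (Cfsg.pCore p G) := Cfsg.Agent.Lib.isPGroup_pCore p
  have hone : ∀ x ∈ Subgroup.normalClosure (Hs : Set G), (orderOf x).Coprime p → x = 1 := by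
    intro x hx hc
    have hxT : x ∈ Cfsg.pCore p G := hcon (hle (mem_ppc hx hc))
    obtain ⟨k, hk⟩ := hTp ⟨x, hxT⟩
    have hk' : x ^ p ^ k = 1 := congrArg Subtype.val hk
    have h1 : orderOf x ∣ p ^ k := orderOf_dvd_of_pow_eq_one hk'
    have h2 : orderOf x = 1 :=
      Nat.eq_one_of_dvd_coprimes (Nat.Coprime.pow_right k hc) dvd_rfl h1
    exact orderOf_eq_one_iff.mp h2
  have hLp : IsPGroup p (Subgroup.normalClosure (Hs : Set G)) := by
    rintro ⟨x, hx⟩
    obtain ⟨k, hk⟩ := exists_pow_coprime p x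
    refine ⟨k, ?_⟩
    apply Subtype.ext
    exact hone _ (Subgroup.pow_mem _ hx _) hk
  exact Subgroup.le_normalClosure.trans (Cfsg.Agent.Lib.le_pCore hLn hLp)

/-- **Members of the star families outside `O_p(G)` fail against some `A`.** -/
theorem exists_minLike_not_star
    (hst : ∀ (K R : Subgroup G) [(R.subgroupOf K).Normal],
      Cfsg.IsNormalizerPStable p (↥K ⧸ R.subgroupOf K))
    (hcon : centralizer (Cfsg.pCore p G : Set G) ≤ Cfsg.pCore p G)
    (B : Subgroup G) (hBp : IsPGroup p B) (hB2 : ⁅B, B⁆ ≤ centralizer (B : Set G))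
    (hBT : ¬ B ≤ Cfsg.pCore p G) :
    ∃ A : Subgroup G, MinLike p A ∧ ¬ (⁅A, B⁆ ≤ B ∧
      ∀ A' : Subgroup G, A' ≤ A → ⁅B, A'⁆ ≤ A' → ⁅B, ⁅A', A'⁆⁆ = ⊥ →
        ⁅⁅B ⊓ centralizer (B : Set G), A'⁆, A'⁆ = ⊥ → ⁅B, A'⁆ ≤ B ⊓ centralizer (B : Set G)) := by
  by_cases hZB : B ⊓ centralizer (B : Set G) ≤ Cfsg.pCore p G
  · -- `Z(B) ≤ O_p(G)`
    have hLn : (Subgroup.normalClosure (B : Set G)).Normal := Subgroup.normalClosure_normal
    obtain ⟨A, hA, hK0A, hK0Y⟩ := exists_minLike (p := p) (Subgroup.normalClosure (B : Set G))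
      (ppc_not_le_centralizer_pCore hcon B hBT)
    refine ⟨A, hA, ?_⟩
    rintro ⟨hAB, hstar⟩
    have hAn := hA.1
    by_cases hab : A ≤ centralizer (A : Set G)
    · have hAA : ⁅A, A⁆ = ⊥ := Subgroup.commutator_eq_bot_iff_le_centralizer.mpr hab
      have h1 : ⁅B, A⁆ ≤ B ⊓ centralizer (B : Set G) := by
        apply hstar A le_rfl (Subgroup.commutator_le_right _ _)
        · rw [hAA]; exact Subgroup.commutator_bot_right B
        · rw [eq_bot_iff, ← hAA]
          exact Subgroup.commutator_mono (Subgroup.commutator_le_right _ _) le_rfl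
      have hq : ⁅⁅A, B⁆, B⁆ = ⊥ := Cfsg.Agent.Helper33.quadratic_of_commutator_le_center A B h1
      apply hK0A
      apply ppc_le_centralizer_of_quadratic hst A hA.isPGroup B
      intro g hg
      rw [eq_bot_iff, ← hq]
      have hgB : zpowers g ≤ B := (Subgroup.zpowers_le).2 hg
      exact Subgroup.commutator_mono (Subgroup.commutator_mono le_rfl hgB) hgB
    · exact false_of_lowerStar hst B hBp hB2 A hA hab hK0A hK0Y hAB hZB hstar
  · -- `Z(B) ≰ O_p(G)`
    have hLn : (Subgroup.normalClosure ((B ⊓ centralizer (B : Set G) : Subgroup G) : Set G)).Normal :=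
      Subgroup.normalClosure_normal
    obtain ⟨A, hA, hK0A, -⟩ := exists_minLike (p := p)
      (Subgroup.normalClosure ((B ⊓ centralizer (B : Set G) : Subgroup G) : Set G))
      (ppc_not_le_centralizer_pCore hcon _ hZB)
    refine ⟨A, hA, ?_⟩
    rintro ⟨hAB, -⟩
    have hAn := hA.1
    apply hK0A
    apply ppc_le_centralizer_of_quadratic hst A hA.isPGroup
    intro g hg
    have hgB : zpowers g ≤ B := (Subgroup.zpowers_le).2 hg.1
    have hgC : zpowers g ≤ centralizer (B : Set G) := (Subgroup.zpowers_le).2 hg.2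
    have h1 : ⁅B, zpowers g⁆ = ⊥ := by
      rw [Subgroup.commutator_comm, Subgroup.commutator_eq_bot_iff_le_centralizer]
      exact hgC
    rw [eq_bot_iff, ← h1]
    exact Subgroup.commutator_mono ((Subgroup.commutator_mono le_rfl hgB).trans hAB) le_rfl

/-- **The members of the family satisfy the condition of the lower-star families.** -/
theorem MinLike.star
    (hst : ∀ (K R : Subgroup G) [(R.subgroupOf K).Normal],
      Cfsg.IsNormalizerPStable p (↥K ⧸ R.subgroupOf K))
    {A : Subgroup G} (hA : MinLike p A) (A' : Subgroup G) (hAA' : ⁅A, A'⁆ ≤ A')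
    (hc : ⁅A, ⁅A', A'⁆⁆ = ⊥) : ⁅A, A'⁆ ≤ A ⊓ centralizer (A : Set G) := by
  have hAn := hA.1
  have h1 : ⁅A', A'⁆ ≤ centralizer (A : Set G) := by
    rw [← Subgroup.commutator_eq_bot_iff_le_centralizer, Subgroup.commutator_comm]; exact hc
  have h2 : ⁅⁅A, A'⁆, A'⁆ ≤ A ⊓ centralizer (A : Set G) := by
    refine le_inf ?_ ?_
    · exact (Subgroup.commutator_mono (Subgroup.commutator_le_left A A') le_rfl).trans
        (Subgroup.commutator_le_left A A')
    · exact (Subgroup.commutator_mono hAA' le_rfl).trans h1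
  rw [Subgroup.commutator_le]
  intro a ha g hg
  have hgA' : zpowers g ≤ A' := (Subgroup.zpowers_le).2 hg
  have h3 : ⁅⁅A, zpowers g⁆, zpowers g⁆ ≤ A ⊓ centralizer (A : Set G) :=
    (Subgroup.commutator_mono (Subgroup.commutator_mono le_rfl hgA') hgA').trans h2
  have h4 := hA.commutator_zpowers_le hst g h3
  exact h4 (Subgroup.commutator_mem_commutator ha (Subgroup.mem_zpowers g))

end Cfsg.Agent.Helper47
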