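import Mathlib
import Cfsg.Agent.Helper47.KInfStableF
import Cfsg.Agent.Helper33.KInfMap
import Cfsg.Agent.Helper33.KInfElement

/-!
# The K-infinity subgroups are normal in constrained groups all of whose sections are `p`-stable (helper47)
-/

set_option autoImplicit false

namespace Cfsg.Agent.Helper47

open Subgroup Cfsg Cfsg.Agent.Helper33
open scoped commutatorElement

universe u

variable {G : Type u} [Group G] [Finite G] {p : ℕ} [Fact p.Prime]

set_option maxHeartbeats 1000000 in
/-- All terms of the K-sequence of a Sylow `p`-subgroup lie in `O_p(G)`, when `C_G(O_p(G)) ≤ O_p(G)` and every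
section of `G` is `p`-stable in the normalizer form. -/
theorem kSeq_le_pCore_of_stable
    (hst : ∀ (K R : Subgroup G) [(R.subgroupOf K).Normal],
      Cfsg.IsNormalizerPStable p (↥K ⧸ R.subgroupOf K))
    (hcon : centralizer (Cfsg.pCore p G : Set G) ≤ Cfsg.pCore p G) (S : Sylow p G) (n : ℕ) :
    Cfsg.kSeqEven ↥(S : Subgroup G) n ≤ (Cfsg.pCore p G).subgroupOf (S : Subgroup G) ∧
      Cfsg.kSeqOdd ↥(S : Subgroup G) (n + 1) ≤ (Cfsg.pCore p G).subgroupOf (S : Subgroup G) := by
  have hTS : Cfsg.pCore p G ≤ (S : Subgroup G) := Cfsg.Agent.Lib.pCore_le_sylow S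
  have hinj : Function.Injective (S : Subgroup G).subtype := Subgroup.subtype_injective _
  obtain ⟨f, hf⟩ : ∃ f : ↥(S : Subgroup G) →* G, f = (S : Subgroup G).subtype := ⟨_, rfl⟩
  rw [← hf] at hinj
  obtain ⟨T', hT'⟩ : ∃ T' : Subgroup ↥(S : Subgroup G),
    T' = (Cfsg.pCore p G).subgroupOf (S : Subgroup G) := ⟨_, rfl⟩
  have hT'map : T'.map f = Cfsg.pCore p G := by
    rw [hT', hf]; exact Subgroup.map_subgroupOf_eq_of_le hTS
  have hmapS : ∀ X : Subgroup G, X ≤ (S : Subgroup G) → (X.subgroupOf (S : Subgroup G)).map f = X := by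
    intro X hX
    rw [hf]; exact Subgroup.map_subgroupOf_eq_of_le hX
  have hnorm_iff : ∀ X Y : Subgroup ↥(S : Subgroup G),
      X ≤ normalizer (Y : Set ↥(S : Subgroup G)) ↔ ⁅X.map f, Y.map f⁆ ≤ Y.map f := by
    intro X Y
    rw [Subgroup.le_normalizer_iff_commutator_le_right, ← Subgroup.map_commutator,
      Subgroup.map_le_map_iff_of_injective hinj]
  have hbot_iff : ∀ X : Subgroup ↥(S : Subgroup G), X = ⊥ ↔ X.map f = ⊥ := by
    intro X
    exact (Subgroup.map_eq_bot_iff_of_injective X hinj).symm
  have hclass : ∀ X : Subgroup ↥(S : Subgroup G), X ∈ Cfsg.classTwoSubgroups ↥(S : Subgroup G) ↔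
      ⁅X.map f, X.map f⁆ ≤ centralizer ((X.map f : Subgroup G) : Set G) := by
    intro X
    rw [← Subgroup.map_commutator, map_le_centralizer_map_iff f hinj]
    rfl
  have hzc : ∀ X : Subgroup ↥(S : Subgroup G),
      (X ⊓ centralizer (X : Set ↥(S : Subgroup G))).map f =
        X.map f ⊓ centralizer ((X.map f : Subgroup G) : Set G) := fun X => map_inf_centralizer f hinj X
  rw [← hT']
  have key := kSeq_le_of_family (P := ↥(S : Subgroup G)) T'
    {A' : Subgroup ↥(S : Subgroup G) | MinLike p (A'.map f)} ?_ ?_ ?_ ?_ ?_ n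
  · exact ⟨key.2.1, key.2.2.2⟩
  · -- normality
    intro A' hA'
    have h1 : (A'.map f).Normal := hA'.1
    have h2 : A' = (A'.map f).comap f := (Subgroup.comap_map_eq_self_of_injective hinj A').symm
    rw [h2]
    exact h1.comap f
  · intro A' hA'
    rw [hclass]
    exact MinLike.classTwo hA'
  · intro A' hA'
    rw [← Subgroup.map_le_map_iff_of_injective hinj, Subgroup.map_commutator, hzc, hT'map,
      Subgroup.commutator_comm]
    exact MinLike.commutator_pCore_le hA'
  · intro A' hA' A'' _ hn hc _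
    rw [← Subgroup.map_le_map_iff_of_injective hinj, Subgroup.map_commutator, hzc]
    apply MinLike.star hst hA'
    · exact (hnorm_iff A' A'').mp hn
    · have := (hbot_iff _).mp hc
      rwa [Subgroup.map_commutator, Subgroup.map_commutator] at this
  · intro B' hB'2 hB'T
    have hBp : IsPGroup p (B'.map f) := by
      apply S.2.to_le
      rw [hf]; exact Subgroup.map_subtype_le _
    have hB2 : ⁅B'.map f, B'.map f⁆ ≤ centralizer ((B'.map f : Subgroup G) : Set G) := (hclass B').mp hB'2
    have hBT : ¬ B'.map f ≤ Cfsg.pCore p G := by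
      intro h
      apply hB'T
      rw [← Subgroup.map_le_map_iff_of_injective hinj, hT'map]
      exact h
    obtain ⟨A, hA, hnot⟩ := exists_minLike_not_star hst hcon (B'.map f) hBp hB2 hBT
    have hAS : A ≤ (S : Subgroup G) := hA.2.1.trans hTS
    refine ⟨A.subgroupOf (S : Subgroup G), ?_, ?_⟩
    · show MinLike p ((A.subgroupOf (S : Subgroup G)).map f)
      rw [hmapS A hAS]; exact hA
    · rintro ⟨hAB', hstar'⟩
      apply hnot
      refine ⟨?_, ?_⟩
      · have := (hnorm_iff _ _).mp hAB'
        rwa [hmapS A hAS] at this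
      · intro A1 hA1A hBA1 hc1 hc2
        have hA1S : A1 ≤ (S : Subgroup G) := hA1A.trans hAS
        have hA1class : A1.subgroupOf (S : Subgroup G) ∈ Cfsg.classTwoSubgroups ↥(S : Subgroup G) := by
          rw [hclass, hmapS A1 hA1S]
          calc ⁅A1, A1⁆ ≤ ⁅A, A⁆ := Subgroup.commutator_mono hA1A hA1A
            _ ≤ centralizer (A : Set G) := hA.classTwo
            _ ≤ centralizer (A1 : Set G) := Subgroup.centralizer_le hA1A
        have h := hstar' (A1.subgroupOf (S : Subgroup G)) hA1class ?_ ?_ ?_ ?_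
        · rw [← Subgroup.map_le_map_iff_of_injective hinj, Subgroup.map_commutator, hzc,
            hmapS A1 hA1S] at h
          exact h
        · rw [← Subgroup.map_le_map_iff_of_injective hinj, hmapS A1 hA1S, hmapS A hAS]
          exact hA1A
        · rw [hnorm_iff, hmapS A1 hA1S]; exact hBA1
        · rw [hbot_iff, Subgroup.map_commutator, Subgroup.map_commutator, hmapS A1 hA1S]
          exact hc1
        · rw [hbot_iff, Subgroup.map_commutator, Subgroup.map_commutator, hzc, hmapS A1 hA1S]
          exact hc2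

/-- **Both K-infinity subgroups are normal** in a group `G` with `C_G(O_p(G)) ≤ O_p(G)` all of whose sections are
`p`-stable in the normalizer form. -/
theorem kInf_normal_of_stable
    (hst : ∀ (K R : Subgroup G) [(R.subgroupOf K).Normal],
      Cfsg.IsNormalizerPStable p (↥K ⧸ R.subgroupOf K))
    (hcon : centralizer (Cfsg.pCore p G : Set G) ≤ Cfsg.pCore p G) (S : Sylow p G) :
    (Cfsg.inducedFunctor Cfsg.kInfLower (S : Subgroup G)).Normal ∧
      (Cfsg.inducedFunctor Cfsg.kInfUpper (S : Subgroup G)).Normal := by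
  by_contra hcon'
  have hK : ¬ (Cfsg.inducedFunctor Cfsg.kInfLower (S : Subgroup G)).Normal ∨
      ¬ (Cfsg.inducedFunctor Cfsg.kInfUpper (S : Subgroup G)).Normal := by
    by_contra h
    push Not at h
    exact hcon' h
  rcases exists_kSeq_not_le_pCore S hK with ⟨n, hn⟩ | ⟨n, hn⟩
  · exact hn (kSeq_le_pCore_of_stable hst hcon S n).1
  · exact hn (kSeq_le_pCore_of_stable hst hcon S n).2

end Cfsg.Agent.Helper47
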