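import Mathlib
import Cfsg.Agent.Helper47.KInfStableG
import Cfsg.Agent.Helper33.ConstrainedSections
import Cfsg.Agent.Helper33.SingletonControl
import Cfsg.Agent.Helper33.Sections
import Cfsg.Agent.Helper48.ZJClosedA

/-!
# The K-infinity subgroups control strong fusion when all sections are `p`-stable (helper47)

`kInfLower_controls_of_stable` is the statement of S1987, `kInfUpper_controls_of_stable` the second half of S1993
(the hypothesis `p ≠ 2` is not needed).
-/

set_option autoImplicit false

namespace Cfsg.Agent.Helper47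

open Subgroup Cfsg

universe u

/-- An isomorphism-invariant `p`-group functor whose value at the Sylow subgroups is normal in every constrained section
of `G` controls strong fusion in `G` itself (the case `K = ⊤`, `R = ⊥` of S1969, transported to `G`). -/
theorem controlsStrongFusion_of_normal_in_constrained_sections {G : Type u} [Group G] [Finite G] {p : ℕ}
    [Fact p.Prime] (W : ∀ (Q : Type u) [Group Q], Subgroup Q) (hW : Cfsg.IsCharPFunctor.{u} p W)
    (hloc : ∀ (K R : Subgroup G) [(R.subgroupOf K).Normal],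
      Subgroup.centralizer ((Cfsg.pCore p (↥K ⧸ R.subgroupOf K) : Subgroup (↥K ⧸ R.subgroupOf K)) :
        Set (↥K ⧸ R.subgroupOf K)) ≤ Cfsg.pCore p (↥K ⧸ R.subgroupOf K) →
      ∀ T : Sylow p (↥K ⧸ R.subgroupOf K),
        (Cfsg.inducedFunctor (G := (↥K ⧸ R.subgroupOf K)) W ((T : Subgroup (↥K ⧸ R.subgroupOf K)))).Normal)
    (S : Sylow p G) : Cfsg.ControlsStrongFusion p (Cfsg.inducedFunctor W (S : Subgroup G)) := by
  have h𝓦 : ∀ W' ∈ ({W} : Set (∀ (Q : Type u) [Group Q], Subgroup Q)),
      Cfsg.IsCharPFunctor.{u} p W' := by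
    intro W' hW'
    rw [Set.mem_singleton_iff] at hW'
    rw [hW']; exact hW
  have hsecG : Cfsg.Agent.Helper33.SectionProp (Cfsg.Agent.Helper33.CSFProp p {W}) G := by
    intro K R _ hfin hcon
    have := hfin
    obtain ⟨T⟩ : Nonempty (Sylow p (↥K ⧸ R.subgroupOf K)) := inferInstance
    show Cfsg.FamilyControlsStrongFusionIn p (Cfsg.Agent.Helper33.FamW {W} _) ⊤
    unfold Cfsg.Agent.Helper33.FamW
    rw [Set.image_singleton]
    exact Cfsg.Agent.Helper33.familyControls_singleton_of_normal _ T (hloc K R hcon T)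
  have hctl := Cfsg.Agent.Helper33.familyControls_of_constrained_sections h𝓦 _ G rfl hsecG
  unfold Cfsg.Agent.Helper33.FamW at hctl
  rw [Set.image_singleton] at hctl
  exact Cfsg.Agent.Helper33.controlsStrongFusion_of_familyControls_singleton
    (Cfsg.Agent.Helper33.isConjugacyFunctor_inducedFunctor hW _) hctl S

theorem isoInvariant_isNormalizerPStable (p : ℕ) :
    Cfsg.Agent.Helper33.IsoInvariant.{u} (fun (X : Type u) [Group X] => Cfsg.IsNormalizerPStable p X) := by
  intro X Y _ _ φ h
  exact Cfsg.Agent.Helper48.isNormalizerPStable_of_injective φ.symm.toMonoidHom φ.symm.injective h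

variable {G : Type u} [Group G] [Finite G] {p : ℕ} [Fact p.Prime]

/-- both K-infinity subgroups are normal in every constrained section -/
theorem kInf_normal_in_constrained_sections
    (hst : ∀ (K R : Subgroup G) [(R.subgroupOf K).Normal],
      Cfsg.IsNormalizerPStable p (↥K ⧸ R.subgroupOf K))
    (K R : Subgroup G) [hR : (R.subgroupOf K).Normal]
    (hcon : Subgroup.centralizer ((Cfsg.pCore p (↥K ⧸ R.subgroupOf K) : Subgroup (↥K ⧸ R.subgroupOf K)) :
        Set (↥K ⧸ R.subgroupOf K)) ≤ Cfsg.pCore p (↥K ⧸ R.subgroupOf K))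
    (T : Sylow p (↥K ⧸ R.subgroupOf K)) :
    (Cfsg.inducedFunctor (G := (↥K ⧸ R.subgroupOf K)) Cfsg.kInfLower
        ((T : Subgroup (↥K ⧸ R.subgroupOf K)))).Normal ∧
      (Cfsg.inducedFunctor (G := (↥K ⧸ R.subgroupOf K)) Cfsg.kInfUpper
        ((T : Subgroup (↥K ⧸ R.subgroupOf K)))).Normal := by
  have hsecG : Cfsg.Agent.Helper33.SectionProp
      (fun (X : Type u) [Group X] => Cfsg.IsNormalizerPStable p X) G := fun K R _ => hst K R
  have hsecX := (hsecG.subgroup (isoInvariant_isNormalizerPStable p) K).quotient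
    (isoInvariant_isNormalizerPStable p) (R.subgroupOf K)
  exact kInf_normal_of_stable (fun K' R' _ => hsecX K' R') hcon T

/-- **S1987**: the lower K-infinity subgroup controls strong fusion when all sections are `p`-stable. -/
theorem kInfLower_controls_of_stable
    (hst : ∀ (K R : Subgroup G) [(R.subgroupOf K).Normal],
      Cfsg.IsNormalizerPStable p (↥K ⧸ R.subgroupOf K)) (S : Sylow p G) :
    Cfsg.ControlsStrongFusion p (Cfsg.inducedFunctor Cfsg.kInfLower (S : Subgroup G)) :=
  controlsStrongFusion_of_normal_in_constrained_sections (fun (Q : Type u) [Group Q] => Cfsg.kInfLower Q)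
    (Cfsg.Agent.Helper33.isCharPFunctor_kInfLower p)
    (fun K R _ hcon T => (kInf_normal_in_constrained_sections hst K R hcon T).1) S

/-- **S1993, second half**: the upper K-infinity subgroup controls strong fusion when all sections are `p`-stable. -/
theorem kInfUpper_controls_of_stable
    (hst : ∀ (K R : Subgroup G) [(R.subgroupOf K).Normal],
      Cfsg.IsNormalizerPStable p (↥K ⧸ R.subgroupOf K)) (S : Sylow p G) :
    Cfsg.ControlsStrongFusion p (Cfsg.inducedFunctor Cfsg.kInfUpper (S : Subgroup G)) :=
  controlsStrongFusion_of_normal_in_constrained_sections (fun (Q : Type u) [Group Q] => Cfsg.kInfUpper Q)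
    (Cfsg.Agent.Helper33.isCharPFunctor_kInfUpper p)
    (fun K R _ hcon T => (kInf_normal_in_constrained_sections hst K R hcon T).2) S

end Cfsg.Agent.Helper47
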