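import Cfsg.Agent.S1990
import Cfsg.Agent.Helper47.KInfFunctor
import Cfsg.Agent.Helper33.KInfCent
import Cfsg.Agent.Helper34.Burnside

/-!
# Normal `p`-complements from `N_G(K_∞(S))` (helper47)

`hasNormalPComplement_of_kInfLower`: S1988 from the statement of S1987 (taken as a hypothesis), the
landed S1990 and `Helper34.hasNormalPComplement_of_selfCentralizing`.
-/

set_option autoImplicit false

namespace Cfsg.Agent.Helper47

universe u

open Cfsg

/-- If every `p'`-element of `N = N_G(K_∞(S))` centralizes `K_∞(S)`, then `N` has a normal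
`p`-complement. -/
theorem hasNormalPComplement_normalizer_kInfLower {G : Type u} [Group G] [Finite G] {p : ℕ}
    [Fact p.Prime] (S : Sylow p G)
    (h : ∀ g ∈ Subgroup.normalizer
        ((Cfsg.inducedFunctor Cfsg.kInfLower (S : Subgroup G) : Subgroup G) : Set G),
      (orderOf g).Coprime p → g ∈ Subgroup.centralizer
        ((Cfsg.inducedFunctor Cfsg.kInfLower (S : Subgroup G) : Subgroup G) : Set G)) :
    Cfsg.HasNormalPComplement p ↥(Subgroup.normalizer
      ((Cfsg.inducedFunctor Cfsg.kInfLower (S : Subgroup G) : Subgroup G) : Set G)) := by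
  set K : Subgroup G := Cfsg.inducedFunctor Cfsg.kInfLower (S : Subgroup G) with hK
  set N : Subgroup G := Subgroup.normalizer (K : Set G) with hN
  have hKS : K ≤ (S : Subgroup G) := Subgroup.map_subtype_le _
  have hSN : (S : Subgroup G) ≤ N :=
    Cfsg.Agent.Helper33.normalizer_le_normalizer_functor (isConjugacyFunctor_kInfLower G p) S.2
      |> fun h' => Subgroup.le_normalizer.trans h'
  -- the Sylow subgroup of `N`
  have hSp : IsPGroup p ↥((S : Subgroup G).subgroupOf N) := S.2.comap_subtype
  have hidx : ¬ p ∣ ((S : Subgroup G).subgroupOf N).index := by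
    intro hdvd
    apply S.not_dvd_index
    have h1 : ((S : Subgroup G).subgroupOf N).index = (S : Subgroup G).relIndex N := rfl
    rw [h1] at hdvd
    exact hdvd.trans (Subgroup.relIndex_dvd_index_of_le hSN)
  let S' : Sylow p ↥N := hSp.toSylow hidx
  have hS' : (S' : Subgroup ↥N) = (S : Subgroup G).subgroupOf N := rfl
  have hTn : (K.subgroupOf N).Normal := Subgroup.normal_in_normalizer
  refine Cfsg.Agent.Helper34.hasNormalPComplement_of_selfCentralizing S' (K.subgroupOf N) ?_ ?_
  · -- `C_S(K) ≤ K`
    rintro ⟨x, hxN⟩ ⟨hxS, hxC⟩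
    have hxS' : x ∈ (S : Subgroup G) := hxS
    have hxC : (⟨x, hxN⟩ : ↥N) ∈ Subgroup.centralizer ((K.subgroupOf N : Subgroup ↥N) : Set ↥N) := hxC
    show x ∈ K
    have hcent : (⟨x, hxS'⟩ : ↥(S : Subgroup G)) ∈
        Subgroup.centralizer ((Cfsg.kInfLower ↥(S : Subgroup G) : Subgroup ↥(S : Subgroup G)) :
          Set ↥(S : Subgroup G)) := by
      rw [Subgroup.mem_centralizer_iff]
      intro y hy
      apply Subtype.ext
      have hyK : (y : G) ∈ K := ⟨y, hy, rfl⟩
      have := Subgroup.mem_centralizer_iff.mp hxC ⟨(y : G), Subgroup.le_normalizer hyK⟩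
        (Subgroup.mem_subgroupOf.mpr hyK)
      have h2 := congrArg (Subtype.val : ↥N → G) this
      exact h2
    have := Cfsg.Agent.Helper33.centralizer_kInfLower_le (p := p) S.2 hcent
    exact ⟨⟨x, hxS'⟩, this, rfl⟩
  · intro g hg
    have hg' : (orderOf (g : G)).Coprime p := by
      rwa [Subgroup.orderOf_coe]
    have := h (g : G) g.2 hg'
    rw [Subgroup.mem_centralizer_iff]
    intro y hy
    apply Subtype.ext
    exact Subgroup.mem_centralizer_iff.mp this (y : G) (Subgroup.mem_subgroupOf.mp hy)

/-- S1988 from the statement of S1987. -/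
theorem hasNormalPComplement_of_kInfLower {p : ℕ} [Fact p.Prime] (hp : p ≠ 2)
    (h87 : ∀ (X : Type u) [Group X] [Finite X] (T : Sylow p X),
      (∀ (K R : Subgroup X) [(R.subgroupOf K).Normal],
        Cfsg.IsNormalizerPStable p (↥K ⧸ R.subgroupOf K)) →
      Cfsg.ControlsStrongFusion p (Cfsg.inducedFunctor Cfsg.kInfLower (T : Subgroup X)))
    {G : Type u} [Group G] [Finite G] (S : Sylow p G)
    (h : Cfsg.HasNormalPComplement p ↥(Subgroup.normalizer
        ((Cfsg.inducedFunctor Cfsg.kInfLower (S : Subgroup G) : Subgroup G) : Set G)) ∨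
      ∀ g ∈ Subgroup.normalizer
        ((Cfsg.inducedFunctor Cfsg.kInfLower (S : Subgroup G) : Subgroup G) : Set G),
        (orderOf g).Coprime p → g ∈ Subgroup.centralizer
          ((Cfsg.inducedFunctor Cfsg.kInfLower (S : Subgroup G) : Subgroup G) : Set G)) :
    Cfsg.HasNormalPComplement p G := by
  have hN : Cfsg.HasNormalPComplement p ↥(Subgroup.normalizer
      ((Cfsg.inducedFunctor Cfsg.kInfLower (S : Subgroup G) : Subgroup G) : Set G)) := by
    rcases h with h | h
    · exact h
    · exact hasNormalPComplement_normalizer_kInfLower S h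
  refine Cfsg.Agent.S1990.result hp Cfsg.kInfLower (isCharPFunctor_kInfLower p) S hN ?_
  intro K R hR hst T
  exact h87 (↥K ⧸ R.subgroupOf K) T hst

end Cfsg.Agent.Helper47
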