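import Cfsg.Agent.Helper47.NPC88
import Cfsg.Agent.Helper78.PNilpotent

/-!
# A characteristic subgroup deciding normal `p`-complements (helper47)

S3073 from the statement of S1987: `K = K_∞(S)`.
-/

set_option autoImplicit false

namespace Cfsg.Agent.Helper47

universe u

open Cfsg

theorem kInfLower_characteristic (S : Type u) [Group S] : (Cfsg.kInfLower S).Characteristic := by
  rw [Subgroup.characteristic_iff_map_eq]
  intro φ
  exact kInfLower_map_equiv φ

theorem comap_kInfLower_equiv {P S : Type u} [Group P] [Group S] (e : P ≃* S) :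
    (Cfsg.kInfLower S).comap (e : P →* S) = Cfsg.kInfLower P := by
  rw [← kInfLower_map_equiv e]
  exact Subgroup.comap_map_eq_self_of_injective e.injective _

/-- S3073 from the statement of S1987. -/
theorem exists_characteristic_npc_criterion (p : ℕ) [Fact p.Prime] (hp : p ≠ 2)
    (h87 : ∀ (X : Type u) [Group X] [Finite X] (T : Sylow p X),
      (∀ (K R : Subgroup X) [(R.subgroupOf K).Normal],
        Cfsg.IsNormalizerPStable p (↥K ⧸ R.subgroupOf K)) →
      Cfsg.ControlsStrongFusion p (Cfsg.inducedFunctor Cfsg.kInfLower (T : Subgroup X)))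
    (S : Type u) [Group S] [Finite S] (hS : IsPGroup p S) :
    ∃ K : Subgroup S, K.Characteristic ∧ Subgroup.centralizer (K : Set S) ≤ K ∧
      ∀ (G : Type u) [Group G] [Finite G] (P : Sylow p G) (e : ↥(P : Subgroup G) ≃* S),
        Cfsg.HasNormalPComplement p G ↔
          ∀ g ∈ Subgroup.normalizer (((K.comap (e : ↥(P : Subgroup G) →* S)).map
              (P : Subgroup G).subtype : Subgroup G) : Set G),
            (orderOf g).Coprime p →
              g ∈ Subgroup.centralizer (((K.comap (e : ↥(P : Subgroup G) →* S)).map
                (P : Subgroup G).subtype : Subgroup G) : Set G) := by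
  refine ⟨Cfsg.kInfLower S, kInfLower_characteristic S,
    Cfsg.Agent.Helper33.centralizer_kInfLower_le hS, ?_⟩
  intro G _ _ P e
  rw [comap_kInfLower_equiv e]
  constructor
  · intro h g hg hcop
    have hfrob := Cfsg.Agent.Helper78.hasNormalPComplement_iff_frobHyp.mp h
    exact hfrob _ (P.2.to_le (Subgroup.map_subtype_le _)) g hg hcop
  · intro h
    exact hasNormalPComplement_of_kInfLower hp h87 P (Or.inr h)

end Cfsg.Agent.Helper47
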