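import Mathlib
import Cfsg.Agent.Helper99.O9.C7Defs

/-!
# S2517 (C7) sub-farm (helper99), piece (ARB): arithmetic of the sign argument (helper47)
-/

set_option autoImplicit false

namespace Cfsg.Agent.Helper47.O9

/-- (ARB) arithmetic of the sign argument -/
theorem semi_arith (q p N : ℕ) (hq : Odd q) (hp : p.Prime) (hpq : ∃ a, q = p ^ a) (hN : N ∣ q ^ 7 - q ^ 3)
    (hpN : ¬ p ∣ N) (h2 : Even N → Even ((q ^ 7 - q ^ 3) / N)) : N ∣ (q ^ 4 - 1) / 2 := by
  have hN0 : N ≠ 0 := by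
    rintro rfl
    exact hpN (dvd_zero p)
  have hfac : q ^ 7 - q ^ 3 = q ^ 3 * (q ^ 4 - 1) := by
    rw [Nat.mul_sub, mul_one, ← pow_add]
  have hcop : Nat.Coprime N (q ^ 3) := by
    obtain ⟨a, rfl⟩ := hpq
    apply Nat.Coprime.pow_right
    apply Nat.Coprime.pow_right
    exact ((Nat.Prime.coprime_iff_not_dvd hp).mpr hpN).symm
  have hdiv : N ∣ q ^ 4 - 1 := by
    rw [hfac] at hN
    exact hcop.dvd_of_dvd_mul_left hN
  have hev : 2 ∣ q ^ 4 - 1 := (Nat.Odd.sub_odd hq.pow odd_one).two_dvd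
  obtain ⟨c, hc⟩ := hdiv
  by_cases hNe : Even N
  · have h3 := h2 hNe
    have e1 : (q ^ 7 - q ^ 3) / N = q ^ 3 * c := by
      rw [hfac, hc, show q ^ 3 * (N * c) = N * (q ^ 3 * c) by ring]
      exact Nat.mul_div_cancel_left _ (Nat.pos_of_ne_zero hN0)
    rw [e1] at h3
    have hc2 : Even c := by
      rcases Nat.even_mul.mp h3 with h | h
      · exact absurd h (Nat.not_even_iff_odd.mpr hq.pow)
      · exact h
    obtain ⟨c', rfl⟩ := hc2
    refine ⟨c', ?_⟩
    rw [hc, show N * (c' + c') = 2 * (N * c') by ring]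
    exact Nat.mul_div_cancel_left _ two_pos
  · have hNodd : Nat.Coprime N 2 := by
      rw [Nat.coprime_two_right]
      exact Nat.not_even_iff_odd.mp hNe
    have h4 : N ∣ 2 * ((q ^ 4 - 1) / 2) := by
      rw [Nat.mul_div_cancel' hev]
      exact ⟨c, hc⟩
    exact hNodd.dvd_of_dvd_mul_left h4

end Cfsg.Agent.Helper47.O9
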