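import Mathlib
import Cfsg.Agent.Helper99.O9.C7Defs

/-!
# S2517 (C7) sub-farm (helper99), piece (ARO3): arithmetic of the covering at half-dimension `3` (helper47)
-/

set_option autoImplicit false

namespace Cfsg.Agent.Helper47.O9

open Cfsg.Agent.Helper99.O9

theorem ARO3_of_dvd (q p a b N : ℕ) (hN : N ∈ LrO 3 q p) (ha : a ∣ N) (hb : b ∣ N) :
    ∃ N ∈ LrO 3 q p, Nat.lcm a b ∣ N := ⟨N, hN, Nat.lcm_dvd ha hb⟩

theorem ARO3_m1 (q p : ℕ) : q ^ 3 - 1 ∈ LrO 3 q p := by simp [LrO_three]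
theorem ARO3_m2 (q p : ℕ) : q ^ 3 + 1 ∈ LrO 3 q p := by simp [LrO_three]
theorem ARO3_m3 (q p : ℕ) : (q ^ 2 + 1) * (q - 1) / 2 ∈ LrO 3 q p := by simp [LrO_three]
theorem ARO3_m4 (q p : ℕ) : (q ^ 2 + 1) * (q + 1) / 2 ∈ LrO 3 q p := by simp [LrO_three]
theorem ARO3_m5 (q p : ℕ) : p * (q ^ 2 - 1) ∈ LrO 3 q p := by simp [LrO_three]

theorem ARO3_d1 (q : ℕ) (hq1 : 1 ≤ q) : q - 1 ∣ q ^ 2 - 1 := by
  obtain ⟨h, rfl⟩ : ∃ h, q = h + 1 := ⟨q - 1, by omega⟩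
  refine ⟨h + 2, ?_⟩
  rw [Nat.add_sub_cancel]
  apply Nat.sub_eq_of_eq_add
  ring

theorem ARO3_d2 (q : ℕ) : q + 1 ∣ q ^ 2 - 1 := by
  rcases Nat.eq_zero_or_pos q with rfl | hq1
  · simp
  obtain ⟨h, rfl⟩ : ∃ h, q = h + 1 := ⟨q - 1, by omega⟩
  refine ⟨h, ?_⟩
  apply Nat.sub_eq_of_eq_add
  ring

theorem ARO3_d3 (q : ℕ) (hq : Odd q) : q - 1 ∣ (q ^ 2 + 1) * (q - 1) / 2 := by
  obtain ⟨h, rfl⟩ := hq
  refine ⟨2 * h ^ 2 + 2 * h + 1, ?_⟩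
  rw [show ((2 * h + 1) ^ 2 + 1) * (2 * h + 1 - 1) = 2 * ((2 * h + 1 - 1) * (2 * h ^ 2 + 2 * h + 1)) by
    rw [Nat.add_sub_cancel]; ring]
  exact Nat.mul_div_cancel_left _ two_pos

theorem ARO3_d4 (q : ℕ) (hq : Odd q) : q ^ 2 + 1 ∣ (q ^ 2 + 1) * (q - 1) / 2 := by
  obtain ⟨h, rfl⟩ := hq
  refine ⟨h, ?_⟩
  rw [show ((2 * h + 1) ^ 2 + 1) * (2 * h + 1 - 1) = 2 * (((2 * h + 1) ^ 2 + 1) * h) by
    rw [Nat.add_sub_cancel]; ring]
  exact Nat.mul_div_cancel_left _ two_pos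

theorem ARO3_d5 (q : ℕ) (hq : Odd q) : q + 1 ∣ (q ^ 2 + 1) * (q + 1) / 2 := by
  obtain ⟨h, rfl⟩ := hq
  refine ⟨2 * h ^ 2 + 2 * h + 1, ?_⟩
  rw [show ((2 * h + 1) ^ 2 + 1) * (2 * h + 1 + 1) = 2 * ((2 * h + 1 + 1) * (2 * h ^ 2 + 2 * h + 1)) by
    ring]
  exact Nat.mul_div_cancel_left _ two_pos

theorem ARO3_d6 (q : ℕ) (hq : Odd q) : q ^ 2 + 1 ∣ (q ^ 2 + 1) * (q + 1) / 2 := by
  obtain ⟨h, rfl⟩ := hq
  refine ⟨h + 1, ?_⟩
  rw [show ((2 * h + 1) ^ 2 + 1) * (2 * h + 1 + 1) = 2 * (((2 * h + 1) ^ 2 + 1) * (h + 1)) by ring]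
  exact Nat.mul_div_cancel_left _ two_pos

/-- (ARO3) -/
theorem arO3 (q p : ℕ) (hq : Odd q) (hq3 : 3 ≤ q) (hp : p.Prime) (hp2 : p ≠ 2) (k μ e N' : ℕ)
    (hk : 1 ≤ k) (hμ : 1 ≤ μ) (hkμ : k * μ ≤ 3) (he : e = q ^ k + 1 ∨ e = q ^ k - 1)
    (hN' : N' ∈ LrO (3 - k * μ) q p) :
    ∃ N ∈ LrO 3 q p, Nat.lcm (e * p ^ Nat.clog p μ) N' ∣ N := by
  have hp3 : 3 ≤ p := by
    have := hp.two_le
    omega
  have hq1 : 1 ≤ q := by omega
  have c1 : Nat.clog p 1 = 0 := Nat.clog_one_right p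
  have c2 : Nat.clog p 2 = 1 := Nat.clog_eq_one le_rfl (by omega)
  have c3 : Nat.clog p 3 = 1 := Nat.clog_eq_one (by omega) hp3
  have d1 := ARO3_d1 q hq1
  have d2 := ARO3_d2 q
  have d3 := ARO3_d3 q hq
  have d4 := ARO3_d4 q hq
  have d5 := ARO3_d5 q hq
  have d6 := ARO3_d6 q hq
  have hk3 : k ≤ 3 := le_trans (Nat.le_mul_of_pos_right k hμ) hkμ
  have hμ3 : μ ≤ 3 := le_trans (Nat.le_mul_of_pos_left μ hk) hkμ
  interval_cases k <;> interval_cases μ <;> try omega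
  · -- (1,1)
    rw [c1, pow_zero, mul_one]
    simp only [LrO_two, pow_one, mul_one, Nat.reduceSub, List.mem_cons, List.not_mem_nil,
      or_false] at hN' he
    rcases he with rfl | rfl <;> rcases hN' with rfl | rfl | rfl | rfl
    · exact ARO3_of_dvd q p _ _ _ (ARO3_m5 q p) (d2.mul_left p) (dvd_mul_left _ p)
    · exact ARO3_of_dvd q p _ _ _ (ARO3_m4 q p) d5 d6
    · exact ARO3_of_dvd q p _ _ _ (ARO3_m5 q p) (d2.mul_left p) (mul_dvd_mul_left p d1)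
    · exact ARO3_of_dvd q p _ _ _ (ARO3_m5 q p) (d2.mul_left p) (mul_dvd_mul_left p d2)
    · exact ARO3_of_dvd q p _ _ _ (ARO3_m5 q p) (d1.mul_left p) (dvd_mul_left _ p)
    · exact ARO3_of_dvd q p _ _ _ (ARO3_m3 q p) d3 d4
    · exact ARO3_of_dvd q p _ _ _ (ARO3_m5 q p) (d1.mul_left p) (mul_dvd_mul_left p d1)
    · exact ARO3_of_dvd q p _ _ _ (ARO3_m5 q p) (d1.mul_left p) (mul_dvd_mul_left p d2)
  · -- (1,2)
    rw [c2, pow_one]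
    simp only [LrO_one, pow_one, Nat.reduceMul, Nat.reduceSub, List.mem_cons, List.not_mem_nil,
      or_false] at hN' he
    rcases he with rfl | rfl <;> rcases hN' with rfl | rfl
    · exact ARO3_of_dvd q p _ _ _ (ARO3_m5 q p) (by rw [mul_comm]; exact mul_dvd_mul_left p d2)
        (d1.mul_left p)
    · exact ARO3_of_dvd q p _ _ _ (ARO3_m5 q p) (by rw [mul_comm]; exact mul_dvd_mul_left p d2)
        (d2.mul_left p)
    · exact ARO3_of_dvd q p _ _ _ (ARO3_m5 q p) (by rw [mul_comm]; exact mul_dvd_mul_left p d1)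
        (d1.mul_left p)
    · exact ARO3_of_dvd q p _ _ _ (ARO3_m5 q p) (by rw [mul_comm]; exact mul_dvd_mul_left p d1)
        (d2.mul_left p)
  · -- (1,3)
    rw [c3, pow_one]
    simp only [LrO_zero, pow_one, Nat.reduceMul, Nat.reduceSub, List.mem_cons, List.not_mem_nil,
      or_false] at hN' he
    subst hN'
    rcases he with rfl | rfl
    · exact ARO3_of_dvd q p _ _ _ (ARO3_m5 q p) (by rw [mul_comm]; exact mul_dvd_mul_left p d2)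
        (one_dvd _)
    · exact ARO3_of_dvd q p _ _ _ (ARO3_m5 q p) (by rw [mul_comm]; exact mul_dvd_mul_left p d1)
        (one_dvd _)
  · -- (2,1)
    rw [c1, pow_zero, mul_one]
    simp only [LrO_one, mul_one, Nat.reduceSub, List.mem_cons, List.not_mem_nil,
      or_false] at hN' he
    rcases he with rfl | rfl <;> rcases hN' with rfl | rfl
    · exact ARO3_of_dvd q p _ _ _ (ARO3_m3 q p) d4 d3
    · exact ARO3_of_dvd q p _ _ _ (ARO3_m4 q p) d6 d5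
    · exact ARO3_of_dvd q p _ _ _ (ARO3_m5 q p) (dvd_mul_left _ p) (d1.mul_left p)
    · exact ARO3_of_dvd q p _ _ _ (ARO3_m5 q p) (dvd_mul_left _ p) (d2.mul_left p)
  · -- (3,1)
    rw [c1, pow_zero, mul_one]
    simp only [LrO_zero, mul_one, Nat.reduceSub, List.mem_cons, List.not_mem_nil,
      or_false] at hN' he
    subst hN'
    rcases he with rfl | rfl
    · exact ARO3_of_dvd q p _ _ _ (ARO3_m2 q p) dvd_rfl (one_dvd _)
    · exact ARO3_of_dvd q p _ _ _ (ARO3_m1 q p) dvd_rfl (one_dvd _)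

end Cfsg.Agent.Helper47.O9
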