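import Cfsg.Prelude.Def_LocalStructure
import Cfsg.Agent.Lib.Cores
import Cfsg.Agent.Helper46.Amalgam
import Cfsg.Agent.Helper47.PReduced
import Cfsg.Agent.Helper49.SelfCent

set_option autoImplicit false

namespace Cfsg.Agent.Helper47

open Cfsg

variable {H : Type*} [Group H] {p : ℕ}

/-- Ambient form of "`V` is a `p`-reduced normal subgroup of `L`", for subgroups `V ≤ L` of `H`. -/
def IsPRedIn (p : ℕ) (V L : Subgroup H) : Prop :=
  V ≤ L ∧ L ≤ Subgroup.normalizer (V : Set H) ∧ Cfsg.IsElementaryAbelian p V ∧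
    ∀ D : Subgroup H, D ≤ L → L ≤ Subgroup.normalizer (D : Set H) →
      (∀ d ∈ D, ∃ k : ℕ, d ^ (p ^ k) ∈ Subgroup.centralizer (V : Set H)) →
      D ≤ Subgroup.centralizer (V : Set H)

theorem IsPRedIn.le {V L : Subgroup H} (h : IsPRedIn p V L) : V ≤ L := h.1
theorem IsPRedIn.le_normalizer {V L : Subgroup H} (h : IsPRedIn p V L) :
    L ≤ Subgroup.normalizer (V : Set H) := h.2.1
theorem IsPRedIn.isElementaryAbelian {V L : Subgroup H} (h : IsPRedIn p V L) :
    Cfsg.IsElementaryAbelian p V := h.2.2.1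
theorem IsPRedIn.le_centralizer {V L : Subgroup H} (h : IsPRedIn p V L) {D : Subgroup H}
    (hDL : D ≤ L) (hn : L ≤ Subgroup.normalizer (D : Set H))
    (hp : ∀ d ∈ D, ∃ k : ℕ, d ^ (p ^ k) ∈ Subgroup.centralizer (V : Set H)) :
    D ≤ Subgroup.centralizer (V : Set H) := h.2.2.2 D hDL hn hp

/-- The centralizer in `↥L` of `V.subgroupOf L` for `V ≤ L`. -/
theorem centralizer_subgroupOf {V L : Subgroup H} (hVL : V ≤ L) :
    Subgroup.centralizer ((V.subgroupOf L : Subgroup L) : Set L) =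
      (Subgroup.centralizer (V : Set H)).subgroupOf L := by
  ext x
  rw [Subgroup.mem_subgroupOf, Subgroup.mem_centralizer_iff, Subgroup.mem_centralizer_iff]
  constructor
  · intro h v hv
    have := h ⟨v, hVL hv⟩ (by rw [SetLike.mem_coe, Subgroup.mem_subgroupOf]; exact hv)
    exact congrArg Subtype.val this
  · intro h y hy
    apply Subtype.ext
    exact h y (by rw [SetLike.mem_coe, Subgroup.mem_subgroupOf] at hy; exact hy)

theorem isElementaryAbelian_subgroupOf_iff {V L : Subgroup H} (hVL : V ≤ L) :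
    Cfsg.IsElementaryAbelian p (V.subgroupOf L) ↔ Cfsg.IsElementaryAbelian p V := by
  constructor
  · rintro ⟨hc, he⟩
    refine ⟨⟨⟨?_⟩⟩, ?_⟩
    · rintro ⟨a, ha⟩ ⟨b, hb⟩
      have := hc.is_comm.comm (⟨⟨a, hVL ha⟩, by rw [Subgroup.mem_subgroupOf]; exact ha⟩ : V.subgroupOf L)
        ⟨⟨b, hVL hb⟩, by rw [Subgroup.mem_subgroupOf]; exact hb⟩
      apply Subtype.ext
      exact congrArg (fun x : V.subgroupOf L => ((x : L) : H)) this
    · intro a ha
      have := he ⟨a, hVL ha⟩ (by rw [Subgroup.mem_subgroupOf]; exact ha)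
      exact congrArg Subtype.val this
  · rintro ⟨hc, he⟩
    refine ⟨⟨⟨?_⟩⟩, ?_⟩
    · rintro ⟨a, ha⟩ ⟨b, hb⟩
      rw [Subgroup.mem_subgroupOf] at ha hb
      have := congrArg Subtype.val (hc.is_comm.comm (⟨a, ha⟩ : V) ⟨b, hb⟩)
      apply Subtype.ext
      apply Subtype.ext
      simpa using this
    · intro a ha
      rw [Subgroup.mem_subgroupOf] at ha
      apply Subtype.ext
      exact he a ha

/-- Bridge between the quotient definition and the ambient form. -/
theorem isPReducedNormal_subgroupOf_iff [Finite H] [hp : Fact p.Prime] {V L : Subgroup H}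
    (hVL : V ≤ L) : Cfsg.IsPReducedNormal p (V.subgroupOf L) ↔ IsPRedIn p V L := by
  have hcent := centralizer_subgroupOf hVL
  constructor
  · rintro ⟨hVn, hVe, hCn, hcore⟩
    have hLn : L ≤ Subgroup.normalizer (V : Set H) :=
      (Subgroup.normal_subgroupOf_iff_le_normalizer hVL).mp hVn
    refine ⟨hVL, hLn, (isElementaryAbelian_subgroupOf_iff hVL).mp hVe, ?_⟩
    intro D hDL hLD hDp
    have := hCn
    have hD'n : (D.subgroupOf L).Normal := (Subgroup.normal_subgroupOf_iff_le_normalizer hDL).mpr hLD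
    have h1 := (pCore_quotient_eq_bot_iff _).mp hcore (D.subgroupOf L) hD'n (by
      intro d hd
      rw [Subgroup.mem_subgroupOf] at hd
      obtain ⟨k, hk⟩ := hDp _ hd
      refine ⟨k, ?_⟩
      rw [hcent, Subgroup.mem_subgroupOf]
      simpa using hk)
    intro d hd
    have h2 := h1 (show (⟨d, hDL hd⟩ : L) ∈ D.subgroupOf L by rw [Subgroup.mem_subgroupOf]; exact hd)
    rw [hcent, Subgroup.mem_subgroupOf] at h2
    exact h2
  · rintro ⟨-, hLn, hVe, hD⟩
    have hVn : (V.subgroupOf L).Normal := (Subgroup.normal_subgroupOf_iff_le_normalizer hVL).mpr hLn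
    have hCn : (Subgroup.centralizer ((V.subgroupOf L : Subgroup L) : Set L)).Normal := by
      have := hVn
      exact Subgroup.normal_centralizer
    refine ⟨hVn, (isElementaryAbelian_subgroupOf_iff hVL).mpr hVe, hCn, ?_⟩
    have := hCn
    rw [pCore_quotient_eq_bot_iff]
    intro D' hD'n hD'p
    have h1 := hD (D'.map L.subtype) (Subgroup.map_subtype_le _) (by
      intro l hl
      rw [Subgroup.mem_normalizer_iff_map_conj_eq]
      ext x
      constructor
      · rintro ⟨_, ⟨d, hd, rfl⟩, rfl⟩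
        exact ⟨⟨l, hl⟩ * d * ⟨l, hl⟩⁻¹, hD'n.conj_mem d hd ⟨l, hl⟩, by simp⟩
      · rintro ⟨d, hd, rfl⟩
        refine ⟨L.subtype (⟨l, hl⟩⁻¹ * d * ⟨l, hl⟩), ⟨_, ?_, rfl⟩, by simp [mul_assoc]⟩
        have := hD'n.conj_mem d hd ⟨l, hl⟩⁻¹
        simpa using this) (by
      rintro _ ⟨d, hd, rfl⟩
      obtain ⟨k, hk⟩ := hD'p d hd
      refine ⟨k, ?_⟩
      rw [hcent, Subgroup.mem_subgroupOf] at hk
      simpa using hk)
    intro d hd
    rw [hcent, Subgroup.mem_subgroupOf]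
    exact h1 ⟨d, hd, rfl⟩

theorem isPReducedNormal_iff_map [Finite H] [hp : Fact p.Prime] {L : Subgroup H}
    (V' : Subgroup L) : Cfsg.IsPReducedNormal p V' ↔ IsPRedIn p (V'.map L.subtype) L := by
  rw [← isPReducedNormal_subgroupOf_iff (Subgroup.map_subtype_le _)]
  have : (V'.map L.subtype).subgroupOf L = V' :=
    Subgroup.comap_map_eq_self_of_injective L.subtype_injective V'
  rw [this]

/-- `Y_L` is `p`-reduced in ambient form. -/
theorem isPRedIn_largestPReducedOf [Finite H] [hp : Fact p.Prime] (L : Subgroup H) :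
    IsPRedIn p (Cfsg.largestPReducedOf p L) L :=
  (isPReducedNormal_iff_map _).mp isPReducedNormal_largestPReduced

/-- `Y_L` contains every `p`-reduced normal subgroup of `L`. -/
theorem IsPRedIn.le_largestPReducedOf [Finite H] [hp : Fact p.Prime] {V L : Subgroup H}
    (h : IsPRedIn p V L) : V ≤ Cfsg.largestPReducedOf p L := by
  have h1 := (isPReducedNormal_subgroupOf_iff h.le).mpr h
  have h2 := IsPReducedNormal.le_largestPReduced h1
  intro v hv
  exact ⟨⟨v, h.le hv⟩, h2 (by rw [Subgroup.mem_subgroupOf]; exact hv), rfl⟩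

/-! ### Basic consequences -/

theorem forall_pow_mem_of_isPGroup {D : Subgroup H} (hD : IsPGroup p D) (C : Subgroup H) :
    ∀ d ∈ D, ∃ k : ℕ, d ^ (p ^ k) ∈ C := by
  intro d hd
  obtain ⟨k, hk⟩ := hD ⟨d, hd⟩
  refine ⟨k, ?_⟩
  have := congrArg Subtype.val hk
  simp only [Subgroup.coe_pow, Subgroup.coe_one] at this
  rw [this]; exact C.one_mem

/-- `O_p(L)` centralizes every `p`-reduced normal subgroup of `L`. -/
theorem IsPRedIn.pCoreOf_le_centralizer [Finite H] [hp : Fact p.Prime] {V L : Subgroup H}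
    (h : IsPRedIn p V L) : Cfsg.pCoreOf p L ≤ Subgroup.centralizer (V : Set H) :=
  h.le_centralizer (Cfsg.Agent.Helper46.pCoreOf_le L) (Cfsg.Agent.Helper46.pCoreOf_normalized L)
    (forall_pow_mem_of_isPGroup (Cfsg.Agent.Helper46.pCoreOf_isPGroup L) _)

/-- A `p`-reduced normal subgroup of `L` lies in `O_p(L)`. -/
theorem IsPRedIn.le_pCoreOf {V L : Subgroup H} (h : IsPRedIn p V L) : V ≤ Cfsg.pCoreOf p L :=
  Cfsg.Agent.Helper46.le_pCoreOf h.le
    (Cfsg.Agent.Lib.isElementaryAbelian_isPGroup h.isElementaryAbelian) h.le_normalizer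

/-- Elements of `D ⊔ C` are products when `D` normalizes `C`. -/
theorem exists_mul_of_mem_sup {D C : Subgroup H} (h : D ≤ Subgroup.normalizer (C : Set H))
    {x : H} (hx : x ∈ D ⊔ C) : ∃ d ∈ D, ∃ c ∈ C, x = d * c := by
  have h1 : x ∈ ((D ⊔ C : Subgroup H) : Set H) := hx
  rw [Subgroup.coe_mul_of_left_le_normalizer_right D C h] at h1
  obtain ⟨d, hd, c, hc, rfl⟩ := Set.mem_mul.mp h1
  exact ⟨d, hd, c, hc, rfl⟩

/-- Powers of `d * c` with `d` normalizing `C ∋ c`. -/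
theorem exists_pow_mul_eq {C : Subgroup H} {d c : H} (hd : d ∈ Subgroup.normalizer (C : Set H))
    (hc : c ∈ C) (n : ℕ) : ∃ c' ∈ C, (d * c) ^ n = d ^ n * c' := by
  induction n with
  | zero => exact ⟨1, C.one_mem, by simp⟩
  | succ n ih =>
    obtain ⟨c', hc', h⟩ := ih
    have hdi : d⁻¹ ∈ Subgroup.normalizer (C : Set H) := inv_mem hd
    have h2 : d⁻¹ * c' * d⁻¹⁻¹ ∈ C := (Subgroup.mem_normalizer_iff.mp hdi c').mp hc'
    refine ⟨d⁻¹ * c' * d⁻¹⁻¹ * c, C.mul_mem h2 hc, ?_⟩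
    rw [pow_succ, h, pow_succ]; group

/-- If `d ^ (p ^ k) ∈ C` for `d ∈ D ≤ N(C)`, the same holds on `D ⊔ C`. -/
theorem forall_pow_mem_sup {D C : Subgroup H} (h : D ≤ Subgroup.normalizer (C : Set H))
    (hD : ∀ d ∈ D, ∃ k : ℕ, d ^ (p ^ k) ∈ C) : ∀ x ∈ D ⊔ C, ∃ k : ℕ, x ^ (p ^ k) ∈ C := by
  intro x hx
  obtain ⟨d, hd, c, hc, rfl⟩ := exists_mul_of_mem_sup h hx
  obtain ⟨k, hk⟩ := hD d hd
  obtain ⟨c', hc', e⟩ := exists_pow_mul_eq (h hd) hc (p ^ k)
  exact ⟨k, by rw [e]; exact C.mul_mem hk hc'⟩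

/-- Transfer of `p`-reducedness between two subgroups with the same image modulo `C_H(Y)`
(the key step of S2822). -/
theorem IsPRedIn.of_sup_centralizer_eq {Y L M : Subgroup H} (hY : IsPRedIn p Y M) (hYL : Y ≤ L)
    (hfac : L ⊔ Subgroup.centralizer (Y : Set H) = M ⊔ Subgroup.centralizer (Y : Set H)) :
    IsPRedIn p Y L := by
  set C := Subgroup.centralizer (Y : Set H) with hC
  have hNC : Subgroup.normalizer (Y : Set H) ≤ Subgroup.normalizer (C : Set H) :=
    Cfsg.Agent.Helper49.normalizer_le_normalizer_centralizer Y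
  have hCN : C ≤ Subgroup.normalizer (Y : Set H) := Subgroup.centralizer_le_normalizer _
  have hMN : M ≤ Subgroup.normalizer (Y : Set H) := hY.le_normalizer
  have hLN : L ≤ Subgroup.normalizer (Y : Set H) := by
    calc L ≤ L ⊔ C := le_sup_left
      _ = M ⊔ C := hfac
      _ ≤ Subgroup.normalizer (Y : Set H) := sup_le hMN hCN
  refine ⟨hYL, hLN, hY.isElementaryAbelian, ?_⟩
  intro D hDL hLD hDp
  have hDNC : D ≤ Subgroup.normalizer (C : Set H) := (hDL.trans hLN).trans hNC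
  -- D' = (D ⊔ C) ⊓ M
  have hsupn : L ⊔ C ≤ Subgroup.normalizer ((D ⊔ C : Subgroup H) : Set H) := by
    refine sup_le ?_ ((le_sup_right : C ≤ D ⊔ C).trans Subgroup.le_normalizer)
    exact (le_inf hLD (hLN.trans hNC)).trans (Subgroup.normalizer_inf_normalizer_le_normalizer_sup D C)
  have hD'n : M ≤ Subgroup.normalizer (((D ⊔ C) ⊓ M : Subgroup H) : Set H) := by
    intro m hm
    have hm1 : m ∈ Subgroup.normalizer ((D ⊔ C : Subgroup H) : Set H) :=
      hsupn (hfac ▸ (le_sup_left : M ≤ M ⊔ C) hm)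
    rw [Subgroup.mem_normalizer_iff] at hm1 ⊢
    intro x
    rw [Subgroup.mem_inf, Subgroup.mem_inf, hm1 x]
    constructor
    · rintro ⟨h1, h2⟩; exact ⟨h1, M.mul_mem (M.mul_mem hm h2) (M.inv_mem hm)⟩
    · rintro ⟨h1, h2⟩
      refine ⟨h1, ?_⟩
      have : x = m⁻¹ * (m * x * m⁻¹) * m := by group
      rw [this]; exact M.mul_mem (M.mul_mem (M.inv_mem hm) h2) hm
  have hD'C : (D ⊔ C) ⊓ M ≤ C :=
    hY.le_centralizer inf_le_right hD'n
      (fun x hx => forall_pow_mem_sup hDNC hDp x hx.1)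
  intro d hd
  have hd1 : d ∈ M ⊔ C := hfac ▸ (le_sup_left : L ≤ L ⊔ C) (hDL hd)
  obtain ⟨m, hm, c, hc, e⟩ := exists_mul_of_mem_sup (hMN.trans hNC) hd1
  have hmD : m ∈ (D ⊔ C) ⊓ M := by
    refine ⟨?_, hm⟩
    have : m = d * c⁻¹ := by rw [e]; group
    rw [this]
    exact Subgroup.mul_mem _ ((le_sup_left : D ≤ D ⊔ C) hd) ((le_sup_right : C ≤ D ⊔ C) (C.inv_mem hc))
  rw [e]
  exact C.mul_mem (hD'C hmD) hc

/-- A Sylow subgroup of `H` lying in `M` is a Sylow subgroup of `M`. -/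
theorem isSylIn_of_sylow_le [Finite H] [hp : Fact p.Prime] (T : Sylow p H) {M : Subgroup H}
    (hTM : (T : Subgroup H) ≤ M) : Cfsg.Agent.Helper46.IsSylIn p (T : Subgroup H) M := by
  refine ⟨T.subtype hTM, ?_⟩
  rw [Sylow.coe_subtype, Subgroup.subgroupOf_map_subtype, inf_of_le_left hTM]

/-- `O_p(M) ≤ T` when the Sylow subgroup `T` of `H` lies in `M`. -/
theorem pCoreOf_le_sylow [Finite H] [hp : Fact p.Prime] (T : Sylow p H) {M : Subgroup H}
    (hTM : (T : Subgroup H) ≤ M) : Cfsg.pCoreOf p M ≤ (T : Subgroup H) :=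
  (isSylIn_of_sylow_le T hTM).pCoreOf_le

end Cfsg.Agent.Helper47
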