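import Cfsg.Prelude.Def_LocalStructure
import Cfsg.Agent.Lib.Cores
import Cfsg.Agent.Helper62.Radical
import Cfsg.Agent.Helper47.YL
import Cfsg.Agent.Helper48.StronglyEmbedded

set_option autoImplicit false

namespace Cfsg.Agent.Helper47

open Cfsg

variable {G : Type*} [Group G] {p : ℕ}

theorem radProp_isPGroup [Finite G] [hp : Fact p.Prime] :
    Cfsg.Agent.Helper62.RadProp (fun N : Subgroup G => IsPGroup p N) where
  bot := IsPGroup.of_bot
  conj g N hN := hN.map _
  sup N₁ N₂ h12 _ h1 h2 := h1.to_sup_of_normal_right' h2 h12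

/-- A subnormal `p`-subgroup of a finite group lies in `O_p(G)`. -/
theorem le_pCore_of_isSubnormal [Finite G] [hp : Fact p.Prime] {A : Subgroup G}
    (hA : A.IsSubnormal) (hAp : IsPGroup p A) : A ≤ Cfsg.pCore p G :=
  Cfsg.Agent.Helper62.le_sSup_normal_of_isSubnormal (P := fun N : Subgroup G => IsPGroup p N)
    radProp_isPGroup hA hAp

/-- `O^p(K)` in ambient form: generated by the elements of `K` of order prime to `p`. -/
theorem pResidual_map_subtype_eq_closure (K : Subgroup G) :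
    (Cfsg.pResidual p ↥K).map K.subtype =
      Subgroup.closure {x : G | x ∈ K ∧ (orderOf x).Coprime p} := by
  unfold Cfsg.pResidual
  rw [MonoidHom.map_closure]
  congr 1
  ext x
  constructor
  · rintro ⟨k, hk, rfl⟩
    refine ⟨k.2, ?_⟩
    have hk' : (orderOf k).Coprime p := hk
    rw [Subgroup.coe_subtype, Subgroup.orderOf_coe]
    exact hk'
  · rintro ⟨hxK, hx⟩
    refine ⟨⟨x, hxK⟩, ?_, rfl⟩
    show (orderOf (⟨x, hxK⟩ : K)).Coprime p
    rw [← Subgroup.orderOf_coe]
    exact hx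

/-- Key lemma: a `p'`-element of `B P`, with `B` subnormal and `P` a normal `p`-subgroup, lies in
`B`. -/
theorem mem_of_coprime_of_mem_sup [hp : Fact p.Prime] {B P : Subgroup G} (hB : B.IsSubnormal)
    (hP : P.Normal) (hPp : IsPGroup p P) {x : G} (hx : x ∈ B ⊔ P) (hcop : (orderOf x).Coprime p) :
    x ∈ B := by
  induction hB with
  | top => exact Subgroup.mem_top x
  | step B Y hBY hY hN ih =>
    have hxY : x ∈ Y := ih (sup_le_sup_right hBY P hx)
    have hBP : B ≤ Subgroup.normalizer (P : Set G) := by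
      rw [Subgroup.normalizer_eq_top_iff.mpr hP]; exact le_top
    obtain ⟨b, hb, u, hu, e⟩ := exists_mul_of_mem_sup hBP hx
    have huY : u ∈ Y := by
      have : u = b⁻¹ * x := by rw [e]; group
      rw [this]; exact Y.mul_mem (Y.inv_mem (hBY hb)) hxY
    have hb' : (⟨b, hBY hb⟩ : Y) ∈ B.subgroupOf Y := by rw [Subgroup.mem_subgroupOf]; exact hb
    have hπ : (QuotientGroup.mk' (B.subgroupOf Y)) ⟨x, hxY⟩ =
        (QuotientGroup.mk' (B.subgroupOf Y)) ⟨u, huY⟩ := by
      have : (⟨x, hxY⟩ : Y) = ⟨b, hBY hb⟩ * ⟨u, huY⟩ := Subtype.ext e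
      rw [this, map_mul]
      have h1 : (QuotientGroup.mk' (B.subgroupOf Y)) ⟨b, hBY hb⟩ = 1 := by
        rw [QuotientGroup.mk'_apply, QuotientGroup.eq_one_iff]; exact hb'
      rw [h1, one_mul]
    -- order of the image divides both a power of p and a p'-number
    have h1 : orderOf ((QuotientGroup.mk' (B.subgroupOf Y)) ⟨x, hxY⟩) ∣ orderOf x := by
      have := orderOf_map_dvd (QuotientGroup.mk' (B.subgroupOf Y)) (⟨x, hxY⟩ : Y)
      rwa [Subgroup.orderOf_mk] at this
    obtain ⟨k, hk⟩ := hPp ⟨u, hu⟩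
    have hk' : u ^ (p ^ k) = 1 := by
      have := congrArg Subtype.val hk
      simpa using this
    have h2 : orderOf ((QuotientGroup.mk' (B.subgroupOf Y)) ⟨u, huY⟩) ∣ p ^ k := by
      apply orderOf_dvd_of_pow_eq_one
      rw [← map_pow]
      have : (⟨u, huY⟩ : Y) ^ (p ^ k) = 1 := Subtype.ext (by simpa using hk')
      rw [this, map_one]
    rw [← hπ] at h2
    have h3 : (orderOf ((QuotientGroup.mk' (B.subgroupOf Y)) ⟨x, hxY⟩)).Coprime (p ^ k) :=
      Nat.Coprime.pow_right k (Nat.Coprime.coprime_dvd_left h1 hcop)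
    have h4 : orderOf ((QuotientGroup.mk' (B.subgroupOf Y)) ⟨x, hxY⟩) = 1 :=
      Nat.Coprime.eq_one_of_dvd h3 h2
    have h5 := orderOf_eq_one_iff.mp h4
    rw [QuotientGroup.mk'_apply, QuotientGroup.eq_one_iff, Subgroup.mem_subgroupOf] at h5
    exact h5

/-- If `B` is subnormal with `B = O^p(B)` and `P` is a normal `p`-subgroup, then `O^p(K) = B` for
every `B ≤ K ≤ B P`. -/
theorem pResidual_eq_of_le_sup [hp : Fact p.Prime] {B P K : Subgroup G} (hB : B.IsSubnormal)
    (hBres : (Cfsg.pResidual p ↥B).map B.subtype = B)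
    (hP : P.Normal) (hPp : IsPGroup p P) (hBK : B ≤ K) (hK : K ≤ B ⊔ P) :
    (Cfsg.pResidual p ↥K).map K.subtype = B := by
  rw [pResidual_map_subtype_eq_closure] at hBres ⊢
  apply le_antisymm
  · rw [Subgroup.closure_le]
    intro x hx
    exact mem_of_coprime_of_mem_sup hB hP hPp (hK hx.1) hx.2
  · conv_lhs => rw [← hBres]
    apply Subgroup.closure_mono
    intro x hx
    exact ⟨hBK hx.1, hx.2⟩

/-- `O^p(K)` is normalized by `K` (ambient form). -/
theorem le_normalizer_pResidual_map [Finite G] (K : Subgroup G) :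
    K ≤ Subgroup.normalizer (((Cfsg.pResidual p ↥K).map K.subtype : Subgroup G) : Set G) := by
  intro a ha
  apply Cfsg.Agent.Helper48.mem_normalizer_of_conjSub_le
  rw [pResidual_map_subtype_eq_closure]
  show (Subgroup.closure {x : G | x ∈ K ∧ (orderOf x).Coprime p}).map (MulAut.conj a).toMonoidHom ≤ _
  rw [MonoidHom.map_closure]
  apply Subgroup.closure_mono
  rintro _ ⟨x, hx, rfl⟩
  refine ⟨K.mul_mem (K.mul_mem ha hx.1) (K.inv_mem ha), ?_⟩
  have : orderOf ((MulAut.conj a).toMonoidHom x) = orderOf x :=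
    orderOf_injective (MulAut.conj a).toMonoidHom (MulAut.conj a).injective x
  rw [this]; exact hx.2

end Cfsg.Agent.Helper47
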