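import Mathlib
import Cfsg.Agent.Helper99.PGDefs
import Cfsg.Agent.Helper99.SympBilin
import Cfsg.Agent.Helper38.SpAdj2
import Cfsg.Agent.Helper40.SylowGL
import Cfsg.Agent.Helper44.QTypeFpf
import Cfsg.Agent.Helper44.QTypeClassify
import Cfsg.Agent.Helper97.QuadSL2Count

/-!
# (S3) for helper99's S2474 skeleton (helper47)

The case `η = n` in `Sp_{2n}(q)`: a commuting pair `a, t` with `a` of prime order `s`, `t² = ±1`, `t ≠ ±1`,
forces `4s ∣ q^n - 1` or `4s ∣ q^n + 1`.
-/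

set_option autoImplicit false

universe u

namespace Cfsg.Agent.Helper47.PG

open Module Matrix Cfsg.Agent.Helper99.PG Cfsg.Agent.Helper44

/-- arithmetic: under the minimality hypothesis `n ∣ η(k)` for the order `k` of `q` mod `s` -/
theorem PGS3_n_dvd_eta (q s n : ℕ) [Fact s.Prime] (hq : 1 ≤ q) (hsq : ¬ s ∣ q)
    (hmin : ∀ i : ℕ, 0 < i → s ∣ q ^ (2 * i) - 1 → n ∣ i) :
    ∃ k ηk : ℕ, k = orderOf ((q : ℕ) : ZMod s) ∧
      ((Odd k ∧ ηk = k) ∨ (Even k ∧ 2 * ηk = k)) ∧ n ∣ ηk := by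
  have hk0 : 0 < orderOf ((q : ℕ) : ZMod s) := Cfsg.Agent.Helper40.ordq_pos hsq
  rcases Nat.even_or_odd (orderOf ((q : ℕ) : ZMod s)) with he | ho
  · obtain ⟨m, hm⟩ := he
    refine ⟨_, m, rfl, Or.inr ⟨⟨m, hm⟩, by omega⟩, ?_⟩
    apply hmin m (by omega)
    rw [Cfsg.Agent.Helper40.dvd_pow_sub_one_iff hq, hm]
    exact dvd_of_eq (by ring)
  · refine ⟨_, _, rfl, Or.inl ⟨ho, rfl⟩, ?_⟩
    apply hmin _ hk0
    rw [Cfsg.Agent.Helper40.dvd_pow_sub_one_iff hq]
    exact dvd_mul_left _ 2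

variable {F : Type u} [Field F] [Fintype F]

omit [Fintype F] in
theorem PGS3_sympBilin_nondegenerate (n : ℕ) :
    (Cfsg.Agent.Helper99.sympBilin n F).Nondegenerate := by
  apply LinearMap.BilinForm.Nondegenerate.ofSeparatingLeft
  intro u hu
  by_contra hne
  obtain ⟨x, hx⟩ := Cfsg.Agent.Helper13.sympForm_nondeg_left hne
  apply hx
  have h1 := hu x
  rw [Cfsg.Agent.Helper99.sympBilin_apply] at h1
  rw [Cfsg.Agent.Helper13.sympForm_swap, h1, neg_zero]

section abstract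

variable {V : Type*} [AddCommGroup V] [Module F V] [Finite V]

/-- an isometry of order `s` has no non-zero fixed vector (as `η = n`) -/
theorem PGS3_fix_eq_zero (B : LinearMap.BilinForm F V) (hB : B.IsAlt) (hnd : B.Nondegenerate)
    (n : ℕ) (hV : finrank F V = 2 * n) (s : ℕ) [Fact s.Prime] (hsq : ¬ s ∣ Fintype.card F)
    (hs0 : (s : F) ≠ 0)
    (hmin : ∀ i : ℕ, 0 < i → s ∣ Fintype.card F ^ (2 * i) - 1 → n ∣ i)
    (g : Module.End F V) (hgB : ∀ x y, B (g x) (g y) = B x y) (hg : g ^ s = 1) (hg1 : g ≠ 1) :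
    ∀ v, g v = v → v = 0 := by
  obtain ⟨k, ηk, hk, hη, hn⟩ := PGS3_n_dvd_eta (Fintype.card F) s n Fintype.card_pos hsq hmin
  obtain ⟨hd, hpos⟩ := Cfsg.Agent.Helper38.two_eta_dvd_finrank_range B hB hnd g hgB s hg hg1 hsq hs0
    k ηk hk hη
  have h2n : 2 * n ∣ finrank F (LinearMap.range (g - 1)) := (Nat.mul_dvd_mul_left 2 hn).trans hd
  have hle : finrank F (LinearMap.range (g - 1)) ≤ finrank F V := Submodule.finrank_le _
  have heq : finrank F (LinearMap.range (g - 1)) = finrank F V := by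
    have := Nat.le_of_dvd hpos h2n
    omega
  have htop : LinearMap.range (g - 1) = ⊤ := Submodule.eq_top_of_finrank_eq heq
  have hsurj : Function.Surjective ⇑(g - 1) := LinearMap.range_eq_top.mp htop
  have hinj : Function.Injective ⇑(g - 1) := LinearMap.injective_iff_surjective.mpr hsurj
  intro v hv
  apply hinj
  rw [map_zero, LinearMap.sub_apply, hv, Module.End.one_apply, sub_self]

/-- the case `t² = 1` is impossible -/
theorem PGS3_sq_one_false (h2 : (2 : F) ≠ 0) (B : LinearMap.BilinForm F V) (hB : B.IsAlt)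
    (hnd : B.Nondegenerate)
    (n : ℕ) (hV : finrank F V = 2 * n) (s : ℕ) [Fact s.Prime] (hsq : ¬ s ∣ Fintype.card F)
    (hs0 : (s : F) ≠ 0)
    (hmin : ∀ i : ℕ, 0 < i → s ∣ Fintype.card F ^ (2 * i) - 1 → n ∣ i)
    (A T : Module.End F V) (hAB : ∀ x y, B (A x) (A y) = B x y)
    (hTB : ∀ x y, B (T x) (T y) = B x y) (hc : Commute A T) (hA : A ^ s = 1) (hA1 : A ≠ 1)
    (hT : T * T = 1) (hT1 : T ≠ 1) (hTm : T ≠ -1) : False := by
  have hfixA := PGS3_fix_eq_zero B hB hnd n hV s hsq hs0 hmin A hAB hA hA1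
  have hTT : ∀ x, T (T x) = x := fun x => by
    rw [← Module.End.mul_apply, hT, Module.End.one_apply]
  have hAT : ∀ x, T (A x) = A (T x) := fun x => by
    rw [← Module.End.mul_apply, ← hc.eq, Module.End.mul_apply]
  have h22 : ∀ x : V, (2⁻¹ : F) • (x + x) = x := fun x => by
    rw [← two_smul F x, smul_smul, inv_mul_cancel₀ h2, one_smul]
  -- the projections
  let e : Module.End F V := (2⁻¹ : F) • (1 + T)
  let e' : Module.End F V := (2⁻¹ : F) • (1 - T)
  have he : ∀ x, e x = (2⁻¹ : F) • (x + T x) := fun x => rfl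
  have he' : ∀ x, e' x = (2⁻¹ : F) • (x - T x) := fun x => rfl
  have ha : ∀ x, T (e x) = e x := fun x => by
    rw [he, map_smul, map_add, hTT, add_comm]
  have hb : ∀ x, T (e' x) = - e' x := fun x => by
    rw [he', map_smul, map_sub, hTT, ← smul_neg, neg_sub]
  have hcc : ∀ x, e x + e' x = x := fun x => by
    rw [he, he', ← smul_add, add_add_sub_cancel, h22]
  have hd : ∀ u, T u = u → e u = u ∧ e' u = 0 := fun u hu => by
    rw [he, he', hu, sub_self, smul_zero, h22]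
    exact ⟨rfl, rfl⟩
  have hee : ∀ w, T w = -w → e w = 0 ∧ e' w = w := fun w hw => by
    rw [he, he', hw, add_neg_cancel, smul_zero, sub_neg_eq_add, h22]
    exact ⟨rfl, rfl⟩
  have hf : ∀ u, T u = u → T (A u) = A u := fun u hu => by rw [hAT, hu]
  have horth : ∀ u w, T u = u → T w = -w → B u w = 0 ∧ B w u = 0 := by
    intro u w hu hw
    have h1 : B u w = 0 := by
      have h := hTB u w
      rw [hu, hw, map_neg] at h
      have h3 : (2 : F) * B u w = 0 := by rw [two_mul]; nth_rewrite 1 [← h]; exact neg_add_cancel _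
      rcases mul_eq_zero.mp h3 with h4 | h4
      · exact absurd h4 h2
      · exact h4
    refine ⟨h1, ?_⟩
    have h := hTB w u
    rw [hu, hw, map_neg, LinearMap.neg_apply] at h
    have h3 : (2 : F) * B w u = 0 := by rw [two_mul]; nth_rewrite 1 [← h]; exact neg_add_cancel _
    rcases mul_eq_zero.mp h3 with h4 | h4
    · exact absurd h4 h2
    · exact h4
  -- the isometry `A` on the `+1`-eigenspace, `1` on the `-1`-eigenspace
  let g : Module.End F V := A * e + e'
  have hg : ∀ x, g x = A (e x) + e' x := fun x => rfl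
  have hgB : ∀ x y, B (g x) (g y) = B x y := by
    intro x y
    have h1 : B (A (e x)) (e' y) = 0 := (horth _ _ (hf _ (ha x)) (hb y)).1
    have h2' : B (e' x) (A (e y)) = 0 := (horth _ _ (hf _ (ha y)) (hb x)).2
    have h3 : B (e x) (e' y) = 0 := (horth _ _ (ha x) (hb y)).1
    have h4 : B (e' x) (e y) = 0 := (horth _ _ (ha y) (hb x)).2
    rw [hg, hg, map_add, map_add, LinearMap.add_apply, LinearMap.add_apply, hAB, h1, h2']
    nth_rewrite 3 [← hcc x]
    nth_rewrite 3 [← hcc y]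
    rw [map_add, map_add, LinearMap.add_apply, LinearMap.add_apply, h3, h4]
  have hge : ∀ x, e (g x) = A (e x) := by
    intro x
    rw [hg, map_add, (hd _ (hf _ (ha x))).1, (hee _ (hb x)).1, add_zero]
  have hge' : ∀ x, e' (g x) = e' x := by
    intro x
    rw [hg, map_add, (hd _ (hf _ (ha x))).2, (hee _ (hb x)).2, zero_add]
  have hgpow : ∀ (k : ℕ) (x : V), (g ^ k) x = (A ^ k) (e x) + e' x := by
    intro k
    induction k with
    | zero => intro x; rw [pow_zero, pow_zero, Module.End.one_apply, Module.End.one_apply, hcc]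
    | succ k ih =>
      intro x
      rw [pow_succ, Module.End.mul_apply, ih, hge, hge', pow_succ, Module.End.mul_apply]
  have hgs : g ^ s = 1 := by
    ext x
    rw [hgpow, hA, Module.End.one_apply, Module.End.one_apply, hcc]
  have hg1 : g ≠ 1 := by
    intro h1
    apply hTm
    ext x
    have hu : T (e x) = e x := ha x
    have h3 : g (e x) = e x := by rw [h1, Module.End.one_apply]
    rw [hg, (hd _ hu).1, (hd _ hu).2, add_zero] at h3
    have h4 : e x = 0 := hfixA _ h3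
    rw [he] at h4
    have h5 : x + T x = 0 := by
      rcases smul_eq_zero.mp h4 with h | h
      · exact absurd (inv_eq_zero.mp h) h2
      · exact h
    rw [LinearMap.neg_apply, Module.End.one_apply]
    exact eq_neg_of_add_eq_zero_right h5
  have hfixg := PGS3_fix_eq_zero B hB hnd n hV s hsq hs0 hmin g hgB hgs hg1
  apply hT1
  ext x
  have hw : T (e' x) = - e' x := hb x
  have h3 : g (e' x) = e' x := by
    rw [hg, (hee _ hw).1, (hee _ hw).2, map_zero, zero_add]
  have h4 : e' x = 0 := hfixg _ h3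
  rw [he'] at h4
  have h5 : x - T x = 0 := by
    rcases smul_eq_zero.mp h4 with h | h
    · exact absurd (inv_eq_zero.mp h) h2
    · exact h
  rw [Module.End.one_apply]
  exact (sub_eq_zero.mp h5).symm

/-- the permutation of the fibre `Q = 1` induced by an invertible isometry -/
def PGS3_perm (Q : QuadraticForm F V) (L L' : Module.End F V) (h1 : ∀ v, L (L' v) = v)
    (h2 : ∀ v, L' (L v) = v) (hQ : ∀ v, Q (L v) = Q v) : Equiv.Perm {v : V // Q v = 1} where
  toFun v := ⟨L v.1, by rw [hQ]; exact v.2⟩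
  invFun v := ⟨L' v.1, by rw [← hQ, h1]; exact v.2⟩
  left_inv v := Subtype.ext (h2 v.1)
  right_inv v := Subtype.ext (h1 v.1)

omit [Fintype F] [Finite V] in
theorem PGS3_perm_pow (Q : QuadraticForm F V) (L L' : Module.End F V) (h1 : ∀ v, L (L' v) = v)
    (h2 : ∀ v, L' (L v) = v) (hQ : ∀ v, Q (L v) = Q v) (k : ℕ) (v : {v : V // Q v = 1}) :
    ((PGS3_perm Q L L' h1 h2 hQ ^ k) v).1 = (L ^ k) v.1 := by
  induction k generalizing v with
  | zero => rfl
  | succ k ih =>
    rw [pow_succ, Equiv.Perm.mul_apply, ih, pow_succ, Module.End.mul_apply]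
    rfl

omit [Fintype F] in
/-- `2 ≠ 0` in `F` means that `F` has odd order -/
theorem PGS3_odd_card [Fintype F] (h2 : (2 : F) ≠ 0) : ¬ 2 ∣ Fintype.card F := by
  intro h
  obtain ⟨p, hp⟩ := CharP.exists F
  have : Fact p.Prime := ⟨CharP.char_is_prime F p⟩
  obtain ⟨k, -, hk⟩ := FiniteField.card F p
  rw [hk] at h
  have h3 : 2 ∣ p := Nat.Prime.dvd_of_dvd_pow Nat.prime_two h
  have h4 : p = 2 := ((Nat.prime_dvd_prime_iff_eq Nat.prime_two (CharP.char_is_prime F p)).mp h3).symm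
  apply h2
  have := CharP.cast_eq_zero F p
  rw [h4] at this
  exact_mod_cast this

omit [Fintype F] in
/-- a prime not dividing `|F|` is non-zero in `F` -/
theorem PGS3_cast_ne_zero [Fintype F] (s : ℕ) (hs : s.Prime) (hsq : ¬ s ∣ Fintype.card F) :
    (s : F) ≠ 0 := by
  intro h
  obtain ⟨p, hp⟩ := CharP.exists F
  have : Fact p.Prime := ⟨CharP.char_is_prime F p⟩
  obtain ⟨k, -, hk⟩ := FiniteField.card F p
  have h3 : p ∣ s := (CharP.cast_eq_zero_iff F p s).mp h
  have h4 : p = s := (Nat.prime_dvd_prime_iff_eq (CharP.char_is_prime F p) hs).mp h3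
  apply hsq
  rw [hk, ← h4]
  exact dvd_pow_self p k.ne_zero

/-- the case `t² = -1` -/
theorem PGS3_sq_neg_one (h2 : (2 : F) ≠ 0) (B : LinearMap.BilinForm F V) (hB : B.IsAlt)
    (hnd : B.Nondegenerate)
    (n : ℕ) (hV : finrank F V = 2 * n) (s : ℕ) [hsp : Fact s.Prime] (hs2 : s ≠ 2)
    (hsq : ¬ s ∣ Fintype.card F) (hs0 : (s : F) ≠ 0)
    (hmin : ∀ i : ℕ, 0 < i → s ∣ Fintype.card F ^ (2 * i) - 1 → n ∣ i)
    (A A' T : Module.End F V) (hAB : ∀ x y, B (A x) (A y) = B x y)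
    (hTB : ∀ x y, B (T x) (T y) = B x y) (hc : Commute A T) (hA : A ^ s = 1) (hA1 : A ≠ 1)
    (hAA' : A * A' = 1) (hA'A : A' * A = 1)
    (hT : T * T = -1) :
    4 * s ∣ Fintype.card F ^ n - 1 ∨ 4 * s ∣ Fintype.card F ^ n + 1 := by
  have : FiniteDimensional F V := Module.Finite.of_finite
  have hfixA := PGS3_fix_eq_zero B hB hnd n hV s hsq hs0 hmin A hAB hA hA1
  have hTT : ∀ x, T (T x) = -x := fun x => by
    rw [← Module.End.mul_apply, hT, LinearMap.neg_apply, Module.End.one_apply]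
  have hAT : ∀ x, T (A x) = A (T x) := fun x => by
    rw [← Module.End.mul_apply, ← hc.eq, Module.End.mul_apply]
  have hskew : ∀ x y, B x y = - B y x := fun x y => (hB.neg_eq y x).symm
  -- the symmetric form `B(x, T y)` and its quadratic form
  let S : LinearMap.BilinForm F V := B.compl₂ T
  have hS : ∀ x y, S x y = B x (T y) := fun x y => rfl
  let Q : QuadraticForm F V := LinearMap.BilinMap.toQuadraticMap S
  have hQ : ∀ x, Q x = B x (T x) := fun x => rfl
  have hpolar : ∀ x y, QuadraticMap.polar Q x y = 2 * B x (T y) := by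
    intro x y
    rw [LinearMap.BilinMap.polar_toQuadraticMap, hS, hS]
    have h : B y (T x) = B x (T y) := by
      rw [← hTB y (T x), hTT, map_neg, hskew (T y) x, neg_neg]
    rw [h, two_mul]
  have hndQ : ∀ x : V, (∀ y, QuadraticMap.polar Q x y = 0) → x = 0 := by
    intro x hx
    have h0 : ∀ z, B x z = 0 := by
      intro z
      have h := hx (-(T z))
      rw [hpolar, map_neg, hTT, neg_neg] at h
      rcases mul_eq_zero.mp h with h' | h'
      · exact absurd h' h2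
      · exact h'
    exact hnd.1 x h0
  obtain ⟨ε, hε, hty⟩ := QType.exists_hasType Q hV hndQ
  have key := QType.fc_one_mul Q hV hndQ hty
  -- invariance
  have hQA : ∀ v, Q (A v) = Q v := fun v => by rw [hQ, hQ, hAT, hAB]
  have hQT : ∀ v, Q (T v) = Q v := fun v => by rw [hQ, hQ, hTB]
  have hQ0 : ∀ v : {v : V // Q v = 1}, v.1 ≠ 0 := by
    intro v h0
    have := v.2
    rw [h0, map_zero] at this
    exact zero_ne_one this
  -- `s ∣ fc Q 1`
  let σA := PGS3_perm Q A A' (fun v => by rw [← Module.End.mul_apply, hAA', Module.End.one_apply])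
    (fun v => by rw [← Module.End.mul_apply, hA'A, Module.End.one_apply]) hQA
  have hsdvd : s ∣ QType.fc (⇑Q) 1 := by
    have := Cfsg.Agent.Helper97.QSC.dvd_card_of_free_perm σA s 0 hsp.out
      (by
        ext v
        rw [zero_add, pow_one, PGS3_perm_pow, hA]
        rfl)
      (by
        intro v hv
        rw [pow_zero, pow_one] at hv
        have h1 : A v.1 = v.1 := congrArg Subtype.val hv
        exact hQ0 v (hfixA _ h1))
    rw [zero_add, pow_one] at this
    exact this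
  -- `4 ∣ fc Q 1`
  have hTi1 : ∀ v, T ((-T) v) = v := fun v => by rw [LinearMap.neg_apply, map_neg, hTT, neg_neg]
  have hTi2 : ∀ v, (-T) (T v) = v := fun v => by rw [LinearMap.neg_apply, hTT, neg_neg]
  let σT := PGS3_perm Q T (-T) hTi1 hTi2 hQT
  have hT2 : ∀ x, (T ^ 2) x = -x := fun x => by rw [pow_two, Module.End.mul_apply, hTT]
  have hT4 : ∀ x, (T ^ 4) x = x := fun x => by
    rw [show (4 : ℕ) = 2 + 2 from rfl, pow_add, Module.End.mul_apply, hT2, hT2, neg_neg]
  have h4dvd : 4 ∣ QType.fc (⇑Q) 1 := by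
    have := Cfsg.Agent.Helper97.QSC.dvd_card_of_free_perm σT 2 1 Nat.prime_two
      (by
        ext v
        rw [PGS3_perm_pow, show (2 : ℕ) ^ (1 + 1) = 4 from rfl, hT4]
        rfl)
      (by
        intro v hv
        have h1 : (T ^ 2) v.1 = v.1 := by
          rw [← PGS3_perm_pow Q T (-T) hTi1 hTi2 hQT 2 v]
          exact congrArg Subtype.val hv
        rw [hT2] at h1
        have h3 : (2 : F) • v.1 = 0 := by
          rw [two_smul]
          nth_rewrite 1 [← h1]
          exact neg_add_cancel _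
        rcases smul_eq_zero.mp h3 with h | h
        · exact h2 h
        · exact hQ0 v h)
    exact this
  -- arithmetic
  have hcop4s : Nat.Coprime 4 s := by
    have : Nat.Coprime 2 s := (Nat.coprime_primes Nat.prime_two hsp.out).mpr (Ne.symm hs2)
    exact Nat.Coprime.pow_left 2 this
  have h4s : 4 * s ∣ QType.fc (⇑Q) 1 := Nat.Coprime.mul_dvd_of_dvd_of_dvd hcop4s h4dvd hsdvd
  have hcard : Nat.card F = Fintype.card F := Nat.card_eq_fintype_card
  rw [hcard] at key
  have hodd := PGS3_odd_card h2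
  have hcopq : Nat.Coprime (4 * s) (Fintype.card F ^ n) := by
    apply Nat.Coprime.pow_right
    apply Nat.Coprime.mul_left
    · have : Nat.Coprime 2 (Fintype.card F) := (Nat.Prime.coprime_iff_not_dvd Nat.prime_two).mpr hodd
      exact Nat.Coprime.pow_left 2 this
    · exact (Nat.Prime.coprime_iff_not_dvd hsp.out).mpr hsq
  have hdvdZ : ((4 * s : ℕ) : ℤ) ∣ ((Fintype.card F : ℕ) : ℤ) ^ n * (((Fintype.card F : ℕ) : ℤ) ^ n - ε) := by
    rw [← key]
    exact Dvd.dvd.mul_right (Int.natCast_dvd_natCast.mpr h4s) _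
  have hcopZ : IsCoprime ((4 * s : ℕ) : ℤ) (((Fintype.card F : ℕ) : ℤ) ^ n) := by
    have := Nat.isCoprime_iff_coprime.mpr hcopq
    rwa [Nat.cast_pow] at this
  have hfin : ((4 * s : ℕ) : ℤ) ∣ ((Fintype.card F : ℕ) : ℤ) ^ n - ε :=
    hcopZ.dvd_of_dvd_mul_left hdvdZ
  have hq1 : 1 ≤ Fintype.card F ^ n := Nat.one_le_pow _ _ Fintype.card_pos
  rcases hε with rfl | rfl
  · left
    rw [← Int.natCast_dvd_natCast, Nat.cast_sub hq1, Nat.cast_pow, Nat.cast_one]
    exact hfin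
  · right
    rw [← Int.natCast_dvd_natCast, Nat.cast_add, Nat.cast_pow, Nat.cast_one]
    rw [sub_neg_eq_add] at hfin
    exact hfin

end abstract

/-- (S3) the case `η = n` in `Sp`: `t² = 1` is impossible (eigenspaces of `t` are non-degenerate
`a`-invariant, and `2n ∣ dim` of each, `Cfsg.Agent.Helper38.two_eta_dvd_finrank_range`); so `t² = -1`,
`a t` has order `4s` and acts freely on the non-zero vectors; `S(x,y) = B(x, t y)` is a non-degenerate
symmetric form invariant under `a` and `t`; count a non-zero fibre of `x ↦ S(x,x)/2`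
(`Cfsg.Agent.Helper44.exists_hasType`, `fc_eq_fc_one`, `fc_one_mul`) -/
theorem sp_pair_big_imp (h2 : (2 : F) ≠ 0) (n : ℕ) (hn : 1 ≤ n) (s : ℕ) (hs : s.Prime)
    (hs2 : s ≠ 2) (hsq : ¬ s ∣ Fintype.card F)
    (hmin : ∀ i : ℕ, 0 < i → s ∣ Fintype.card F ^ (2 * i) - 1 → n ∣ i)
    (a t : SpG n F) (hc : Commute a t) (ha : orderOf a = s)
    (ht : (t : Matrix (Fin n ⊕ Fin n) (Fin n ⊕ Fin n) F) * (t : Matrix (Fin n ⊕ Fin n) (Fin n ⊕ Fin n) F) = 1 ∨
        (t : Matrix (Fin n ⊕ Fin n) (Fin n ⊕ Fin n) F) * (t : Matrix (Fin n ⊕ Fin n) (Fin n ⊕ Fin n) F) = -1)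
    (ht1 : (t : Matrix (Fin n ⊕ Fin n) (Fin n ⊕ Fin n) F) ≠ 1)
    (htm : (t : Matrix (Fin n ⊕ Fin n) (Fin n ⊕ Fin n) F) ≠ -1) :
    4 * s ∣ Fintype.card F ^ n - 1 ∨ 4 * s ∣ Fintype.card F ^ n + 1 := by
  have hsp : Fact s.Prime := ⟨hs⟩
  have hφ := (Matrix.toLinAlgEquiv' (R := F) (n := Fin n ⊕ Fin n)).injective
  have hV : finrank F (Fin n ⊕ Fin n → F) = 2 * n := by
    rw [Module.finrank_fintype_fun_eq_card, Fintype.card_sum, Fintype.card_fin, two_mul]
  have hs0 : (s : F) ≠ 0 := PGS3_cast_ne_zero s hs hsq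
  have hone : ((1 : Matrix.symplecticGroup (Fin n) F) : Matrix (Fin n ⊕ Fin n) (Fin n ⊕ Fin n) F) = 1 :=
    rfl
  have hAB : ∀ x y : Fin n ⊕ Fin n → F, Cfsg.Agent.Helper99.sympBilin n F
      (Matrix.toLinAlgEquiv' (R := F) (n := Fin n ⊕ Fin n) (a : Matrix (Fin n ⊕ Fin n) (Fin n ⊕ Fin n) F) x)
      (Matrix.toLinAlgEquiv' (R := F) (n := Fin n ⊕ Fin n) (a : Matrix (Fin n ⊕ Fin n) (Fin n ⊕ Fin n) F) y)
      = Cfsg.Agent.Helper99.sympBilin n F x y :=
    fun x y => Cfsg.Agent.Helper99.sympBilin_toLin a x y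
  have hTB : ∀ x y : Fin n ⊕ Fin n → F, Cfsg.Agent.Helper99.sympBilin n F
      (Matrix.toLinAlgEquiv' (R := F) (n := Fin n ⊕ Fin n) (t : Matrix (Fin n ⊕ Fin n) (Fin n ⊕ Fin n) F) x)
      (Matrix.toLinAlgEquiv' (R := F) (n := Fin n ⊕ Fin n) (t : Matrix (Fin n ⊕ Fin n) (Fin n ⊕ Fin n) F) y)
      = Cfsg.Agent.Helper99.sympBilin n F x y :=
    fun x y => Cfsg.Agent.Helper99.sympBilin_toLin t x y
  have hcomm : Commute
      (Matrix.toLinAlgEquiv' (R := F) (n := Fin n ⊕ Fin n) (a : Matrix (Fin n ⊕ Fin n) (Fin n ⊕ Fin n) F))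
      (Matrix.toLinAlgEquiv' (R := F) (n := Fin n ⊕ Fin n) (t : Matrix (Fin n ⊕ Fin n) (Fin n ⊕ Fin n) F)) := by
    show _ * _ = _ * _
    rw [← map_mul, ← map_mul]
    congr 1
    exact congrArg Subtype.val hc.eq
  have hA : (Matrix.toLinAlgEquiv' (R := F) (n := Fin n ⊕ Fin n)
      (a : Matrix (Fin n ⊕ Fin n) (Fin n ⊕ Fin n) F)) ^ s = 1 := by
    rw [← map_pow, ← SubmonoidClass.coe_pow, ← ha, pow_orderOf_eq_one, hone, map_one]
  have hA1 : (Matrix.toLinAlgEquiv' (R := F) (n := Fin n ⊕ Fin n)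
      (a : Matrix (Fin n ⊕ Fin n) (Fin n ⊕ Fin n) F)) ≠ 1 := by
    intro h
    rw [← map_one (Matrix.toLinAlgEquiv' (R := F) (n := Fin n ⊕ Fin n))] at h
    have h3 : a = 1 := Subtype.ext (hφ h)
    rw [h3, orderOf_one] at ha
    exact hs.one_lt.ne ha
  have hAA' : (Matrix.toLinAlgEquiv' (R := F) (n := Fin n ⊕ Fin n)
      (a : Matrix (Fin n ⊕ Fin n) (Fin n ⊕ Fin n) F)) *
      (Matrix.toLinAlgEquiv' (R := F) (n := Fin n ⊕ Fin n)
      ((a⁻¹ : Matrix.symplecticGroup (Fin n) F) : Matrix (Fin n ⊕ Fin n) (Fin n ⊕ Fin n) F)) = 1 := by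
    rw [← map_mul, ← Submonoid.coe_mul, mul_inv_cancel, hone, map_one]
  have hA'A : (Matrix.toLinAlgEquiv' (R := F) (n := Fin n ⊕ Fin n)
      ((a⁻¹ : Matrix.symplecticGroup (Fin n) F) : Matrix (Fin n ⊕ Fin n) (Fin n ⊕ Fin n) F)) *
      (Matrix.toLinAlgEquiv' (R := F) (n := Fin n ⊕ Fin n)
      (a : Matrix (Fin n ⊕ Fin n) (Fin n ⊕ Fin n) F)) = 1 := by
    rw [← map_mul, ← Submonoid.coe_mul, inv_mul_cancel, hone, map_one]
  have hT1 : (Matrix.toLinAlgEquiv' (R := F) (n := Fin n ⊕ Fin n)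
      (t : Matrix (Fin n ⊕ Fin n) (Fin n ⊕ Fin n) F)) ≠ 1 := by
    intro h
    rw [← map_one (Matrix.toLinAlgEquiv' (R := F) (n := Fin n ⊕ Fin n))] at h
    exact ht1 (hφ h)
  have hTm : (Matrix.toLinAlgEquiv' (R := F) (n := Fin n ⊕ Fin n)
      (t : Matrix (Fin n ⊕ Fin n) (Fin n ⊕ Fin n) F)) ≠ -1 := by
    intro h
    rw [← map_one (Matrix.toLinAlgEquiv' (R := F) (n := Fin n ⊕ Fin n)), ← map_neg] at h
    exact htm (hφ h)
  rcases ht with ht | ht
  · exfalso
    refine PGS3_sq_one_false h2 (Cfsg.Agent.Helper99.sympBilin n F) Cfsg.Agent.Helper99.sympBilin_isAlt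
      (PGS3_sympBilin_nondegenerate n) n hV s hsq hs0 hmin _ _ hAB hTB hcomm hA hA1 ?_ hT1 hTm
    rw [← map_mul, ht, map_one]
  · refine PGS3_sq_neg_one h2 (Cfsg.Agent.Helper99.sympBilin n F) Cfsg.Agent.Helper99.sympBilin_isAlt
      (PGS3_sympBilin_nondegenerate n) n hV s hs2 hsq hs0 hmin _ _ _ hAB hTB hcomm hA hA1 hAA' hA'A ?_
    rw [← map_mul, ht, map_neg, map_one]

end Cfsg.Agent.Helper47.PG
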