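import Cfsg.Prelude.Def_LocalStructure
import Cfsg.Agent.Lib.Cores
import Cfsg.Agent.Helper47.Minimal

set_option autoImplicit false

namespace Cfsg.Agent.Helper47

open Cfsg

variable {A B : Type*} [Group A] [Group B] {p : ℕ}

/-- The image of `O^p(A)` lies in `O^p(B)`. -/
theorem map_pResidual_le' (f : A →* B) : (Cfsg.pResidual p A).map f ≤ Cfsg.pResidual p B := by
  unfold Cfsg.pResidual
  rw [MonoidHom.map_closure, Subgroup.closure_le]
  rintro _ ⟨a, ha, rfl⟩
  apply Subgroup.subset_closure
  show Nat.Coprime (orderOf (f a)) p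
  exact Nat.Coprime.coprime_dvd_left (orderOf_map_dvd f a) ha

/-- For a surjective homomorphism from a finite group, the image of `O^p(A)` is `O^p(B)`. -/
theorem map_pResidual_eq [Finite A] [hp : Fact p.Prime] {f : A →* B} (hf : Function.Surjective f) :
    (Cfsg.pResidual p A).map f = Cfsg.pResidual p B := by
  apply le_antisymm (map_pResidual_le' f)
  have : ((Cfsg.pResidual p A).map f).Normal :=
    Subgroup.Normal.map (Cfsg.Agent.Lib.pResidual_normal p) f hf
  apply Cfsg.Agent.Lib.pResidual_le_of_isPGroup_quotient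
  intro x
  obtain ⟨b, rfl⟩ := QuotientGroup.mk_surjective x
  obtain ⟨a, rfl⟩ := hf b
  obtain ⟨k, hk⟩ := Cfsg.Agent.Lib.isPGroup_quotient_pResidual (G := A) p (a : A ⧸ Cfsg.pResidual p A)
  refine ⟨k, ?_⟩
  rw [← QuotientGroup.mk_pow, QuotientGroup.eq_one_iff] at hk ⊢
  rw [← map_pow]
  exact Subgroup.mem_map_of_mem f hk

/-- A surjective image of a `p`-closed finite group is `p`-closed. -/
theorem isPClosed_of_surjective [Finite A] [hp : Fact p.Prime] {f : A →* B}
    (hf : Function.Surjective f) (h : Cfsg.IsPClosed p A) : Cfsg.IsPClosed p B := by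
  have : Finite B := Finite.of_surjective f hf
  obtain ⟨P⟩ : Nonempty (Sylow p A) := inferInstance
  have hn : (P : Subgroup A).Normal := h P
  apply isPClosed_of_normal_sylow (P.mapSurjective hf)
  rw [Sylow.coe_mapSurjective]
  exact Subgroup.Normal.map hn f hf

/-- If the kernel is a `p`-group, `p`-closedness lifts along a surjection. -/
theorem isPClosed_of_surjective_of_ker [Finite A] [hp : Fact p.Prime] {f : A →* B}
    (hf : Function.Surjective f) (hker : IsPGroup p f.ker) (h : Cfsg.IsPClosed p B) :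
    Cfsg.IsPClosed p A := by
  obtain ⟨P⟩ : Nonempty (Sylow p A) := inferInstance
  apply isPClosed_of_normal_sylow P
  have hn : ((P.mapSurjective hf : Sylow p B) : Subgroup B).Normal := h _
  rw [Sylow.coe_mapSurjective] at hn
  have hkerP : f.ker ≤ (P : Subgroup A) :=
    Cfsg.Agent.Lib.normal_pGroup_le_sylow (MonoidHom.normal_ker f) hker P
  have : ((P : Subgroup A).map f).comap f = (P : Subgroup A) := by
    rw [Subgroup.comap_map_eq, sup_eq_left.mpr hkerP]
  rw [← this]
  exact Subgroup.Normal.comap hn f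

theorem isPClosed_iff_of_surjective_of_ker [Finite A] [hp : Fact p.Prime] {f : A →* B}
    (hf : Function.Surjective f) (hker : IsPGroup p f.ker) :
    Cfsg.IsPClosed p A ↔ Cfsg.IsPClosed p B :=
  ⟨isPClosed_of_surjective hf, isPClosed_of_surjective_of_ker hf hker⟩

/-- `p`-closedness of a subgroup and of its image under a map with `p`-group kernel. -/
theorem isPClosed_map_iff [Finite A] [hp : Fact p.Prime] (f : A →* B)
    (hker : IsPGroup p f.ker) (N : Subgroup A) :
    Cfsg.IsPClosed p N ↔ Cfsg.IsPClosed p (N.map f) := by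
  apply isPClosed_iff_of_surjective_of_ker (f := f.subgroupMap N) (f.subgroupMap_surjective N)
  intro x
  obtain ⟨k, hk⟩ := hker ⟨(x : N), by
    have := x.2
    rw [MonoidHom.mem_ker] at this ⊢
    have h2 := congrArg Subtype.val this
    simpa using h2⟩
  refine ⟨k, ?_⟩
  have hk' := congrArg Subtype.val hk
  apply Subtype.ext
  apply Subtype.ext
  simpa using hk'

/-- The preimage of `O_p(B)` under a surjection with `p`-group kernel is `O_p(A)`. -/
theorem comap_pCore_eq [Finite A] [hp : Fact p.Prime] {f : A →* B}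
    (hf : Function.Surjective f) (hker : IsPGroup p f.ker) :
    (Cfsg.pCore p B).comap f = Cfsg.pCore p A := by
  apply le_antisymm
  · apply Cfsg.Agent.Lib.le_pCore
    · have hc : (Cfsg.pCore p B).Characteristic := Cfsg.Agent.Lib.pCore_characteristic p
      have hnB : (Cfsg.pCore p B).Normal := inferInstance
      exact Subgroup.Normal.comap hnB f
    · exact (Cfsg.Agent.Lib.isPGroup_pCore p).comap_of_ker_isPGroup f hker
  · rw [← Subgroup.map_le_iff_le_comap]
    apply Cfsg.Agent.Lib.le_pCore
    · have hc : (Cfsg.pCore p A).Characteristic := Cfsg.Agent.Lib.pCore_characteristic p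
      have hnA : (Cfsg.pCore p A).Normal := inferInstance
      exact Subgroup.Normal.map hnA f hf
    · exact (Cfsg.Agent.Lib.isPGroup_pCore p).map f

/-- If `O^p(A) ≤ N ⊔ D` with `N` normal and `D` a `p`-group, then `O^p(A) ≤ N`. -/
theorem pResidual_le_of_le_sup [hp : Fact p.Prime] {N D : Subgroup A} [hN : N.Normal]
    (hD : IsPGroup p D) (h : Cfsg.pResidual p A ≤ N ⊔ D) : Cfsg.pResidual p A ≤ N := by
  unfold Cfsg.pResidual
  rw [Subgroup.closure_le]
  intro x hx
  have hx' : (orderOf x).Coprime p := hx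
  have hxR : x ∈ Cfsg.pResidual p A := Subgroup.subset_closure hx
  have hxND := h hxR
  have hmem : (QuotientGroup.mk' N) x ∈ D.map (QuotientGroup.mk' N) := by
    have : (QuotientGroup.mk' N) x ∈ (N ⊔ D).map (QuotientGroup.mk' N) :=
      Subgroup.mem_map_of_mem _ hxND
    rwa [Subgroup.map_sup, QuotientGroup.map_mk'_self, bot_sup_eq] at this
  have hcop : (orderOf ((QuotientGroup.mk' N) x)).Coprime p :=
    Nat.Coprime.coprime_dvd_left (orderOf_map_dvd _ x) hx'
  have := eq_one_of_mem_isPGroup_of_coprime (hD.map (QuotientGroup.mk' N)) hmem hcop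
  rw [SetLike.mem_coe, ← QuotientGroup.eq_one_iff]
  exact this

/-- `p`-irreducibility and strong `p`-irreducibility pass through surjections with `p`-group
kernel, in both directions. -/
theorem isPIrreducible_iff_of_surjective_of_ker [Finite A] [hp : Fact p.Prime] {f : A →* B}
    (hf : Function.Surjective f) (hker : IsPGroup p f.ker) :
    (Cfsg.IsPIrreducible p A ↔ Cfsg.IsPIrreducible p B) ∧
      (Cfsg.IsStronglyPIrreducible p A ↔ Cfsg.IsStronglyPIrreducible p B) := by
  have hcl := isPClosed_iff_of_surjective_of_ker hf hker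
  have hres : (Cfsg.pResidual p A).map f = Cfsg.pResidual p B := map_pResidual_eq hf
  have hcore := comap_pCore_eq hf hker
  have hkn : f.ker.Normal := MonoidHom.normal_ker f
  -- descending a containment
  have hdown : ∀ N : Subgroup A, N.Normal → Cfsg.pResidual p B ≤ N.map f → Cfsg.pResidual p A ≤ N := by
    intro N hN hle
    have := hN
    apply pResidual_le_of_le_sup hker
    rw [← Subgroup.comap_map_eq]
    rw [← hres] at hle
    exact (Subgroup.le_comap_map f _).trans (Subgroup.comap_mono hle)
  have hup : ∀ N' : Subgroup B, Cfsg.pResidual p A ≤ N'.comap f → Cfsg.pResidual p B ≤ N' := by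
    intro N' hle
    rw [← hres]
    exact Subgroup.map_le_iff_le_comap.mpr hle
  have hcomm : ∀ N : Subgroup A, ⁅N, (⊤ : Subgroup A)⁆ ≤ Cfsg.pCore p A ↔
      ⁅N.map f, (⊤ : Subgroup B)⁆ ≤ Cfsg.pCore p B := by
    intro N
    have : ⁅N.map f, (⊤ : Subgroup B)⁆ = (⁅N, (⊤ : Subgroup A)⁆).map f := by
      rw [Subgroup.map_commutator, Subgroup.map_top_of_surjective f hf]
    rw [this, Subgroup.map_le_iff_le_comap, hcore]
  refine ⟨⟨fun h => ⟨fun hc => h.1 (hcl.mpr hc), fun N' hN' hnc => ?_⟩,
      fun h => ⟨fun hc => h.1 (hcl.mp hc), fun N hN hnc => ?_⟩⟩,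
    ⟨fun h => ⟨fun hc => h.1 (hcl.mpr hc), fun N' hN' hnc => ?_⟩,
      fun h => ⟨fun hc => h.1 (hcl.mp hc), fun N hN hnc => ?_⟩⟩⟩
  · apply hup
    apply h.2 _ (Subgroup.Normal.comap hN' f)
    intro hc
    apply hnc
    have := (isPClosed_map_iff f hker (N'.comap f)).mp hc
    rwa [Subgroup.map_comap_eq_self_of_surjective hf] at this
  · apply hdown N hN
    apply h.2 _ (Subgroup.Normal.map hN f hf)
    intro hc
    exact hnc ((isPClosed_map_iff f hker N).mpr hc)
  · apply hup
    apply h.2 _ (Subgroup.Normal.comap hN' f)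
    intro hc
    apply hnc
    have := (hcomm (N'.comap f)).mp hc
    rwa [Subgroup.map_comap_eq_self_of_surjective hf] at this
  · apply hdown N hN
    apply h.2 _ (Subgroup.Normal.map hN f hf)
    intro hc
    exact hnc ((hcomm N).mpr hc)

end Cfsg.Agent.Helper47
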