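import Cfsg.Prelude.Def_LocalStructure
import Cfsg.Agent.Lib.Cores
import Cfsg.Agent.Helper34.Basic
import Cfsg.Agent.Helper47.PIrred

set_option autoImplicit false

namespace Cfsg.Agent.Helper47

open Cfsg

variable {H : Type*} [Group H] {p : ℕ}

/-- A `p`-subgroup of a `p`-closed normal subgroup lies in `O_p(H)`. -/
theorem le_pCore_of_le_pClosed_normal [Finite H] [hp : Fact p.Prime] {N : Subgroup H}
    (hN : N.Normal) (hc : Cfsg.IsPClosed p N) {Y : Subgroup H} (hY : IsPGroup p Y) (hYN : Y ≤ N) :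
    Y ≤ Cfsg.pCore p H := by
  obtain ⟨Q, hQ⟩ := (hY.comap_subtype (K := N)).exists_le_sylow
  have hQn : (Q : Subgroup N).Normal := hc Q
  have hQc : (Q : Subgroup N).Characteristic := Sylow.characteristic_of_normal Q hQn
  have hn : ((Q : Subgroup N).map N.subtype).Normal := ConjAct.normal_of_characteristic_of_normal
  have hle : (Q : Subgroup N).map N.subtype ≤ Cfsg.pCore p H :=
    Cfsg.Agent.Lib.le_pCore hn (Q.2.map _)
  intro y hy
  apply hle
  exact ⟨⟨y, hYN hy⟩, hQ (show (⟨y, hYN hy⟩ : N) ∈ Y.comap N.subtype from hy), rfl⟩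

/-- In a `p`-irreducible group, a normal subgroup containing a `p`-subgroup outside `O_p(H)`
contains `O^p(H)`. -/
theorem IsPIrreducible.pResidual_le [Finite H] [hp : Fact p.Prime] (hH : Cfsg.IsPIrreducible p H)
    {N : Subgroup H} (hN : N.Normal) {Y : Subgroup H} (hY : IsPGroup p Y) (hYN : Y ≤ N)
    (hYc : ¬ Y ≤ Cfsg.pCore p H) : Cfsg.pResidual p H ≤ N :=
  hH.2 N hN (fun hc => hYc (le_pCore_of_le_pClosed_normal hN hc hY hYN))

/-- In a non-`p`-closed group a Sylow `p`-subgroup is not contained in `O_p(H)`. -/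
theorem sylow_not_le_pCore [Finite H] [hp : Fact p.Prime] (hH : ¬ Cfsg.IsPClosed p H)
    (T : Sylow p H) : ¬ (T : Subgroup H) ≤ Cfsg.pCore p H := by
  intro hle
  apply hH
  apply isPClosed_of_normal_sylow T
  have : (T : Subgroup H) = Cfsg.pCore p H := le_antisymm hle (Cfsg.Agent.Lib.pCore_le_sylow T)
  rw [this]
  have hc : (Cfsg.pCore p H).Characteristic := Cfsg.Agent.Lib.pCore_characteristic p
  infer_instance

end Cfsg.Agent.Helper47
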