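import Mathlib
import Cfsg.Agent.Helper9.PsuA.Defs
import Cfsg.Agent.Helper13.UnitaryLines

/-!
# S2089 block A-p (helper47 for helper9), leaf (F2): every `a` is the first coordinate of an element of `HeisO bar`
-/

set_option autoImplicit false
set_option linter.unusedSectionVars false
set_option linter.unusedVariables false

namespace Cfsg.Agent.Helper47.PsuA

open scoped commutatorElement
open Cfsg.Agent.Helper46.U3O Cfsg.Agent.Helper9.PsuA

universe u

section field

variable {K : Type*} [Field K] [Fintype K] {q : ℕ} (hK : Fintype.card K = q ^ 2) (bar : K →+* K)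
  (hbar : ∀ x, bar x = x ^ q) [BarInv K bar]

include hK hbar

/-- (F2) every `a` is the first coordinate of an element of `HeisO bar` -/
theorem exists_heis_a (a : K) : ∃ x : HeisO bar, x.a = a := by
  have hfix : (-(a * bar a)) ^ q = -(a * bar a) := by
    rw [← hbar, map_neg, map_mul, HeisO.bb (bar := bar), mul_comm]
  have hcard := Cfsg.Agent.Helper13.card_trace_fiber hK (c := (1 : K)) one_ne_zero hfix
  have hq : 0 < q := by
    rcases Nat.eq_zero_or_pos q with h0 | h0
    · exfalso
      rw [h0] at hK
      have := Fintype.one_lt_card (α := K)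
      rw [hK] at this
      norm_num at this
    · exact h0
  have hne : Nonempty {t : K // t ^ q * 1 + t * 1 ^ q = -(a * bar a)} := by
    by_contra hemp
    rw [not_nonempty_iff] at hemp
    rw [Nat.card_of_isEmpty] at hcard
    omega
  obtain ⟨t, ht⟩ := hne
  refine ⟨⟨a, t, ?_⟩, rfl⟩
  rw [hbar t]
  rw [mul_one, one_pow, mul_one] at ht
  linear_combination ht

end field

end Cfsg.Agent.Helper47.PsuA
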