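import Cfsg.Agent.Helper23.PsuOs.Q2Defs

/-!
helper47: piece (QL1) of helper23's farm #15666 (S2089 odd specials, abstract twin of helper5's (L1), ported from
helper48's `PsuE2_L1`): `Q̂ = D.Q.comap τ` has exponent two.
-/

set_option autoImplicit false
set_option linter.unusedSectionVars false
set_option linter.unusedVariables false

namespace Cfsg.Agent.Helper47.PsuOs

open scoped commutatorElement
open Cfsg.Agent.Helper96.StLift
open Cfsg.Agent.Helper5.PsuE2 (F4Facts f4Facts)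
open Cfsg.Agent.Helper23.PsuOs

universe u

section group

variable {K : Type u} [Field K] {σ : K →+* K} {G : Type u} [Group G] {m : ℕ} (D : RootData G K m)
  {Γ : Type u} [Group Γ] [Finite Γ] (τ : Γ →* G) (hτ : Function.Surjective τ)

/-- (L1) `Q̂ = D.Q.comap τ` has exponent two. -/
theorem sq_one (E : Ext2 D τ hτ) (F : F4Facts σ) (R : RootFacts σ D) (hm : 2 ≤ m) :
    ∀ g : Γ, τ g ∈ D.Q → g * g = 1 := by
  classical
  let N : Subgroup Γ :=
    { carrier := {g | τ g ∈ D.Q ∧ g * g = 1}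
      one_mem' := ⟨by rw [map_one]; exact Subgroup.one_mem _, by simp⟩
      mul_mem' := by
        rintro g h ⟨hg, hg2⟩ ⟨hh, hh2⟩
        refine ⟨by rw [map_mul]; exact Subgroup.mul_mem _ hg hh, ?_⟩
        have hc := (E.comm g h hg hh).eq
        calc g * h * (g * h) = g * (h * g) * h := by group
          _ = g * (g * h) * h := by rw [hc]
          _ = (g * g) * (h * h) := by group
          _ = 1 := by rw [hg2, hh2, one_mul]
      inv_mem' := by
        rintro g ⟨hg, hg2⟩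
        refine ⟨by rw [map_inv]; exact Subgroup.inv_mem _ hg, ?_⟩
        rw [← _root_.mul_inv_rev, hg2, inv_one] }
  have hN : ∀ g, g ∈ N ↔ τ g ∈ D.Q ∧ g * g = 1 := fun g => Iff.rfl
  have hNx : ∀ (i j : Fin m) (t : K) (x : Γ), τ x = D.x i j t → ∀ n ∈ N, x * n * x⁻¹ ∈ N := by
    intro i j t x hx n hn
    obtain ⟨hn1, hn2⟩ := (hN n).1 hn
    refine (hN _).2 ⟨?_, ?_⟩
    · rw [map_mul, map_mul, map_inv, hx]; exact R.x_norm i j t _ hn1
    · calc x * n * x⁻¹ * (x * n * x⁻¹) = x * (n * n) * x⁻¹ := by group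
        _ = 1 := by rw [hn2, mul_one, mul_inv_cancel]
  have hc0 : ∀ i j : Fin m, i ≠ j → D.c i j 0 = 1 := by
    intro i j hij
    have h := R.c_add i j hij 0 0
    rw [add_zero] at h
    have h' : D.c i j 0 * D.c i j 0 = D.c i j 0 * 1 := by rw [mul_one]; exact h.symm
    exact mul_left_cancel h'
  have hz : ∀ i : Fin m, ∃ z ∈ N, τ z = D.z i 1 := by
    intro i
    obtain ⟨l, hil⟩ : ∃ l : Fin m, i ≠ l := by
      by_cases h0 : i = ⟨0, by omega⟩
      · refine ⟨⟨1, by omega⟩, ?_⟩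
        rw [h0]
        intro h
        simp [Fin.ext_iff] at h
      · exact ⟨⟨0, by omega⟩, h0⟩
    obtain ⟨ω, hω0, hω1⟩ := F.exists_omega
    obtain ⟨c, hc⟩ := hτ (D.c i l ω)
    obtain ⟨x, hx⟩ := hτ (D.x i l 1)
    have hxc := R.x_c i l hil 1 ω
    have htr : (1 : K) * σ ω + σ 1 * ω = 1 := F.tr 1 ω one_ne_zero hω0 (Ne.symm hω1)
    rw [htr] at hxc
    refine ⟨c⁻¹ * (x * c * x⁻¹), ?_, ?_⟩
    · have hcQ : τ c ∈ D.Q := by rw [hc]; exact R.c_mem i l hil ω
      have hcc : c * c ∈ τ.ker := by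
        rw [MonoidHom.mem_ker, map_mul, hc, ← R.c_add i l hil, F.two, hc0 i l hil]
      have hcen := Subgroup.mem_center_iff.1 (E.central hcc)
      have hxcQ : τ (x * c * x⁻¹) ∈ D.Q := by
        rw [map_mul, map_mul, map_inv, hx]; exact R.x_norm i l 1 _ hcQ
      have hcinvQ : τ c⁻¹ ∈ D.Q := by rw [map_inv]; exact Subgroup.inv_mem _ hcQ
      refine (hN _).2 ⟨?_, ?_⟩
      · rw [map_mul]; exact Subgroup.mul_mem _ hcinvQ hxcQ
      · have hcomm := (E.comm (c⁻¹) (x * c * x⁻¹) hcinvQ hxcQ).eq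
        calc c⁻¹ * (x * c * x⁻¹) * (c⁻¹ * (x * c * x⁻¹))
            = c⁻¹ * ((x * c * x⁻¹) * c⁻¹) * (x * c * x⁻¹) := by group
          _ = c⁻¹ * (c⁻¹ * (x * c * x⁻¹)) * (x * c * x⁻¹) := by rw [hcomm]
          _ = (c * c)⁻¹ * (x * (c * c) * x⁻¹) := by group
          _ = 1 := by rw [hcen x, mul_inv_cancel_right, inv_mul_cancel]
    · rw [map_mul, map_inv, map_mul, map_mul, map_inv, hc, hx, hxc, inv_mul_cancel_left]
  have hcE : ∀ i j : Fin m, i ≠ j → ∀ t : K, ∃ c ∈ N, τ c = D.c i j t := by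
    intro i j hij t
    by_cases ht : t = 0
    · exact ⟨1, N.one_mem, by rw [map_one, ht, hc0 i j hij]⟩
    · obtain ⟨zi, hziN, hzi⟩ := hz i
      obtain ⟨zj, hzjN, hzj⟩ := hz j
      obtain ⟨x, hx⟩ := hτ (D.x i j t)
      refine ⟨x * zj * x⁻¹ * zj⁻¹ * zi⁻¹, ?_, ?_⟩
      · exact N.mul_mem (N.mul_mem (hNx i j t x hx zj hzjN) (N.inv_mem hzjN)) (N.inv_mem hziN)
      · rw [map_mul, map_mul, map_mul, map_mul, map_inv, map_inv, map_inv, hx, hzj, hzi,
          R.x_z i j hij t ht]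
        group
  have hle : D.Q ≤ N.map τ := by
    refine R.Q_le.trans ?_
    rw [Subgroup.closure_le]
    rintro g (⟨i, rfl⟩ | ⟨i, j, hij, u, rfl⟩)
    · obtain ⟨z, hzN, hz'⟩ := hz i
      exact ⟨z, hzN, hz'⟩
    · obtain ⟨c, hcN, hc'⟩ := hcE i j hij u
      exact ⟨c, hcN, hc'⟩
  intro g hg
  obtain ⟨n, hnN, hn⟩ := hle hg
  have hk : n⁻¹ * g ∈ τ.ker := by
    rw [MonoidHom.mem_ker, map_mul, map_inv, hn, inv_mul_cancel]
  have hk2 : (n⁻¹ * g) * (n⁻¹ * g) = 1 := by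
    have h := pow_card_eq_one' (G := τ.ker) (x := ⟨n⁻¹ * g, hk⟩)
    rw [E.card_ker] at h
    have := congrArg Subtype.val h
    simpa [pow_two] using this
  have hkN : n⁻¹ * g ∈ N := by
    refine (hN _).2 ⟨?_, hk2⟩
    rw [MonoidHom.mem_ker.1 hk]
    exact Subgroup.one_mem _
  have hgN : g ∈ N := by
    have : g = n * (n⁻¹ * g) := by group
    rw [this]
    exact N.mul_mem hnN hkN
  exact ((hN g).1 hgN).2

end group

end Cfsg.Agent.Helper47.PsuOs
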