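import Cfsg.Agent.Helper23.PsuOs.Q2Defs
import Cfsg.Agent.Helper59.PsuM_CPLG

/-!
helper47: piece (QL2) of helper23's farm #15666 (S2089 odd specials, abstract twin of helper5's (L2), ported from
helper49's `PsuE2_L2`): `Csh D τ ⊓ τ.ker = ⊥`, one call of (CPLG).
-/

set_option autoImplicit false
set_option linter.unusedSectionVars false
set_option linter.unusedVariables false

namespace Cfsg.Agent.Helper47.PsuOs

open scoped commutatorElement
open Cfsg.Agent.Helper96.StLift
open Cfsg.Agent.Helper5.PsuE2 (F4Facts f4Facts)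
open Cfsg.Agent.Helper23.PsuOs

universe u

section group

variable {K : Type u} [Field K] {σ : K →+* K} {G : Type u} [Group G] {m : ℕ} (D : RootData G K m)
  {Γ : Type u} [Group Γ] [Finite Γ] (τ : Γ →* G) (hτ : Function.Surjective τ)

/-- (L2) -/
theorem csh_inf (E : Ext2 D τ hτ) (F : F4Facts σ) (R : RootFacts σ D) (hm : 2 ≤ m) :
    Csh D τ ⊓ τ.ker = ⊥ := by
  have h := Cfsg.Agent.Helper59.PsuM.comm_comap_inf_ker τ hτ E.central ((D.Q).comap τ) ⊥
    (D.T) bot_le ?_ ?_ ?_ ?_ (bot_inf_eq _)
  · rw [bot_sup_eq] at h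
    exact h
  · rw [Subgroup.commutator_le]
    intro a ha b hb
    rw [Subgroup.mem_bot]
    exact commutatorElement_eq_one_iff_commute.mpr (E.comm a b ha hb)
  · intro g hg x hx
    rw [Subgroup.mem_comap] at hx ⊢
    rw [map_mul, map_mul, map_inv]
    exact R.T_norm _ hg _ hx
  · intro g hg x hx
    rw [Subgroup.mem_bot] at hx ⊢
    rw [hx, mul_one, mul_inv_cancel]
  · rw [E.card_ker]
    exact R.T_odd

end group

end Cfsg.Agent.Helper47.PsuOs
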