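import Cfsg.Agent.Helper23.PsuOs.Q2Defs

/-!
helper47: piece (QL3) of helper23's farm #15666 (S2089 odd specials, abstract twin of helper5's (L3), ported from
helper49's `PsuE2_L3`): lifts of torus elements commute with lifts of the long root elements (odd order
against a kernel of order two).
-/

set_option autoImplicit false
set_option linter.unusedSectionVars false
set_option linter.unusedVariables false

namespace Cfsg.Agent.Helper47.PsuOs

open scoped commutatorElement
open Cfsg.Agent.Helper96.StLift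
open Cfsg.Agent.Helper5.PsuE2 (F4Facts f4Facts)
open Cfsg.Agent.Helper23.PsuOs

universe u

/-- if `g * y * g⁻¹ = a * y` with `a` central then `g ^ k * y * (g ^ k)⁻¹ = a ^ k * y` -/
theorem QL3_conj_pow {X : Type*} [Group X] (g y a : X) (ha : ∀ x : X, a * x = x * a)
    (h : g * y * g⁻¹ = a * y) (k : ℕ) : g ^ k * y * (g ^ k)⁻¹ = a ^ k * y := by
  induction k with
  | zero => simp
  | succ k ih =>
    have e : g ^ (k + 1) * y * (g ^ (k + 1))⁻¹ = g * (g ^ k * y * (g ^ k)⁻¹) * g⁻¹ := by
      rw [pow_succ']; group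
    rw [e, ih]
    have e2 : g * (a ^ k * y) * g⁻¹ = (g * a ^ k * g⁻¹) * (g * y * g⁻¹) := by group
    have hak : ∀ x : X, a ^ k * x = x * a ^ k := by
      intro x
      exact ((Commute.pow_left (show Commute a x from ha x) k)).eq
    have e3 : g * a ^ k * g⁻¹ = a ^ k := by
      rw [← hak g, mul_inv_cancel_right]
    rw [e2, e3, h, ← mul_assoc, ← pow_succ]

section group

variable {K : Type u} [Field K] {σ : K →+* K} {G : Type u} [Group G] {m : ℕ} (D : RootData G K m)
  {Γ : Type u} [Group Γ] [Finite Γ] (τ : Γ →* G) (hτ : Function.Surjective τ)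

/-- (L3) -/
theorem torus_z (E : Ext2 D τ hτ) (F : F4Facts σ) (R : RootFacts σ D) (hm : 2 ≤ m) :
    ∀ (g y : Γ) (i : Fin m), τ g ∈ D.T → τ y = D.z i 1 → Commute g y := by
  intro g y i hg hy
  set n : ℕ := Nat.card (D.T) with hn
  -- `(τ g) ^ n = 1`
  have hgn : τ g ^ n = 1 := by
    have h1 : (⟨τ g, hg⟩ : D.T) ^ n = 1 := pow_card_eq_one'
    have h2 := congrArg Subtype.val h1
    simpa using h2
  -- the commutator `a`
  set a : Γ := g * y * g⁻¹ * y⁻¹ with ha
  have haker : a ∈ τ.ker := by
    rw [MonoidHom.mem_ker, ha, map_mul, map_mul, map_mul, map_inv, map_inv, hy,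
      (R.T_z _ hg i).eq, mul_inv_cancel_right, mul_inv_cancel]
  have hacen : ∀ x : Γ, a * x = x * a := fun x =>
    (Subgroup.mem_center_iff.mp (E.central haker) x).symm
  have hconj : g * y * g⁻¹ = a * y := by rw [ha]; group
  have hpow := QL3_conj_pow g y a hacen hconj n
  have hgnker : g ^ n ∈ τ.ker := by rw [MonoidHom.mem_ker, map_pow, hgn]
  have hgncen : ∀ x : Γ, g ^ n * x = x * g ^ n := fun x =>
    (Subgroup.mem_center_iff.mp (E.central hgnker) x).symm
  have han : a ^ n = 1 := by
    rw [hgncen y, mul_inv_cancel_right] at hpow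
    exact (mul_eq_right (a := a ^ n) (b := y)).mp hpow.symm
  have ha2 : a ^ 2 = 1 := by
    have h1 : (⟨a, haker⟩ : τ.ker) ^ Nat.card τ.ker = 1 := pow_card_eq_one'
    rw [E.card_ker] at h1
    have h2 := congrArg Subtype.val h1
    simpa using h2
  have ha1 : a = 1 := by
    have h := (pow_gcd_eq_one (a := a)).mpr ⟨han, ha2⟩
    have hcop : Nat.gcd n 2 = 1 := R.T_odd
    rw [hcop, pow_one] at h
    exact h
  have : g * y = y * g := by
    have h := hconj
    rw [ha1, one_mul] at h
    calc g * y = (g * y * g⁻¹) * g := by group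
      _ = y * g := by rw [h]
  exact this

end group

end Cfsg.Agent.Helper47.PsuOs
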