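import Mathlib
import Cfsg.Agent.Helper13.QFEDefs
import Cfsg.Agent.Helper34.QFEM0

/-!
# Piece (M4) of helper13's plan for S5977/S5978 (board #8823): an isometry commuting with `θ`
comes from an `L`-isometry of the model
-/

set_option autoImplicit false

namespace Cfsg.Agent.Helper47.QFEM4

open Matrix Cfsg Cfsg.Geo QuadraticMap Polynomial
open Cfsg.Agent.Helper44 Cfsg.Agent.Helper44.QType Cfsg.Agent.Helper13.QFE

universe u

variable {F : Type u} [Field F] {ι : Type} [Fintype ι] [DecidableEq ι]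

/-- the `L`-linear map induced on the model by a matrix commuting with `θ` -/
noncomputable def liftLin {Q : QuadraticForm F (ι → F)} {θ : Matrix ι ι F} {δ : F}
    (hδ : ¬ IsSquare δ) {L : Type*} [Field L] [Algebra F L] {s : L} (hL : QExt F L δ s)
    {φ : L →ₗ[F] F} {n : ℕ} (M : LModel Q θ L s φ n) (A : Matrix ι ι F)
    (hA : A * θ = θ * A) : (Fin n → L) →ₗ[L] (Fin n → L) where
  toFun c := M.Ψ.symm (A *ᵥ M.Ψ c)
  map_add' := by
    intro c c'
    rw [map_add, Matrix.mulVec_add, map_add]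
  map_smul' := by
    intro a c
    simp only [RingHom.id_apply]
    obtain ⟨x, y, -, hxy⟩ := Cfsg.Agent.Helper34.QFEM0.model_smul hδ hL M a
    apply M.Ψ.injective
    rw [LinearEquiv.apply_symm_apply, hxy, hxy, LinearEquiv.apply_symm_apply,
      Matrix.mulVec_mulVec, Matrix.mulVec_mulVec]
    congr 1
    rw [Matrix.mul_add, Matrix.add_mul, Matrix.mul_smul, Matrix.smul_mul, Matrix.mul_one,
      Matrix.one_mul, Matrix.mul_smul, Matrix.smul_mul, hA]

theorem liftLin_apply {Q : QuadraticForm F (ι → F)} {θ : Matrix ι ι F} {δ : F}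
    (hδ : ¬ IsSquare δ) {L : Type*} [Field L] [Algebra F L] {s : L} (hL : QExt F L δ s)
    {φ : L →ₗ[F] F} {n : ℕ} (M : LModel Q θ L s φ n) (A : Matrix ι ι F)
    (hA : A * θ = θ * A) (c : Fin n → L) :
    liftLin hδ hL M A hA c = M.Ψ.symm (A *ᵥ M.Ψ c) := rfl

/-- the transport of the matrix of `liftLin` is the original matrix -/
theorem tr_toMatrix'_liftLin {Q : QuadraticForm F (ι → F)} {θ : Matrix ι ι F} {δ : F}
    (hδ : ¬ IsSquare δ) {L : Type*} [Field L] [Algebra F L] {s : L} (hL : QExt F L δ s)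
    {φ : L →ₗ[F] F} {n : ℕ} (M : LModel Q θ L s φ n) (A : Matrix ι ι F)
    (hA : A * θ = θ * A) :
    tr M.Ψ (LinearMap.toMatrix' (liftLin hδ hL M A hA)) = A := by
  unfold tr
  have hN : (LinearMap.toMatrix' (liftLin hδ hL M A hA)).mulVecLin = liftLin hδ hL M A hA :=
    Matrix.toLin'_toMatrix' _
  rw [hN]
  have h1 : (M.Ψ : (Fin n → L) →ₗ[F] (ι → F)) ∘ₗ
      ((liftLin hδ hL M A hA).restrictScalars F) ∘ₗ (M.Ψ.symm : (ι → F) →ₗ[F] (Fin n → L)) =
      A.mulVecLin := by
    apply LinearMap.ext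
    intro v
    simp only [LinearMap.coe_comp, LinearEquiv.coe_coe, Function.comp_apply,
      LinearMap.coe_restrictScalars, liftLin_apply, LinearEquiv.apply_symm_apply,
      Matrix.mulVecLin_apply]
  rw [h1]
  exact LinearMap.toMatrix'_toLin' A

theorem liftLin_comp {Q : QuadraticForm F (ι → F)} {θ : Matrix ι ι F} {δ : F}
    (hδ : ¬ IsSquare δ) {L : Type*} [Field L] [Algebra F L] {s : L} (hL : QExt F L δ s)
    {φ : L →ₗ[F] F} {n : ℕ} (M : LModel Q θ L s φ n) (A B : Matrix ι ι F)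
    (hA : A * θ = θ * A) (hB : B * θ = θ * B) (hAB : A * B = 1) :
    LinearMap.toMatrix' (liftLin hδ hL M A hA) * LinearMap.toMatrix' (liftLin hδ hL M B hB) =
      1 := by
  rw [← LinearMap.toMatrix'_comp]
  have h1 : (liftLin hδ hL M A hA) ∘ₗ (liftLin hδ hL M B hB) = LinearMap.id := by
    apply LinearMap.ext
    intro c
    rw [LinearMap.comp_apply, liftLin_apply, liftLin_apply, LinearEquiv.apply_symm_apply,
      Matrix.mulVec_mulVec, hAB, Matrix.one_mulVec, LinearEquiv.symm_apply_apply]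
    rfl
  rw [h1, LinearMap.toMatrix'_id]

/-- (M4) an isometry commuting with `θ` comes from an `L`-isometry of the model -/
theorem exists_lift_of_commute (h2 : (2 : F) ≠ 0) {Q : QuadraticForm F (ι → F)}
    {θ : Matrix ι ι F} {δ : F} (hθ : TData Q θ δ) {L : Type*} [Field L] [Algebra F L] {s : L}
    (hL : QExt F L δ s) {φ : L →ₗ[F] F} (hφ : φ ≠ 0) {n : ℕ} (M : LModel Q θ L s φ n)
    (y : GL ι F) (hy : y ∈ Cfsg.isometryGroup F ⇑Q)
    (hc : (y : Matrix ι ι F) * θ = θ * (y : Matrix ι ι F)) :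
    ∃ Y : GL (Fin n) L, Y ∈ Cfsg.isometryGroup L ⇑M.QL ∧
      tr M.Ψ (Y : Matrix (Fin n) (Fin n) L) = (y : Matrix ι ι F) := by
  have hδ := hθ.nsq
  have h1 : (y : Matrix ι ι F) * ((y⁻¹ : GL ι F) : Matrix ι ι F) = 1 := by
    rw [← Units.val_mul, mul_inv_cancel, Units.val_one]
  have h1' : ((y⁻¹ : GL ι F) : Matrix ι ι F) * (y : Matrix ι ι F) = 1 := by
    rw [← Units.val_mul, inv_mul_cancel, Units.val_one]
  have hc' : ((y⁻¹ : GL ι F) : Matrix ι ι F) * θ = θ * ((y⁻¹ : GL ι F) : Matrix ι ι F) := by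
    calc ((y⁻¹ : GL ι F) : Matrix ι ι F) * θ
        = ((y⁻¹ : GL ι F) : Matrix ι ι F) * θ *
            ((y : Matrix ι ι F) * ((y⁻¹ : GL ι F) : Matrix ι ι F)) := by rw [h1, Matrix.mul_one]
      _ = ((y⁻¹ : GL ι F) : Matrix ι ι F) * (θ * (y : Matrix ι ι F)) *
            ((y⁻¹ : GL ι F) : Matrix ι ι F) := by simp only [Matrix.mul_assoc]
      _ = ((y⁻¹ : GL ι F) : Matrix ι ι F) * ((y : Matrix ι ι F) * θ) *
            ((y⁻¹ : GL ι F) : Matrix ι ι F) := by rw [hc]
      _ = (((y⁻¹ : GL ι F) : Matrix ι ι F) * (y : Matrix ι ι F)) * θ *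
            ((y⁻¹ : GL ι F) : Matrix ι ι F) := by simp only [Matrix.mul_assoc]
      _ = θ * ((y⁻¹ : GL ι F) : Matrix ι ι F) := by rw [h1', Matrix.one_mul]
  set η := liftLin hδ hL M (y : Matrix ι ι F) hc with hη
  set η' := liftLin hδ hL M ((y⁻¹ : GL ι F) : Matrix ι ι F) hc' with hη'
  refine ⟨⟨LinearMap.toMatrix' η, LinearMap.toMatrix' η',
    liftLin_comp hδ hL M _ _ hc hc' h1, liftLin_comp hδ hL M _ _ hc' hc h1'⟩, ?_, ?_⟩
  · -- the isometry property
    intro u v
    show M.QL (LinearMap.toMatrix' η *ᵥ u) = M.QL u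
    have e1 : LinearMap.toMatrix' η *ᵥ u = η u := by
      rw [← Matrix.toLin'_apply, Matrix.toLin'_toMatrix']
    rw [e1]
    -- `φ` kills `a * a * D` for all `a`
    have hD : ∀ c : Fin n → L, φ (M.QL (η c) - M.QL c) = 0 := by
      intro c
      rw [map_sub, ← M.hQ, ← M.hQ, hη, liftLin_apply, LinearEquiv.apply_symm_apply]
      have := hy (M.Ψ c) (M.Ψ c)
      exact sub_eq_zero.2 this
    have hsq : ∀ a : L, φ (a * a * (M.QL (η u) - M.QL u)) = 0 := by
      intro a
      have h3 := hD (a • u)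
      rw [map_smul, QuadraticMap.map_smul, QuadraticMap.map_smul, smul_eq_mul, smul_eq_mul,
        ← mul_sub] at h3
      exact h3
    have hlin : ∀ a : L, φ (a * (M.QL (η u) - M.QL u)) = 0 := by
      intro a
      have h4 := hsq (a + 1)
      have h5 := hsq a
      have h6 := hsq 1
      have h7 : (a + 1) * (a + 1) * (M.QL (η u) - M.QL u) =
          a * a * (M.QL (η u) - M.QL u) + 1 * 1 * (M.QL (η u) - M.QL u) +
            (2 : F) • (a * (M.QL (η u) - M.QL u)) := by
        rw [Algebra.smul_def, map_ofNat]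
        ring
      rw [h7, map_add, map_add, h5, h6, zero_add, zero_add, map_smul, smul_eq_mul] at h4
      rcases mul_eq_zero.1 h4 with h8 | h8
      · exact absurd h8 h2
      · exact h8
    by_contra hne
    have hDne : M.QL (η u) - M.QL u ≠ 0 := sub_ne_zero.2 hne
    apply hφ
    apply LinearMap.ext
    intro b
    have h9 := hlin (b / (M.QL (η u) - M.QL u))
    rw [div_mul_cancel₀ _ hDne] at h9
    rw [h9, LinearMap.zero_apply]
  · exact tr_toMatrix'_liftLin hδ hL M _ hc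

end Cfsg.Agent.Helper47.QFEM4
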