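import Mathlib
import Cfsg.Agent.Helper13.QFEDefs

/-!
# Piece (M5) of helper13's plan for S5977/S5978 (board #8823): rank under restriction of scalars
-/

set_option autoImplicit false

namespace Cfsg.Agent.Helper47.QFEM5

open Matrix Cfsg Cfsg.Geo QuadraticMap Polynomial
open Cfsg.Agent.Helper44 Cfsg.Agent.Helper44.QType Cfsg.Agent.Helper13.QFE

universe u

variable {F : Type u} [Field F] {ι : Type} [Fintype ι] [DecidableEq ι]

/-- the linear map of the transported matrix -/
theorem mulVecLin_tr {L : Type*} [Field L] [Algebra F L] {n : ℕ}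
    (Ψ : (Fin n → L) ≃ₗ[F] (ι → F)) (N : Matrix (Fin n) (Fin n) L) :
    (tr Ψ N).mulVecLin = (Ψ : (Fin n → L) →ₗ[F] (ι → F)) ∘ₗ
      (N.mulVecLin.restrictScalars F) ∘ₗ (Ψ.symm : (ι → F) →ₗ[F] (Fin n → L)) := by
  unfold tr
  exact Matrix.toLin'_toMatrix' _

/-- (M5) rank under restriction of scalars -/
theorem rank_tr {Q : QuadraticForm F (ι → F)} {θ : Matrix ι ι F} {δ : F} (hδ : ¬ IsSquare δ)
    {L : Type*} [Field L] [Algebra F L] {s : L} (hL : QExt F L δ s) {φ : L →ₗ[F] F} {n : ℕ}
    (M : LModel Q θ L s φ n) (N : Matrix (Fin n) (Fin n) L) :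
    (tr M.Ψ N).rank = 2 * N.rank := by
  unfold Matrix.rank
  rw [mulVecLin_tr]
  have h1 : LinearMap.range ((M.Ψ : (Fin n → L) →ₗ[F] (ι → F)) ∘ₗ
      (N.mulVecLin.restrictScalars F) ∘ₗ (M.Ψ.symm : (ι → F) →ₗ[F] (Fin n → L))) =
      ((LinearMap.range N.mulVecLin).restrictScalars F).map
        (M.Ψ : (Fin n → L) →ₗ[F] (ι → F)) := by
    rw [LinearMap.range_comp, LinearMap.range_comp_of_range_eq_top _ (LinearEquiv.range _),
      LinearMap.range_restrictScalars]
  rw [h1]
  have h2 : Module.finrank F (((LinearMap.range N.mulVecLin).restrictScalars F).map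
        (M.Ψ : (Fin n → L) →ₗ[F] (ι → F))) =
      Module.finrank F ((LinearMap.range N.mulVecLin).restrictScalars F) :=
    LinearEquiv.finrank_map_eq M.Ψ _
  rw [h2]
  have h3 : Module.finrank F ((LinearMap.range N.mulVecLin).restrictScalars F) =
      Module.finrank F (LinearMap.range N.mulVecLin) :=
    LinearEquiv.finrank_eq
      { AddEquiv.refl (LinearMap.range N.mulVecLin) with map_smul' := fun _ _ => rfl }
  rw [h3, ← Module.finrank_mul_finrank F L (LinearMap.range N.mulVecLin), hL.fr]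

end Cfsg.Agent.Helper47.QFEM5
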