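import Mathlib
import Cfsg.Prelude.Def_ConjugacyFunctors
import Cfsg.Prelude.Def_LocalEven
import Cfsg.Agent.Helper37.InvolvesQuotient
import Cfsg.Agent.Helper10.QdNoControl
import Cfsg.Agent.Helper10.S2794Core

/-!
# `Qd(p)`-free iff lower `K_∞` controls strong fusion in all sections, modulo S1987 and S2795 (helper47)

* `kInfLower_eq_top_of_classTwo`: a group of class at most two is its own lower K-infinity subgroup.
* `exists_sylow_not_controls_kInf`: in a group isomorphic to `Qd(p)` the lower K-infinity subgroup of some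
  Sylow `p`-subgroup does not control strong fusion.
* `qd_free_iff_kInf_controls`: the equivalence of S1989, with the statements of S1987 and of the forward half of
  S2795 (for all finite groups of the universe) as hypotheses.
-/

set_option autoImplicit false

namespace Cfsg.Agent.Helper47

open Subgroup Cfsg Cfsg.Agent.Helper46
open scoped commutatorElement

universe u

/-- a group of nilpotency class at most two is the top of every lower-star family -/
theorem top_mem_kLowerStarFamily {P : Type*} [Group P]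
    (h : ⁅(⊤ : Subgroup P), (⊤ : Subgroup P)⁆ ≤ Subgroup.centralizer ((⊤ : Subgroup P) : Set P))
    (Q : Subgroup P) : (⊤ : Subgroup P) ∈ Cfsg.kLowerStarFamily Q := by
  refine ⟨h, ?_, ?_⟩
  · intro x _
    rw [Subgroup.mem_normalizer_iff]
    intro y
    simp
  · intro A _ _ _ _ _
    refine le_inf le_top ?_
    exact le_trans (Subgroup.commutator_mono le_rfl le_top) h

theorem kInfLower_eq_top_of_classTwo {P : Type u} [Group P]
    (h : ⁅(⊤ : Subgroup P), (⊤ : Subgroup P)⁆ ≤ Subgroup.centralizer ((⊤ : Subgroup P) : Set P)) :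
    Cfsg.kInfLower P = ⊤ := by
  rw [eq_top_iff]
  unfold Cfsg.kInfLower
  refine le_trans ?_ (le_iSup _ 0)
  unfold Cfsg.kSeqEven
  exact le_sSup (top_mem_kLowerStarFamily h _)

theorem inducedFunctor_kInfLower_of_classTwo {G : Type u} [Group G] (T : Subgroup G)
    (h : ∀ x ∈ T, ∀ y ∈ T, ∀ z ∈ T, ⁅x, y⁆ * z = z * ⁅x, y⁆) :
    Cfsg.inducedFunctor Cfsg.kInfLower T = T := by
  unfold Cfsg.inducedFunctor
  rw [kInfLower_eq_top_of_classTwo, ← MonoidHom.range_eq_map, Subgroup.range_subtype]
  rw [Subgroup.commutator_le]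
  intro x _ y _
  rw [Subgroup.mem_centralizer_iff]
  intro z _
  apply Subtype.ext
  have := h x x.2 y y.2 z z.2
  simpa [commutatorElement_def] using this.symm

/-- the standard Sylow subgroup of `Qd(p)` has class two -/
theorem qdS0_classTwo {p : ℕ} [Fact p.Prime] (x : ↥(qd p)) (hx : x ∈ qdS0 p) (y : ↥(qd p))
    (hy : y ∈ qdS0 p) (z : ↥(qd p)) (hz : z ∈ qdS0 p) : ⁅x, y⁆ * z = z * ⁅x, y⁆ := by
  rw [eq_uni_of_mem_qdS0 hx, eq_uni_of_mem_qdS0 hy, eq_uni_of_mem_qdS0 hz]
  generalize ent x 0 1 = a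
  generalize ent x 1 2 = b
  generalize ent x 0 2 = c
  generalize ent y 0 1 = a'
  generalize ent y 1 2 = b'
  generalize ent y 0 2 = c'
  generalize ent z 0 1 = a''
  generalize ent z 1 2 = b''
  generalize ent z 0 2 = c''
  have hc : ⁅uni a b c, uni a' b' c'⁆ = (uni 0 0 (a * b' - a' * b) : ↥(qd p)) := by
    rw [commutatorElement_def]
    have h1 : uni a b c * uni a' b' c' = uni 0 0 (a * b' - a' * b) * (uni a' b' c' * uni a b c) := by
      rw [uni_mul, uni_mul, uni_mul]
      congr 1 <;> ring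
    rw [h1]
    group
  rw [hc, uni_mul, uni_mul]
  congr 1 <;> ring

/-- `uni 0 0 c` is central in the standard Sylow subgroup -/
theorem uni_zero_zero_comm {p : ℕ} [Fact p.Prime] (c : ZMod p) (z : ↥(qd p)) (hz : z ∈ qdS0 p) :
    uni 0 0 c * z = z * uni 0 0 c := by
  rw [eq_uni_of_mem_qdS0 hz, uni_mul, uni_mul]
  congr 1 <;> ring

/-- In a group isomorphic to `Qd(p)` there is a Sylow `p`-subgroup `T` whose lower K-infinity subgroup does not
control strong fusion. -/
theorem exists_sylow_not_controls_kInf {p : ℕ} [Fact p.Prime] {X : Type u} [Group X] [Finite X]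
    (e : X ≃* ↥(qd p)) :
    ∃ T : Sylow p X, ¬ Cfsg.ControlsStrongFusion p (Cfsg.inducedFunctor Cfsg.kInfLower (T : Subgroup X)) := by
  have hp : p.Prime := Fact.out
  have hcomap_card : ∀ H : Subgroup ↥(qd p), Nat.card ↥(H.comap e.toMonoidHom) = Nat.card ↥H := by
    intro H
    have : H.comap e.toMonoidHom = H.map e.symm.toMonoidHom := by
      ext x
      constructor
      · intro hx
        exact ⟨e x, hx, by simp⟩
      · rintro ⟨y, hy, rfl⟩
        show e (e.symm y) ∈ H
        simpa using hy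
    rw [this]
    exact Cfsg.Agent.Helper10.ZJF.card_map_equiv e.symm H
  have hcardX : Nat.card X = Nat.card ↥(qd p) := Nat.card_congr e.toEquiv
  have hTcard : Nat.card ↥((qdS0 p).comap e.toMonoidHom) = p ^ (Nat.card X).factorization p := by
    rw [hcomap_card, card_qdS0, hcardX, factorization_card_qd]
  let T : Sylow p X := Sylow.ofCard ((qdS0 p).comap e.toMonoidHom) hTcard
  have hT : (T : Subgroup X) = (qdS0 p).comap e.toMonoidHom := rfl
  have hmem : ∀ x : X, x ∈ (T : Subgroup X) ↔ e x ∈ qdS0 p := fun x => by rw [hT]; rfl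
  refine ⟨T, ?_⟩
  have hK : Cfsg.inducedFunctor Cfsg.kInfLower (T : Subgroup X) = (T : Subgroup X) := by
    apply inducedFunctor_kInfLower_of_classTwo
    intro x hx y hy z hz
    apply e.injective
    rw [map_mul, map_mul, map_commutatorElement]
    exact qdS0_classTwo _ ((hmem x).1 hx) _ ((hmem y).1 hy) _ ((hmem z).1 hz)
  rw [hK]
  rintro ⟨T', hTT', hctl⟩
  have hTeq : (T : Subgroup X) = (T' : Subgroup X) := by
    apply Subgroup.eq_of_le_of_card_ge hTT'
    rw [Sylow.card_eq_multiplicity, Sylow.card_eq_multiplicity]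
  -- the central element and its noncentral conjugate
  set v : X := e.symm (uni 0 0 1) with hv
  set w : X := e.symm (uni 0 1 0) with hw
  have hvT : v ∈ (T : Subgroup X) := by
    rw [hmem, hv, MulEquiv.apply_symm_apply]; exact uni_mem_qdS0 _ _ _
  have hwT : w ∈ (T : Subgroup X) := by
    rw [hmem, hw, MulEquiv.apply_symm_apply]; exact uni_mem_qdS0 _ _ _
  have hv1 : (uni 0 0 1 : ↥(qd p)) ≠ 1 := by
    intro h
    rw [← uni_zero_eq_one] at h
    have := (uni_inj h).2.2
    exact one_ne_zero this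
  have hw1 : (uni 0 1 0 : ↥(qd p)) ≠ 1 := by
    intro h
    rw [← uni_zero_eq_one] at h
    have := (uni_inj h).2.1
    exact one_ne_zero this
  obtain ⟨g0, hg0⟩ := Cfsg.Agent.Helper10.QdNC.qdVt_trans (uni 0 0 1) (uni_mem_qdVt.2 rfl) hv1
    (uni 0 1 0) (uni_mem_qdVt.2 rfl) hw1
  have hgv : e.symm g0 * v * (e.symm g0)⁻¹ = w := by
    apply e.injective
    rw [map_mul, map_mul, map_inv, MulEquiv.apply_symm_apply, hv, hw, MulEquiv.apply_symm_apply,
      MulEquiv.apply_symm_apply]
    exact hg0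
  have hA : ({v} : Set X) ⊆ ((T' : Subgroup X) : Set X) := by
    intro a ha
    rw [Set.mem_singleton_iff] at ha
    rw [ha]
    exact hTT' hvT
  obtain ⟨_, hc⟩ := hctl {v} hA
  obtain ⟨n, hn, hnv⟩ := hc (e.symm g0) (by
    rintro _ ⟨a, ha, rfl⟩
    rw [Set.mem_singleton_iff] at ha
    rw [ha]
    show e.symm g0 * v * (e.symm g0)⁻¹ ∈ (T' : Subgroup X)
    rw [hgv]
    exact hTT' hwT)
  have hnw : w = n * v * n⁻¹ := by
    rw [← hgv]
    exact hnv v rfl
  -- `u = e.symm (uni 1 0 0)` lies in `T`, so `n⁻¹ u n ∈ T` commutes with `v`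
  set u : X := e.symm (uni 1 0 0) with hu
  have huT : u ∈ (T : Subgroup X) := by
    rw [hmem, hu, MulEquiv.apply_symm_apply]; exact uni_mem_qdS0 _ _ _
  have hu' : n⁻¹ * u * n ∈ (T : Subgroup X) := by
    have := (Subgroup.mem_normalizer_iff.1 (Subgroup.inv_mem _ hn) u).1 huT
    simpa using this
  have hcomm : v * (n⁻¹ * u * n) = (n⁻¹ * u * n) * v := by
    apply e.injective
    have h1 : e v = uni 0 0 1 := by rw [hv, MulEquiv.apply_symm_apply]
    rw [map_mul e v, map_mul e _ v, h1]
    exact uni_zero_zero_comm 1 _ ((hmem _).1 hu')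
  have hwu : w * u = u * w := by
    rw [hnw]
    have : n * v * n⁻¹ * u = n * (v * (n⁻¹ * u * n)) * n⁻¹ := by group
    rw [this, hcomm]
    group
  apply Cfsg.Agent.Helper10.QdNC.qdS0_noncomm (p := p)
  have := congrArg e hwu
  rw [map_mul, map_mul, hw, hu, MulEquiv.apply_symm_apply, MulEquiv.apply_symm_apply] at this
  exact this.symm

/-- S1989 from the statements of S1987 and of the forward direction of S2795. -/
theorem qd_free_iff_kInf_controls {G : Type u} [Group G] [Finite G] {p : ℕ} [Fact p.Prime]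
    (h87 : ∀ (X : Type u) [Group X] [Finite X],
      (∀ (K R : Subgroup X) [(R.subgroupOf K).Normal],
        Cfsg.IsNormalizerPStable p (↥K ⧸ R.subgroupOf K)) →
      ∀ T : Sylow p X, Cfsg.ControlsStrongFusion p (Cfsg.inducedFunctor Cfsg.kInfLower (T : Subgroup X)))
    (h95 : ∀ (X : Type u) [Group X] [Finite X], ¬ Cfsg.Involves ↥(Cfsg.qd p) X →
      ∀ (K R : Subgroup X) [(R.subgroupOf K).Normal],
        Cfsg.IsNormalizerPStable p (↥K ⧸ R.subgroupOf K)) :
    ¬ Cfsg.Involves ↥(Cfsg.qd p) G ↔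
      ∀ (K R : Subgroup G) [(R.subgroupOf K).Normal], ∀ T : Sylow p (↥K ⧸ R.subgroupOf K),
        Cfsg.ControlsStrongFusion p (Cfsg.inducedFunctor (G := (↥K ⧸ R.subgroupOf K)) Cfsg.kInfLower
          (T : Subgroup (↥K ⧸ R.subgroupOf K))) := by
  constructor
  · intro hfree K R hR T
    refine h87 (↥K ⧸ R.subgroupOf K) (h95 (↥K ⧸ R.subgroupOf K) ?_) T
    intro hinv
    apply hfree
    apply Cfsg.Agent.Helper10.S2794Core.involves_of_involves_subgroup' K
    exact Cfsg.Agent.Helper37.involves_of_involves_quotient (R.subgroupOf K) hinv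
  · intro h hinv
    obtain ⟨K, R, hR, ⟨e⟩⟩ := hinv
    obtain ⟨T, hT⟩ := exists_sylow_not_controls_kInf e
    exact hT (@h K R hR T)

end Cfsg.Agent.Helper47
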