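import Mathlib
import Cfsg.Agent.Helper77.Res.Defs
import Cfsg.Agent.S0120

/-!
# S5289 swarm (helper77), piece (A): `|Ω₁(P)| = p` ⇒ `A` is `p`-closed (helper47)
-/

set_option autoImplicit false

universe u

namespace Cfsg.Agent.Helper47.Res

open Subgroup Cfsg.Agent.Helper77.Res

variable {Ω : Type u} [Group Ω] {p : ℕ} [hp : Fact p.Prime]

/-- `Ω₁` of a group, inside the group -/
def ResA_om (p : ℕ) (G : Type*) [Group G] : Subgroup G := Subgroup.closure {y : G | y ^ p = 1}

theorem ResA_om_map {G : Type*} [Group G] (p : ℕ) (α : MulAut G) {y : G} (hy : y ∈ ResA_om p G) :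
    α y ∈ ResA_om p G := by
  have h : (ResA_om p G).map α.toMonoidHom ≤ ResA_om p G := by
    unfold ResA_om
    rw [MonoidHom.map_closure, Subgroup.closure_le]
    rintro _ ⟨y, hy, rfl⟩
    apply Subgroup.subset_closure
    show (α y) ^ p = 1
    have hy' : y ^ p = 1 := hy
    rw [← map_pow, hy', map_one]
  exact h (Subgroup.mem_map_of_mem _ hy)

/-- an automorphism of `p`-power order fixes `Ω₁` pointwise when `|Ω₁| = p` -/
theorem ResA_fix {G : Type*} [Group G] (hR : Nat.card (ResA_om p G) = p) (α : MulAut G) (k : ℕ)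
    (hα : α ^ p ^ k = 1) : ∀ y ∈ ResA_om p G, α y = y := by
  have hcyc : IsCyclic (ResA_om p G) := isCyclic_of_prime_card hR
  obtain ⟨⟨r, hrR⟩, hr⟩ := hcyc.exists_generator
  have hord : orderOf r = p := by
    have h := orderOf_eq_card_of_forall_mem_zpowers hr
    rw [hR, Subgroup.orderOf_mk] at h
    exact h
  have hgen : ∀ y ∈ ResA_om p G, y ∈ Subgroup.zpowers r := by
    intro y hy
    obtain ⟨i, hi⟩ := Subgroup.mem_zpowers_iff.mp (hr ⟨y, hy⟩)
    exact ⟨i, by simpa using congrArg Subtype.val hi⟩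
  have hfin : IsOfFinOrder r := by
    rw [← orderOf_pos_iff, hord]
    exact hp.out.pos
  have hαr : α r ∈ Subgroup.zpowers r := hgen _ (ResA_om_map p α hrR)
  rw [← hfin.mem_powers_iff_mem_zpowers] at hαr
  obtain ⟨j, hj⟩ := hαr
  have hj' : r ^ j = α r := hj
  have hpow : ∀ n : ℕ, (α ^ n) r = r ^ (j ^ n) := by
    intro n
    induction n with
    | zero => simp
    | succ n ih =>
      rw [pow_succ', MulAut.mul_apply, ih, map_pow, ← hj', ← pow_mul, pow_succ']
  have h1 := hpow (p ^ k)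
  rw [hα, MulAut.one_apply] at h1
  have h2 : j ^ p ^ k ≡ 1 [MOD p] := by
    have h : r ^ (j ^ p ^ k) = r ^ 1 := by
      rw [pow_one]
      exact h1.symm
    rw [pow_eq_pow_iff_modEq, hord] at h
    exact h
  have h3 : j ≡ 1 [MOD p] := by
    rw [← ZMod.natCast_eq_natCast_iff] at h2 ⊢
    push_cast at h2 ⊢
    rwa [ZMod.pow_card_pow] at h2
  have hαr' : α r = r := by
    rw [← hj']
    have h : r ^ j = r ^ 1 := by
      rw [pow_eq_pow_iff_modEq, hord]
      exact h3
    rw [h, pow_one]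
  intro y hy
  obtain ⟨i, rfl⟩ := Subgroup.mem_zpowers_iff.mp (hgen y hy)
  rw [map_zpow, hαr']

section localcfg
variable {T P : Subgroup Ω} {A : Subgroup (MulAut ↥P)} {B : Subgroup (MulAut ↥T)}

/-- (A) `|Ω₁(P)| = p` ⇒ `A` is `p`-closed. -/
theorem pclosed_of_card_p (hp2 : p ≠ 2) (hc : Cfg p T P A B)
    (hRcard : Nat.card (Cfsg.omegaOne p P) = p) : PClosed T P A := by
  have : Finite T := hc.fin
  have : Finite P :=
    Finite.of_injective (Subgroup.inclusion hc.le) (Subgroup.inclusion_injective _)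
  have hPp : IsPGroup p P := hc.pgrp.to_le hc.le
  have hmap : (ResA_om p ↥P).map P.subtype = Cfsg.omegaOne p P := by
    unfold ResA_om Cfsg.omegaOne
    rw [MonoidHom.map_closure]
    congr 1
    ext x
    constructor
    · rintro ⟨y, hy, rfl⟩
      have hy' : y ^ p = 1 := hy
      exact ⟨y.2, by simpa using congrArg Subtype.val hy'⟩
    · rintro ⟨hxP, hx⟩
      exact ⟨⟨x, hxP⟩, Subtype.ext (by simpa using hx), rfl⟩
  have hR' : Nat.card (ResA_om p ↥P) = p := by
    have h := Subgroup.card_map_of_injective (K := ResA_om p ↥P) P.subtype_injective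
    rw [hmap, hRcard] at h
    exact h.symm
  let K : Subgroup (MulAut P) :=
    { carrier := {α | α ∈ A ∧ ∀ y ∈ ResA_om p ↥P, α y = y}
      one_mem' := ⟨A.one_mem, fun y _ => rfl⟩
      mul_mem' := by
        rintro α β ⟨hα, hα'⟩ ⟨hβ, hβ'⟩
        exact ⟨A.mul_mem hα hβ, fun y hy => by rw [MulAut.mul_apply, hβ' y hy, hα' y hy]⟩
      inv_mem' := by
        rintro α ⟨hα, hα'⟩
        refine ⟨A.inv_mem hα, fun y hy => ?_⟩
        rw [MulAut.inv_apply, MulEquiv.symm_apply_eq, hα' y hy] }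
  have hKA : K ≤ A := fun α h => h.1
  have h2 : ∀ β ∈ K, (orderOf β).Coprime p → β = 1 := by
    intro β hβ hcop
    exact Cfsg.Agent.S0120.result hp2 hPp β hcop
      (fun x hx => hβ.2 x (Subgroup.subset_closure hx))
  have : Finite (MulAut P) :=
    Finite.of_injective (fun α : MulAut P => (α : P → P)) DFunLike.coe_injective
  have hKp : IsPGroup p K := by
    rintro ⟨β, hβ⟩
    have hn : orderOf β ≠ 0 := (orderOf_pos β).ne'
    obtain ⟨e, m, hm, hnm⟩ := Nat.exists_eq_pow_mul_and_not_dvd hn p hp.out.ne_one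
    refine ⟨e, ?_⟩
    have hγ : β ^ p ^ e ∈ K := K.pow_mem hβ _
    have hord : orderOf (β ^ p ^ e) = m := by
      rw [orderOf_pow_of_dvd (pow_ne_zero _ hp.out.ne_zero) ⟨m, hnm⟩, hnm,
        Nat.mul_div_cancel_left _ (pow_pos hp.out.pos _)]
    have h := h2 _ hγ (by
      rw [hord]
      exact ((Nat.Prime.coprime_iff_not_dvd hp.out).mpr hm).symm)
    exact Subtype.ext (by simpa using h)
  have h1 : ∀ α : MulAut P, ConjBy T P α → α ∈ K := by
    intro α hα
    refine ⟨hc.conj_mem α hα, ?_⟩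
    obtain ⟨g, hgT, hg⟩ := hα
    obtain ⟨k, hk⟩ := hc.pgrp ⟨g, hgT⟩
    have hk' : g ^ p ^ k = 1 := by simpa using congrArg Subtype.val hk
    have hpow : ∀ n : ℕ, ∀ x : P, (((α ^ n) x : P) : Ω) = g ^ n * x * (g ^ n)⁻¹ := by
      intro n
      induction n with
      | zero => intro x; simp
      | succ n ih =>
        intro x
        rw [pow_succ', MulAut.mul_apply, hg, ih, pow_succ']
        group
    have hα1 : α ^ p ^ k = 1 := by
      ext x
      rw [hpow, hk']
      simp
    exact ResA_fix hR' α k hα1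
  intro α hαA β hβ
  have hβK := h1 β hβ
  have hconj : α * β * α⁻¹ ∈ K := by
    refine ⟨A.mul_mem (A.mul_mem hαA hβK.1) (A.inv_mem hαA), fun y hy => ?_⟩
    rw [MulAut.mul_apply, MulAut.mul_apply, hβK.2 _ (ResA_om_map p α⁻¹ hy),
      MulAut.apply_inv_self]
  exact hc.sylow K hKA hKp h1 _ hconj

end localcfg

end Cfsg.Agent.Helper47.Res
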