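import Cfsg.Agent.Helper21.SC3C.Defs
import Cfsg.Agent.Helper79.Counting

/-!
# S3331 block C (helper21's farm), leaf (P3): the structure constant `a_{x x g}` in cleared form
-/

set_option autoImplicit false

namespace Cfsg.Agent.Helper47.SC3C

open Cfsg Cfsg.Agent Cfsg.Agent.Helper62.SC3 Cfsg.Agent.Helper21.SC3C
open scoped ComplexConjugate

universe u

variable {G : Type u} [Group G]

/-- (P3) `pairs3 g = a_{x x g}` by (SYL); (CC) with `|x^G| = |G| / 3`. -/
theorem pairs3_formula [Finite G] (S : Setup G) (D : CData S) (hcc : HCC S D) (hsyl : HSyl S)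
    (hf : 0 < D.f) : HP3 S D := by
  intro g
  have hord : ∀ y : G, orderOf y = 3 ↔ IsConj S.x y := fun y =>
    ⟨hsyl y, fun h => by
      obtain ⟨c, hc⟩ := isConj_iff.mp h
      rw [← hc]
      have h2 : c * S.x * c⁻¹ = MulAut.conj c S.x := rfl
      rw [h2, MulEquiv.orderOf_eq, S.hx]⟩
  have hp : pairs3 g = Nat.card {p : G × G // IsConj S.x p.1 ∧ IsConj S.x p.2 ∧ p.1 * p.2 = g} := by
    unfold pairs3
    apply Nat.card_congr
    exact Equiv.subtypeEquivRight (fun ab => by rw [hord, hord])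
  have hcls : Nat.card {y : G // IsConj S.x y} * 3 = Nat.card G := by
    have h := Helper79.card_class_mul_card_centralizer S.x
    rw [S.hC, Nat.card_zpowers, S.hx, ← Nat.card_coe_set_eq] at h
    exact h
  have h := hcc S.x S.x g (Or.inl (IsConj.refl _))
  rw [← hp, D.hχx, D.hψx] at h
  have hG : (Nat.card G : ℂ) = (Nat.card {y : G // IsConj S.x y} : ℂ) * 3 := by
    exact_mod_cast hcls.symm
  have hf' : (D.f : ℂ) ≠ 0 := by exact_mod_cast hf.ne'
  have hf1 : (D.f : ℂ) + 1 ≠ 0 := by exact_mod_cast (Nat.succ_ne_zero D.f)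
  have hGne : (Nat.card G : ℂ) ≠ 0 := by exact_mod_cast (Nat.card_pos (α := G)).ne'
  apply mul_right_cancel₀ hGne
  calc 9 * (pairs3 g : ℂ) * (D.f : ℂ) * ((D.f : ℂ) + 1) * (Nat.card G : ℂ)
      = 9 * (D.f : ℂ) * ((D.f : ℂ) + 1) * ((pairs3 g : ℂ) * (Nat.card G : ℂ)) := by ring
    _ = 9 * (D.f : ℂ) * ((D.f : ℂ) + 1) * ((Nat.card {y : G // IsConj S.x y} : ℂ) *
          (Nat.card {y : G // IsConj S.x y} : ℂ) *
          (1 + 1 * 1 * conj (D.χ g) / (D.f : ℂ) + -1 * -1 * conj (D.ψ g) / ((D.f : ℂ) + 1))) := by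
        rw [h]
    _ = (Nat.card G : ℂ) * ((D.f : ℂ) * ((D.f : ℂ) + 1) + ((D.f : ℂ) + 1) * conj (D.χ g)
          + (D.f : ℂ) * conj (D.ψ g)) * (Nat.card G : ℂ) := by
        rw [hG]
        field_simp
        ring

end Cfsg.Agent.Helper47.SC3C
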