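import Mathlib

/-!
# S3331 block M wave 1a (helper62's farm #15744), leaves (PC) and (PAIR): pure finite combinatorics in `ℕ`
-/

set_option autoImplicit false

namespace Cfsg.Agent.Helper47.SC3

universe u

/-- auxiliary: the product divides `n` and `∑ (h i - 1) + 1 ≤ ∏ h i` -/
theorem PC_aux {ι : Type*} [DecidableEq ι] (h : ι → ℕ) (n : ℕ) (s : Finset ι) :
    (∀ i ∈ s, 0 < h i) → (∀ i ∈ s, ∀ j ∈ s, i ≠ j → (h i).Coprime (h j)) →
    (∀ i ∈ s, h i ∣ n) → (∏ i ∈ s, h i) ∣ n ∧ ∑ i ∈ s, (h i - 1) + 1 ≤ ∏ i ∈ s, h i := by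
  induction s using Finset.induction_on with
  | empty =>
    intro _ _ _
    simp
  | insert a s ha ih =>
    intro hpos hcop hdvd
    have hpos' : ∀ i ∈ s, 0 < h i := fun i hi => hpos i (Finset.mem_insert_of_mem hi)
    have hcop' : ∀ i ∈ s, ∀ j ∈ s, i ≠ j → (h i).Coprime (h j) := fun i hi j hj hij =>
      hcop i (Finset.mem_insert_of_mem hi) j (Finset.mem_insert_of_mem hj) hij
    have hdvd' : ∀ i ∈ s, h i ∣ n := fun i hi => hdvd i (Finset.mem_insert_of_mem hi)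
    obtain ⟨ih1, ih2⟩ := ih hpos' hcop' hdvd'
    have hca : (h a).Coprime (∏ i ∈ s, h i) := by
      apply Nat.Coprime.prod_right
      intro i hi
      exact hcop a (Finset.mem_insert_self a s) i (Finset.mem_insert_of_mem hi)
        (fun hai => ha (hai ▸ hi))
    rw [Finset.prod_insert ha, Finset.sum_insert ha]
    refine ⟨Nat.Coprime.mul_dvd_of_dvd_of_dvd hca (hdvd a (Finset.mem_insert_self a s)) ih1, ?_⟩
    have hapos : 0 < h a := hpos a (Finset.mem_insert_self a s)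
    obtain ⟨k, hk⟩ : ∃ k, h a = k + 1 := ⟨h a - 1, by omega⟩
    rw [hk]
    have hP : 1 ≤ ∏ i ∈ s, h i := by omega
    have : k ≤ k * ∏ i ∈ s, h i := Nat.le_mul_of_pos_right k hP
    have e : (k + 1) * ∏ i ∈ s, h i = k * (∏ i ∈ s, h i) + ∏ i ∈ s, h i := by ring
    rw [e]
    omega

/-- (PC) -/
theorem PC_sum_pred_le {ι : Type*} (s : Finset ι) (h : ι → ℕ) (n : ℕ) (hn : 0 < n)
    (hpos : ∀ i ∈ s, 0 < h i)
    (hcop : ∀ i ∈ s, ∀ j ∈ s, i ≠ j → (h i).Coprime (h j))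
    (hdvd : ∀ i ∈ s, h i ∣ n) : ∑ i ∈ s, (h i - 1) ≤ n - 1 := by
  classical
  obtain ⟨h1, h2⟩ := PC_aux h n s hpos hcop hdvd
  have h3 := Nat.le_of_dvd hn h1
  omega

/-- (PAIR) -/
theorem PAIR_sum_le {α : Type*} [DecidableEq α] (𝓕 : Finset α) (σ : α → α) (h : α → ℕ) (n : ℕ)
    (hn : 0 < n) (hpos : ∀ M ∈ 𝓕, 0 < h M) (hσ : ∀ M, h (σ M) = h M)
    (hrel : ∀ M ∈ 𝓕, ∀ M' ∈ 𝓕, M' = M ∨ M' = σ M ∨ (h M).Coprime (h M'))
    (hdvd : ∀ M ∈ 𝓕, h M ∣ n) : ∑ M ∈ 𝓕, (h M - 1) ≤ 2 * (n - 1) := by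
  classical
  have hPC : ∑ v ∈ 𝓕.image h, (v - 1) ≤ n - 1 := by
    apply PC_sum_pred_le (𝓕.image h) (fun v => v) n hn
    · intro v hv
      obtain ⟨M, hM, rfl⟩ := Finset.mem_image.mp hv
      exact hpos M hM
    · intro v hv v' hv' hne
      obtain ⟨M, hM, rfl⟩ := Finset.mem_image.mp hv
      obtain ⟨M', hM', rfl⟩ := Finset.mem_image.mp hv'
      rcases hrel M hM M' hM' with h1 | h1 | h1
      · exact absurd (by rw [h1]) hne
      · exact absurd (by rw [h1, hσ]) hne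
      · exact h1
    · intro v hv
      obtain ⟨M, hM, rfl⟩ := Finset.mem_image.mp hv
      exact hdvd M hM
  have hsum : ∑ M ∈ 𝓕, (h M - 1) =
      ∑ v ∈ 𝓕.image h, (𝓕.filter (fun M => h M = v)).card • (v - 1) :=
    Finset.sum_comp (fun v => v - 1) h
  rw [hsum]
  calc ∑ v ∈ 𝓕.image h, (𝓕.filter (fun M => h M = v)).card • (v - 1)
      ≤ ∑ v ∈ 𝓕.image h, 2 * (v - 1) := by
        apply Finset.sum_le_sum
        intro v hv
        rw [smul_eq_mul]
        by_cases hv1 : v ≤ 1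
        · have : v - 1 = 0 := by omega
          rw [this, mul_zero, mul_zero]
        · apply Nat.mul_le_mul_right
          obtain ⟨M, hM, rfl⟩ := Finset.mem_image.mp hv
          have hsub : 𝓕.filter (fun M' => h M' = h M) ⊆ {M, σ M} := by
            intro M' hM'
            rw [Finset.mem_filter] at hM'
            rw [Finset.mem_insert, Finset.mem_singleton]
            rcases hrel M hM M' hM'.1 with h1 | h1 | h1
            · exact Or.inl h1
            · exact Or.inr h1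
            · exfalso
              rw [hM'.2, Nat.coprime_self] at h1
              omega
          exact (Finset.card_le_card hsub).trans Finset.card_le_two
    _ = 2 * ∑ v ∈ 𝓕.image h, (v - 1) := by rw [Finset.mul_sum]
    _ ≤ 2 * (n - 1) := Nat.mul_le_mul_left 2 hPC

end Cfsg.Agent.Helper47.SC3
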