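import Mathlib
import Cfsg.Agent.Helper54.SCG.Defs

/-!
# S3921 farm SCG (helper54), leaf (K4): a non-cyclic group of order 4 is `DihedralGroup 2` (helper47)
-/

set_option autoImplicit false

namespace Cfsg.Agent.Helper47.SCG

open Cfsg.Agent.Helper54.SCG

/-- (K4) -/
theorem K4_equiv_dihedral_two {S : Type*} [Group S] (h4 : Nat.card S = 4) (hc : ¬ IsCyclic S) :
    Nonempty (S ≃* DihedralGroup 2) := by
  have hfin : Finite S := Nat.finite_of_card_ne_zero (by omega)
  have hsq : ∀ x : S, x ^ 2 = 1 := by
    intro x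
    have hd : orderOf x ∣ 4 := h4 ▸ orderOf_dvd_natCard x
    have hne : orderOf x ≠ 4 := fun h => hc (isCyclic_of_orderOf_eq_card x (by rw [h, h4]))
    have hle : orderOf x ≤ 4 := Nat.le_of_dvd (by norm_num) hd
    have hpos : 0 < orderOf x := orderOf_pos x
    have h12 : orderOf x = 1 ∨ orderOf x = 2 := by
      have h3 : orderOf x ≠ 3 := by
        intro h
        rw [h] at hd
        omega
      omega
    rcases h12 with h | h
    · rw [orderOf_eq_one_iff] at h
      rw [h, one_pow]
    · rw [← h]
      exact pow_orderOf_eq_one x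
  have hexp : Monoid.exponent S = 2 := by
    have hd : Monoid.exponent S ∣ 2 := Monoid.exponent_dvd_of_forall_pow_eq_one hsq
    have h1 : Monoid.exponent S ≠ 1 := by
      intro h
      rw [Monoid.exp_eq_one_iff] at h
      have : Nat.card S = 1 := Nat.card_eq_one_iff_unique.mpr ⟨h, ⟨1⟩⟩
      omega
    rcases (Nat.dvd_prime Nat.prime_two).mp hd with h | h
    · exact absurd h h1
    · exact h
  haveI : IsKleinFour S := ⟨h4, hexp⟩
  exact IsKleinFour.nonempty_mulEquiv

end Cfsg.Agent.Helper47.SCG
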