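import Mathlib
import Cfsg.Agent.Helper54.SCG.Defs

/-!
# S3921 farm SCG (helper54), leaf (RG): a non-cyclic subgroup of a group of order dividing
`q ∈ {4, 9, prime}` is everything (helper47)
-/

set_option autoImplicit false

namespace Cfsg.Agent.Helper47.SCG

open Cfsg.Agent.Helper54.SCG

/-- a non-cyclic group does not have order `1` or a prime -/
theorem RG_card_of_not_cyclic {H : Type*} [Group H] (hH : ¬ IsCyclic H) :
    Nat.card H ≠ 1 ∧ ¬ (Nat.card H).Prime := by
  constructor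
  · intro h
    haveI : Subsingleton H := (Nat.card_eq_one_iff_unique.mp h).1
    exact hH isCyclic_of_subsingleton
  · intro h
    haveI : Fact (Nat.card H).Prime := ⟨h⟩
    exact hH (isCyclic_of_prime_card rfl)

/-- (RG) -/
theorem RG_eq_of_card {X : Type*} [Group X] (H K : Subgroup X) [Finite ↥K] (hHK : H ≤ K)
    (hH : ¬ IsCyclic ↥H) (q : ℕ) (hK : Nat.card ↥K ∣ q) (hq : q = 4 ∨ q = 9 ∨ q.Prime) :
    H = K := by
  obtain ⟨h1, hpr⟩ := RG_card_of_not_cyclic hH
  have hdvd : Nat.card ↥H ∣ Nat.card ↥K := Subgroup.card_dvd_of_le hHK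
  have hKpos : 0 < Nat.card ↥K := Nat.card_pos
  apply Subgroup.eq_of_le_of_card_ge hHK
  rcases hq with rfl | rfl | hq
  · have hKle : Nat.card ↥K ≤ 4 := Nat.le_of_dvd (by norm_num) hK
    have hHle : Nat.card ↥H ≤ Nat.card ↥K := Nat.le_of_dvd hKpos hdvd
    have hHpos : 0 < Nat.card ↥H := Nat.pos_of_dvd_of_pos hdvd hKpos
    have h2 : Nat.card ↥H ≠ 2 := fun h => hpr (h ▸ Nat.prime_two)
    have h3 : Nat.card ↥H ≠ 3 := fun h => hpr (h ▸ Nat.prime_three)
    omega
  · have hKle : Nat.card ↥K ≤ 9 := Nat.le_of_dvd (by norm_num) hK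
    have hHle : Nat.card ↥H ≤ Nat.card ↥K := Nat.le_of_dvd hKpos hdvd
    have hHpos : 0 < Nat.card ↥H := Nat.pos_of_dvd_of_pos hdvd hKpos
    have hH9 : Nat.card ↥H ∣ 9 := dvd_trans hdvd hK
    have hcases : Nat.card ↥H = 1 ∨ Nat.card ↥H = 3 ∨ Nat.card ↥H = 9 := by
      have hle9 : Nat.card ↥H ≤ 9 := le_trans hHle hKle
      interval_cases (Nat.card ↥H) <;> omega
    rcases hcases with h | h | h
    · exact absurd h h1
    · exact absurd (h ▸ Nat.prime_three) hpr
    · omega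
  · rcases (Nat.dvd_prime hq).mp (dvd_trans hdvd hK) with h | h
    · exact absurd h h1
    · exact absurd (h ▸ hq) hpr

end Cfsg.Agent.Helper47.SCG
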