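import Cfsg.Agent.Helper47.SPA3f
import Cfsg.Agent.Helper76.SPS0bc
import Cfsg.Agent.Helper87.SPF2

/-!
# Piece (A3e) of helper6's plan for S2347 (board #8058): if no root group has a non-zero fixed
point, all the non-trivial characters of every root group occur
-/

set_option autoImplicit false

namespace Cfsg.Agent.Helper47.SPrep

open Matrix Cfsg.Agent.Helper13 Cfsg.Agent.Helper5 Cfsg.Agent.Helper6.SUrep
  Cfsg.Agent.Helper6.SPrep Module

variable {F : Type*} [Field F] {m : ℕ}

local notation "Vec" => (Fin m ⊕ Fin m → F)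
local notation "⟪" x ", " y "⟫" => Cfsg.sympForm m F x y

section A3

variable {M : Type*} [AddCommGroup M] [Module ℂ M]

/-- (A3e) if no root group has a non-zero fixed point, all the non-trivial characters of every
root group occur -/
theorem range_fpr_ne_bot_of_fixZ_eq_bot [Fintype F] [FiniteDimensional ℂ M] [Nontrivial M]
    (hodd : Odd (Fintype.card F)) {W : Submodule F (Fin m ⊕ Fin m → F)} (hW : RelNondeg W)
    (hk : 4 ≤ finrank F W) (ρ : Representation ℂ ↥(spW W) M)
    (H : ∀ (w : Vec) (hw : w ∈ W), w ≠ 0 → fixZ W ρ w hw = ⊥)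
    (u : Vec) (hu : u ∈ W) (hu0 : u ≠ 0) (ψ : AddChar F ℂ) (hψ : ψ ≠ 0) :
    LinearMap.range (fpr (rootOp W ρ u hu) ψ) ≠ ⊥ := by
  classical
  obtain ⟨u', hu', huu'⟩ := exists_partner hW hu hu0
  have hfr := Cfsg.Agent.Helper76.SPrep.finrank_hypCompl W u u' hu hu' huu'
  have hpos : 0 < finrank F (hypCompl W u u') := by omega
  obtain ⟨⟨v, hvC⟩, hv0'⟩ := (Module.finrank_pos_iff_exists_ne_zero).1 hpos
  have hv0 : v ≠ 0 := fun h => hv0' (Subtype.ext h)
  have hv : v ∈ W := hvC.1
  have hvu : ⟪v, u⟫ = 0 := hvC.2.1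
  have hvu' : ⟪v, u'⟫ = 0 := hvC.2.2
  have huv : ⟪u, v⟫ = 0 := by rw [sympForm_swap, hvu, neg_zero]
  obtain ⟨x, a, b, c, hx0, hx⟩ := exists_simul_eigen ρ u v hu hv huv ψ hψ
  -- `u`, `v` are linearly independent
  have hind : ∀ r s : F, r • u + s • v = 0 → r = 0 ∧ s = 0 := by
    intro r s h
    have h1 : ⟪r • u + s • v, u'⟫ = r := by
      rw [sympForm_add_left, sympForm_smul_left, sympForm_smul_left, huu', hvu', mul_one,
        mul_zero, add_zero]
    rw [h, sympForm_zero_left] at h1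
    have hr : r = 0 := h1.symm
    rw [hr, zero_smul, zero_add] at h
    rcases smul_eq_zero.1 h with h2 | h2
    · exact ⟨hr, h2⟩
    · exact absurd h2 hv0
  -- the quadratic form is anisotropic
  have haniso : ∀ r s : F, a * r ^ 2 + b * r * s + c * s ^ 2 = 0 → r = 0 ∧ s = 0 := by
    intro r s hQ
    by_contra hne
    have hw0 : r • u + s • v ≠ 0 := fun h => hne (hind r s h)
    have hmem : x ∈ fixZ W ρ (r • u + s • v) (W.add_mem (W.smul_mem r hu) (W.smul_mem s hv)) := by
      intro t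
      rw [hx r s t, hQ, mul_zero, AddChar.map_zero_eq_one, one_smul]
    rw [H _ _ hw0] at hmem
    exact hx0 ((Submodule.mem_bot ℂ).1 hmem)
  obtain ⟨r, s, hrs⟩ := Cfsg.Agent.Helper87.SPrep.exists_binary_form_eq hodd a b c haniso 1
  have hw : r • u + s • v ∈ W := W.add_mem (W.smul_mem r hu) (W.smul_mem s hv)
  have hw0 : r • u + s • v ≠ 0 := by
    intro h
    obtain ⟨hr, hs⟩ := hind r s h
    rw [hr, hs] at hrs
    simp at hrs
  have hxw : ∀ t, ρ (tvW W (r • u + s • v) hw t) x = ψ t • x := by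
    intro t
    have h := hx r s t
    rw [hrs, mul_one] at h
    exact h
  obtain ⟨g, hg⟩ := exists_spW_map hW hw hu hw0 hu0
  have hconj : ∀ t, g * tvW W (r • u + s • v) hw t * g⁻¹ = tvW W u hu t := by
    intro t
    rw [conj_tvW]
    exact tvW_congr W hg _ t
  have hgx : ρ g x ∈ LinearMap.range (fpr (rootOp W ρ u hu) ψ) := by
    rw [Cfsg.Agent.Helper60.SUrep.mem_range_fpr_iff _ (rootOp_zero W ρ u hu)
      (rootOp_add W ρ u hu)]
    intro t
    show ρ (tvW W u hu t) (ρ g x) = ψ t • ρ g x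
    rw [← hconj t, ← Module.End.mul_apply, ← map_mul, inv_mul_cancel_right, map_mul,
      Module.End.mul_apply, hxw t, map_smul]
  intro hbot
  rw [hbot] at hgx
  have h0 : ρ g x = 0 := (Submodule.mem_bot ℂ).1 hgx
  apply hx0
  have h1 : ρ g⁻¹ (ρ g x) = x := by
    rw [← Module.End.mul_apply, ← map_mul, inv_mul_cancel, map_one, Module.End.one_apply]
  rw [← h1, h0, map_zero]

end A3

end Cfsg.Agent.Helper47.SPrep
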