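import Cfsg.Agent.Helper6.SPrep2
import Cfsg.Agent.Helper60.SUG1
import Cfsg.Agent.Helper76.SPF3

/-!
# Piece (A3f) of helper6's plan for S2347 (board #8058): a simultaneous eigenvector of the
transvections with direction in a totally isotropic plane
-/

set_option autoImplicit false

namespace Cfsg.Agent.Helper47.SPrep

open Matrix Cfsg.Agent.Helper13 Cfsg.Agent.Helper5 Cfsg.Agent.Helper6.SUrep
  Cfsg.Agent.Helper6.SPrep Module

section generic

variable {S : Type*} [AddCommGroup S] [Fintype S] {M : Type*} [AddCommGroup M] [Module ℂ M]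

theorem exists_fpr_apply_ne_zero47 (s : S → Module.End ℂ M) (hs0 : s 0 = 1) {x : M}
    (hx : x ≠ 0) : ∃ ψ : AddChar S ℂ, fpr s ψ x ≠ 0 := by
  classical
  by_contra hcon
  push Not at hcon
  apply hx
  have h1 := LinearMap.congr_fun (Cfsg.Agent.Helper60.SUrep.sum_fpr s hs0) x
  rw [LinearMap.sum_apply, Module.End.one_apply] at h1
  rw [← h1]
  exact Finset.sum_eq_zero (fun ψ _ => hcon ψ)

/-- one step: an eigenvector of the family `s`, keeping the eigenvector property for the operators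
commuting with `s` -/
theorem eigen_step47 (s : S → Module.End ℂ M) (hs0 : s 0 = 1)
    (hs : ∀ x y, s (x + y) = s x * s y) {x : M} (hx : x ≠ 0) :
    ∃ (ψ : AddChar S ℂ) (y : M), y ≠ 0 ∧ (∀ c, s c y = ψ c • y) ∧
      ∀ (g : Module.End ℂ M) (z : ℂ), (∀ c, g * s c = s c * g) → g x = z • x → g y = z • y := by
  obtain ⟨ψ, hψ⟩ := exists_fpr_apply_ne_zero47 s hs0 hx
  refine ⟨ψ, fpr s ψ x, hψ, ?_, ?_⟩
  · intro c
    rw [← Module.End.mul_apply, Cfsg.Agent.Helper60.SUrep.mul_fpr' s hs c ψ, LinearMap.smul_apply]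
  · intro g z hg hgx
    rw [← Module.End.mul_apply, Cfsg.Agent.Helper60.SUrep.commute_fpr s g hg ψ,
      Module.End.mul_apply, hgx, map_smul]

/-- a simultaneous eigenvector of three commuting additive families of operators -/
theorem exists_simul_eigen3 [Nontrivial M] (s₁ s₂ s₃ : S → Module.End ℂ M)
    (h10 : s₁ 0 = 1) (h1 : ∀ x y, s₁ (x + y) = s₁ x * s₁ y)
    (h20 : s₂ 0 = 1) (h2 : ∀ x y, s₂ (x + y) = s₂ x * s₂ y)
    (h30 : s₃ 0 = 1) (h3 : ∀ x y, s₃ (x + y) = s₃ x * s₃ y)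
    (h12 : ∀ x y, s₁ x * s₂ y = s₂ y * s₁ x)
    (h13 : ∀ x y, s₁ x * s₃ y = s₃ y * s₁ x)
    (h23 : ∀ x y, s₂ x * s₃ y = s₃ y * s₂ x) :
    ∃ (ψ₁ ψ₂ ψ₃ : AddChar S ℂ) (x : M), x ≠ 0 ∧ (∀ c, s₁ c x = ψ₁ c • x) ∧
      (∀ c, s₂ c x = ψ₂ c • x) ∧ (∀ c, s₃ c x = ψ₃ c • x) := by
  obtain ⟨x0, hx0⟩ := exists_ne (0 : M)
  obtain ⟨ψ₁, x1, hx1, he1, -⟩ := eigen_step47 s₁ h10 h1 hx0
  obtain ⟨ψ₂, x2, hx2, he2, hk2⟩ := eigen_step47 s₂ h20 h2 hx1
  obtain ⟨ψ₃, x3, hx3, he3, hk3⟩ := eigen_step47 s₃ h30 h3 hx2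
  have e12 : ∀ c, s₁ c x2 = ψ₁ c • x2 := fun c => hk2 (s₁ c) (ψ₁ c) (fun d => h12 c d) (he1 c)
  refine ⟨ψ₁, ψ₂, ψ₃, x3, hx3, ?_, ?_, he3⟩
  · intro c
    exact hk3 (s₁ c) (ψ₁ c) (fun d => h13 c d) (e12 c)
  · intro c
    exact hk3 (s₂ c) (ψ₂ c) (fun d => h23 c d) (he2 c)

end generic

variable {F : Type*} [Field F] {m : ℕ}

local notation "Vec" => (Fin m ⊕ Fin m → F)
local notation "⟪" x ", " y "⟫" => Cfsg.sympForm m F x y

/-- transvections with orthogonal directions commute -/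
theorem tvW_comm_of_orth47 (W : Submodule F (Fin m ⊕ Fin m → F)) (a b : Vec) (ha : a ∈ W)
    (hb : b ∈ W) (hab : ⟪a, b⟫ = 0) (c d : F) :
    tvW W a ha c * tvW W b hb d = tvW W b hb d * tvW W a ha c := by
  have hba : ⟪b, a⟫ = 0 := by rw [sympForm_swap, hab, neg_zero]
  apply spW_ext
  intro x
  rw [spMat_mul, spMat_mul, ← Matrix.mulVec_mulVec, ← Matrix.mulVec_mulVec, spMat_tvW_mulVec,
    spMat_tvW_mulVec, spMat_tvW_mulVec, spMat_tvW_mulVec]
  simp only [sympForm_add_left, sympForm_smul_left, hab, hba, mul_zero, add_zero]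
  abel

/-- a Heisenberg element commutes with the transvections with direction orthogonal to `u`
and `y` -/
theorem eiW_comm_tvW_of_orth47 (W : Submodule F (Fin m ⊕ Fin m → F)) (u y b : Vec) (hu : u ∈ W)
    (hy : y ∈ W) (hb : b ∈ W) (hub : ⟪u, b⟫ = 0) (hyb : ⟪y, b⟫ = 0) (c d : F) :
    eiW W u y hu hy c * tvW W b hb d = tvW W b hb d * eiW W u y hu hy c := by
  have h1 : Commute (tvW W u hu (c - 1)) (tvW W b hb d) := tvW_comm_of_orth47 W u b hu hb hub _ d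
  have h2 : Commute (tvW W y hy (-1)) (tvW W b hb d) := tvW_comm_of_orth47 W y b hy hb hyb _ d
  have h3 : Commute (tvW W (u + y) (W.add_mem hu hy) 1) (tvW W b hb d) :=
    tvW_comm_of_orth47 W (u + y) b _ hb (by rw [sympForm_add_left, hub, hyb, add_zero]) _ d
  exact ((h1.mul_left h2).mul_left h3)

theorem eiW_congr47 (W : Submodule F (Fin m ⊕ Fin m → F)) (u : Vec) (hu : u ∈ W) {y y' : Vec}
    (h : y = y') (hy : y ∈ W) {c c' : F} (hc : c = c') :
    eiW W u y hu hy c = eiW W u y' hu (h ▸ hy) c' := by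
  subst h
  subst hc
  rfl

/-- the action of a Heisenberg element (own copy of (S0a)) -/
theorem spMat_eiW_mulVec47 (W : Submodule F (Fin m ⊕ Fin m → F)) (u y : Vec) (hu : u ∈ W)
    (hy : y ∈ W) (hyu : ⟪y, u⟫ = 0) (c : F) (x : Vec) :
    spMat (eiW W u y hu hy c) *ᵥ x =
      x + ⟪x, u⟫ • y + ⟪x, y⟫ • u + (c * ⟪x, u⟫) • u := by
  have huy : ⟪u, y⟫ = 0 := by rw [sympForm_swap, hyu, neg_zero]
  unfold Cfsg.Agent.Helper6.SPrep.eiW
  rw [spMat_mul, spMat_mul, ← Matrix.mulVec_mulVec, ← Matrix.mulVec_mulVec, spMat_tvW_mulVec,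
    spMat_tvW_mulVec, spMat_tvW_mulVec]
  simp only [sympForm_add_left, sympForm_add_right, sympForm_smul_left,
    sympForm_self, huy, hyu, mul_zero, add_zero]
  module

/-- a transvection with direction in the span of two orthogonal vectors (own copy of (S0k)) -/
theorem tvW_add_smul47 (W : Submodule F (Fin m ⊕ Fin m → F)) (u v : Vec) (hu : u ∈ W)
    (hv : v ∈ W) (huv : ⟪u, v⟫ = 0) (r s t : F) :
    tvW W (r • u + s • v) (W.add_mem (W.smul_mem r hu) (W.smul_mem s hv)) t =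
      tvW W u hu (t * r ^ 2) * tvW W v hv (t * s ^ 2) *
        eiW W u ((t * r * s) • v) hu (W.smul_mem _ hv) 0 := by
  have hvu : ⟪v, u⟫ = 0 := by rw [sympForm_swap, huv, neg_zero]
  apply spW_ext
  intro x
  rw [spMat_mul, spMat_mul, ← Matrix.mulVec_mulVec, ← Matrix.mulVec_mulVec,
    spMat_eiW_mulVec47 W u _ hu _ (by rw [sympForm_smul_left, hvu, mul_zero]),
    spMat_tvW_mulVec, spMat_tvW_mulVec, spMat_tvW_mulVec]
  simp only [sympForm_add_left, sympForm_add_right, sympForm_smul_left, sympForm_smul_right,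
    sympForm_self, huv, hvu, mul_zero, add_zero, zero_mul, zero_smul]
  module

/-- the Heisenberg elements `eiW u (a • v) 0` form a group isomorphic to `F` -/
theorem eiW_smul_add47 (W : Submodule F (Fin m ⊕ Fin m → F)) (u v : Vec) (hu : u ∈ W)
    (hv : v ∈ W) (huv : ⟪u, v⟫ = 0) (a b : F) :
    eiW W u ((a + b) • v) hu (W.smul_mem _ hv) 0 =
      eiW W u (a • v) hu (W.smul_mem _ hv) 0 * eiW W u (b • v) hu (W.smul_mem _ hv) 0 := by
  have hvu : ⟪v, u⟫ = 0 := by rw [sympForm_swap, huv, neg_zero]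
  have hyu : ∀ c : F, ⟪c • v, u⟫ = 0 := fun c => by rw [sympForm_smul_left, hvu, mul_zero]
  apply spW_ext
  intro x
  rw [spMat_mul, ← Matrix.mulVec_mulVec, spMat_eiW_mulVec47 W u _ hu _ (hyu _),
    spMat_eiW_mulVec47 W u _ hu _ (hyu _), spMat_eiW_mulVec47 W u _ hu _ (hyu _)]
  simp only [sympForm_add_left, sympForm_smul_left, sympForm_smul_right,
    sympForm_self, huv, hvu, mul_zero, add_zero, zero_mul, zero_smul]
  module

section A3

variable {M : Type*} [AddCommGroup M] [Module ℂ M]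

/-- (A3f) a simultaneous eigenvector of the transvections with direction in a totally isotropic
plane -/
theorem exists_simul_eigen [Fintype F] [FiniteDimensional ℂ M] [Nontrivial M]
    {W : Submodule F (Fin m ⊕ Fin m → F)} (ρ : Representation ℂ ↥(spW W) M) (u v : Vec)
    (hu : u ∈ W) (hv : v ∈ W) (huv : ⟪u, v⟫ = 0) (ψ₀ : AddChar F ℂ) (hψ₀ : ψ₀ ≠ 0) :
    ∃ (x : M) (a b c : F), x ≠ 0 ∧ ∀ r s t : F,
      ρ (tvW W (r • u + s • v) (W.add_mem (W.smul_mem r hu) (W.smul_mem s hv)) t) x =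
        ψ₀ (t * (a * r ^ 2 + b * r * s + c * s ^ 2)) • x := by
  classical
  have hvu : ⟪v, u⟫ = 0 := by rw [sympForm_swap, huv, neg_zero]
  have hyu : ∀ c : F, ⟪c • v, u⟫ = 0 := fun c => by rw [sympForm_smul_left, hvu, mul_zero]
  have huy : ∀ c : F, ⟪u, c • v⟫ = 0 := fun c => by rw [sympForm_smul_right, huv, mul_zero]
  have hyv : ∀ c : F, ⟪c • v, v⟫ = 0 := fun c => by rw [sympForm_smul_left, sympForm_self, mul_zero]
  -- the three families of operators
  have h10 : (fun c : F => ρ (tvW W u hu c)) 0 = 1 := by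
    show ρ (tvW W u hu 0) = 1
    rw [tvW_zero, map_one]
  have h1 : ∀ x y : F, (fun c : F => ρ (tvW W u hu c)) (x + y) =
      (fun c : F => ρ (tvW W u hu c)) x * (fun c : F => ρ (tvW W u hu c)) y := by
    intro x y
    show ρ (tvW W u hu (x + y)) = ρ (tvW W u hu x) * ρ (tvW W u hu y)
    rw [tvW_add, map_mul]
  have h20 : (fun c : F => ρ (tvW W v hv c)) 0 = 1 := by
    show ρ (tvW W v hv 0) = 1
    rw [tvW_zero, map_one]
  have h2 : ∀ x y : F, (fun c : F => ρ (tvW W v hv c)) (x + y) =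
      (fun c : F => ρ (tvW W v hv c)) x * (fun c : F => ρ (tvW W v hv c)) y := by
    intro x y
    show ρ (tvW W v hv (x + y)) = ρ (tvW W v hv x) * ρ (tvW W v hv y)
    rw [tvW_add, map_mul]
  have hE : ∀ x y : F, eiW W u ((x + y) • v) hu (W.smul_mem _ hv) 0 =
      eiW W u (x • v) hu (W.smul_mem _ hv) 0 * eiW W u (y • v) hu (W.smul_mem _ hv) 0 :=
    fun x y => eiW_smul_add47 W u v hu hv huv x y
  have hE0 : eiW W u ((0 : F) • v) hu (W.smul_mem _ hv) 0 = 1 := by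
    have h := hE 0 0
    have h' : eiW W u ((0 + 0 : F) • v) hu (W.smul_mem _ hv) 0 =
        eiW W u ((0 : F) • v) hu (W.smul_mem _ hv) 0 :=
      eiW_congr47 W u hu (by rw [add_zero]) _ rfl
    rw [h'] at h
    have h2 : eiW W u ((0 : F) • v) hu (W.smul_mem _ hv) 0 * 1 =
        eiW W u ((0 : F) • v) hu (W.smul_mem _ hv) 0 *
          eiW W u ((0 : F) • v) hu (W.smul_mem _ hv) 0 := by
      rw [mul_one]
      exact h
    exact (mul_left_cancel h2).symm
  have h30 : (fun c : F => ρ (eiW W u (c • v) hu (W.smul_mem c hv) 0)) 0 = 1 := by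
    show ρ (eiW W u ((0 : F) • v) hu (W.smul_mem _ hv) 0) = 1
    rw [hE0, map_one]
  have h3 : ∀ x y : F, (fun c : F => ρ (eiW W u (c • v) hu (W.smul_mem c hv) 0)) (x + y) =
      (fun c : F => ρ (eiW W u (c • v) hu (W.smul_mem c hv) 0)) x *
        (fun c : F => ρ (eiW W u (c • v) hu (W.smul_mem c hv) 0)) y := by
    intro x y
    show ρ (eiW W u ((x + y) • v) hu (W.smul_mem _ hv) 0) =
      ρ (eiW W u (x • v) hu (W.smul_mem _ hv) 0) * ρ (eiW W u (y • v) hu (W.smul_mem _ hv) 0)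
    rw [hE, map_mul]
  have h12 : ∀ x y : F, (fun c : F => ρ (tvW W u hu c)) x * (fun c : F => ρ (tvW W v hv c)) y =
      (fun c : F => ρ (tvW W v hv c)) y * (fun c : F => ρ (tvW W u hu c)) x := by
    intro x y
    show ρ (tvW W u hu x) * ρ (tvW W v hv y) = ρ (tvW W v hv y) * ρ (tvW W u hu x)
    rw [← map_mul, ← map_mul, tvW_comm_of_orth47 W u v hu hv huv x y]
  have h13 : ∀ x y : F, (fun c : F => ρ (tvW W u hu c)) x *
      (fun c : F => ρ (eiW W u (c • v) hu (W.smul_mem c hv) 0)) y =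
      (fun c : F => ρ (eiW W u (c • v) hu (W.smul_mem c hv) 0)) y *
        (fun c : F => ρ (tvW W u hu c)) x := by
    intro x y
    show ρ (tvW W u hu x) * ρ (eiW W u (y • v) hu (W.smul_mem _ hv) 0) =
      ρ (eiW W u (y • v) hu (W.smul_mem _ hv) 0) * ρ (tvW W u hu x)
    rw [← map_mul, ← map_mul, eiW_comm_tvW_of_orth47 W u (y • v) u hu (W.smul_mem _ hv) hu
      (sympForm_self u) (hyu y) 0 x]
  have h23 : ∀ x y : F, (fun c : F => ρ (tvW W v hv c)) x *
      (fun c : F => ρ (eiW W u (c • v) hu (W.smul_mem c hv) 0)) y =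
      (fun c : F => ρ (eiW W u (c • v) hu (W.smul_mem c hv) 0)) y *
        (fun c : F => ρ (tvW W v hv c)) x := by
    intro x y
    show ρ (tvW W v hv x) * ρ (eiW W u (y • v) hu (W.smul_mem _ hv) 0) =
      ρ (eiW W u (y • v) hu (W.smul_mem _ hv) 0) * ρ (tvW W v hv x)
    rw [← map_mul, ← map_mul, eiW_comm_tvW_of_orth47 W u (y • v) v hu (W.smul_mem _ hv) hv
      huv (hyv y) 0 x]
  obtain ⟨ψ₁, ψ₂, ψ₃, x, hx0, hx1, hx2, hx3⟩ :=
    exists_simul_eigen3 _ _ _ h10 h1 h20 h2 h30 h3 h12 h13 h23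
  obtain ⟨a, ha⟩ := Cfsg.Agent.Helper76.SPrep.exists_eq_mulShift ψ₀ hψ₀ ψ₁
  obtain ⟨c, hc⟩ := Cfsg.Agent.Helper76.SPrep.exists_eq_mulShift ψ₀ hψ₀ ψ₂
  obtain ⟨b, hb⟩ := Cfsg.Agent.Helper76.SPrep.exists_eq_mulShift ψ₀ hψ₀ ψ₃
  refine ⟨x, a, b, c, hx0, fun r s t => ?_⟩
  have e1 : ρ (tvW W u hu (t * r ^ 2)) x = ψ₁ (t * r ^ 2) • x := hx1 _
  have e2 : ρ (tvW W v hv (t * s ^ 2)) x = ψ₂ (t * s ^ 2) • x := hx2 _
  have e3 : ρ (eiW W u ((t * r * s) • v) hu (W.smul_mem _ hv) 0) x = ψ₃ (t * r * s) • x := hx3 _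
  rw [tvW_add_smul47 W u v hu hv huv r s t, map_mul, map_mul,
    Module.End.mul_apply, Module.End.mul_apply, e3, map_smul, e2, map_smul, map_smul, e1,
    smul_smul, smul_smul, ha, hb, hc, ← AddChar.map_add_eq_mul, ← AddChar.map_add_eq_mul]
  congr 2
  ring

end A3

end Cfsg.Agent.Helper47.SPrep
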