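import Mathlib

/-!
# S2289 piece (COMB) for helper84: the combinatorics of the propagation on the field `𝔽_{q²}`

The invariant of a pair `(a, b)` with `b + bar b + a bar a = 0`, `a ≠ 0`, is the norm one element `-b / bar b ≠ 1`;
it is fixed by the torus rule `hH` and determines `b` given `a`.  Pairs with the invariant `y₀` of the seeds are torus
conjugates of a seed (`COMB_base`); the rule `hR` passes from the invariant `y₀ ^ n` to `y₀ ^ (n + 1)` (`COMB_step`).
-/

set_option autoImplicit false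

namespace Cfsg.Agent.Helper47.SU3P

section helpers

variable {K : Type*} [Field K]


theorem COMB_det (bar : K →+* K) {b b' t : K} (ht : t ≠ 0) (h1 : b + bar b = t) (h2 : b' + bar b' = t)
    (hinv : b * bar b' = b' * bar b) : b = b' := by
  have h : b * t = b' * t := by
    calc b * t = b * b' + b * bar b' := by rw [← h2]; ring
      _ = b' * b + b' * bar b := by rw [hinv]; ring
      _ = b' * t := by rw [← h1]; ring
  exact mul_right_cancel₀ ht h

theorem COMB_pow1 {q : ℕ} (hpow : ∀ x : K, x ^ (q ^ 2) = x) (x : K) :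
    ((x ^ (2 * q + 1)) ^ q) ^ 2 = x ^ 3 * x ^ (2 * q + 1) := by
  have e : ((x ^ (2 * q + 1)) ^ q) ^ 2 = (x ^ (q ^ 2)) ^ 4 * x ^ (2 * q) := by ring
  rw [e, hpow]; ring

theorem COMB_pow2 {q : ℕ} (hpow : ∀ x : K, x ^ (q ^ 2) = x) (x : K) :
    x ^ (2 * q + 1) * (x ^ (2 * q + 1)) ^ q = (x * x ^ q) ^ 3 := by
  have e : x ^ (2 * q + 1) * (x ^ (2 * q + 1)) ^ q = (x ^ (q ^ 2)) ^ 2 * x ^ (3 * q + 1) := by ring
  rw [e, hpow]; ring

/-- the base case: pairs with the invariant of the seeds are torus conjugates of a seed -/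
theorem COMB_base (bar : K →+* K) (hb : ∀ x, bar (bar x) = x) {q : ℕ} (hpow : ∀ x : K, x ^ (q ^ 2) = x)
    (hq : ∀ x, bar x = x ^ q) {ζ a₀ b₀ : K} (hζ : ∀ x : K, x ≠ 0 → ∃ n : ℕ, ζ ^ n = x)
    (ha₀ : a₀ ≠ 0) (h₀ : b₀ + bar b₀ + a₀ * bar a₀ = 0) (P : K → K → Prop)
    (hH : ∀ a b l : K, l ≠ 0 → P a b → P (a * bar l ^ 2 / l) (l * bar l * b))
    (hS : ∀ j : ℕ, j < 3 → P (ζ ^ j * a₀) ((ζ * bar ζ) ^ j * b₀))
    (a b : K) (ha : a ≠ 0) (hab : b + bar b + a * bar a = 0) (hinv : b * bar b₀ = b₀ * bar b) : P a b := by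
  have hNa0 : a * bar a ≠ 0 := mul_ne_zero ha (fun h => ha ((map_eq_zero bar).1 h))
  obtain ⟨n, hn⟩ := hζ (a / a₀) (div_ne_zero ha ha₀)
  obtain ⟨k, hk⟩ : ∃ k : ℕ, k = n / 3 := ⟨_, rfl⟩
  obtain ⟨j, hj⟩ : ∃ j : ℕ, j = n % 3 := ⟨_, rfl⟩
  have hj3 : j < 3 := by rw [hj]; exact Nat.mod_lt _ (by norm_num)
  have hnkj : n = 3 * k + j := by rw [hk, hj]; exact (Nat.div_add_mod n 3).symm
  obtain ⟨x, hx⟩ : ∃ x : K, x = ζ ^ k := ⟨_, rfl⟩
  have hx0 : x ≠ 0 := by
    by_cases hζ0 : ζ = 0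
    · have hn0 : n = 0 := by
        by_contra hne
        rw [hζ0, zero_pow hne] at hn
        exact (div_ne_zero ha ha₀) hn.symm
      have hk0 : k = 0 := by rw [hk, hn0]
      rw [hx, hk0, pow_zero]
      exact one_ne_zero
    · rw [hx]; exact pow_ne_zero _ hζ0
  obtain ⟨l, hl⟩ : ∃ l : K, l = x ^ (2 * q + 1) := ⟨_, rfl⟩
  have hl0 : l ≠ 0 := by rw [hl]; exact pow_ne_zero _ hx0
  have hl3 : bar l ^ 2 / l = x ^ 3 := by
    rw [hq l, hl, COMB_pow1 hpow x, mul_div_assoc, div_self (pow_ne_zero _ hx0), mul_one]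
  have hlN : l * bar l = (x * bar x) ^ 3 := by
    rw [hq l, hq x, hl, COMB_pow2 hpow x]
  have ha_eq : a = ζ ^ j * a₀ * x ^ 3 := by
    have h1 : a = a₀ * ζ ^ n := by rw [hn, mul_div_cancel₀ _ ha₀]
    rw [h1, hnkj, hx]
    ring
  have hP := hH (ζ ^ j * a₀) ((ζ * bar ζ) ^ j * b₀) l hl0 (hS j hj3)
  rw [mul_div_assoc, hl3, ← ha_eq] at hP
  obtain ⟨c, hc⟩ : ∃ c : K, c = l * bar l * (ζ * bar ζ) ^ j := ⟨_, rfl⟩
  have hcbar : bar c = c := by
    rw [hc, map_mul, map_mul, map_pow, map_mul, hb, hb]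
    ring
  have hb'' : l * bar l * ((ζ * bar ζ) ^ j * b₀) = c * b₀ := by rw [hc]; ring
  rw [hb''] at hP
  have hNa : a * bar a = c * (a₀ * bar a₀) := by
    rw [ha_eq, hc, hlN]
    simp only [map_mul, map_pow]
    ring
  have hbeq : b = c * b₀ := by
    apply COMB_det bar (t := -(a * bar a)) (neg_ne_zero.2 hNa0)
    · linear_combination hab
    · rw [map_mul, hcbar, hNa]
      linear_combination c * h₀
    · rw [map_mul, hcbar]
      linear_combination c * hinv
  rw [hbeq]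
  exact hP


/-- the induction on the exponent of the invariant -/
theorem COMB_step (bar : K →+* K) (hb : ∀ x, bar (bar x) = x) {ε b₀ y₀ : K} (hε : ε ≠ 0) (hεb : bar ε = -ε)
    (hy₀d : y₀ * bar b₀ = -b₀) (hy₀ne : y₀ ≠ 0) (hy₀N : y₀ * bar y₀ = 1)
    (P : K → K → Prop)
    (hR : ∀ a b s : K, b + bar b + a * bar a = 0 → b ≠ 0 → s ≠ 0 → bar s = -s → P a b →
      P (a / (ε * bar b)) (-(b + s) / (ε ^ 2 * b * s)) → P a (b + s))
    (base : ∀ a b : K, a ≠ 0 → b + bar b + a * bar a = 0 → b * bar b₀ = b₀ * bar b → P a b) :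
    ∀ n : ℕ, 1 ≤ n → ∀ a b : K, a ≠ 0 → b + bar b + a * bar a = 0 →
      b = -(y₀ ^ n) * bar b → P a b := by
  have hbar0 : ∀ x : K, bar x = 0 ↔ x = 0 := fun x => map_eq_zero bar
  have hN : ∀ a : K, a ≠ 0 → a * bar a ≠ 0 := fun a ha => mul_ne_zero ha (fun h => ha ((hbar0 a).1 h))
  have hbne : ∀ a b : K, a ≠ 0 → b + bar b + a * bar a = 0 → b ≠ 0 := by
    intro a b ha hab hb0
    rw [hb0, map_zero, add_zero, zero_add] at hab
    exact hN a ha hab
  intro n hn
  induction n, hn using Nat.le_induction with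
  | base =>
    intro a b ha hab hinv
    apply base a b ha hab
    rw [pow_one] at hinv
    linear_combination (bar b₀) * hinv - (bar b) * hy₀d
  | succ n hn ih =>
    intro a b₂ ha hab₂ hinv₂
    by_cases h1 : y₀ ^ n = 1
    · apply base a b₂ ha hab₂
      rw [pow_succ, h1, one_mul] at hinv₂
      linear_combination (bar b₀) * hinv₂ - (bar b₂) * hy₀d
    · obtain ⟨y, hy⟩ : ∃ y : K, y = y₀ ^ n := ⟨_, rfl⟩
      rw [← hy] at h1 ih
      have hyne : y ≠ 0 := by rw [hy]; exact pow_ne_zero _ hy₀ne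
      have hyN : y * bar y = 1 := by
        rw [hy, map_pow, ← mul_pow, hy₀N, one_pow]
      have hybar : bar y = y⁻¹ := eq_inv_of_mul_eq_one_right hyN
      have h1y : 1 - y ≠ 0 := fun h => h1 (sub_eq_zero.1 h).symm
      obtain ⟨Na, hNa⟩ : ∃ Na : K, Na = a * bar a := ⟨_, rfl⟩
      have hNa0 : Na ≠ 0 := by rw [hNa]; exact hN a ha
      have hNabar : bar Na = Na := by rw [hNa, map_mul, hb]; ring
      obtain ⟨b, hbdef⟩ : ∃ b : K, b = y * Na / (1 - y) := ⟨_, rfl⟩
      have hbbar : bar b = -Na / (1 - y) := by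
        rw [hbdef, map_div₀, map_mul, map_sub, map_one, hybar, hNabar]
        field_simp
        ring
      have hab : b + bar b + a * bar a = 0 := by
        rw [hbbar, hbdef, ← hNa]
        field_simp
        ring
      have hinv : b = -y * bar b := by
        rw [hbbar, hbdef]
        field_simp
      have hb0 : b ≠ 0 := hbne a b ha hab
      have hc0 : bar b ≠ 0 := fun h => hb0 ((hbar0 b).1 h)
      have hPab : P a b := ih a b ha hab hinv
      obtain ⟨s, hs⟩ : ∃ s : K, s = b₂ - b := ⟨_, rfl⟩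
      have hsb : bar s = -s := by
        rw [hs, map_sub]
        linear_combination hab₂ - hab
      have hb₂0 : b₂ ≠ 0 := hbne a b₂ ha hab₂
      have hc₂0 : bar b₂ ≠ 0 := fun h => hb₂0 ((hbar0 b₂).1 h)
      have E2 : b₂ = -(y * y₀) * bar b₂ := by
        have h := hinv₂
        rw [pow_succ, ← hy] at h
        exact h
      have hs0 : s ≠ 0 := by
        intro h
        have hbb : b₂ = b := by rw [hs] at h; exact sub_eq_zero.1 h
        rw [hbb] at E2
        have : y * bar b * (y₀ - 1) = 0 := by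
          linear_combination E2 - hinv
        rcases mul_eq_zero.1 this with h' | h'
        · exact (mul_ne_zero hyne hc0) h'
        · apply h1
          have : y₀ = 1 := sub_eq_zero.1 h'
          rw [hy, this, one_pow]
      have hbs : b + s = b₂ := by rw [hs]; ring
      have key := hR a b s hab hb0 hs0 hsb hPab
      rw [hbs] at key
      apply key
      have hεbar2 : bar ε ^ 2 = ε ^ 2 := by rw [hεb]; ring
      have hbar2 : bar b₂ = bar b - s := by
        have : bar b₂ = bar (b + s) := by rw [hbs]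
        rw [this, map_add, hsb]
        ring
      have hbarb' : bar (-b₂ / (ε ^ 2 * b * s)) = bar b₂ / (ε ^ 2 * bar b * s) := by
        rw [map_div₀, map_neg, map_mul, map_mul, map_pow, hεbar2, hsb]
        field_simp
      have hbara' : bar (a / (ε * bar b)) = -bar a / (ε * b) := by
        rw [map_div₀, map_mul, hb, hεb]
        field_simp
      apply base
      · exact div_ne_zero ha (mul_ne_zero hε hc0)
      · rw [hbarb', hbara', hbar2]
        field_simp
        linear_combination (-s) * hab + (bar b) * hbs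
      · rw [hbarb']
        rw [div_mul_eq_mul_div, mul_div_assoc', div_eq_div_iff (mul_ne_zero (mul_ne_zero (pow_ne_zero 2 hε) hb0) hs0)
          (mul_ne_zero (mul_ne_zero (pow_ne_zero 2 hε) hc0) hs0)]
        linear_combination (-(bar b₀) * ε ^ 2 * bar b * s) * E2 + (-b₀ * bar b₂ * ε ^ 2 * s) * hinv
          + (y * bar b₂ * ε ^ 2 * bar b * s) * hy₀d

end helpers

section Dd

variable {K : Type*} [Field K] (bar : K →+* K) (hb : ∀ x, bar (bar x) = x)
include hb

/-- (COMB) the combinatorics of the propagation on the field -/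
theorem comb [Fintype K] {q : ℕ} (hK : Fintype.card K = q ^ 2) (hq : ∀ x, bar x = x ^ q)
    {ε ζ a₀ b₀ : K} (hε : ε ≠ 0) (hεb : bar ε = -ε) (hζ : ∀ x : K, x ≠ 0 → ∃ n : ℕ, ζ ^ n = x)
    (ha₀ : a₀ ≠ 0) (h₀ : b₀ + bar b₀ + a₀ * bar a₀ = 0)
    (hy₀ : ∀ y : K, y * bar y = 1 → ∃ n : ℕ, (-(b₀ / bar b₀)) ^ n = y)
    (P : K → K → Prop)
    (hH : ∀ a b l : K, l ≠ 0 → P a b → P (a * bar l ^ 2 / l) (l * bar l * b))
    (hZ : ∀ s : K, bar s = -s → P 0 s)
    (hS : ∀ j : ℕ, j < 3 → P (ζ ^ j * a₀) ((ζ * bar ζ) ^ j * b₀))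
    (hR : ∀ a b s : K, b + bar b + a * bar a = 0 → b ≠ 0 → s ≠ 0 → bar s = -s → P a b →
      P (a / (ε * bar b)) (-(b + s) / (ε ^ 2 * b * s)) → P a (b + s)) :
    ∀ a b : K, b + bar b + a * bar a = 0 → P a b := by
  have hpow : ∀ x : K, x ^ (q ^ 2) = x := fun x => by rw [← hK]; exact FiniteField.pow_card x
  have hbar0 : ∀ x : K, bar x = 0 ↔ x = 0 := fun x => map_eq_zero bar
  have hN : ∀ a : K, a ≠ 0 → a * bar a ≠ 0 := fun a ha => mul_ne_zero ha (fun h => ha ((hbar0 a).1 h))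
  have hbne : ∀ a b : K, a ≠ 0 → b + bar b + a * bar a = 0 → b ≠ 0 := by
    intro a b ha hab hb0
    rw [hb0, map_zero, add_zero, zero_add] at hab
    exact hN a ha hab
  have hb₀ : b₀ ≠ 0 := hbne a₀ b₀ ha₀ h₀
  have hd₀ : bar b₀ ≠ 0 := fun h => hb₀ ((hbar0 b₀).1 h)
  have hy₀d : (-(b₀ / bar b₀)) * bar b₀ = -b₀ := by
    rw [neg_mul, div_mul_cancel₀ _ hd₀]
  have hy₀ne : (-(b₀ / bar b₀)) ≠ 0 := neg_ne_zero.2 (div_ne_zero hb₀ hd₀)
  have hy₀N : (-(b₀ / bar b₀)) * bar (-(b₀ / bar b₀)) = 1 := by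
    rw [map_neg, map_div₀, hb]
    field_simp
  have base := COMB_base bar hb hpow hq hζ ha₀ h₀ P hH hS
  have step := COMB_step bar hb hε hεb hy₀d hy₀ne hy₀N P hR base
  intro a b hab
  by_cases ha : a = 0
  · rw [ha, zero_mul, add_zero] at hab
    rw [ha]
    exact hZ b (by linear_combination hab)
  · have hb0 : b ≠ 0 := hbne a b ha hab
    have hc0 : bar b ≠ 0 := fun h => hb0 ((hbar0 b).1 h)
    have hyN : (-(b / bar b)) * bar (-(b / bar b)) = 1 := by
      rw [map_neg, map_div₀, hb]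
      field_simp
    obtain ⟨n, hn⟩ := hy₀ _ hyN
    have hn0 : n ≠ 0 := by
      intro h0
      rw [h0, pow_zero] at hn
      have h2 : b / bar b = -1 := by linear_combination hn
      rw [div_eq_iff hc0] at h2
      apply hN a ha
      linear_combination hab - h2
    apply step n (Nat.one_le_iff_ne_zero.2 hn0) a b ha hab
    rw [hn, neg_neg, div_mul_cancel₀ _ hc0]

end Dd

end Cfsg.Agent.Helper47.SU3P
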