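import Mathlib
import Cfsg.Agent.Helper88.SimsD.Defs

/-!
# S2772 farm (helper88), leaf (NZ2): a nontrivial finite group has `J ≠ 1` (helper47)
-/

set_option autoImplicit false

namespace Cfsg.Agent.Helper47.SimsD

open Cfsg.Agent.Helper88.SimsD

/-- In a finite group the set of abelian subgroups of `T` of largest order is nonempty. -/
theorem NZ2_exists_maxAb {H : Type*} [Group H] [Finite H] (T : Subgroup H) :
    ∃ A : Subgroup H, A ∈ maxAb T := by
  have : Nonempty {B : Subgroup H // B ≤ T ∧ IsMulCommutative B} :=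
    ⟨⟨⊥, bot_le, inferInstance⟩⟩
  obtain ⟨A, hA⟩ := Finite.exists_max
    (fun B : {B : Subgroup H // B ≤ T ∧ IsMulCommutative B} => Nat.card (B : Subgroup H))
  exact ⟨A.1, A.2.1, A.2.2, fun B hB hBc => hA ⟨B, hB, hBc⟩⟩

/-- (NZ2) a nontrivial finite group has `J ≠ 1`. -/
theorem sSup_maxAb_ne_bot {H : Type*} [Group H] [Finite H] (T : Subgroup H) (hT1 : T ≠ ⊥) :
    sSup (maxAb T) ≠ ⊥ := by
  obtain ⟨A, hA⟩ := NZ2_exists_maxAb T
  obtain ⟨t, ht1⟩ := (Subgroup.ne_bot_iff_exists_ne_one).mp hT1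
  have ht1' : (t : H) ≠ 1 := fun h => ht1 (Subtype.ext h)
  have hle : Nat.card (Subgroup.zpowers (t : H)) ≤ Nat.card A :=
    hA.2.2 (Subgroup.zpowers (t : H)) (by
      rw [Subgroup.zpowers_le]; exact t.2) inferInstance
  intro hbot
  have hAbot : A = ⊥ := by
    rw [eq_bot_iff, ← hbot]
    exact le_sSup hA
  rw [hAbot, Subgroup.card_bot] at hle
  have h1 : Subgroup.zpowers (t : H) = ⊥ := by
    rw [← Subgroup.card_eq_one]
    have hpos : 0 < Nat.card (Subgroup.zpowers (t : H)) := Nat.card_pos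
    omega
  rw [Subgroup.zpowers_eq_bot] at h1
  exact ht1' h1

end Cfsg.Agent.Helper47.SimsD
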