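import Mathlib
import Cfsg.Agent.Helper88.SimsD.Defs

/-!
# S2772 farm (helper88), leaf (TR1): `Ω₁ Z` commutes with injective maps (helper47)
-/

set_option autoImplicit false

namespace Cfsg.Agent.Helper47.SimsD

open Cfsg.Agent.Helper88.SimsD

/-- (TR1) `Ω₁ Z` commutes with injective maps. -/
theorem omegaZ_map {Γ H : Type*} [Group Γ] [Group H] (f : Γ →* H) (hf : Function.Injective f)
    (S : Subgroup Γ) : omegaZ (S.map f) = (omegaZ S).map f := by
  ext w
  constructor
  · rintro ⟨hw, hwc, hw2⟩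
    obtain ⟨v, hv, rfl⟩ := Subgroup.mem_map.mp hw
    refine Subgroup.mem_map.mpr ⟨v, ⟨hv, fun y hy => ?_, ?_⟩, rfl⟩
    · apply hf
      rw [map_mul, map_mul]
      exact hwc (f y) (Subgroup.mem_map_of_mem f hy)
    · apply hf
      rw [map_pow, map_one]
      exact hw2
  · intro hw
    obtain ⟨v, ⟨hv, hvc, hv2⟩, rfl⟩ := Subgroup.mem_map.mp hw
    refine ⟨Subgroup.mem_map_of_mem f hv, fun y hy => ?_, ?_⟩
    · obtain ⟨y', hy', rfl⟩ := Subgroup.mem_map.mp hy
      rw [← map_mul, ← map_mul, hvc y' hy']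
    · rw [← map_pow, hv2, map_one]

end Cfsg.Agent.Helper47.SimsD
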