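import Mathlib.GroupTheory.IsSubnormal
import Mathlib.GroupTheory.Nilpotent
import Mathlib.GroupTheory.PGroup
import Mathlib.GroupTheory.Sylow

set_option autoImplicit false

namespace Cfsg.Agent.Helper47

variable {G : Type*} [Group G]

/-- In a finite group, an intersection of subnormal subgroups is subnormal. -/
theorem isSubnormal_sInf [Finite G] (S : Set (Subgroup G)) (h : ∀ X ∈ S, X.IsSubnormal) :
    (sInf S).IsSubnormal := by
  have hfin : S.Finite := Set.toFinite S
  induction S, hfin using Set.Finite.induction_on with
  | empty => rw [sInf_empty]; exact Subgroup.IsSubnormal.top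
  | @insert a s _ _ ih =>
    rw [sInf_insert]
    exact (h a (Set.mem_insert a s)).inf (ih fun X hX => h X (Set.mem_insert_of_mem a hX))

/-- In a finite group with the normalizer condition every subgroup is subnormal. -/
theorem isSubnormal_of_normalizerCondition [Finite G] (hnc : NormalizerCondition G)
    (S : Subgroup G) : S.IsSubnormal := by
  induction S using WellFoundedGT.induction with
  | ind S ih =>
    by_cases hS : S = ⊤
    · subst hS; exact Subgroup.IsSubnormal.top
    · have hlt : S < Subgroup.normalizer (S : Set G) := hnc S (lt_top_iff_ne_top.mpr hS)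
      exact Subgroup.IsSubnormal.step S _ hlt.le (ih _ hlt) Subgroup.normal_in_normalizer

/-- Every subgroup of a finite `p`-group is subnormal. -/
theorem isSubnormal_of_isPGroup [Finite G] {p : ℕ} [Fact p.Prime] (hG : IsPGroup p G)
    (S : Subgroup G) : S.IsSubnormal := by
  have : Group.IsNilpotent G := hG.isNilpotent
  exact isSubnormal_of_normalizerCondition Group.normalizerCondition_of_isNilpotent S

end Cfsg.Agent.Helper47
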