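import Cfsg.Agent.Helper6.SzCl1

/-!
# S2457 piece (A4) for helper6: the trace of `u(a,b) w` in the Suzuki group
-/

set_option autoImplicit false

namespace Cfsg.Agent.Helper47.SzCl

open Cfsg.Agent.Helper6

variable {F : Type*} [Field F] [Fintype F] {m : ℕ}

/-- (A4) the trace of `u(a,b) w` -/
theorem szTr_sU_mul_sW (hF : Fintype.card F = 2 ^ (2 * m + 1)) (a b : F) :
    szTr (sU hF a b * sW hF) =
      a * b + b ^ (2 ^ (m + 1)) + a ^ (2 ^ (m + 1) + 2) + a ^ (2 ^ (m + 1)) := by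
  have hmat : (((sU hF a b * sW hF : Cfsg.Sz F m) : Matrix.SpecialLinearGroup (Fin 4) F) :
      Matrix (Fin 4) (Fin 4) F) =
      uMat a b (a ^ (2 ^ (m + 1))) (ovF F m a b) * tMat F := by
    rw [Subgroup.coe_mul, coe_sU, coe_sW, Matrix.SpecialLinearGroup.coe_mul]
    rfl
  unfold szTr
  rw [hmat]
  simp only [Matrix.trace, Matrix.diag, Fin.sum_univ_four, Matrix.mul_apply, uMat, tMat, ovF]
  simp
  ring

end Cfsg.Agent.Helper47.SzCl
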