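import Cfsg.Agent.Helper6.SzCl1

/-!
# S2457 piece (C1) for helper6: representatives of the classes of the non-identity elements of a
self-centralising subgroup `T` (orbits of `N_G(T)` on `T \ {1}` all have size `|N_G(T) : T|`)
-/

set_option autoImplicit false

namespace Cfsg.Agent.Helper47.SzCl

open Cfsg.Agent.Helper6

/-- the conjugation action of the normalizer of `T` on `T \ {1}` -/
@[reducible] def C1_act {G : Type*} [Group G] (T : Subgroup G) :
    MulAction ↥(Subgroup.normalizer (T : Set G)) {a : G // a ∈ T ∧ a ≠ 1} where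
  smul n a := ⟨(n : G) * a.1 * (n : G)⁻¹, (Subgroup.mem_normalizer_iff.1 n.2 a.1).1 a.2.1, by
    intro h
    apply a.2.2
    have : a.1 = (n : G)⁻¹ * ((n : G) * a.1 * (n : G)⁻¹) * (n : G) := by group
    rw [this, h]; group⟩
  one_smul a := by
    apply Subtype.ext
    change ((1 : ↥(Subgroup.normalizer (T : Set G))) : G) * a.1 *
      ((1 : ↥(Subgroup.normalizer (T : Set G))) : G)⁻¹ = a.1
    simp
  mul_smul n n' a := by
    apply Subtype.ext
    change ((n * n' : ↥(Subgroup.normalizer (T : Set G))) : G) * a.1 *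
      ((n * n' : ↥(Subgroup.normalizer (T : Set G))) : G)⁻¹ =
      (n : G) * ((n' : G) * a.1 * (n' : G)⁻¹) * (n : G)⁻¹
    rw [Subgroup.coe_mul]; group

theorem exists_conj_reps {G : Type*} [Group G] [Finite G] (T : Subgroup G) (k : ℕ)
    (hC : ∀ a ∈ T, a ≠ 1 → Subgroup.centralizer ({a} : Set G) = T)
    (hN : Nat.card (Subgroup.normalizer (T : Set G)) = k * Nat.card T) :
    ∃ R : Finset G, (∀ ρ ∈ R, ρ ∈ T ∧ ρ ≠ 1) ∧ k * R.card = Nat.card T - 1 ∧
      ∀ a ∈ T, a ≠ 1 → ∃ ρ ∈ R, IsCj a ρ := by
  classical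
  letI : MulAction ↥(Subgroup.normalizer (T : Set G)) {a : G // a ∈ T ∧ a ≠ 1} := C1_act T
  have hsmul : ∀ (n : ↥(Subgroup.normalizer (T : Set G))) (a : {a : G // a ∈ T ∧ a ≠ 1}),
      ((n • a : {a : G // a ∈ T ∧ a ≠ 1}) : G) = (n : G) * a.1 * (n : G)⁻¹ := fun _ _ => rfl
  haveI : Fintype G := Fintype.ofFinite G
  haveI : Fintype ↥(Subgroup.normalizer (T : Set G)) := Fintype.ofFinite _
  haveI : Fintype {a : G // a ∈ T ∧ a ≠ 1} := Fintype.ofFinite _
  haveI : Fintype (Quotient (MulAction.orbitRel ↥(Subgroup.normalizer (T : Set G))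
    {a : G // a ∈ T ∧ a ≠ 1})) := Fintype.ofFinite _
  -- the stabilizers have order `|T|`
  have hstab : ∀ a : {a : G // a ∈ T ∧ a ≠ 1},
      Nat.card ↥(MulAction.stabilizer ↥(Subgroup.normalizer (T : Set G)) a) = Nat.card ↥T := by
    intro a
    have hTN : T ≤ Subgroup.normalizer (T : Set G) := Subgroup.le_normalizer
    have hbij : Function.Bijective (fun s : ↥(MulAction.stabilizer
        ↥(Subgroup.normalizer (T : Set G)) a) =>
        (⟨((s : ↥(Subgroup.normalizer (T : Set G))) : G), by
          have hs := s.2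
          rw [MulAction.mem_stabilizer_iff] at hs
          have hs' : ((s : ↥(Subgroup.normalizer (T : Set G))) : G) * a.1 *
              ((s : ↥(Subgroup.normalizer (T : Set G))) : G)⁻¹ = a.1 := by
            rw [← hsmul, hs]
          have hcen : ((s : ↥(Subgroup.normalizer (T : Set G))) : G) ∈
              Subgroup.centralizer ({a.1} : Set G) := by
            rw [Subgroup.mem_centralizer_iff]
            intro h hh
            rw [Set.mem_singleton_iff] at hh
            rw [hh]
            calc a.1 * ((s : ↥(Subgroup.normalizer (T : Set G))) : G)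
                = (((s : ↥(Subgroup.normalizer (T : Set G))) : G) * a.1 *
                  ((s : ↥(Subgroup.normalizer (T : Set G))) : G)⁻¹) *
                  ((s : ↥(Subgroup.normalizer (T : Set G))) : G) := by rw [hs']
              _ = ((s : ↥(Subgroup.normalizer (T : Set G))) : G) * a.1 := by group
          rw [hC a.1 a.2.1 a.2.2] at hcen
          exact hcen⟩ : ↥T)) := by
      constructor
      · intro s s' h
        apply Subtype.ext
        apply Subtype.ext
        exact congrArg (fun t : ↥T => (t : G)) h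
      · rintro ⟨x, hx⟩
        refine ⟨⟨⟨x, hTN hx⟩, ?_⟩, rfl⟩
        rw [MulAction.mem_stabilizer_iff]
        apply Subtype.ext
        rw [hsmul]
        change x * a.1 * x⁻¹ = a.1
        have hcomm : a.1 * x = x * a.1 := by
          have : x ∈ Subgroup.centralizer ({a.1} : Set G) := by
            rw [hC a.1 a.2.1 a.2.2]; exact hx
          rw [Subgroup.mem_centralizer_iff] at this
          exact this a.1 rfl
        rw [← hcomm]; group
    exact Nat.card_eq_of_bijective _ hbij
  have hTpos : 0 < Nat.card ↥T := Nat.card_pos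
  have hcard := MulAction.card_eq_sum_card_group_div_card_stabilizer
    ↥(Subgroup.normalizer (T : Set G)) {a : G // a ∈ T ∧ a ≠ 1}
  have hterm : ∀ ω : Quotient (MulAction.orbitRel ↥(Subgroup.normalizer (T : Set G))
      {a : G // a ∈ T ∧ a ≠ 1}),
      Fintype.card ↥(Subgroup.normalizer (T : Set G)) /
        Fintype.card ↥(MulAction.stabilizer ↥(Subgroup.normalizer (T : Set G)) ω.out) = k := by
    intro ω
    rw [← Nat.card_eq_fintype_card, ← Nat.card_eq_fintype_card, hstab, hN,
      Nat.mul_div_cancel _ hTpos]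
  simp_rw [hterm] at hcard
  rw [Finset.sum_const, Finset.card_univ, smul_eq_mul] at hcard
  -- `|T \ {1}| = |T| - 1`
  have hX : Fintype.card {a : G // a ∈ T ∧ a ≠ 1} = Nat.card ↥T - 1 := by
    have hbij : Function.Bijective (fun a : {a : G // a ∈ T ∧ a ≠ 1} =>
        (⟨⟨a.1, a.2.1⟩, fun h => a.2.2 (congrArg Subtype.val h)⟩ : {t : ↥T // t ≠ 1})) := by
      constructor
      · intro a b h
        apply Subtype.ext
        exact congrArg (fun t : {t : ↥T // t ≠ 1} => ((t : ↥T) : G)) h
      · rintro ⟨⟨t, ht⟩, h1⟩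
        exact ⟨⟨t, ht, fun h => h1 (Subtype.ext h)⟩, rfl⟩
    rw [← Nat.card_eq_fintype_card, Nat.card_eq_of_bijective _ hbij]
    haveI : Fintype ↥T := Fintype.ofFinite _
    rw [Nat.card_eq_fintype_card, Fintype.card_subtype_compl, Fintype.card_subtype_eq,
      Nat.card_eq_fintype_card]
  refine ⟨Finset.univ.image (fun ω : Quotient (MulAction.orbitRel
      ↥(Subgroup.normalizer (T : Set G)) {a : G // a ∈ T ∧ a ≠ 1}) => (ω.out : G)), ?_, ?_, ?_⟩
  · intro ρ hρ
    rw [Finset.mem_image] at hρ
    obtain ⟨ω, -, rfl⟩ := hρ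
    exact ω.out.2
  · rw [Finset.card_image_of_injective, Finset.card_univ, ← hX, hcard, mul_comm]
    intro ω ω' h
    have h' : ω.out = ω'.out := Subtype.ext h
    rw [← Quotient.out_eq' ω, ← Quotient.out_eq' ω', h']
  · intro a ha ha1
    let x : {a : G // a ∈ T ∧ a ≠ 1} := ⟨a, ha, ha1⟩
    refine ⟨((Quotient.mk'' x : Quotient (MulAction.orbitRel
      ↥(Subgroup.normalizer (T : Set G)) {a : G // a ∈ T ∧ a ≠ 1})).out : G),
      Finset.mem_image.2 ⟨_, Finset.mem_univ _, rfl⟩, ?_⟩
    have h1 : (Quotient.mk'' x : Quotient (MulAction.orbitRel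
        ↥(Subgroup.normalizer (T : Set G)) {a : G // a ∈ T ∧ a ≠ 1})).out ∈
        MulAction.orbit ↥(Subgroup.normalizer (T : Set G)) x := by
      have := Quotient.mk_out (s := MulAction.orbitRel ↥(Subgroup.normalizer (T : Set G))
        {a : G // a ∈ T ∧ a ≠ 1}) x
      exact this
    obtain ⟨n, hn⟩ := h1
    refine ⟨(n : G), ?_⟩
    have := congrArg Subtype.val hn
    rw [hsmul] at this
    exact this

end Cfsg.Agent.Helper47.SzCl
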