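import Cfsg.Agent.Helper6.SzChar0
import Cfsg.Agent.Helper75.CAFam

/-!
# [MJ] for helper6's S4775 farm (helper47): the families of exceptional characters of the odd tori
-/

set_option autoImplicit false

namespace Cfsg.Agent.Helper47.Szc

open Cfsg Cfsg.Agent.Helper6
open scoped ComplexConjugate

universe u

section Main

variable {G : Type u} [Group G] [Fintype G] {Q H B K₁ K₂ : Subgroup G} {w : G} {T : ℕ}
  [Fintype ↥B]

/-- MJ: the families of exceptional characters -/
theorem szc_family {𝓚 : Finset (IrrCharacter G)} (N : SzKnown Q B T 𝓚) (K : Subgroup G)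
    (hC : ∀ k ∈ K, k ≠ 1 → Subgroup.centralizer ({k} : Set G) ≤ K)
    (hab : ∀ a ∈ K, ∀ b ∈ K, a * b = b * a)
    (hTI : ∀ g : G, g ∉ Subgroup.normalizer (K : Set G) → ∀ k ∈ K, g * k * g⁻¹ ∈ K → k = 1)
    (hidx : (K.subgroupOf (Subgroup.normalizer (K : Set G))).index = 4) (t : ℕ) (ht : 2 ≤ t)
    (hcard : Nat.card K = 4 * t + 1)
    (hoff : ∀ k ∈ K, k ≠ 1 → ∀ g : G, g * k * g⁻¹ ∉ B) :
    ∃ (ε c : ℤ), Helper75.ExcData K ε c ∧
      Nat.card {ψ : IrrCharacter G // (ψ : G → ℂ) ∈ Helper75.excFam K} = t ∧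
      (∀ ψ : IrrCharacter G, (ψ : G → ℂ) ∈ Helper75.excFam K → ψ ∉ 𝓚) ∧
      (∀ ψ ψ' : IrrCharacter G, (ψ : G → ℂ) ∈ Helper75.excFam K →
        (ψ' : G → ℂ) ∈ Helper75.excFam K → ∀ b : ↥B, (ψ : G → ℂ) b = (ψ' : G → ℂ) b) := by
  classical
  let _ : Fintype ↥(Subgroup.normalizer (K : Set G)) := Fintype.ofFinite _
  -- two relevant characters of the normalizer
  have htwo : ∃ ζ ∈ Helper75.tfS K, ∃ ζ' ∈ Helper75.tfS K, ζ ≠ ζ' := by
    let K' := K.subgroupOf (Subgroup.normalizer (K : Set G))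
    have hle : K ≤ Subgroup.normalizer (K : Set G) := Subgroup.le_normalizer
    have hcount := Helper75.tf_count K' (fun χ' hχ' => by
      obtain ⟨k, hk, hne⟩ := hχ'
      exact Helper75.tf_rel_degree hC hab ⟨χ'.2, k, Subgroup.mem_subgroupOf.mp hk, hne⟩)
    have hKK' : Nat.card K' = Nat.card K :=
      Nat.card_congr (Subgroup.subgroupOfEquivOfLe hle).toEquiv
    have hidx' : K'.index = 4 := hidx
    rw [hKK', hidx', hcard] at hcount
    have hfin : Finite {χ' : IrrCharacter ↥(Subgroup.normalizer (K : Set G)) //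
        ∃ k ∈ K', (χ' : ↥(Subgroup.normalizer (K : Set G)) → ℂ) k
          ≠ (χ' : ↥(Subgroup.normalizer (K : Set G)) → ℂ) 1} :=
      @Subtype.finite _ (Helper74.irr_finite) _
    have hnt : Nontrivial {χ' : IrrCharacter ↥(Subgroup.normalizer (K : Set G)) //
        ∃ k ∈ K', (χ' : ↥(Subgroup.normalizer (K : Set G)) → ℂ) k
          ≠ (χ' : ↥(Subgroup.normalizer (K : Set G)) → ℂ) 1} :=
      Finite.one_lt_card_iff_nontrivial.mp (by omega)
    obtain ⟨a, b, hab'⟩ := hnt
    obtain ⟨ka, hka, hnea⟩ := a.2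
    obtain ⟨kb, hkb, hneb⟩ := b.2
    refine ⟨_, ⟨a.1.2, ka, Subgroup.mem_subgroupOf.mp hka, hnea⟩, _,
      ⟨b.1.2, kb, Subgroup.mem_subgroupOf.mp hkb, hneb⟩, ?_⟩
    intro heq
    apply hab'
    exact Subtype.ext (Subtype.ext heq)
  obtain ⟨ε, c, D⟩ := Helper75.ca_exc_package' hC hab hTI htwo
  refine ⟨ε, c, D, ?_, ?_, ?_⟩
  · -- the number of exceptional characters
    have h1 := D.count
    have h2 : Helper75.caE K = 4 := hidx
    rw [h2, hcard] at h1
    have h3 : Helper75.caT K = t := by omega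
    exact h3
  · -- exceptional characters are not among the known ones
    intro ψ hψ hmem
    obtain ⟨_, a, ha, b, hb, ha1, hb1, hne⟩ := hψ
    exact hne (N.off ψ hmem a b (hoff a ha ha1) (hoff b hb hb1))
  · -- the exceptional characters agree on `B`
    intro ψ ψ' hψ hψ' b
    apply D.off _ hψ _ hψ' (b : G)
    by_cases hb1 : (b : G) = 1
    · exact Or.inl hb1
    · right
      intro h hh
      have hk1 : h * (b : G) * h⁻¹ ≠ 1 := by
        intro hc
        apply hb1
        have : (b : G) = h⁻¹ * (h * (b : G) * h⁻¹) * h := by group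
        rw [this, hc]; group
      apply hoff _ hh hk1 h⁻¹
      have : h⁻¹ * (h * (b : G) * h⁻¹) * h⁻¹⁻¹ = (b : G) := by group
      rw [this]
      exact b.2

end Main

end Cfsg.Agent.Helper47.Szc
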