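import Cfsg.Agent.Helper18.WeylHomData
import Cfsg.Agent.Helper18.CoxFaithData

/-!
# TorD farm (helper51, S2372/S2375), piece (FAITH4): the Coxeter group of type `F₄` acts faithfully
on the roots (helper47)
-/

set_option autoImplicit false
set_option maxRecDepth 100000

namespace Cfsg.Agent.Helper47.TorD

open Cfsg Cfsg.Lie Cfsg.Agent.Helper18 Cfsg.Agent.Helper19.Cox

/-- the product of a word of simple reflections is `gp` of the word of indices -/
theorem FAITH_wordProd_eq_gp {n : ℕ} (M : CoxeterMatrix (Fin n)) (ω : List (Fin n)) :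
    M.toCoxeterSystem.wordProd ω = gp M (ω.map Fin.val) := by
  induction ω with
  | nil => simp
  | cons i ω ih =>
    rw [CoxeterSystem.wordProd_cons, ih, List.map_cons, gp_cons, sg_of_lt M i.2]

/-- (FAITH4) the Coxeter group of type `F₄` acts faithfully on the roots -/
theorem faith_F4 (ω : List (Fin 4)) (h : ∀ s < 48, rho chevF4 (ω.map Fin.val) s = s) :
    CoxeterMatrix.F₄.toCoxeterSystem.wordProd ω = 1 := by
  rw [FAITH_wordProd_eq_gp]
  apply rootPhiF4_injective
  rw [map_one]
  apply Equiv.ext
  intro x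
  rw [rootPhiF4_gp, Equiv.Perm.one_apply]
  by_cases hx : x < 48
  · have hw : ∀ i ∈ ω.map Fin.val, i < chevF4.rank := by
      intro i hi
      obtain ⟨j, -, rfl⟩ := List.mem_map.mp hi
      exact j.2
    have h1 := (actW_eq_rho chevF4 reflTabsF4 tabsOK_F4 _ hw x hx).1
    exact h1.trans (h x hx)
  · exact actW_of_not_lt _ _ _ _ _ hx

end Cfsg.Agent.Helper47.TorD
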