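import Cfsg.Agent.Helper18.WeylHomData
import Cfsg.Agent.Helper18.CoxFaithData
import Cfsg.Agent.Helper47.TorDFAITH4

/-!
# TorD farm (helper51, S2372/S2375), piece (FAITH8): the Coxeter group of type `E₈` acts faithfully
on the roots (helper47)
-/

set_option autoImplicit false
set_option maxRecDepth 100000

namespace Cfsg.Agent.Helper47.TorD

open Cfsg Cfsg.Lie Cfsg.Agent.Helper18 Cfsg.Agent.Helper19.Cox

/-- (FAITH8) the Coxeter group of type `E₈` acts faithfully on the roots -/
theorem faith_E8 (ω : List (Fin 8)) (h : ∀ s < 240, rho chevE8 (ω.map Fin.val) s = s) :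
    CoxeterMatrix.E₈.toCoxeterSystem.wordProd ω = 1 := by
  rw [FAITH_wordProd_eq_gp]
  apply rootPhiE8_injective
  rw [map_one]
  apply Equiv.ext
  intro x
  rw [rootPhiE8_gp, Equiv.Perm.one_apply]
  by_cases hx : x < 240
  · have hw : ∀ i ∈ ω.map Fin.val, i < chevE8.rank := by
      intro i hi
      obtain ⟨j, -, rfl⟩ := List.mem_map.mp hi
      exact j.2
    have h1 := (actW_eq_rho chevE8 reflTabsE8 tabsOK_E8 _ hw x hx).1
    exact h1.trans (h x hx)
  · exact actW_of_not_lt _ _ _ _ _ hx

end Cfsg.Agent.Helper47.TorD
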