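import Mathlib
import Cfsg.Agent.Helper99.UNdDefs

/-!
# S5954, pieces (G3), (G4), (G5) (helper47 for helper99, board #7815): block diagonal matrices

`blk hmk B₁ B₂` is unitary if `B₁`, `B₂` are; its characteristic polynomial and its powers.
Also the small calculus of `blk` (`blk_mulVec_inl/inr`, `hermForm_split`) used by piece (G2).
-/

set_option autoImplicit false

namespace Cfsg.Agent.Helper47.UNdG345

open Matrix Polynomial
open Cfsg.Agent.Helper99.UNd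

variable {F : Type*} [Field F]

/-- the index equivalence used by `blk` -/
def eqv {a b n : ℕ} (h : a + b = n) : Fin a ⊕ Fin b ≃ Fin n := finSumFinEquiv.trans (finCongr h)

theorem blk_eq {a b n : ℕ} (h : a + b = n) (B₁ : Matrix (Fin a) (Fin a) F)
    (B₂ : Matrix (Fin b) (Fin b) F) :
    blk h B₁ B₂ = Matrix.reindex (eqv h) (eqv h) (Matrix.fromBlocks B₁ 0 0 B₂) := rfl

theorem blk_mulVec {a b n : ℕ} (h : a + b = n) (B₁ : Matrix (Fin a) (Fin a) F)
    (B₂ : Matrix (Fin b) (Fin b) F) (u : Fin n → F) (s : Fin a ⊕ Fin b) :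
    (blk h B₁ B₂ *ᵥ u) (eqv h s) = (Matrix.fromBlocks B₁ 0 0 B₂ *ᵥ (u ∘ eqv h)) s := by
  rw [blk_eq, Matrix.reindex_apply, Matrix.submatrix_mulVec_equiv]
  simp

theorem blk_mulVec_inl {a b n : ℕ} (h : a + b = n) (B₁ : Matrix (Fin a) (Fin a) F)
    (B₂ : Matrix (Fin b) (Fin b) F) (u : Fin n → F) :
    (blk h B₁ B₂ *ᵥ u) ∘ eqv h ∘ Sum.inl = B₁ *ᵥ (u ∘ eqv h ∘ Sum.inl) := by
  funext i
  show (blk h B₁ B₂ *ᵥ u) (eqv h (Sum.inl i)) = _
  rw [blk_mulVec, Matrix.fromBlocks_mulVec]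
  simp [Function.comp_def]

theorem blk_mulVec_inr {a b n : ℕ} (h : a + b = n) (B₁ : Matrix (Fin a) (Fin a) F)
    (B₂ : Matrix (Fin b) (Fin b) F) (u : Fin n → F) :
    (blk h B₁ B₂ *ᵥ u) ∘ eqv h ∘ Sum.inr = B₂ *ᵥ (u ∘ eqv h ∘ Sum.inr) := by
  funext i
  show (blk h B₁ B₂ *ᵥ u) (eqv h (Sum.inr i)) = _
  rw [blk_mulVec, Matrix.fromBlocks_mulVec]
  simp [Function.comp_def]

/-- the standard Hermitian form splits along the two coordinate blocks -/
theorem hermForm_split {a b n : ℕ} (h : a + b = n) (q : ℕ) (u v : Fin n → F) :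
    Cfsg.hermForm n F q u v =
      Cfsg.hermForm a F q (u ∘ eqv h ∘ Sum.inl) (v ∘ eqv h ∘ Sum.inl) +
        Cfsg.hermForm b F q (u ∘ eqv h ∘ Sum.inr) (v ∘ eqv h ∘ Sum.inr) := by
  unfold Cfsg.hermForm
  rw [← Equiv.sum_comp (eqv h), Fintype.sum_sum_type]
  rfl

/-- (G3) -/
theorem isUM_blk {q : ℕ} {n m k : ℕ} (hmk : m + k = n) (B₁ : Matrix (Fin m) (Fin m) F)
    (B₂ : Matrix (Fin k) (Fin k) F) (h₁ : IsUM m q B₁) (h₂ : IsUM k q B₂) :
    IsUM n q (blk hmk B₁ B₂) := by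
  intro u v
  rw [hermForm_split hmk q (blk hmk B₁ B₂ *ᵥ u) (blk hmk B₁ B₂ *ᵥ v), hermForm_split hmk q u v,
    blk_mulVec_inl, blk_mulVec_inl, blk_mulVec_inr, blk_mulVec_inr, h₁, h₂]

/-- (G4) the characteristic polynomial of a block matrix -/
theorem charpoly_blk {n m k : ℕ} (hmk : m + k = n) (B₁ : Matrix (Fin m) (Fin m) F)
    (B₂ : Matrix (Fin k) (Fin k) F) : (blk hmk B₁ B₂).charpoly = B₁.charpoly * B₂.charpoly := by
  rw [blk_eq, Matrix.charpoly_reindex, Matrix.charpoly_fromBlocks_zero₁₂]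

theorem fromBlocks_diag_pow47 {a b : Type*} [Fintype a] [Fintype b] [DecidableEq a] [DecidableEq b]
    (A : Matrix a a F) (B : Matrix b b F) (k : ℕ) :
    (Matrix.fromBlocks A 0 0 B) ^ k = Matrix.fromBlocks (A ^ k) 0 0 (B ^ k) := by
  induction k with
  | zero => simp [Matrix.fromBlocks_one]
  | succ k ih =>
    rw [pow_succ, ih, Matrix.fromBlocks_multiply, pow_succ, pow_succ]
    simp

/-- (G5) powers of a block matrix -/
theorem blk_pow {n m k : ℕ} (hmk : m + k = n) (B₁ : Matrix (Fin m) (Fin m) F)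
    (B₂ : Matrix (Fin k) (Fin k) F) (j : ℕ) :
    (blk hmk B₁ B₂) ^ j = blk hmk (B₁ ^ j) (B₂ ^ j) := by
  rw [blk_eq, blk_eq, ← fromBlocks_diag_pow47]
  exact (map_pow (Matrix.reindexAlgEquiv F F (eqv hmk)) (Matrix.fromBlocks B₁ 0 0 B₂) j).symm

end Cfsg.Agent.Helper47.UNdG345
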