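import Mathlib
import Cfsg.Agent.Helper99.UNdDefs
import Cfsg.Agent.Helper47.UNdG345

/-!
# S5954, piece (G2) (helper47 for helper99, board #7815)

If `A * g = g * blk hmk B₁ B₂` with `g` unitary then `A` fixes a nondegenerate `m`-space, namely the
image under `g` of the span of the first `m` coordinate vectors.
-/

set_option autoImplicit false

namespace Cfsg.Agent.Helper47.UNdG2

open Matrix Polynomial
open Cfsg.Agent.Helper99.UNd Cfsg.Agent.Helper47.UNdG345

variable {F : Type*} [Field F]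

/-- extension by zero of a vector on the first block -/
def ext0 {a b n : ℕ} (h : a + b = n) : (Fin a → F) →ₗ[F] (Fin n → F) where
  toFun x := fun i => Sum.elim x (fun _ => (0 : F)) ((eqv h).symm i)
  map_add' x y := by
    funext i
    rcases hs : (eqv h).symm i with s | s <;> simp [hs]
  map_smul' c x := by
    funext i
    rcases hs : (eqv h).symm i with s | s <;> simp [hs]

theorem ext0_inl {a b n : ℕ} (h : a + b = n) (x : Fin a → F) :
    (ext0 h x) ∘ eqv h ∘ Sum.inl = x := by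
  funext i
  show Sum.elim x (fun _ => (0 : F)) ((eqv h).symm (eqv h (Sum.inl i))) = x i
  rw [Equiv.symm_apply_apply]
  rfl

theorem ext0_inr {a b n : ℕ} (h : a + b = n) (x : Fin a → F) :
    (ext0 (F := F) h x) ∘ eqv h ∘ Sum.inr = 0 := by
  funext i
  show Sum.elim x (fun _ => (0 : F)) ((eqv h).symm (eqv h (Sum.inr i))) = 0
  rw [Equiv.symm_apply_apply]
  rfl

/-- a vector is determined by its two blocks -/
theorem ext_blocks {a b n : ℕ} (h : a + b = n) (u v : Fin n → F)
    (hl : u ∘ eqv h ∘ Sum.inl = v ∘ eqv h ∘ Sum.inl)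
    (hr : u ∘ eqv h ∘ Sum.inr = v ∘ eqv h ∘ Sum.inr) : u = v := by
  funext i
  obtain ⟨s, rfl⟩ := (eqv h).surjective i
  rcases s with s | s
  · exact congrFun hl s
  · exact congrFun hr s

theorem ext0_injective {a b n : ℕ} (h : a + b = n) : Function.Injective (ext0 (F := F) h) := by
  intro x y hxy
  rw [← ext0_inl h x, ← ext0_inl h y, hxy]

theorem hermForm_ext0 {a b n : ℕ} (h : a + b = n) (q : ℕ) (x y : Fin a → F) :
    Cfsg.hermForm n F q (ext0 h x) (ext0 h y) = Cfsg.hermForm a F q x y := by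
  rw [hermForm_split h q, ext0_inl, ext0_inl, ext0_inr, ext0_inr]
  have : Cfsg.hermForm b F q (0 : Fin b → F) 0 = 0 := by
    unfold Cfsg.hermForm
    simp
  rw [this, add_zero]

theorem blk_mulVec_ext0 {a b n : ℕ} (h : a + b = n) (B₁ : Matrix (Fin a) (Fin a) F)
    (B₂ : Matrix (Fin b) (Fin b) F) (x : Fin a → F) :
    blk h B₁ B₂ *ᵥ ext0 h x = ext0 h (B₁ *ᵥ x) := by
  apply ext_blocks h
  · rw [blk_mulVec_inl, ext0_inl, ext0_inl]
  · rw [blk_mulVec_inr, ext0_inr, ext0_inr, Matrix.mulVec_zero]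

theorem hermForm_single {q n : ℕ} (hq : q ≠ 0) (v : Fin n → F) (i : Fin n) :
    Cfsg.hermForm n F q v (Pi.single i 1) = v i := by
  unfold Cfsg.hermForm
  rw [Finset.sum_eq_single i]
  · simp
  · intro j _ hj
    rw [Pi.single_apply, if_neg hj, zero_pow hq, mul_zero]
  · intro hi
    exact absurd (Finset.mem_univ i) hi

/-- a unitary matrix acts injectively -/
theorem isUM_injective {q n : ℕ} (hq : q ≠ 0) {g : Matrix (Fin n) (Fin n) F} (hg : IsUM n q g) :
    Function.Injective (Matrix.toLin' g) := by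
  rw [← LinearMap.ker_eq_bot, LinearMap.ker_eq_bot']
  intro v hv
  rw [Matrix.toLin'_apply] at hv
  funext i
  have h1 := hg v (Pi.single i 1)
  rw [hv, hermForm_single hq] at h1
  have h2 : Cfsg.hermForm n F q (0 : Fin n → F) (g *ᵥ Pi.single i 1) = 0 := by
    unfold Cfsg.hermForm
    simp
  rw [h2] at h1
  exact h1.symm

/-- (G2) -/
theorem fixesNd_of_blk [Fintype F] {q : ℕ} (hF : Fintype.card F = q ^ 2) {n m k : ℕ}
    (hmk : m + k = n) (A g : Matrix (Fin n) (Fin n) F) (B₁ : Matrix (Fin m) (Fin m) F)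
    (B₂ : Matrix (Fin k) (Fin k) F) (hg : IsUM n q g) (h : A * g = g * blk hmk B₁ B₂) :
    FixesNd n q m A := by
  have hq : q ≠ 0 := by
    rintro rfl
    have h1 : 1 < Fintype.card F := Fintype.one_lt_card
    rw [hF] at h1
    simp at h1
  have hinj : Function.Injective ((Matrix.toLin' g).comp (ext0 hmk)) :=
    (isUM_injective hq hg).comp (ext0_injective hmk)
  refine ⟨LinearMap.range ((Matrix.toLin' g).comp (ext0 hmk)), ?_, ?_, ?_⟩
  · rw [LinearMap.finrank_range_of_inj hinj]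
    simp
  · rintro u ⟨x, rfl⟩ hu
    have hx : x ≠ 0 := by
      rintro rfl
      exact hu (map_zero _)
    obtain ⟨i, hi⟩ : ∃ i, x i ≠ 0 := by
      by_contra hcon
      push_neg at hcon
      exact hx (funext hcon)
    refine ⟨((Matrix.toLin' g).comp (ext0 hmk)) (Pi.single i 1), ⟨_, rfl⟩, ?_⟩
    show Cfsg.hermForm n F q (Matrix.toLin' g (ext0 hmk x))
      (Matrix.toLin' g (ext0 hmk (Pi.single i 1))) ≠ 0
    rw [Matrix.toLin'_apply, Matrix.toLin'_apply, hg, hermForm_ext0, hermForm_single hq]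
    exact hi
  · rintro _ ⟨_, ⟨x, rfl⟩, rfl⟩
    refine ⟨B₁ *ᵥ x, ?_⟩
    show Matrix.toLin' g (ext0 hmk (B₁ *ᵥ x)) = Matrix.toLin' A (Matrix.toLin' g (ext0 hmk x))
    rw [Matrix.toLin'_apply, Matrix.toLin'_apply, Matrix.toLin'_apply, Matrix.mulVec_mulVec, h,
      ← Matrix.mulVec_mulVec, blk_mulVec_ext0]

end Cfsg.Agent.Helper47.UNdG2
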