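import Cfsg.Agent.S0624
import Cfsg.Agent.Helper11.StableW
import Cfsg.Agent.Helper49.SylowExtra

/-!
# `G = O_{p'}(G) N_G(W(S))` when `G / O_{p'}(G)` is `p`-stable of characteristic `p` (helper47)
-/

set_option autoImplicit false

namespace Cfsg.Agent.Helper47

open Cfsg

universe u

/-- A Sylow `p`-subgroup meets `O_{p'}(G)` trivially. -/
theorem eq_one_of_mem_sylow_of_mem_pPrimeCore {G : Type*} [Group G] [Finite G] {p : ℕ}
    [hp : Fact p.Prime] (S : Sylow p G) {x : G} (hxS : x ∈ (S : Subgroup G))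
    (hxO : x ∈ Cfsg.pPrimeCore p G) : x = 1 := by
  obtain ⟨k, hk⟩ := (IsPGroup.iff_orderOf.mp S.2) ⟨x, hxS⟩
  rw [Subgroup.orderOf_mk] at hk
  have h1 : orderOf x ∣ Nat.card (Cfsg.pPrimeCore p G) := by
    have := orderOf_dvd_natCard (⟨x, hxO⟩ : Cfsg.pPrimeCore p G)
    rwa [Subgroup.orderOf_mk] at this
  have h2 : (Nat.card (Cfsg.pPrimeCore p G)).Coprime p := Cfsg.Agent.Lib.card_pPrimeCore_coprime p
  have h3 : (orderOf x).Coprime (p ^ k) := (Nat.Coprime.coprime_dvd_left h1 h2).pow_right k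
  rw [← hk, Nat.coprime_self] at h3
  exact orderOf_eq_one_iff.mp h3

/-- Frattini argument for a `p`-subgroup `W` whose image modulo the normal `p'`-subgroup `O` is
normal: `G = O N_G(W)`. -/
theorem sup_normalizer_eq_top_of_map_normal {G : Type*} [Group G] [Finite G] {p : ℕ}
    [hp : Fact p.Prime] (O Wg : Subgroup G) [hOn : O.Normal] (hO : (Nat.card O).Coprime p)
    (hWgp : IsPGroup p Wg) (hN : (Wg.map (QuotientGroup.mk' O)).Normal) :
    O ⊔ Subgroup.normalizer (Wg : Set G) = ⊤ := by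
  have hXn : ((Wg.map (QuotientGroup.mk' O)).comap (QuotientGroup.mk' O)).Normal :=
    hN.comap (QuotientGroup.mk' O)
  have hX : (Wg.map (QuotientGroup.mk' O)).comap (QuotientGroup.mk' O) = Wg ⊔ O := by
    rw [Subgroup.comap_map_eq, QuotientGroup.ker_mk']
  rw [hX] at hXn
  have hidx : ¬ p ∣ (Wg.subgroupOf (Wg ⊔ O)).index := by
    have e : (Wg.subgroupOf (Wg ⊔ O)).index = Wg.relIndex O :=
      Cfsg.Agent.Helper49.relIndex_sup_eq_of_normal Wg O
    rw [e]
    intro hdvd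
    have h1 : Wg.relIndex O ∣ Nat.card O := Subgroup.index_dvd_card _
    exact hp.out.one_lt.ne' (Nat.eq_one_of_dvd_coprimes hO.symm dvd_rfl (hdvd.trans h1))
  have hPp : IsPGroup p (Wg.subgroupOf (Wg ⊔ O)) := hWgp.comap_subtype
  have hF := Sylow.normalizer_sup_eq_top (N := Wg ⊔ O) (hPp.toSylow hidx)
  have hmap : ((hPp.toSylow hidx : Sylow p ↥(Wg ⊔ O)) : Subgroup ↥(Wg ⊔ O)).map
      (Wg ⊔ O).subtype = Wg := by
    show (Wg.subgroupOf (Wg ⊔ O)).map (Wg ⊔ O).subtype = Wg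
    rw [Subgroup.subgroupOf_map_subtype, inf_of_le_left le_sup_left]
  rw [hmap] at hF
  rw [eq_top_iff, ← hF]
  refine sup_le le_sup_right (sup_le ?_ le_sup_left)
  exact Subgroup.le_normalizer.trans le_sup_right

/-- If `G / O_{p'}(G)` is `p`-stable (action sense) of characteristic `p`, then
`G = O_{p'}(G) N_G(W(S))`. -/
theorem pPrimeCore_sup_normalizer_stableNormalClosure {G : Type u} [Group G] [Finite G] {p : ℕ}
    [hp : Fact p.Prime] (S : Sylow p G)
    (hst : Cfsg.IsActionPStable p (G ⧸ Cfsg.pPrimeCore p G))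
    (hc : Subgroup.centralizer (Cfsg.pCore p (G ⧸ Cfsg.pPrimeCore p G) : Set (G ⧸ Cfsg.pPrimeCore p G)) ≤
      Cfsg.pCore p (G ⧸ Cfsg.pPrimeCore p G)) :
    Cfsg.pPrimeCore p G ⊔ Subgroup.normalizer
      (((Cfsg.stableNormalClosure p ↥(S : Subgroup G)).map (S : Subgroup G).subtype) : Set G) = ⊤ := by
  have hπs : Function.Surjective (QuotientGroup.mk' (Cfsg.pPrimeCore p G)) :=
    QuotientGroup.mk'_surjective _
  have hbij : Function.Bijective
      ((QuotientGroup.mk' (Cfsg.pPrimeCore p G)).subgroupMap (S : Subgroup G)) := by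
    refine ⟨?_, MonoidHom.subgroupMap_surjective _ _⟩
    rw [injective_iff_map_eq_one]
    intro x hx
    have h1 : (QuotientGroup.mk' (Cfsg.pPrimeCore p G)) (x : G) = 1 := congrArg Subtype.val hx
    have h2 : (x : G) ∈ Cfsg.pPrimeCore p G := by
      rw [← QuotientGroup.ker_mk' (Cfsg.pPrimeCore p G), MonoidHom.mem_ker]; exact h1
    exact Subtype.ext (eq_one_of_mem_sylow_of_mem_pPrimeCore S x.2 h2)
  let η : ↥(S : Subgroup G) ≃* ↥((S.mapSurjective hπs : Sylow p (G ⧸ Cfsg.pPrimeCore p G)) :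
      Subgroup (G ⧸ Cfsg.pPrimeCore p G)) :=
    MulEquiv.ofBijective ((QuotientGroup.mk' (Cfsg.pPrimeCore p G)).subgroupMap (S : Subgroup G)) hbij
  have hWb : (Cfsg.stableNormalClosure p ↥(S : Subgroup G)).map η.toMonoidHom =
      Cfsg.stableNormalClosure p ↥((S.mapSurjective hπs : Sylow p (G ⧸ Cfsg.pPrimeCore p G)) :
        Subgroup (G ⧸ Cfsg.pPrimeCore p G)) :=
    Cfsg.Agent.Helper11.stableNormalClosure_map_equiv p η
  have hN := Cfsg.Agent.S0624.result hst hc (S.mapSurjective hπs)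
  have hkey : (Cfsg.stableNormalClosure p ↥((S.mapSurjective hπs :
        Sylow p (G ⧸ Cfsg.pPrimeCore p G)) : Subgroup (G ⧸ Cfsg.pPrimeCore p G))).map
      ((S.mapSurjective hπs : Sylow p (G ⧸ Cfsg.pPrimeCore p G)) :
        Subgroup (G ⧸ Cfsg.pPrimeCore p G)).subtype =
      (((Cfsg.stableNormalClosure p ↥(S : Subgroup G)).map (S : Subgroup G).subtype)).map
        (QuotientGroup.mk' (Cfsg.pPrimeCore p G)) := by
    rw [← hWb, Subgroup.map_map, Subgroup.map_map]
    rfl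
  rw [hkey] at hN
  exact sup_normalizer_eq_top_of_map_normal (Cfsg.pPrimeCore p G) _
    (Cfsg.Agent.Lib.card_pPrimeCore_coprime p) (S.2.to_le (Subgroup.map_subtype_le _)) hN

end Cfsg.Agent.Helper47
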