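import Cfsg.Prelude.Def_LocalStructure
import Cfsg.Agent.Helper47.Basic
import Cfsg.Agent.Helper48.StronglyEmbedded2
import Cfsg.Agent.Helper51.CD
import Cfsg.Agent.Helper64.Basic

set_option autoImplicit false

namespace Cfsg.Agent.Helper47

open Cfsg Cfsg.Agent.Helper48 Cfsg.Agent.Helper51

variable {H : Type*} [Group H]

theorem conjSub_eq_self_iff {g : H} {Q : Subgroup H} :
    conjSub g Q = Q ↔ g ∈ Subgroup.normalizer (Q : Set H) :=
  Subgroup.mem_normalizer_iff_map_conj_eq.symm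

theorem conjSub_inv_eq_self {g : H} {Q : Subgroup H} (h : conjSub g Q = Q) : conjSub g⁻¹ Q = Q :=
  conjSub_eq_self_iff.mpr (inv_mem (conjSub_eq_self_iff.mp h))

theorem coe_smul_sylow {p : ℕ} (g : H) (T : Sylow p H) :
    ((g • T : Sylow p H) : Subgroup H) = conjSub g (T : Subgroup H) := rfl

variable [Finite H] {p : ℕ} [Fact p.Prime]

omit [Finite H] in
/-- If `Q` is weakly closed in the Sylow subgroup `T` and `R ≤ hTh⁻¹` contains `Q` and `nQn⁻¹`, then
`n` normalizes `Q`. -/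
theorem IsWeaklyClosed.mem_normalizer_of_le_conj {Q : Subgroup H} {T : Subgroup H}
    (hT : Cfsg.IsWeaklyClosed Q T) {h n : H} (h1 : Q ≤ conjSub h T) (h2 : conjSub n Q ≤ conjSub h T) :
    n ∈ Subgroup.normalizer (Q : Set H) := by
  have e1 : conjSub h⁻¹ Q = Q := by
    apply hT.2
    have := (cj_le_iff h⁻¹ Q T).mpr (by rwa [inv_inv])
    exact this
  have e2 : conjSub (h⁻¹ * n) Q = Q := by
    apply hT.2
    show conjSub (h⁻¹ * n) Q ≤ T
    rw [← conjSub_conjSub]
    exact (cj_le_iff h⁻¹ _ T).mpr (by rwa [inv_inv])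
  have e3 : conjSub h Q = Q := by
    have := conjSub_inv_eq_self e1
    rwa [inv_inv] at this
  rw [← conjSub_eq_self_iff]
  calc conjSub n Q = conjSub h (conjSub (h⁻¹ * n) Q) := by
        rw [conjSub_conjSub, mul_inv_cancel_left]
    _ = Q := by rw [e2, e3]

/-- For a weakly closed subgroup `Q`, the normalizer of any `p`-subgroup containing `Q` normalizes
`Q`. -/
theorem wc_normalizer_le {Q : Subgroup H} (hwc : Cfsg.IsWeaklyClosedSubgroup p Q) {R : Subgroup H}
    (hR : IsPGroup p R) (hQR : Q ≤ R) :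
    Subgroup.normalizer (R : Set H) ≤ Subgroup.normalizer (Q : Set H) := by
  obtain ⟨T, hT⟩ := hwc
  obtain ⟨P, hRP⟩ := hR.exists_le_sylow
  obtain ⟨h, hh⟩ := MulAction.exists_smul_eq H T P
  have hP : (P : Subgroup H) = conjSub h (T : Subgroup H) := by rw [← hh, coe_smul_sylow]
  intro n hn
  apply IsWeaklyClosed.mem_normalizer_of_le_conj hT (h := h)
  · rw [← hP]; exact hQR.trans hRP
  · rw [← hP]
    refine le_trans ?_ hRP
    have : conjSub n R = R := conjSub_eq_self_iff.mpr hn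
    rw [← this]
    exact Subgroup.map_mono hQR

/-- Two conjugates of a weakly closed subgroup inside a common `p`-subgroup coincide. -/
theorem wc_conj_eq_of_le {Q : Subgroup H} (hwc : Cfsg.IsWeaklyClosedSubgroup p Q) {R : Subgroup H}
    (hR : IsPGroup p R) (hQR : Q ≤ R) {g : H} (hg : conjSub g Q ≤ R) : conjSub g Q = Q := by
  obtain ⟨T, hT⟩ := hwc
  obtain ⟨P, hRP⟩ := hR.exists_le_sylow
  obtain ⟨h, hh⟩ := MulAction.exists_smul_eq H T P
  have hP : (P : Subgroup H) = conjSub h (T : Subgroup H) := by rw [← hh, coe_smul_sylow]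
  rw [conjSub_eq_self_iff]
  apply IsWeaklyClosed.mem_normalizer_of_le_conj hT (h := h)
  · rw [← hP]; exact hQR.trans hRP
  · rw [← hP]; exact hg.trans hRP

/-- If `Q` is normal in every `p`-subgroup containing it and the normalizer of a Sylow subgroup
containing `Q` normalizes `Q`, then `Q` is a weakly closed subgroup. -/
theorem wc_of_normal_in_pgroups {Q : Subgroup H} (hQp : IsPGroup p Q)
    (hn : ∀ R : Subgroup H, IsPGroup p R → Q ≤ R → R ≤ Subgroup.normalizer (Q : Set H))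
    (hT : ∀ T : Sylow p H, Q ≤ (T : Subgroup H) →
      Subgroup.normalizer ((T : Subgroup H) : Set H) ≤ Subgroup.normalizer (Q : Set H)) :
    Cfsg.IsWeaklyClosedSubgroup p Q := by
  obtain ⟨T, hQT⟩ := hQp.exists_le_sylow
  refine ⟨T, hQT, fun g hg => ?_⟩
  -- Q ≤ g⁻¹Tg, so g⁻¹ T g ≤ N(Q)
  have h1 : conjSub g⁻¹ (T : Subgroup H) ≤ Subgroup.normalizer (Q : Set H) := by
    apply hn _ (isPGroup_conjSub T.2)
    have := (cj_le_iff g Q T).mp hg
    exact this
  rw [conjSub_eq_self_iff]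
  apply Cfsg.Agent.Helper64.mem_of_sylow_conj_le T _ (hT T hQT) g
  intro x hx
  apply h1
  rw [mem_conjSub]
  have e : g⁻¹⁻¹ * (g⁻¹ * x * g) * g⁻¹ = x := by group
  rw [e]; exact hx

end Cfsg.Agent.Helper47
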