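import Cfsg.Agent.Helper85.XDefs
set_option autoImplicit false

/-!
# (XC) for helper85's S5141: the system of good maps

For `E` invariant in `F` (over `T ≤ S`), the maps `φ` of `E` such that `φ` has a good extension to `P C_S(T)` whenever
`P` is `E`-centric form a fusion system over `T`.
-/

namespace Cfsg.Agent.Helper47.XC

open Cfsg Cfsg.FusionSystem Cfsg.Agent.Helper85.XT Cfsg.Agent.Helper87

variable {Ω : Type*} [Group Ω] {S T : Subgroup Ω}

/-- A map of `F` sends elements of `T` into `T`. -/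
theorem map_mem_T (F : FusionSystem S) (hT : F.StronglyClosed T) {R : Subgroup Ω} {ξ : R →* Ω}
    (hξ : ξ ∈ F.Hom R) (x : R) (hx : (x : Ω) ∈ T) : ξ x ∈ T := by
  have h1 := restrict_mem F hξ (inf_le_left : R ⊓ T ≤ R)
  exact hT.2 (R ⊓ T) inf_le_right _ h1 ⟨x, ⟨x.2, hx⟩⟩

/-- conjugation by an element of `T` has a good extension -/
theorem goodExt_conj (F : FusionSystem S) (hT : F.StronglyClosed T) {P : Subgroup Ω} (hPT : P ≤ T) {g : Ω}
    (hg : g ∈ T) : GoodExt F T (conjHom P g) := by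
  refine ⟨conjHom (P ⊔ centralizerIn S T) g,
    F.conj_mem (sup_le (hPT.trans hT.1) inf_le_left) (hT.1 hg), fun x => rfl, fun c hc => ?_⟩
  have h1 := (Subgroup.mem_centralizer_iff.mp hc.2) g hg
  have h2 : (c : Ω)⁻¹ * conjHom (P ⊔ centralizerIn S T) g c = 1 := by
    rw [conjHom_apply, h1]; group
  rw [h2]
  exact T.one_mem

section good

variable (F : FusionSystem S) (E : FusionSystem T) (hT : F.StronglyClosed T) {P : Subgroup Ω}
  {φ : P →* Ω} (hφ : φ ∈ E.Hom P) (hPc : E.IsCentric P)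
  {ψ : ↥(P ⊔ centralizerIn S T) →* Ω} (hψ : ψ ∈ F.Hom (P ⊔ centralizerIn S T))
  (hψφ : ∀ x : P, ψ (Subgroup.inclusion le_sup_left x) = φ x)
  (hψc : ∀ c : ↥(P ⊔ centralizerIn S T), (c : Ω) ∈ centralizerIn S T → (c : Ω)⁻¹ * ψ c ∈ T)

include hT hφ hPc hψφ hψc in
/-- For `E`-centric `P` a good extension moves `C_S(T)` inside cosets of `φ(P)`. -/
theorem good_mem_range (c : ↥(P ⊔ centralizerIn S T)) (hc : (c : Ω) ∈ centralizerIn S T) :
    (c : Ω)⁻¹ * ψ c ∈ φ.range := by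
  have _ := hT
  apply hPc.2 φ.range ⟨φ, hφ, rfl⟩
  refine Subgroup.mem_inf.mpr ⟨hψc c hc, ?_⟩
  rw [Subgroup.mem_centralizer_iff]
  rintro _ ⟨x, rfl⟩
  have hxT : (x : Ω) ∈ T := hPc.1 x.2
  have hφxT : φ x ∈ T := (E.le_of_mem hφ).2 x
  have h1 : Commute (φ x) (c : Ω) := (Subgroup.mem_centralizer_iff.mp hc.2) _ hφxT
  have h2 : Commute (φ x) (ψ c) := by
    have h3 : Subgroup.inclusion le_sup_left x * c = c * Subgroup.inclusion le_sup_left x := by
      apply Subtype.ext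
      exact (Subgroup.mem_centralizer_iff.mp hc.2) _ hxT
    have h4 := congrArg ψ h3
    rw [map_mul, map_mul, hψφ] at h4
    exact h4
  exact (h1.inv_right.mul_right h2).eq

include hT hφ hPc hψφ hψc in
/-- For `E`-centric `P` a good extension maps `P C_S(T)` into `φ(P) C_S(T)`. -/
theorem good_map_mem (x : ↥(P ⊔ centralizerIn S T)) : ψ x ∈ φ.range ⊔ centralizerIn S T := by
  let W : Subgroup Ω := Subgroup.map (P ⊔ centralizerIn S T).subtype
    (Subgroup.comap ψ (φ.range ⊔ centralizerIn S T))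
  have hPW : P ≤ W := by
    intro a ha
    refine ⟨Subgroup.inclusion le_sup_left ⟨a, ha⟩, ?_, rfl⟩
    show ψ _ ∈ φ.range ⊔ centralizerIn S T
    rw [hψφ]
    exact (le_sup_left : φ.range ≤ φ.range ⊔ centralizerIn S T) ⟨_, rfl⟩
  have hCW : centralizerIn S T ≤ W := by
    intro c hc
    refine ⟨⟨c, (le_sup_right : centralizerIn S T ≤ P ⊔ centralizerIn S T) hc⟩, ?_, rfl⟩
    show ψ _ ∈ φ.range ⊔ centralizerIn S T
    have h1 := good_mem_range F E hT hφ hPc hψφ hψc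
      ⟨c, (le_sup_right : centralizerIn S T ≤ P ⊔ centralizerIn S T) hc⟩ hc
    have h2 : ψ ⟨c, (le_sup_right : centralizerIn S T ≤ P ⊔ centralizerIn S T) hc⟩ =
        c * (c⁻¹ * ψ ⟨c, (le_sup_right : centralizerIn S T ≤ P ⊔ centralizerIn S T) hc⟩) := by group
    rw [h2]
    exact Subgroup.mul_mem _ ((le_sup_right : centralizerIn S T ≤ φ.range ⊔ centralizerIn S T) hc)
      ((le_sup_left : φ.range ≤ φ.range ⊔ centralizerIn S T) h1)
  obtain ⟨y, hy, hyx⟩ := (sup_le hPW hCW) x.2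
  have : y = x := Subtype.ext hyx
  rw [← this]
  exact hy

include hT hφ hPc hψφ hψc in
/-- For `E`-centric `P` every element of `C_S(T)` is `ψ (c a⁻¹)` with `a ∈ P`. -/
theorem good_exists_preimage (c : Ω) (hc : c ∈ centralizerIn S T) :
    ∃ a : P, ψ (⟨c, (le_sup_right : centralizerIn S T ≤ P ⊔ centralizerIn S T) hc⟩ *
      (Subgroup.inclusion le_sup_left a)⁻¹) = c := by
  obtain ⟨a, ha⟩ := good_mem_range F E hT hφ hPc hψφ hψc
    ⟨c, (le_sup_right : centralizerIn S T ≤ P ⊔ centralizerIn S T) hc⟩ hc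
  refine ⟨a, ?_⟩
  rw [map_mul, map_inv, hψφ, ha]
  group

include hT hφ hPc hψφ hψc in
theorem good_range_le : φ.range ⊔ centralizerIn S T ≤ ψ.range := by
  refine sup_le ?_ ?_
  · rintro _ ⟨x, rfl⟩
    exact ⟨Subgroup.inclusion le_sup_left x, hψφ x⟩
  · intro c hc
    obtain ⟨a, ha⟩ := good_exists_preimage F E hT hφ hPc hψφ hψc c hc
    exact ⟨_, ha⟩

end good

/-- Overgroups (inside `T`) of images of `E`-centric subgroups are `E`-centric. -/
theorem isCentric_of_le (E : FusionSystem T) {P Q : Subgroup Ω} (hPc : E.IsCentric P) {φ : P →* Ω}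
    (hφ : φ ∈ E.Hom P) (hQ : φ.range ≤ Q) (hQT : Q ≤ T) : E.IsCentric Q := by
  refine ⟨hQT, ?_⟩
  rintro Q' ⟨θ, hθ, rfl⟩
  have h : ∀ x : P, φ x ∈ Q := fun x => hQ ⟨x, rfl⟩
  have hcomp := E.comp_mem hφ hθ h
  have h1 := hPc.2 _ ⟨_, hcomp, rfl⟩
  have hle : (θ.comp (φ.codRestrict Q h)).range ≤ θ.range := by
    rintro _ ⟨x, rfl⟩
    exact ⟨_, rfl⟩
  intro c hc
  apply hle
  apply h1
  refine Subgroup.mem_inf.mpr ⟨hc.1, ?_⟩
  rw [Subgroup.mem_centralizer_iff]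
  intro y hy
  exact (Subgroup.mem_centralizer_iff.mp hc.2) y (hle hy)

/-- If the image of a map of `E` is `E`-centric then so is its source. -/
theorem isCentric_of_range (E : FusionSystem T) {P : Subgroup Ω} {φ : P →* Ω} (hφ : φ ∈ E.Hom P)
    (hc : E.IsCentric φ.range) : E.IsCentric P := by
  refine ⟨(E.le_of_mem hφ).1, ?_⟩
  rintro Q ⟨θ, hθ, rfl⟩
  obtain ⟨χ, hχ, hχx⟩ := E.inv_mem hφ
  have h : ∀ y : φ.range, χ y ∈ P := by
    rintro ⟨_, x, rfl⟩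
    rw [hχx]; exact x.2
  have hcomp := E.comp_mem hχ hθ h
  have h1 := hc.2 _ ⟨_, hcomp, rfl⟩
  have hle : θ.range ≤ (θ.comp (χ.codRestrict P h)).range := by
    rintro _ ⟨x, rfl⟩
    refine ⟨⟨φ x, x, rfl⟩, ?_⟩
    show θ ⟨χ ⟨φ x, x, rfl⟩, _⟩ = θ x
    congr 1
    exact Subtype.ext (hχx x)
  have hle' : (θ.comp (χ.codRestrict P h)).range ≤ θ.range := by
    rintro _ ⟨x, rfl⟩
    exact ⟨_, rfl⟩
  have heq : (θ.comp (χ.codRestrict P h)).range = θ.range := le_antisymm hle' hle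
  rw [heq] at h1
  exact h1

/-- Good extensions compose (at an `E`-centric source). -/
theorem goodExt_comp (F : FusionSystem S) (E : FusionSystem T) (hT : F.StronglyClosed T) {P Q : Subgroup Ω}
    {φ : P →* Ω} {ψ : Q →* Ω} (hφ : φ ∈ E.Hom P) (hψ : ψ ∈ E.Hom Q) (hPc : E.IsCentric P)
    (hgφ : GoodExt F T φ) (hgψ : E.IsCentric Q → GoodExt F T ψ) (h : ∀ x : P, φ x ∈ Q) :
    GoodExt F T (ψ.comp (φ.codRestrict Q h)) := by
  obtain ⟨a, ha, haφ, hac⟩ := hgφ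
  have hQT : Q ≤ T := (E.le_of_mem hψ).1
  have hrQ : φ.range ≤ Q := by
    rintro _ ⟨x, rfl⟩
    exact h x
  have hQc : E.IsCentric Q := isCentric_of_le E hPc hφ hrQ hQT
  obtain ⟨b, hb, hbψ, hbc⟩ := hgψ hQc
  have hmem : ∀ x : ↥(P ⊔ centralizerIn S T), a x ∈ Q ⊔ centralizerIn S T := fun x =>
    (sup_le_sup_right hrQ _) (good_map_mem F E hT hφ hPc haφ hac x)
  refine ⟨b.comp (a.codRestrict _ hmem), F.comp_mem ha hb hmem, fun x => ?_, fun c hc => ?_⟩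
  · show b ⟨a (Subgroup.inclusion le_sup_left x), _⟩ = ψ ⟨φ x, h x⟩
    rw [← hbψ]
    congr 1
    exact Subtype.ext (haφ x)
  · show (c : Ω)⁻¹ * b ⟨a c, hmem c⟩ ∈ T
    have hcQ : (c : Ω) ∈ Q ⊔ centralizerIn S T :=
      (le_sup_right : centralizerIn S T ≤ Q ⊔ centralizerIn S T) hc
    have ht := hac c hc
    have htQ : (c : Ω)⁻¹ * a c ∈ Q ⊔ centralizerIn S T :=
      Subgroup.mul_mem _ (Subgroup.inv_mem _ hcQ) (hmem c)
    have h1 : (⟨a c, hmem c⟩ : ↥(Q ⊔ centralizerIn S T)) = ⟨(c : Ω), hcQ⟩ * ⟨(c : Ω)⁻¹ * a c, htQ⟩ := by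
      apply Subtype.ext
      show a c = (c : Ω) * ((c : Ω)⁻¹ * a c)
      group
    rw [h1, map_mul, ← mul_assoc]
    exact T.mul_mem (hbc ⟨(c : Ω), hcQ⟩ hc) (map_mem_T F hT hb _ ht)

/-- The inverse of a map with a good extension has a good extension (at an `E`-centric source). -/
theorem goodExt_inv (F : FusionSystem S) (E : FusionSystem T) (hT : F.StronglyClosed T) {P : Subgroup Ω}
    {φ : P →* Ω} (hφ : φ ∈ E.Hom P) (hPc : E.IsCentric P) (hgφ : GoodExt F T φ)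
    {χ : φ.range →* Ω} (hχx : ∀ x : P, χ ⟨φ x, ⟨x, rfl⟩⟩ = (x : Ω)) : GoodExt F T χ := by
  obtain ⟨a, ha, haφ, hac⟩ := hgφ
  obtain ⟨ξ, hξ, hξx⟩ := F.inv_mem ha
  have hle := good_range_le F E hT hφ hPc haφ hac
  refine ⟨ξ.comp (Subgroup.inclusion hle), restrict_mem F hξ hle, ?_, ?_⟩
  · rintro ⟨_, x, rfl⟩
    rw [hχx]
    show ξ ⟨φ x, _⟩ = (x : Ω)
    have h1 := hξx (Subgroup.inclusion le_sup_left x)
    have h2 : (⟨a (Subgroup.inclusion le_sup_left x), ⟨_, rfl⟩⟩ : a.range) =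
        ⟨φ x, hle ((le_sup_left : φ.range ≤ φ.range ⊔ centralizerIn S T) ⟨x, rfl⟩)⟩ :=
      Subtype.ext (haφ x)
    rw [h2] at h1
    exact h1
  · intro c hc
    obtain ⟨w, hw⟩ := good_exists_preimage F E hT hφ hPc haφ hac (c : Ω) hc
    show (c : Ω)⁻¹ * ξ ⟨(c : Ω), _⟩ ∈ T
    have h1 := hξx (⟨(c : Ω), (le_sup_right : centralizerIn S T ≤ P ⊔ centralizerIn S T) hc⟩ *
      (Subgroup.inclusion le_sup_left w)⁻¹)
    have h2 : (⟨a (⟨(c : Ω), (le_sup_right : centralizerIn S T ≤ P ⊔ centralizerIn S T) hc⟩ *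
        (Subgroup.inclusion le_sup_left w)⁻¹), ⟨_, rfl⟩⟩ : a.range) = ⟨(c : Ω), hle c.2⟩ :=
      Subtype.ext hw
    rw [h2] at h1
    rw [h1]
    have h3 : (c : Ω)⁻¹ * ((⟨(c : Ω), (le_sup_right : centralizerIn S T ≤ P ⊔ centralizerIn S T) hc⟩ *
        (Subgroup.inclusion le_sup_left w)⁻¹ : ↥(P ⊔ centralizerIn S T)) : Ω) = ((w : Ω))⁻¹ := by
      show (c : Ω)⁻¹ * ((c : Ω) * ((w : Ω))⁻¹) = _
      group
    rw [h3]
    exact T.inv_mem (hPc.1 w.2)

/-- The system of good maps. -/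
def goodSystem (F : FusionSystem S) (E : FusionSystem T) (hT : F.StronglyClosed T) : FusionSystem T where
  Hom P := {φ | φ ∈ E.Hom P ∧ (E.IsCentric P → GoodExt F T φ)}
  le_of_mem h := E.le_of_mem h.1
  injective_of_mem h := E.injective_of_mem h.1
  conj_mem hP hg := ⟨E.conj_mem hP hg, fun _ => goodExt_conj F hT hP hg⟩
  comp_mem hφ hψ h := ⟨E.comp_mem hφ.1 hψ.1 h, fun hPc =>
    goodExt_comp F E hT hφ.1 hψ.1 hPc (hφ.2 hPc) hψ.2 h⟩
  inv_mem := by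
    intro P φ hφ
    obtain ⟨χ, hχ, hχx⟩ := E.inv_mem hφ.1
    refine ⟨χ, ⟨hχ, fun hc => ?_⟩, hχx⟩
    have hPc := isCentric_of_range E hφ.1 hc
    exact goodExt_inv F E hT hφ.1 hPc (hφ.2 hPc) hχx

theorem exists_goodSystem [Finite S] (p : ℕ) [Fact p.Prime] (hS : IsPGroup p S) (F : FusionSystem S)
    (hF : F.IsSaturated p) (E : FusionSystem T) (hE : E.IsWeaklyNormalIn F p) :
    ∃ G : FusionSystem T, ∀ (P : Subgroup Ω) (φ : P →* Ω),
      φ ∈ G.Hom P ↔ (φ ∈ E.Hom P ∧ (E.IsCentric P → GoodExt F T φ)) := by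
  have _ := hS
  have _ := hF
  exact ⟨goodSystem F E hE.2.2.2.1, fun P φ => Iff.rfl⟩

end Cfsg.Agent.Helper47.XC
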