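import Cfsg.Agent.Helper85.XDefs
set_option autoImplicit false

/-!
# (S2) for helper85's S5141: the extension condition for single automorphisms of `T`

`ExtCond F T α` is equivalent to `GoodExt` of `α`, holds for `1` and for inner automorphisms of `T`, and is closed
under products and inverses.
-/

namespace Cfsg.Agent.Helper47.XS2

open Cfsg Cfsg.FusionSystem Cfsg.Agent.Helper85.XT Cfsg.Agent.Helper87

variable {Ω : Type*} [Group Ω] {S T : Subgroup Ω}

theorem sup_le_S (F : FusionSystem S) (hT : F.StronglyClosed T) : T ⊔ centralizerIn S T ≤ S :=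
  sup_le hT.1 inf_le_left

/-- An element of `Aut_F(T C_S(T))` maps `T` into `T`. -/
theorem aut_mem_T (F : FusionSystem S) (hT : F.StronglyClosed T)
    {β : MulAut ↥(T ⊔ centralizerIn S T)} (hβ : β ∈ F.autGroup (T ⊔ centralizerIn S T))
    (x : ↥(T ⊔ centralizerIn S T)) (hx : (x : Ω) ∈ T) : ((β x : ↥(T ⊔ centralizerIn S T)) : Ω) ∈ T := by
  have h1 : IsIso F (β : _ ≃* _) := (mem_autGroup_iff F (sup_le_S F hT) β).mp hβ
  have h2 := restrict_mem F h1 (le_sup_left : T ≤ T ⊔ centralizerIn S T)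
  have h3 := hT.2 T le_rfl _ h2 ⟨x, hx⟩
  exact h3

/-- An element of `Aut_F(T C_S(T))` maps `C_S(T)` into `C_S(T)`. -/
theorem aut_mem_C (F : FusionSystem S) (hT : F.StronglyClosed T)
    {β : MulAut ↥(T ⊔ centralizerIn S T)} (hβ : β ∈ F.autGroup (T ⊔ centralizerIn S T))
    (c : ↥(T ⊔ centralizerIn S T)) (hc : (c : Ω) ∈ centralizerIn S T) :
    ((β c : ↥(T ⊔ centralizerIn S T)) : Ω) ∈ centralizerIn S T := by
  refine Subgroup.mem_inf.mpr ⟨sup_le_S F hT (β c).2, ?_⟩
  rw [Subgroup.mem_centralizer_iff]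
  intro t ht
  have ht' : t ∈ T := ht
  set t0 : ↥(T ⊔ centralizerIn S T) := ⟨t, (le_sup_left : T ≤ T ⊔ centralizerIn S T) ht'⟩ with ht0
  have hinv := aut_mem_T F hT (Subgroup.inv_mem _ hβ) t0 ht'
  have hcomm : (β⁻¹ t0) * c = c * (β⁻¹ t0) := by
    apply Subtype.ext
    have := (Subgroup.mem_centralizer_iff.mp hc.2) _ hinv
    exact this
  have h2 := congrArg β hcomm
  rw [map_mul, map_mul, MulAut.apply_inv_self] at h2
  exact congrArg Subtype.val h2

/-- `GoodExt` of an automorphism of `T` is the extension condition. -/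
theorem extCond_of_goodExt [Finite S] (F : FusionSystem S) (hT : F.StronglyClosed T) (α : MulAut T)
    (h : GoodExt F T (T.subtype.comp α.toMonoidHom)) : ExtCond F T α := by
  obtain ⟨ψ, hψ, hψα, hψc⟩ := h
  have hUS := sup_le_S F hT
  haveI : Finite ↥(T ⊔ centralizerIn S T) := Finite.of_injective (Subgroup.inclusion hUS)
    (Subgroup.inclusion_injective hUS)
  have hψα' : ∀ x : T, ψ (Subgroup.inclusion le_sup_left x) = ((α x : T) : Ω) := fun x => hψα x
  -- `ψ` maps `U` into `U`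
  have hmem : ∀ x : ↥(T ⊔ centralizerIn S T), ψ x ∈ T ⊔ centralizerIn S T := by
    let W : Subgroup Ω := Subgroup.map (T ⊔ centralizerIn S T).subtype
      (Subgroup.comap ψ (T ⊔ centralizerIn S T))
    have hTW : T ≤ W := by
      intro t ht
      refine ⟨Subgroup.inclusion le_sup_left ⟨t, ht⟩, ?_, rfl⟩
      show ψ _ ∈ T ⊔ centralizerIn S T
      rw [hψα']
      exact (le_sup_left : T ≤ T ⊔ centralizerIn S T) (α ⟨t, ht⟩).2
    have hCW : centralizerIn S T ≤ W := by
      intro c hc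
      refine ⟨⟨c, (le_sup_right : centralizerIn S T ≤ T ⊔ centralizerIn S T) hc⟩, ?_, rfl⟩
      show ψ _ ∈ T ⊔ centralizerIn S T
      have h1 := hψc ⟨c, (le_sup_right : centralizerIn S T ≤ T ⊔ centralizerIn S T) hc⟩ hc
      have h2 : ψ ⟨c, (le_sup_right : centralizerIn S T ≤ T ⊔ centralizerIn S T) hc⟩ =
          c * (c⁻¹ * ψ ⟨c, (le_sup_right : centralizerIn S T ≤ T ⊔ centralizerIn S T) hc⟩) := by group
      rw [h2]
      exact Subgroup.mul_mem _ ((le_sup_right : centralizerIn S T ≤ T ⊔ centralizerIn S T) hc)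
        ((le_sup_left : T ≤ T ⊔ centralizerIn S T) h1)
    intro x
    obtain ⟨y, hy, hyx⟩ := (sup_le hTW hCW) x.2
    have : y = x := Subtype.ext hyx
    rw [← this]
    exact hy
  have hrange : ψ.range = T ⊔ centralizerIn S T := by
    apply Subgroup.eq_of_le_of_card_ge
    · rintro _ ⟨x, rfl⟩
      exact hmem x
    · have := Nat.card_congr (MonoidHom.ofInjective (F.injective_of_mem hψ)).toEquiv
      rw [← this]
  set β : MulAut ↥(T ⊔ centralizerIn S T) := isoOfRange F hψ hrange with hβ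
  have hβval : ∀ x, ((β x : ↥(T ⊔ centralizerIn S T)) : Ω) = ψ x := fun x => rfl
  have hβmem : β ∈ F.autGroup (T ⊔ centralizerIn S T) :=
    (mem_autGroup_iff F hUS β).mpr (isIso_isoOfRange F hψ hrange)
  refine ⟨β, hβmem, fun x => ?_, fun c hc => ?_⟩
  · rw [hβval, hψα']
  · refine Subgroup.mem_inf.mpr ⟨by rw [hβval]; exact hψc c hc, ?_⟩
    rw [Subgroup.mem_centralizer_iff]
    intro t ht
    have hcC := aut_mem_C F hT hβmem c hc
    have h1 : Commute t (c : Ω) := (Subgroup.mem_centralizer_iff.mp hc.2) t ht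
    have h2 : Commute t ((β c : ↥(T ⊔ centralizerIn S T)) : Ω) :=
      (Subgroup.mem_centralizer_iff.mp hcC.2) t ht
    exact (h1.inv_right.mul_right h2).eq

theorem goodExt_of_extCond [Finite S] (F : FusionSystem S) (hT : F.StronglyClosed T) (α : MulAut T)
    (h : ExtCond F T α) : GoodExt F T (T.subtype.comp α.toMonoidHom) := by
  obtain ⟨β, hβ, hβα, hβc⟩ := h
  have h1 : IsIso F (β : _ ≃* _) := (mem_autGroup_iff F (sup_le_S F hT) β).mp hβ
  exact ⟨_, h1, fun x => hβα x, fun c hc => (hβc c hc).1⟩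

/-- The automorphisms of `T` satisfying the extension condition form a subgroup. -/
theorem extCond_one [Finite S] (F : FusionSystem S) (hT : F.StronglyClosed T) : ExtCond F T (1 : MulAut T) := by
  have _ := hT
  refine ⟨1, Subgroup.one_mem _, fun x => rfl, fun c _ => ?_⟩
  have : (c : Ω)⁻¹ * (((1 : MulAut ↥(T ⊔ centralizerIn S T)) c : ↥(T ⊔ centralizerIn S T)) : Ω) = 1 := by
    simp
  rw [this]
  exact Subgroup.one_mem _

/-- An automorphism of `T` maps `Z(T)` into itself. -/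
theorem aut_mem_centre (α : MulAut T) {z : Ω} (hz : z ∈ T ⊓ Subgroup.centralizer (T : Set Ω)) :
    ((α ⟨z, hz.1⟩ : T) : Ω) ∈ T ⊓ Subgroup.centralizer (T : Set Ω) := by
  refine Subgroup.mem_inf.mpr ⟨(α ⟨z, hz.1⟩).2, ?_⟩
  rw [Subgroup.mem_centralizer_iff]
  intro t ht
  have ht' : t ∈ T := ht
  have h1 : (α⁻¹ ⟨t, ht'⟩ : T) * ⟨z, hz.1⟩ = ⟨z, hz.1⟩ * (α⁻¹ ⟨t, ht'⟩ : T) := by
    apply Subtype.ext
    exact (Subgroup.mem_centralizer_iff.mp hz.2) _ (α⁻¹ ⟨t, ht'⟩).2
  have h2 := congrArg α h1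
  rw [map_mul, map_mul, MulAut.apply_inv_self] at h2
  exact congrArg Subtype.val h2

theorem extCond_mul [Finite S] (F : FusionSystem S) (hT : F.StronglyClosed T) {α β : MulAut T}
    (hα : ExtCond F T α) (hβ : ExtCond F T β) : ExtCond F T (α * β) := by
  have _ := hT
  obtain ⟨a, ha, haα, hac⟩ := hα
  obtain ⟨b, hb, hbβ, hbc⟩ := hβ
  refine ⟨a * b, Subgroup.mul_mem _ ha hb, fun x => ?_, fun c hc => ?_⟩
  · rw [MulAut.mul_apply, MulAut.mul_apply]
    have h1 : b (Subgroup.inclusion le_sup_left x) = Subgroup.inclusion le_sup_left (β x) :=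
      Subtype.ext (hbβ x)
    rw [h1, haα]
  · -- `b c = c * z`
    have hz := hbc c hc
    set z : Ω := (c : Ω)⁻¹ * ((b c : ↥(T ⊔ centralizerIn S T)) : Ω) with hzdef
    have h1 : b c = c * Subgroup.inclusion le_sup_left (⟨z, hz.1⟩ : T) := by
      apply Subtype.ext
      show ((b c : ↥(T ⊔ centralizerIn S T)) : Ω) = (c : Ω) * z
      rw [hzdef]; group
    have h2 : ((a (Subgroup.inclusion le_sup_left (⟨z, hz.1⟩ : T)) : ↥(T ⊔ centralizerIn S T)) : Ω) =
        ((α ⟨z, hz.1⟩ : T) : Ω) := haα _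
    have h3 : (c : Ω)⁻¹ * (((a * b) c : ↥(T ⊔ centralizerIn S T)) : Ω) =
        ((c : Ω)⁻¹ * ((a c : ↥(T ⊔ centralizerIn S T)) : Ω)) * ((α ⟨z, hz.1⟩ : T) : Ω) := by
      rw [MulAut.mul_apply, h1, map_mul, Subgroup.coe_mul, h2, mul_assoc]
    rw [h3]
    exact Subgroup.mul_mem _ (hac c hc) (aut_mem_centre α hz)

theorem extCond_inv [Finite S] (F : FusionSystem S) (hT : F.StronglyClosed T) {α : MulAut T}
    (hα : ExtCond F T α) : ExtCond F T α⁻¹ := by
  obtain ⟨a, ha, haα, hac⟩ := hα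
  have hainv := Subgroup.inv_mem _ ha
  refine ⟨a⁻¹, hainv, fun x => ?_, fun c hc => ?_⟩
  · have h1 : a (Subgroup.inclusion le_sup_left (α⁻¹ x)) = Subgroup.inclusion le_sup_left x := by
      apply Subtype.ext
      rw [haα, MulAut.apply_inv_self]
      rfl
    have h2 : a⁻¹ (Subgroup.inclusion le_sup_left x) = Subgroup.inclusion le_sup_left (α⁻¹ x) := by
      rw [← h1, MulAut.inv_apply_self]
    rw [h2]
    rfl
  · have hdC := aut_mem_C F hT hainv c hc
    have h1 := hac (a⁻¹ c) hdC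
    rw [MulAut.apply_inv_self] at h1
    have h2 : (c : Ω)⁻¹ * ((a⁻¹ c : ↥(T ⊔ centralizerIn S T)) : Ω) =
        ((((a⁻¹ c : ↥(T ⊔ centralizerIn S T)) : Ω))⁻¹ * (c : Ω))⁻¹ := by group
    rw [h2]
    exact Subgroup.inv_mem _ h1

/-- Inner automorphisms of `T` satisfy the extension condition. -/
theorem extCond_of_mem_autInducedBy [Finite S] (F : FusionSystem S) (hT : F.StronglyClosed T) {α : MulAut T}
    (hα : α ∈ autInducedBy T T) : ExtCond F T α := by
  obtain ⟨g, hg, hgα⟩ := (mem_autInducedBy_iff T T α).mp hα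
  have hUS := sup_le_S F hT
  have hgU : g ∈ T ⊔ centralizerIn S T := (le_sup_left : T ≤ T ⊔ centralizerIn S T) hg
  have hgN : g ∈ Subgroup.normalizer ((T ⊔ centralizerIn S T : Subgroup Ω) : Set Ω) :=
    Subgroup.le_normalizer hgU
  refine ⟨conjAut _ g hgN, (mem_autGroup_iff F hUS _).mpr (isIso_conjAut F hUS (hT.1 hg) hgN),
    fun x => ?_, fun c hc => ?_⟩
  · rw [conjAut_apply, hgα]
    rfl
  · rw [conjAut_apply]
    have h1 := (Subgroup.mem_centralizer_iff.mp hc.2) g hg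
    have h2 : (c : Ω)⁻¹ * (g * (c : Ω) * g⁻¹) = 1 := by
      rw [h1]; group
    rw [h2]
    exact Subgroup.one_mem _

end Cfsg.Agent.Helper47.XS2
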