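import Cfsg.Agent.Helper47.YL
import Cfsg.Agent.Helper48.StronglyEmbedded2

set_option autoImplicit false

namespace Cfsg.Agent.Helper47

open Cfsg Cfsg.Agent.Helper46 Cfsg.Agent.Helper48

variable {H : Type*} [Group H] {p : ℕ}

/-- In an abelian subgroup, the closure of a set of elements of order dividing `p` has exponent
dividing `p`. -/
theorem isElementaryAbelian_omegaOne {A : Subgroup H}
    (hA : A ≤ Subgroup.centralizer (A : Set H)) : Cfsg.IsElementaryAbelian p (Cfsg.omegaOne p A) := by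
  have hle : Cfsg.omegaOne p A ≤ A := omegaOne_le A
  have hcomm : IsMulCommutative (Cfsg.omegaOne p A) :=
    Subgroup.le_centralizer_iff_isMulCommutative.mp
      ((hle.trans hA).trans (Subgroup.centralizer_le (show ((Cfsg.omegaOne p A : Subgroup H) : Set H) ⊆ (A : Set H) from hle)))
  refine ⟨hcomm, ?_⟩
  intro a ha
  have key : a ∈ A ∧ a ^ p = 1 := by
    unfold Cfsg.omegaOne at ha
    induction ha using Subgroup.closure_induction with
    | mem x hx => exact hx
    | one => exact ⟨A.one_mem, one_pow p⟩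
    | mul x y _ _ ihx ihy =>
      have hc : Commute x y := ((Subgroup.mem_centralizer_iff.mp (hA ihy.1)) x ihx.1)
      exact ⟨A.mul_mem ihx.1 ihy.1, by rw [hc.mul_pow, ihx.2, ihy.2, one_mul]⟩
    | inv x _ ihx => exact ⟨A.inv_mem ihx.1, by rw [inv_pow, ihx.2, inv_one]⟩
  exact key.2

/-- `Z(Q) = Q ⊓ C(Q)` is abelian. -/
theorem inf_centralizer_le_centralizer (Q : Subgroup H) :
    Q ⊓ Subgroup.centralizer (Q : Set H) ≤
      Subgroup.centralizer ((Q ⊓ Subgroup.centralizer (Q : Set H) : Subgroup H) : Set H) :=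
  inf_le_right.trans (Subgroup.centralizer_le (show ((Q ⊓ Subgroup.centralizer (Q : Set H) : Subgroup H) : Set H) ⊆ (Q : Set H) from inf_le_left))

/-- Every `p`-reduced normal subgroup of `L` lies in `Ω₁(Z(O_p(L)))`. -/
theorem IsPRedIn.le_omegaOne_center_pCoreOf [Finite H] [hp : Fact p.Prime] {V L : Subgroup H}
    (h : IsPRedIn p V L) :
    V ≤ Cfsg.omegaOne p (Cfsg.pCoreOf p L ⊓ Subgroup.centralizer (Cfsg.pCoreOf p L : Set H)) := by
  intro v hv
  apply Subgroup.subset_closure
  refine ⟨⟨h.le_pCoreOf hv, ?_⟩, h.isElementaryAbelian.2 v hv⟩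
  exact (Subgroup.le_centralizer_iff.mp h.pCoreOf_le_centralizer) hv

/-- For `L` of characteristic `p`, `Ω₁(Z(S)) ≤ Ω₁(Z(O_p(L)))` for every Sylow `p`-subgroup `S` of `L`. -/
theorem omegaZ_le_of_isSylIn [Finite H] [hp : Fact p.Prime] {L S : Subgroup H} (hL : IsCharPIn p L)
    (hS : IsSylIn p S L) :
    Cfsg.omegaOne p (S ⊓ Subgroup.centralizer (S : Set H)) ≤
      Cfsg.omegaOne p (Cfsg.pCoreOf p L ⊓ Subgroup.centralizer (Cfsg.pCoreOf p L : Set H)) := by
  apply omegaOne_mono
  intro x hx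
  have hxC : x ∈ Subgroup.centralizer (Cfsg.pCoreOf p L : Set H) :=
    Subgroup.centralizer_le (show ((Cfsg.pCoreOf p L : Subgroup H) : Set H) ⊆ (S : Set H) from hS.pCoreOf_le) hx.2
  exact ⟨hL ⟨hS.le hx.1, hxC⟩, hxC⟩

theorem sylowCenterClosure_le_omegaOne [Finite H] [hp : Fact p.Prime] {L : Subgroup H}
    (hL : IsCharPIn p L) :
    Cfsg.sylowCenterClosure p L ≤
      Cfsg.omegaOne p (Cfsg.pCoreOf p L ⊓ Subgroup.centralizer (Cfsg.pCoreOf p L : Set H)) := by
  unfold Cfsg.sylowCenterClosure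
  apply iSup_le
  intro S
  exact omegaZ_le_of_isSylIn hL ⟨S, rfl⟩

/-- `Z_L` is a `p`-reduced normal subgroup of `L` when `L` has characteristic `p`. -/
theorem isPRedIn_sylowCenterClosure [Finite H] [hp : Fact p.Prime] {L : Subgroup H}
    (hL : IsCharPIn p L) : IsPRedIn p (Cfsg.sylowCenterClosure p L) L := by
  set Z := Cfsg.sylowCenterClosure p L with hZ
  have hZL : Z ≤ L := sylowCenterClosure_le L
  have hLZ : L ≤ Subgroup.normalizer (Z : Set H) := sylowCenterClosure_normalized L
  have hZe : Cfsg.IsElementaryAbelian p Z :=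
    Cfsg.Agent.Lib.isElementaryAbelian_mono
      (isElementaryAbelian_omegaOne (inf_centralizer_le_centralizer _)) (sylowCenterClosure_le_omegaOne hL)
  rw [← isPReducedNormal_subgroupOf_iff hZL]
  have hcent := centralizer_subgroupOf hZL
  have hZn : (Z.subgroupOf L).Normal := (Subgroup.normal_subgroupOf_iff_le_normalizer hZL).mpr hLZ
  have hCn : (Subgroup.centralizer ((Z.subgroupOf L : Subgroup L) : Set L)).Normal := by
    have := hZn
    exact Subgroup.normal_centralizer
  refine ⟨hZn, (isElementaryAbelian_subgroupOf_iff hZL).mpr hZe, hCn, ?_⟩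
  have := hCn
  rw [eq_bot_iff]
  intro x hx
  obtain ⟨d, rfl⟩ := QuotientGroup.mk_surjective x
  rw [Subgroup.mem_bot, QuotientGroup.eq_one_iff, hcent, Subgroup.mem_subgroupOf]
  -- show ↑d centralizes Z
  have hkey : Z ≤ Subgroup.centralizer ({(d : H)} : Set H) := by
    rw [hZ]
    unfold Cfsg.sylowCenterClosure
    apply iSup_le
    intro S
    -- x lies in the image of S
    have hxS : (QuotientGroup.mk d : L ⧸ Subgroup.centralizer ((Z.subgroupOf L : Subgroup L) : Set L)) ∈
        ((S.mapSurjective (QuotientGroup.mk'_surjective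
          (Subgroup.centralizer ((Z.subgroupOf L : Subgroup L) : Set L))) :
            Sylow p (L ⧸ Subgroup.centralizer ((Z.subgroupOf L : Subgroup L) : Set L))) :
              Subgroup (L ⧸ Subgroup.centralizer ((Z.subgroupOf L : Subgroup L) : Set L))) :=
      Cfsg.Agent.Lib.pCore_le_sylow _ hx
    rw [Sylow.coe_mapSurjective] at hxS
    obtain ⟨s, hs, hsd⟩ := hxS
    have hsd' : s⁻¹ * d ∈ Subgroup.centralizer ((Z.subgroupOf L : Subgroup L) : Set L) := by
      rw [← QuotientGroup.eq_one_iff, QuotientGroup.mk_mul, QuotientGroup.mk_inv]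
      have : (QuotientGroup.mk s : L ⧸ Subgroup.centralizer ((Z.subgroupOf L : Subgroup L) : Set L)) =
          QuotientGroup.mk d := hsd
      rw [this, inv_mul_cancel]
    rw [hcent, Subgroup.mem_subgroupOf] at hsd'
    intro z hz
    rw [Subgroup.mem_centralizer_singleton_iff]
    have hzZ : z ∈ Z := by
      rw [hZ]; unfold Cfsg.sylowCenterClosure
      exact Subgroup.mem_iSup_of_mem S hz
    have hzS : z ∈ Subgroup.centralizer (((S : Subgroup L).map L.subtype : Subgroup H) : Set H) :=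
      (omegaOne_le _ hz).2
    have h1 : (s : H) * z = z * (s : H) :=
      (Subgroup.mem_centralizer_iff.mp hzS) (s : H) ⟨s, hs, rfl⟩
    have h2 : z * ((s⁻¹ * d : L) : H) = ((s⁻¹ * d : L) : H) * z :=
      (Subgroup.mem_centralizer_iff.mp hsd') z hzZ
    have e : (d : H) = (s : H) * ((s⁻¹ * d : L) : H) := by simp
    rw [e]
    calc z * ((s : H) * ((s⁻¹ * d : L) : H)) = (z * (s : H)) * ((s⁻¹ * d : L) : H) := by group
      _ = ((s : H) * z) * ((s⁻¹ * d : L) : H) := by rw [h1]
      _ = (s : H) * (z * ((s⁻¹ * d : L) : H)) := by group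
      _ = (s : H) * (((s⁻¹ * d : L) : H) * z) := by rw [h2]
      _ = (s : H) * ((s⁻¹ * d : L) : H) * z := by group
  rw [Subgroup.mem_centralizer_iff]
  intro z hz
  have := hkey hz
  rw [Subgroup.mem_centralizer_singleton_iff] at this
  exact this

/-- If the Sylow `p`-subgroup `T` of `H` normalizes `C`, then `T ⊓ C` is a Sylow `p`-subgroup of
`C`. -/
theorem exists_sylow_inf_of_le_normalizer [Finite H] [hp : Fact p.Prime] (T : Sylow p H)
    {C : Subgroup H} (hTC : (T : Subgroup H) ≤ Subgroup.normalizer (C : Set H)) :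
    ∃ P : Sylow p C, (P : Subgroup C) = ((T : Subgroup H) ⊓ C).subgroupOf C := by
  have hp0 : IsPGroup p (((T : Subgroup H) ⊓ C).subgroupOf C) :=
    (T.2.to_le inf_le_left).comap_subtype
  obtain ⟨P, hP⟩ := hp0.exists_le_sylow
  refine ⟨P, ?_⟩
  set P' : Subgroup H := (P : Subgroup C).map C.subtype with hP'
  have hP'C : P' ≤ C := Subgroup.map_subtype_le _
  have hP'p : IsPGroup p P' := P.2.map _
  have hle : (T : Subgroup H) ⊓ C ≤ P' := by
    intro x hx
    exact ⟨⟨x, hx.2⟩, hP (by rw [Subgroup.mem_subgroupOf]; exact hx), rfl⟩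
  obtain ⟨n, hn, hconj⟩ := exists_conj_le_sylow T hTC (hP'C.trans Subgroup.le_normalizer) hP'p
  have hconjC : conjSub n P' ≤ C := by
    rintro _ ⟨y, hy, rfl⟩
    exact (Subgroup.mem_normalizer_iff.mp hn y).mp (hP'C hy)
  have hcard : Nat.card P' ≤ Nat.card ((T : Subgroup H) ⊓ C : Subgroup H) := by
    rw [← card_conjSub n P']
    exact Subgroup.card_le_of_le (le_inf hconj hconjC)
  have heq : (T : Subgroup H) ⊓ C = P' := Subgroup.eq_of_le_of_card_ge hle hcard
  rw [heq, hP']
  exact (Subgroup.comap_map_eq_self_of_injective C.subtype_injective _).symm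

end Cfsg.Agent.Helper47
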