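import Cfsg.Agent.Helper47.YL2

set_option autoImplicit false

namespace Cfsg.Agent.Helper47

open Cfsg Cfsg.Agent.Helper46 Cfsg.Agent.Helper48

variable {L : Type*} [Group L] {p : ℕ}

/-- Intrinsic `p`-reducedness is the ambient notion for `⊤`. -/
theorem isPReducedNormal_iff_top [Finite L] [hp : Fact p.Prime] {V : Subgroup L} :
    Cfsg.IsPReducedNormal p V ↔ IsPRedIn p V ⊤ := by
  constructor
  · rintro ⟨hVn, hVe, hCn, hcore⟩
    refine ⟨le_top, ?_, hVe, ?_⟩
    · rw [Subgroup.normalizer_eq_top_iff.mpr hVn]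
    · intro D _ hDn hDp
      have := hCn
      have hDn' : D.Normal := Subgroup.normalizer_eq_top_iff.mp (top_le_iff.mp hDn)
      exact (pCore_quotient_eq_bot_iff _).mp hcore D hDn' hDp
  · rintro ⟨-, hVn, hVe, hD⟩
    have hVn' : V.Normal := Subgroup.normalizer_eq_top_iff.mp (top_le_iff.mp hVn)
    have hCn : (Subgroup.centralizer (V : Set L)).Normal := by
      have := hVn'
      exact Subgroup.normal_centralizer
    refine ⟨hVn', hVe, hCn, ?_⟩
    have := hCn
    rw [pCore_quotient_eq_bot_iff]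
    intro D hDn hDp
    exact hD D le_top (by rw [Subgroup.normalizer_eq_top_iff.mpr hDn]) hDp

/-- A normal subgroup that is a `p`-group modulo the normal subgroup `C` lies in `T ⊔ C` for
every Sylow `p`-subgroup `T`. -/
theorem le_sylow_sup_of_normal_pow [Finite L] [hp : Fact p.Prime] (T : Sylow p L)
    {D C : Subgroup L} [hC : C.Normal] (hD : D.Normal)
    (hDp : ∀ d ∈ D, ∃ k : ℕ, d ^ (p ^ k) ∈ C) : D ≤ (T : Subgroup L) ⊔ C := by
  have hmapn : (D.map (QuotientGroup.mk' C)).Normal :=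
    Subgroup.Normal.map hD _ (QuotientGroup.mk'_surjective C)
  have hmapp : IsPGroup p (D.map (QuotientGroup.mk' C)) := by
    rintro ⟨_, d, hd, rfl⟩
    obtain ⟨k, hk⟩ := hDp d hd
    refine ⟨k, ?_⟩
    apply Subtype.ext
    show ((QuotientGroup.mk' C) d) ^ (p ^ k) = 1
    rw [← map_pow, QuotientGroup.mk'_apply, QuotientGroup.eq_one_iff]
    exact hk
  have h1 : D.map (QuotientGroup.mk' C) ≤
      ((T.mapSurjective (QuotientGroup.mk'_surjective C) : Sylow p (L ⧸ C)) : Subgroup (L ⧸ C)) :=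
    Cfsg.Agent.Lib.normal_pGroup_le_sylow hmapn hmapp _
  rw [Sylow.coe_mapSurjective, Subgroup.map_le_iff_le_comap, Subgroup.comap_map_eq,
    QuotientGroup.ker_mk'] at h1
  exact h1

/-- Core of S2802: the normal closure in `L` of a `p`-reduced normal subgroup of a parabolic
subgroup `R` is `p`-reduced normal in `L`, when `L` has characteristic `p`. -/
theorem IsPRedIn.normalClosure_top [Finite L] [hp : Fact p.Prime]
    (hchar : Subgroup.centralizer (Cfsg.pCore p L : Set L) ≤ Cfsg.pCore p L) (T : Sylow p L)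
    {R X : Subgroup L} (hTR : (T : Subgroup L) ≤ R) (hX : IsPRedIn p X R) :
    IsPRedIn p (Subgroup.normalClosure (X : Set L)) ⊤ := by
  set Q := Cfsg.pCore p L with hQ
  set V := Subgroup.normalClosure (X : Set L) with hV
  have hQn : Q.Normal := by
    have hc : (Cfsg.pCore p L).Characteristic := Cfsg.Agent.Lib.pCore_characteristic p
    infer_instance
  have hQp : IsPGroup p Q := Cfsg.Agent.Lib.isPGroup_pCore p
  have hQT : Q ≤ (T : Subgroup L) := Cfsg.Agent.Lib.pCore_le_sylow T
  -- Q ≤ O_p(R) ≤ C(X)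
  have hQR : Q ≤ Cfsg.pCoreOf p R :=
    Cfsg.Agent.Helper46.le_pCoreOf (hQT.trans hTR) hQp (by rw [Subgroup.normalizer_eq_top_iff.mpr hQn]; exact le_top)
  have hQX : Q ≤ Subgroup.centralizer (X : Set L) := hQR.trans hX.pCoreOf_le_centralizer
  have hXQ : X ≤ Q := (Subgroup.le_centralizer_iff.mp hQX).trans hchar
  -- E = Ω₁(Z(Q))
  set E := Cfsg.omegaOne p (Q ⊓ Subgroup.centralizer (Q : Set L)) with hE
  have hXE : X ≤ E := by
    intro x hx
    apply Subgroup.subset_closure
    exact ⟨⟨hXQ hx, (Subgroup.le_centralizer_iff.mp hQX) hx⟩, hX.isElementaryAbelian.2 x hx⟩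
  have hEn : E.Normal := by
    rw [← Subgroup.normalizer_eq_top_iff, eq_top_iff]
    apply omegaOne_normalized_of_normalized
    apply centralizer_normalized_of_normalized
    rw [Subgroup.normalizer_eq_top_iff.mpr hQn]
  have hVE : V ≤ E := Subgroup.normalClosure_le_normal hXE
  have hVe : Cfsg.IsElementaryAbelian p V :=
    Cfsg.Agent.Lib.isElementaryAbelian_mono
      (isElementaryAbelian_omegaOne (inf_centralizer_le_centralizer _)) hVE
  have hVn : V.Normal := Subgroup.normalClosure_normal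
  have hXV : X ≤ V := Subgroup.le_normalClosure
  refine ⟨le_top, by rw [Subgroup.normalizer_eq_top_iff.mpr hVn], hVe, ?_⟩
  intro D _ hDn hDp
  have hDn' : D.Normal := Subgroup.normalizer_eq_top_iff.mp (top_le_iff.mp hDn)
  set C := Subgroup.centralizer (V : Set L) with hC
  have hCn : C.Normal := Subgroup.normal_centralizer
  have hCX : C ≤ Subgroup.centralizer (X : Set L) := Subgroup.centralizer_le hXV
  -- suffices D ≤ C(X)
  suffices hDX : D ≤ Subgroup.centralizer (X : Set L) by
    have hcDn : (Subgroup.centralizer (D : Set L)).Normal := Subgroup.normal_centralizer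
    rw [Subgroup.le_centralizer_iff]
    exact Subgroup.normalClosure_le_normal (Subgroup.le_centralizer_iff.mp hDX)
  have hDCn : (D ⊔ C).Normal := inferInstance
  have hD2 : (D ⊔ C) ⊓ R ≤ Subgroup.centralizer (X : Set L) := by
    apply hX.le_centralizer inf_le_right
    · intro r hr
      rw [Subgroup.mem_normalizer_iff]
      intro x
      rw [Subgroup.mem_inf, Subgroup.mem_inf]
      constructor
      · rintro ⟨h1, h2⟩
        exact ⟨hDCn.conj_mem x h1 r, R.mul_mem (R.mul_mem hr h2) (R.inv_mem hr)⟩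
      · rintro ⟨h1, h2⟩
        have e : x = r⁻¹ * (r * x * r⁻¹) * r⁻¹⁻¹ := by group
        refine ⟨?_, ?_⟩
        · rw [e]; exact hDCn.conj_mem _ h1 r⁻¹
        · rw [e]; exact R.mul_mem (R.mul_mem (R.inv_mem hr) h2) (R.inv_mem (R.inv_mem hr))
    · intro x hx
      obtain ⟨k, hk⟩ := forall_pow_mem_sup
        (show D ≤ Subgroup.normalizer (C : Set L) by
          rw [Subgroup.normalizer_eq_top_iff.mpr hCn]; exact le_top) hDp x hx.1
      exact ⟨k, hCX hk⟩
  have hDTC : D ≤ (T : Subgroup L) ⊔ C := le_sylow_sup_of_normal_pow T hDn' hDp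
  intro d hd
  obtain ⟨t, ht, c, hc, e⟩ := exists_mul_of_mem_sup
    (show (T : Subgroup L) ≤ Subgroup.normalizer (C : Set L) by
      rw [Subgroup.normalizer_eq_top_iff.mpr hCn]; exact le_top) (hDTC hd)
  have ht2 : t ∈ (D ⊔ C) ⊓ R := by
    refine ⟨?_, hTR ht⟩
    have : t = d * c⁻¹ := by rw [e]; group
    rw [this]
    exact Subgroup.mul_mem _ ((le_sup_left : D ≤ D ⊔ C) hd) ((le_sup_right : C ≤ D ⊔ C) (C.inv_mem hc))
  rw [e]
  exact Subgroup.mul_mem _ (hD2 ht2) (hCX hc)

end Cfsg.Agent.Helper47
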