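import Cfsg.Agent.Helper47.YL3
import Cfsg.Agent.Helper67.Conj

set_option autoImplicit false

namespace Cfsg.Agent.Helper47

open Cfsg Cfsg.Agent.Helper46 Cfsg.Agent.Helper48

variable {H : Type*} [Group H] {p : ℕ}

/-- Transfer of ambient `p`-reducedness to the subgroup `L` seen as a group. -/
theorem IsPRedIn.subgroupOf {X R L : Subgroup H} (hRL : R ≤ L) (h : IsPRedIn p X R) :
    IsPRedIn p (X.subgroupOf L) (R.subgroupOf L) := by
  have hXL : X ≤ L := h.le.trans hRL
  have hcent := centralizer_subgroupOf hXL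
  refine ⟨?_, ?_, (isElementaryAbelian_subgroupOf_iff hXL).mpr h.isElementaryAbelian, ?_⟩
  · intro x hx
    rw [Subgroup.mem_subgroupOf] at hx ⊢
    exact h.le hx
  · intro r hr
    rw [Subgroup.mem_subgroupOf] at hr
    have hr' := h.le_normalizer hr
    rw [Subgroup.mem_normalizer_iff] at hr' ⊢
    intro x
    rw [Subgroup.mem_subgroupOf, Subgroup.mem_subgroupOf]
    have := hr' (x : H)
    simpa using this
  · intro D' hD'R hRD' hD'p
    have h1 := h.le_centralizer (D := D'.map L.subtype) (by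
        rintro _ ⟨d, hd, rfl⟩
        have := hD'R hd
        rw [Subgroup.mem_subgroupOf] at this
        exact this) (by
        intro r hr
        have hr' : (⟨r, hRL hr⟩ : L) ∈ Subgroup.normalizer (D' : Set L) :=
          hRD' (by rw [Subgroup.mem_subgroupOf]; exact hr)
        rw [Subgroup.mem_normalizer_iff] at hr' ⊢
        intro x
        constructor
        · rintro ⟨d, hd, rfl⟩
          exact ⟨⟨r, hRL hr⟩ * d * ⟨r, hRL hr⟩⁻¹, (hr' d).mp hd, by simp⟩
        · rintro ⟨d, hd, hdx⟩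
          have hxL : x ∈ L := by
            have : x = r⁻¹ * (r * x * r⁻¹) * r := by group
            rw [this, ← hdx]
            exact L.mul_mem (L.mul_mem (L.inv_mem (hRL hr)) d.2) (hRL hr)
          refine ⟨⟨x, hxL⟩, (hr' ⟨x, hxL⟩).mpr ?_, rfl⟩
          have : (⟨r, hRL hr⟩ : L) * ⟨x, hxL⟩ * (⟨r, hRL hr⟩ : L)⁻¹ = d := by
            apply Subtype.ext
            simpa using hdx.symm
          rw [this]; exact hd) (by
        rintro _ ⟨d, hd, rfl⟩
        obtain ⟨k, hk⟩ := hD'p d hd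
        refine ⟨k, ?_⟩
        rw [hcent, Subgroup.mem_subgroupOf] at hk
        simpa using hk)
    intro d hd
    rw [hcent, Subgroup.mem_subgroupOf]
    exact h1 ⟨d, hd, rfl⟩

/-- Ambient form of S2802: a `p`-reduced normal subgroup of a parabolic subgroup `R` of `L` lies in
`Y_L`, when `L` has characteristic `p`. -/
theorem IsPRedIn.le_largestPReducedOf_of_parabolic [Finite H] [hp : Fact p.Prime] {X R L : Subgroup H}
    (hL : Subgroup.centralizer (Cfsg.pCore p ↥L : Set ↥L) ≤ Cfsg.pCore p ↥L) (T : Sylow p H)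
    (hTR : (T : Subgroup H) ≤ R) (hRL : R ≤ L) (hX : IsPRedIn p X R) :
    X ≤ Cfsg.largestPReducedOf p L := by
  have hTL : (T : Subgroup H) ≤ L := hTR.trans hRL
  have h1 := IsPRedIn.normalClosure_top hL (T.subtype hTL) (R := R.subgroupOf L)
    (X := X.subgroupOf L) (by
      rw [Sylow.coe_subtype]
      intro x hx
      rw [Subgroup.mem_subgroupOf] at hx ⊢
      exact hTR hx) (hX.subgroupOf hRL)
  have h2 := isPReducedNormal_iff_top.mpr h1
  have h3 := IsPReducedNormal.le_largestPReduced h2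
  intro x hx
  refine ⟨⟨x, hRL (hX.le hx)⟩, h3 (Subgroup.le_normalClosure ?_), rfl⟩
  show (⟨x, hRL (hX.le hx)⟩ : L) ∈ X.subgroupOf L
  rw [Subgroup.mem_subgroupOf]; exact hx

section Frattini

variable [Finite H] [hp : Fact p.Prime] (T : Sylow p H) {L Y : Subgroup H}

/-- `C_T(Y)` is a Sylow `p`-subgroup of `C_L(Y)`. -/
theorem IsPRedIn.isSylIn_inf_centralizer (hTL : (T : Subgroup H) ≤ L) (hY : IsPRedIn p Y L) :
    IsSylIn p ((T : Subgroup H) ⊓ Subgroup.centralizer (Y : Set H))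
      (L ⊓ Subgroup.centralizer (Y : Set H)) := by
  have hLN : L ≤ Subgroup.normalizer ((L ⊓ Subgroup.centralizer (Y : Set H) : Subgroup H) : Set H) :=
    (le_inf Subgroup.le_normalizer (hY.le_normalizer.trans
      (Cfsg.Agent.Helper49.normalizer_le_normalizer_centralizer Y))).trans
      Subgroup.inf_normalizer_le_normalizer_inf
  obtain ⟨P, hP⟩ := exists_sylow_inf_of_le_normalizer T (hTL.trans hLN)
  have e : (T : Subgroup H) ⊓ (L ⊓ Subgroup.centralizer (Y : Set H)) =
      (T : Subgroup H) ⊓ Subgroup.centralizer (Y : Set H) := by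
    rw [← inf_assoc, inf_of_le_left hTL]
  refine ⟨P, ?_⟩
  rw [hP, Subgroup.subgroupOf_map_subtype, e]
  exact inf_of_le_left (inf_le_inf_right _ hTL)

/-- Frattini factorization `L = N_L(C_T(Y)) C_L(Y)`. -/
theorem IsPRedIn.frattini (hTL : (T : Subgroup H) ≤ L) (hY : IsPRedIn p Y L) {g : H} (hg : g ∈ L) :
    ∃ a ∈ L ⊓ Subgroup.normalizer
        (((T : Subgroup H) ⊓ Subgroup.centralizer (Y : Set H) : Subgroup H) : Set H),
      ∃ c ∈ L ⊓ Subgroup.centralizer (Y : Set H), g = a * c := by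
  have hLN : L ≤ Subgroup.normalizer ((L ⊓ Subgroup.centralizer (Y : Set H) : Subgroup H) : Set H) :=
    (le_inf Subgroup.le_normalizer (hY.le_normalizer.trans
      (Cfsg.Agent.Helper49.normalizer_le_normalizer_centralizer Y))).trans
      Subgroup.inf_normalizer_le_normalizer_inf
  obtain ⟨r, hr, n, hn, e⟩ := (hY.isSylIn_inf_centralizer T hTL).frattini inf_le_left hLN
    (L.inv_mem hg)
  refine ⟨n⁻¹, Subgroup.inv_mem _ hn, r⁻¹, Subgroup.inv_mem _ hr, ?_⟩
  have : g = (g⁻¹)⁻¹ := by group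
  rw [this, e]; group

/-- `L C_H(Y) = N_L(C_T(Y)) C_H(Y)`. -/
theorem IsPRedIn.inf_normalizer_sup (hTL : (T : Subgroup H) ≤ L) (hY : IsPRedIn p Y L) :
    (L ⊓ Subgroup.normalizer
        (((T : Subgroup H) ⊓ Subgroup.centralizer (Y : Set H) : Subgroup H) : Set H)) ⊔
      Subgroup.centralizer (Y : Set H) = L ⊔ Subgroup.centralizer (Y : Set H) := by
  apply le_antisymm (sup_le_sup_right inf_le_left _)
  refine sup_le ?_ le_sup_right
  intro g hg
  obtain ⟨a, ha, c, hc, rfl⟩ := hY.frattini T hTL hg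
  exact Subgroup.mul_mem _ ((le_sup_left : _ ≤ _ ⊔ Subgroup.centralizer (Y : Set H)) ha)
    ((le_sup_right : Subgroup.centralizer (Y : Set H) ≤ _) hc.2)

theorem IsPRedIn.le_inf_centralizer (hTL : (T : Subgroup H) ≤ L) (hY : IsPRedIn p Y L) :
    Y ≤ (T : Subgroup H) ⊓ Subgroup.centralizer (Y : Set H) :=
  le_inf (hY.le_pCoreOf.trans (pCoreOf_le_sylow T hTL))
    (Subgroup.le_centralizer_iff_isMulCommutative.mpr hY.isElementaryAbelian.1)

omit [Finite H] hp in
theorem sylow_le_inf_normalizer (hTL : (T : Subgroup H) ≤ L) (hY : IsPRedIn p Y L) :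
    (T : Subgroup H) ≤ L ⊓ Subgroup.normalizer
        (((T : Subgroup H) ⊓ Subgroup.centralizer (Y : Set H) : Subgroup H) : Set H) :=
  le_inf hTL ((le_inf Subgroup.le_normalizer ((hTL.trans hY.le_normalizer).trans
      (Cfsg.Agent.Helper49.normalizer_le_normalizer_centralizer Y))).trans
      Subgroup.inf_normalizer_le_normalizer_inf)

/-- `Y` is `p`-reduced in `N_L(C_T(Y))`. -/
theorem IsPRedIn.inf_normalizer (hTL : (T : Subgroup H) ≤ L) (hY : IsPRedIn p Y L) :
    IsPRedIn p Y (L ⊓ Subgroup.normalizer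
        (((T : Subgroup H) ⊓ Subgroup.centralizer (Y : Set H) : Subgroup H) : Set H)) :=
  hY.of_sup_centralizer_eq
    (((hY.le_inf_centralizer T hTL).trans inf_le_left).trans (sylow_le_inf_normalizer T hTL hY))
    (hY.inf_normalizer_sup T hTL)

/-- `O_p(N_L(C_T(Y))) = C_T(Y)`. -/
theorem IsPRedIn.pCoreOf_inf_normalizer (hTL : (T : Subgroup H) ≤ L) (hY : IsPRedIn p Y L) :
    Cfsg.pCoreOf p (L ⊓ Subgroup.normalizer
        (((T : Subgroup H) ⊓ Subgroup.centralizer (Y : Set H) : Subgroup H) : Set H)) =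
      (T : Subgroup H) ⊓ Subgroup.centralizer (Y : Set H) := by
  apply le_antisymm
  · exact le_inf (pCoreOf_le_sylow T (sylow_le_inf_normalizer T hTL hY))
      (hY.inf_normalizer T hTL).pCoreOf_le_centralizer
  · exact Cfsg.Agent.Helper46.le_pCoreOf (inf_le_left.trans (sylow_le_inf_normalizer T hTL hY))
      (T.2.to_le inf_le_left) inf_le_right

/-- A `p`-element of `C_L(Y)` normalizing `C_T(Y)` lies in `C_T(Y)`. -/
theorem IsPRedIn.mem_inf_centralizer_of_pow (hTL : (T : Subgroup H) ≤ L) (hY : IsPRedIn p Y L)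
    {z : H} (hzL : z ∈ L ⊓ Subgroup.centralizer (Y : Set H))
    (hzN : z ∈ Subgroup.normalizer
        (((T : Subgroup H) ⊓ Subgroup.centralizer (Y : Set H) : Subgroup H) : Set H))
    {k : ℕ} (hk : z ^ (p ^ k) = 1) : z ∈ (T : Subgroup H) ⊓ Subgroup.centralizer (Y : Set H) := by
  set T₀ := (T : Subgroup H) ⊓ Subgroup.centralizer (Y : Set H) with hT₀
  have hSyl := hY.isSylIn_inf_centralizer T hTL
  have hzp : IsPGroup p (Subgroup.zpowers z) := by
    rintro ⟨w, hw⟩
    obtain ⟨i, rfl⟩ := Subgroup.mem_zpowers_iff.mp hw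
    refine ⟨k, ?_⟩
    apply Subtype.ext
    show (z ^ i) ^ (p ^ k) = 1
    rw [← zpow_natCast, ← zpow_mul, mul_comm, zpow_mul, zpow_natCast, hk, one_zpow]
  have hT₀p : IsPGroup p T₀ := T.2.to_le inf_le_left
  have hsup : IsPGroup p (Subgroup.zpowers z ⊔ T₀ : Subgroup H) :=
    hzp.to_sup_of_normal_right' hT₀p (Subgroup.zpowers_le.mpr hzN)
  have hsuple : Subgroup.zpowers z ⊔ T₀ ≤ L ⊓ Subgroup.centralizer (Y : Set H) :=
    sup_le (Subgroup.zpowers_le.mpr hzL) hSyl.le
  obtain ⟨P', hP', hle⟩ := IsSylIn.exists_of_pgroup hsuple hsup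
  have hT₀P' : T₀ ≤ P' := le_sup_right.trans hle
  have hcard : Nat.card P' ≤ Nat.card T₀ := by rw [hP'.card, hSyl.card]
  have : T₀ = P' := Subgroup.eq_of_le_of_card_ge hT₀P' hcard
  rw [this]
  exact hle (le_sup_left (a := Subgroup.zpowers z) (Subgroup.mem_zpowers z))

/-- Core of S2803 (c): `Y = Ω₁(Z(C_T(Y)))` when `Y` is the largest `p`-reduced normal subgroup of
`L` in the sense that it contains the `p`-reduced normal subgroups of all parabolics of `L`. -/
theorem IsPRedIn.eq_omegaOne_of_parabolic_max (hTL : (T : Subgroup H) ≤ L) (hY : IsPRedIn p Y L)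
    (hpar : ∀ R X : Subgroup H, (T : Subgroup H) ≤ R → R ≤ L → IsPRedIn p X R → X ≤ Y) :
    Y = Cfsg.omegaOne p (((T : Subgroup H) ⊓ Subgroup.centralizer (Y : Set H)) ⊓
      Subgroup.centralizer ((((T : Subgroup H) ⊓ Subgroup.centralizer (Y : Set H)) : Subgroup H) : Set H)) := by
  set C := Subgroup.centralizer (Y : Set H) with hC
  set T₀ := (T : Subgroup H) ⊓ C with hT₀
  set N := L ⊓ Subgroup.normalizer (T₀ : Set H) with hN
  set W := Cfsg.omegaOne p (T₀ ⊓ Subgroup.centralizer (T₀ : Set H)) with hW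
  have hYT₀ : Y ≤ T₀ := hY.le_inf_centralizer T hTL
  have hYW : Y ≤ W := by
    intro y hy
    apply Subgroup.subset_closure
    refine ⟨⟨hYT₀ hy, ?_⟩, hY.isElementaryAbelian.2 y hy⟩
    exact (Subgroup.le_centralizer_iff.mp (inf_le_right : T₀ ≤ C)) hy
  apply le_antisymm hYW
  have hTN : (T : Subgroup H) ≤ N := sylow_le_inf_normalizer T hTL hY
  have hYN : IsPRedIn p Y N := hY.inf_normalizer T hTL
  have hWT₀ : W ≤ T₀ := (omegaOne_le _).trans inf_le_left
  have hWC : W ≤ Subgroup.centralizer (T₀ : Set H) := (omegaOne_le _).trans inf_le_right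
  have hT₀W : T₀ ≤ Subgroup.centralizer (W : Set H) := Subgroup.le_centralizer_iff.mp hWC
  have hCW : Subgroup.centralizer (W : Set H) ≤ C := Subgroup.centralizer_le hYW
  apply hpar N W hTN inf_le_left
  refine ⟨hWT₀.trans (inf_le_left.trans hTN), ?_, isElementaryAbelian_omegaOne (inf_centralizer_le_centralizer T₀), ?_⟩
  · exact omegaOne_normalized_of_normalized (centralizer_normalized_of_normalized inf_le_right)
  · intro D hDN hND hDp
    have hDC : D ≤ C := hYN.le_centralizer hDN hND (fun d hd => by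
      obtain ⟨k, hk⟩ := hDp d hd
      exact ⟨k, hCW hk⟩)
    intro d hd
    obtain ⟨y, z, hy, hz, hyz, hcop, k', hk'⟩ :=
      Cfsg.Agent.Helper67.exists_pprime_ppart p (isOfFinOrder_of_finite d)
    have hzD : z ∈ D := (Subgroup.zpowers_le.mpr hd) hz
    have hzT₀ : z ∈ T₀ :=
      hY.mem_inf_centralizer_of_pow T hTL ⟨(hDN hzD).1, hDC hzD⟩ (hDN hzD).2 hk'
    obtain ⟨k, hk⟩ := hDp d hd
    have hyk : y ^ (p ^ k) ∈ Subgroup.centralizer (W : Set H) := by
      obtain ⟨i, rfl⟩ := Subgroup.mem_zpowers_iff.mp hy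
      have : (d ^ i) ^ (p ^ k) = (d ^ (p ^ k)) ^ i := by
        rw [← zpow_natCast, ← zpow_mul, mul_comm, zpow_mul, zpow_natCast]
      rw [this]
      exact Subgroup.zpow_mem _ hk i
    obtain ⟨m, hm⟩ := exists_pow_eq_self_of_coprime (x := y) (n := p ^ k)
      (Nat.Coprime.pow_left k hcop.symm)
    have hyW : y ∈ Subgroup.centralizer (W : Set H) := by
      rw [← hm]; exact Subgroup.pow_mem _ hyk m
    rw [hyz]
    exact Subgroup.mul_mem _ hyW (hT₀W hzT₀)

end Frattini

end Cfsg.Agent.Helper47
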