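import Cfsg.Agent.Helper47.YL
import Cfsg.Agent.Helper47.YL3
import Cfsg.Agent.Helper47.OpSubnormal
import Cfsg.Agent.Helper47.WeaklyClosed
import Cfsg.Agent.Helper34.Basic
import Cfsg.Agent.Helper63.PGroup
import Cfsg.Agent.Helper48.StronglyEmbedded
import Cfsg.Agent.Helper51.CD
import Cfsg.Agent.Helper51.ElemAb
import Cfsg.Agent.Helper24.Coprime
import Cfsg.Agent.Helper48.CoprimeGen

/-!
# `p`-reduced normal subgroups and subnormal subgroups (helper47)

Tools for S2825: the largest subgroup of `L` that is a `p`-group modulo `C` (`pCoreMod`), a fixed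
point lemma, Thompson's `P × Q` lemma for an abelian group with `P` acting modulo the centralizer,
and the comparison of `Y_L` and `Y_K` for `L` normal in `K`.
-/

set_option autoImplicit false

namespace Cfsg.Agent.Helper47

open Cfsg Cfsg.Agent.Helper48 Cfsg.Agent.Helper51
open scoped commutatorElement

variable {H : Type*} [Group H] {p : ℕ}

/-! ### powers and orders -/

/-- Some `p`-power power of an element of finite order has order prime to `p`. -/
theorem exists_pow_orderOf_coprime [Finite H] [hp : Fact p.Prime] (d : H) :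
    ∃ k : ℕ, (orderOf (d ^ p ^ k)).Coprime p := by
  have hpos : 0 < orderOf d := orderOf_pos d
  obtain ⟨k, m, hm, hkm⟩ := Nat.exists_eq_pow_mul_and_not_dvd hpos.ne' p hp.out.ne_one
  refine ⟨k, ?_⟩
  have hord : orderOf (d ^ p ^ k) = m := by
    rw [orderOf_pow' d (pow_ne_zero k hp.out.ne_zero), hkm, Nat.gcd_eq_right (dvd_mul_right _ _),
      Nat.mul_div_cancel_left _ (pow_pos hp.out.pos k)]
  rw [hord]
  exact (Nat.Coprime.symm ((Nat.Prime.coprime_iff_not_dvd hp.out).mpr hm))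

/-- An element of order prime to `p` lies in every subgroup containing one of its `p`-power
powers. -/
theorem mem_of_pow_mem_of_coprime {C : Subgroup H} {d : H} (hcop : (orderOf d).Coprime p) {k : ℕ}
    (hk : d ^ p ^ k ∈ C) : d ∈ C := by
  have h1 : (p ^ k).Coprime (orderOf d) := (Nat.Coprime.pow_right k hcop).symm
  obtain ⟨m, hm⟩ := exists_pow_eq_self_of_coprime h1
  rw [← hm]
  exact C.pow_mem hk m

/-! ### The largest subgroup of `L` that is a `p`-group modulo `C` -/

/-- The largest subgroup of `L`, normalized by `L`, all of whose elements have a `p`-power power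
in `C`. -/
def pCoreMod (p : ℕ) (L C : Subgroup H) : Subgroup H :=
  sSup {D : Subgroup H | D ≤ L ∧ L ≤ Subgroup.normalizer (D : Set H) ∧
    ∀ d ∈ D, ∃ k : ℕ, d ^ (p ^ k) ∈ C}

theorem pCoreMod_le (L C : Subgroup H) : pCoreMod p L C ≤ L :=
  sSup_le (fun _ hD => hD.1)

theorem le_pCoreMod {L C D : Subgroup H} (h1 : D ≤ L) (h2 : L ≤ Subgroup.normalizer (D : Set H))
    (h3 : ∀ d ∈ D, ∃ k : ℕ, d ^ (p ^ k) ∈ C) : D ≤ pCoreMod p L C :=
  le_sSup ⟨h1, h2, h3⟩

/-- Elements normalizing `L` and `C` normalize `pCoreMod p L C`. -/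
theorem le_normalizer_pCoreMod [Finite H] (L C : Subgroup H) :
    Subgroup.normalizer (L : Set H) ⊓ Subgroup.normalizer (C : Set H) ≤
      Subgroup.normalizer ((pCoreMod p L C : Subgroup H) : Set H) := by
  intro g hg
  apply mem_normalizer_of_conjSub_le
  show (pCoreMod p L C).map (MulAut.conj g).toMonoidHom ≤ _
  rw [Subgroup.map_le_iff_le_comap]
  apply sSup_le
  intro D hD
  rw [← Subgroup.map_le_iff_le_comap]
  have hgL : conjSub g L = L := conjSub_eq_self_iff.mpr hg.1
  apply le_pCoreMod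
  · calc conjSub g D ≤ conjSub g L := Subgroup.map_mono hD.1
      _ = L := hgL
  · rw [normalizer_conjSub]
    calc L = conjSub g L := hgL.symm
      _ ≤ conjSub g (Subgroup.normalizer (D : Set H)) := Subgroup.map_mono hD.2.1
  · rintro _ ⟨d, hd, rfl⟩
    obtain ⟨k, hk⟩ := hD.2.2 d hd
    refine ⟨k, ?_⟩
    simp only [MulEquiv.coe_toMonoidHom, MulAut.conj_apply]
    rw [conj_pow]
    exact (Subgroup.mem_normalizer_iff.mp hg.2 _).mp hk

/-- `pCoreMod p L C` is a `p`-group modulo `C`. -/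
theorem pow_mem_of_mem_pCoreMod [Finite H] [Fact p.Prime] {L C : Subgroup H}
    (hLC : L ≤ Subgroup.normalizer (C : Set H)) :
    ∀ d ∈ pCoreMod p L C, ∃ k : ℕ, d ^ (p ^ k) ∈ C := by
  have hC'n : (C.subgroupOf L).Normal := Subgroup.normal_subgroupOf_of_le_normalizer hLC
  have hD₀ : ∀ y : L, y ∈ (Cfsg.pCore p (L ⧸ C.subgroupOf L)).comap
      (QuotientGroup.mk' (C.subgroupOf L)) → ∃ k : ℕ, (y : H) ^ (p ^ k) ∈ C := by
    intro y hy
    obtain ⟨k, hk⟩ := (Cfsg.Agent.Lib.isPGroup_pCore (G := L ⧸ C.subgroupOf L) p)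
      ⟨(QuotientGroup.mk' (C.subgroupOf L)) y, hy⟩
    refine ⟨k, ?_⟩
    have hk' := congrArg Subtype.val hk
    simp only [Subgroup.coe_pow, Subgroup.coe_one] at hk'
    rw [← map_pow, QuotientGroup.mk'_apply, QuotientGroup.eq_one_iff,
      Subgroup.mem_subgroupOf] at hk'
    simpa using hk'
  have hle : pCoreMod p L C ≤ ((Cfsg.pCore p (L ⧸ C.subgroupOf L)).comap
      (QuotientGroup.mk' (C.subgroupOf L))).map L.subtype := by
    apply sSup_le
    intro D hD
    have hDn : (D.subgroupOf L).Normal :=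
      (Subgroup.normal_subgroupOf_iff_le_normalizer hD.1).mpr hD.2.1
    have hmapn : ((D.subgroupOf L).map (QuotientGroup.mk' (C.subgroupOf L))).Normal :=
      Subgroup.Normal.map hDn _ (QuotientGroup.mk'_surjective _)
    have hmapp : IsPGroup p ((D.subgroupOf L).map (QuotientGroup.mk' (C.subgroupOf L))) := by
      rintro ⟨_, d, hd, rfl⟩
      have hd' : d ∈ D.subgroupOf L := hd
      rw [Subgroup.mem_subgroupOf] at hd'
      obtain ⟨k, hk⟩ := hD.2.2 _ hd'
      refine ⟨k, ?_⟩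
      apply Subtype.ext
      show ((QuotientGroup.mk' (C.subgroupOf L)) d) ^ (p ^ k) = 1
      rw [← map_pow, QuotientGroup.mk'_apply, QuotientGroup.eq_one_iff, Subgroup.mem_subgroupOf]
      simpa using hk
    have hle := Cfsg.Agent.Lib.le_pCore hmapn hmapp
    intro d hd
    refine ⟨⟨d, hD.1 hd⟩, ?_, rfl⟩
    show (QuotientGroup.mk' (C.subgroupOf L)) ⟨d, hD.1 hd⟩ ∈ Cfsg.pCore p _
    exact hle (Subgroup.mem_map_of_mem _ (by rw [Subgroup.mem_subgroupOf]; exact hd))
  intro d hd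
  obtain ⟨y, hy, rfl⟩ := hle hd
  exact hD₀ y hy

/-! ### Fixed points -/

/-- A `p`-group `P` normalizing a nontrivial `p`-group `U` centralizes a nontrivial element of
`U`. -/
theorem inf_centralizer_ne_bot_of_le_normalizer [Finite H] [Fact p.Prime] {U P : Subgroup H}
    (hU : IsPGroup p U) (hP : IsPGroup p P) (hPU : P ≤ Subgroup.normalizer (U : Set H))
    (hne : U ≠ ⊥) : U ⊓ Subgroup.centralizer (P : Set H) ≠ ⊥ := by
  have hS : IsPGroup p ↥(U ⊔ P) := hU.to_sup_of_normal_left' hP hPU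
  have hUS : U ≤ U ⊔ P := le_sup_left
  have hSN : U ⊔ P ≤ Subgroup.normalizer (U : Set H) := sup_le Subgroup.le_normalizer hPU
  have hn : (U.subgroupOf (U ⊔ P)).Normal :=
    (Subgroup.normal_subgroupOf_iff_le_normalizer hUS).mpr hSN
  have hne' : U.subgroupOf (U ⊔ P) ≠ ⊥ := by
    intro h
    apply hne
    rw [eq_bot_iff]
    intro u hu
    have h1 : (⟨u, hUS hu⟩ : ↥(U ⊔ P)) ∈ U.subgroupOf (U ⊔ P) := by
      rw [Subgroup.mem_subgroupOf]; exact hu
    rw [h, Subgroup.mem_bot] at h1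
    rw [Subgroup.mem_bot]; exact congrArg Subtype.val h1
  have h2 := Cfsg.Agent.Helper63.normal_inf_center_ne_bot hS (U.subgroupOf (U ⊔ P)) hne'
  obtain ⟨⟨z, hz⟩, hz1⟩ := (Subgroup.ne_bot_iff_exists_ne_one).mp h2
  intro hbot
  apply hz1
  have hzU : (z : H) ∈ U := by
    have h5 : z ∈ U.subgroupOf (U ⊔ P) := hz.1
    rwa [Subgroup.mem_subgroupOf] at h5
  have hzC : (z : H) ∈ Subgroup.centralizer (P : Set H) := by
    rw [Subgroup.mem_centralizer_iff]
    intro b hb
    have h3 := (Subgroup.mem_center_iff.mp hz.2) ⟨b, (le_sup_right : P ≤ U ⊔ P) hb⟩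
    exact congrArg Subtype.val h3
  have h4 : (z : H) ∈ U ⊓ Subgroup.centralizer (P : Set H) := ⟨hzU, hzC⟩
  rw [hbot, Subgroup.mem_bot] at h4
  apply Subtype.ext
  apply Subtype.ext
  exact h4

/-- A subgroup `D` acting as a `p`-group on a nontrivial `p`-group `U` centralizes a nontrivial
element of `U`. -/
theorem inf_centralizer_ne_bot_of_pow_mem [Finite H] [hp : Fact p.Prime] {U D : Subgroup H}
    (hU : IsPGroup p U) (hDU : D ≤ Subgroup.normalizer (U : Set H))
    (hD : ∀ d ∈ D, ∃ k : ℕ, d ^ (p ^ k) ∈ Subgroup.centralizer (U : Set H))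
    (hne : U ≠ ⊥) : U ⊓ Subgroup.centralizer (D : Set H) ≠ ⊥ := by
  obtain ⟨S⟩ : Nonempty (Sylow p D) := inferInstance
  have hP : IsPGroup p ((S : Subgroup D).map D.subtype) := S.isPGroup'.map _
  have hPD : (S : Subgroup D).map D.subtype ≤ D := Subgroup.map_subtype_le _
  have h1 := inf_centralizer_ne_bot_of_le_normalizer hU hP (hPD.trans hDU) hne
  have h2 : (Cfsg.pResidual p D).map D.subtype ⊔ (S : Subgroup D).map D.subtype = D := by
    have h3 := congrArg (Subgroup.map D.subtype) (Cfsg.Agent.Helper34.pResidual_sup_sylow p D S)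
    rw [Subgroup.map_sup, ← MonoidHom.range_eq_map, Subgroup.range_subtype] at h3
    exact h3
  have h4 : (Cfsg.pResidual p D).map D.subtype ≤ Subgroup.centralizer (U : Set H) := by
    rw [pResidual_map_subtype_eq_closure, Subgroup.closure_le]
    rintro x ⟨hxD, hx⟩
    obtain ⟨k, hk⟩ := hD x hxD
    exact mem_of_pow_mem_of_coprime hx hk
  intro hbot
  apply h1
  rw [eq_bot_iff, ← hbot]
  intro u hu
  have hle : D ≤ Subgroup.centralizer ({u} : Set H) := by
    rw [← h2]
    refine sup_le ?_ ?_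
    · intro y hy
      rw [Subgroup.mem_centralizer_singleton_iff]
      exact (Subgroup.mem_centralizer_iff.mp (h4 hy) u hu.1).symm
    · intro y hy
      rw [Subgroup.mem_centralizer_singleton_iff]
      exact Subgroup.mem_centralizer_iff.mp hu.2 y hy
  have huC : u ∈ Subgroup.centralizer (D : Set H) := by
    rw [Subgroup.mem_centralizer_iff]
    intro d hd
    exact Subgroup.mem_centralizer_singleton_iff.mp (hle hd)
  exact ⟨hu.1, huC⟩

/-! ### Thompson's `P × Q` lemma for abelian `V`, with `P` acting modulo `C(V)` -/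

/-- Let `V` be an abelian `p`-subgroup, `x` an element of order prime to `p` normalizing `V`, and
`D` a subgroup normalizing `V`, acting on `V` as a `p`-group and commuting with `x` modulo `C(V)`.
If `x` centralizes `C_V(D)` then `x` centralizes `V`. -/
theorem commute_of_PxQ_mod [Finite H] [hp : Fact p.Prime] {V D : Subgroup H} (hVp : IsPGroup p V)
    (hVc : ∀ a ∈ V, ∀ b ∈ V, a * b = b * a) {x : H}
    (hxV : x ∈ Subgroup.normalizer (V : Set H)) (hcop : (orderOf x).Coprime p)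
    (hDV : D ≤ Subgroup.normalizer (V : Set H))
    (hDp : ∀ d ∈ D, ∃ k : ℕ, d ^ (p ^ k) ∈ Subgroup.centralizer (V : Set H))
    (hDx : ∀ d ∈ D, ⁅d, x⁆ ∈ Subgroup.centralizer (V : Set H))
    (hfix : ∀ v ∈ V, (∀ d ∈ D, d * v = v * d) → x * v = v * x) :
    ∀ v ∈ V, x * v = v * x := by
  have hconj : ∀ v ∈ V, x * v * x⁻¹ ∈ V := fun v hv =>
    (Subgroup.mem_normalizer_iff.mp hxV v).mp hv
  -- the commutator map `τ : V → H`
  let τ : V →* H := MonoidHom.mk' (fun v => x * (v : H) * x⁻¹ * (v : H)⁻¹) (by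
    intro a b
    have ha' := hconj a a.2
    have hb' := hconj b b.2
    have h1 : (a : H)⁻¹ * (x * (b : H) * x⁻¹ * (b : H)⁻¹) =
        (x * (b : H) * x⁻¹ * (b : H)⁻¹) * (a : H)⁻¹ :=
      hVc _ (V.inv_mem a.2) _ (V.mul_mem hb' (V.inv_mem b.2))
    show x * ((a : H) * (b : H)) * x⁻¹ * ((a : H) * (b : H))⁻¹ =
      x * (a : H) * x⁻¹ * (a : H)⁻¹ * (x * (b : H) * x⁻¹ * (b : H)⁻¹)
    calc x * ((a : H) * (b : H)) * x⁻¹ * ((a : H) * (b : H))⁻¹
        = x * (a : H) * x⁻¹ * ((x * (b : H) * x⁻¹ * (b : H)⁻¹) * (a : H)⁻¹) := by group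
      _ = x * (a : H) * x⁻¹ * ((a : H)⁻¹ * (x * (b : H) * x⁻¹ * (b : H)⁻¹)) := by rw [h1]
      _ = x * (a : H) * x⁻¹ * (a : H)⁻¹ * (x * (b : H) * x⁻¹ * (b : H)⁻¹) := by group)
  have hτ : ∀ v : V, τ v = x * (v : H) * x⁻¹ * (v : H)⁻¹ := fun _ => rfl
  have hUV : τ.range ≤ V := by
    rintro _ ⟨v, rfl⟩
    rw [hτ]
    exact V.mul_mem (hconj v v.2) (V.inv_mem v.2)
  have hUp : IsPGroup p τ.range := hVp.to_le hUV
  by_cases hU : τ.range = ⊥
  · intro v hv
    have h1 : τ ⟨v, hv⟩ ∈ τ.range := ⟨_, rfl⟩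
    rw [hU, Subgroup.mem_bot, hτ] at h1
    have h2 : x * v * x⁻¹ = v := by
      have := mul_inv_eq_one.mp h1
      exact this
    calc x * v = x * v * x⁻¹ * x := by group
      _ = v * x := by rw [h2]
  · exfalso
    -- `D` normalizes the range of `τ`
    have hDU : D ≤ Subgroup.normalizer ((τ.range : Subgroup H) : Set H) := by
      apply Cfsg.Agent.Helper48.mem_normalizer_of_forall_conj_mem
      rintro d hd _ ⟨v, rfl⟩
      have hw : d * (v : H) * d⁻¹ ∈ V := (Subgroup.mem_normalizer_iff.mp (hDV hd) v).mp v.2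
      refine ⟨⟨d * (v : H) * d⁻¹, hw⟩, ?_⟩
      rw [hτ, hτ]
      show x * (d * (v : H) * d⁻¹) * x⁻¹ * (d * (v : H) * d⁻¹)⁻¹ =
        d * (x * (v : H) * x⁻¹ * (v : H)⁻¹) * d⁻¹
      -- `c = [d, x]` centralizes `V`
      have hc := hDx d hd
      rw [commutatorElement_def] at hc
      have hxw : x * (d * (v : H) * d⁻¹) * x⁻¹ ∈ V := hconj _ hw
      have h3 := Subgroup.mem_centralizer_iff.mp hc _ hxw
      -- h3 : (x w x⁻¹) * c = c * (x w x⁻¹)
      have h4 : d * x * d⁻¹ * x⁻¹ * (x * (d * (v : H) * d⁻¹) * x⁻¹) * (d * x * d⁻¹ * x⁻¹)⁻¹ =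
          x * (d * (v : H) * d⁻¹) * x⁻¹ := by
        rw [← h3]; group
      calc x * (d * (v : H) * d⁻¹) * x⁻¹ * (d * (v : H) * d⁻¹)⁻¹
          = d * x * d⁻¹ * x⁻¹ * (x * (d * (v : H) * d⁻¹) * x⁻¹) * (d * x * d⁻¹ * x⁻¹)⁻¹ *
              (d * (v : H) * d⁻¹)⁻¹ := by rw [h4]
        _ = d * (x * (v : H) * x⁻¹ * (v : H)⁻¹) * d⁻¹ := by group
    have hDpU : ∀ d ∈ D, ∃ k : ℕ, d ^ (p ^ k) ∈
        Subgroup.centralizer ((τ.range : Subgroup H) : Set H) := by
      intro d hd
      obtain ⟨k, hk⟩ := hDp d hd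
      exact ⟨k, Subgroup.centralizer_le hUV hk⟩
    have hne := inf_centralizer_ne_bot_of_pow_mem hUp hDU hDpU hU
    obtain ⟨⟨u, hu⟩, hu1⟩ := (Subgroup.ne_bot_iff_exists_ne_one).mp hne
    have huU : u ∈ τ.range := hu.1
    have huD : u ∈ Subgroup.centralizer (D : Set H) := hu.2
    have huV : u ∈ V := hUV huU
    have hxu : x * u = u * x := hfix u huV (fun d hd => Subgroup.mem_centralizer_iff.mp huD d hd)
    obtain ⟨v, hv⟩ := huU
    rw [hτ] at hv
    have hconj' : x * (v : H) * x⁻¹ = u * (v : H) := by rw [← hv]; group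
    have hcop' : (orderOf x).Coprime (orderOf u) :=
      Cfsg.Agent.Helper24.coprime_orderOf_of_mem hVp huV hcop
    have hxv := Cfsg.Agent.Helper24.commute_of_conj_eq_mul x (v : H) u hconj' hxu hcop'
    apply hu1
    apply Subtype.ext
    show u = 1
    rw [← hv, hxv]; group

/-! ### Conjugation invariance -/

theorem isElementaryAbelian_conjSub {V : Subgroup H} (h : Cfsg.IsElementaryAbelian p V) (g : H) :
    Cfsg.IsElementaryAbelian p (conjSub g V) := by
  obtain ⟨h1, h2⟩ := h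
  refine ⟨?_, ?_⟩
  · apply Subgroup.le_centralizer_iff_isMulCommutative.mp
    rw [← cj_centralizer]
    exact Subgroup.map_mono (Subgroup.le_centralizer_iff_isMulCommutative.mpr h1)
  · rintro _ ⟨a, ha, rfl⟩
    rw [← map_pow, h2 a ha, map_one]

/-- Conjugates of `p`-reduced normal subgroups. -/
theorem IsPRedIn.conj {V L : Subgroup H} (h : IsPRedIn p V L) (g : H) :
    IsPRedIn p (conjSub g V) (conjSub g L) := by
  refine ⟨Subgroup.map_mono h.le, ?_, isElementaryAbelian_conjSub h.isElementaryAbelian g, ?_⟩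
  · rw [normalizer_conjSub]; exact Subgroup.map_mono h.le_normalizer
  · intro D hDL hLD hDp
    have h1 : conjSub g⁻¹ D ≤ L := by
      have := cj_mono g⁻¹ hDL
      rwa [cj_inv_cj] at this
    have h2 : L ≤ Subgroup.normalizer ((conjSub g⁻¹ D : Subgroup H) : Set H) := by
      rw [normalizer_conjSub]
      have := cj_mono g⁻¹ hLD
      rwa [cj_inv_cj] at this
    have h3 : ∀ d ∈ conjSub g⁻¹ D, ∃ k : ℕ, d ^ (p ^ k) ∈ Subgroup.centralizer (V : Set H) := by
      rintro _ ⟨d, hd, rfl⟩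
      obtain ⟨k, hk⟩ := hDp d hd
      refine ⟨k, ?_⟩
      rw [← map_pow]
      have h4 : (MulAut.conj g⁻¹).toMonoidHom (d ^ p ^ k) ∈
          cj g⁻¹ (Subgroup.centralizer ((conjSub g V : Subgroup H) : Set H)) :=
        Subgroup.mem_map_of_mem _ hk
      rw [cj_centralizer] at h4
      have h5 : cj g⁻¹ (conjSub g V) = V := cj_inv_cj g V
      rw [h5] at h4
      exact h4
    have h6 := h.le_centralizer h1 h2 h3
    have h7 := cj_mono g h6
    rw [cj_cj_inv, cj_centralizer] at h7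
    exact h7

/-- `Y_L` is normalized by `N(L)`. -/
theorem normalizer_le_normalizer_largestPReducedOf [Finite H] [hp : Fact p.Prime]
    (L : Subgroup H) : Subgroup.normalizer (L : Set H) ≤
      Subgroup.normalizer ((Cfsg.largestPReducedOf p L : Subgroup H) : Set H) := by
  intro g hg
  apply mem_normalizer_of_conjSub_le
  have h1 := (isPRedIn_largestPReducedOf (p := p) L).conj g
  rw [conjSub_eq_self_iff.mpr hg] at h1
  exact h1.le_largestPReducedOf

end Cfsg.Agent.Helper47
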