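import Cfsg.Agent.Helper47.YSub

/-!
# `Y_L` for `L` normal in `K` (helper47)
-/

set_option autoImplicit false

namespace Cfsg.Agent.Helper47

open Cfsg Cfsg.Agent.Helper48 Cfsg.Agent.Helper51
open scoped commutatorElement

variable {H : Type*} [Group H] {p : ℕ}

/-- If `V` is `p`-reduced normal in `K` and `L` is normal in `K`, then `V ∩ L` is `p`-reduced normal
in `L`, and `C_L(V ∩ L) = C_L(V)`. -/
theorem IsPRedIn.inf_of_normal [Finite H] [hp : Fact p.Prime] {V K L : Subgroup H}
    (hV : IsPRedIn p V K) (hLK : L ≤ K) (hKL : K ≤ Subgroup.normalizer (L : Set H)) :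
    IsPRedIn p (V ⊓ L) L ∧
      L ⊓ Subgroup.centralizer ((V ⊓ L : Subgroup H) : Set H) ≤
        Subgroup.centralizer (V : Set H) := by
  have hKV := hV.le_normalizer
  have hKW : K ≤ Subgroup.normalizer ((V ⊓ L : Subgroup H) : Set H) :=
    (le_inf hKV hKL).trans Subgroup.inf_normalizer_le_normalizer_inf
  have hWel : Cfsg.IsElementaryAbelian p (V ⊓ L) :=
    isElementaryAbelian_of_le hV.isElementaryAbelian inf_le_left
  have hWp : IsPGroup p ↥(V ⊓ L) := Cfsg.Agent.Lib.isElementaryAbelian_isPGroup hWel
  have hKCW : K ≤ Subgroup.normalizer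
      ((Subgroup.centralizer ((V ⊓ L : Subgroup H) : Set H) : Subgroup H) : Set H) :=
    hKW.trans (Cfsg.Agent.Helper49.normalizer_le_normalizer_centralizer _)
  have hDsL : pCoreMod p L (Subgroup.centralizer ((V ⊓ L : Subgroup H) : Set H)) ≤ L :=
    pCoreMod_le _ _
  have hKDs : K ≤ Subgroup.normalizer
      ((pCoreMod p L (Subgroup.centralizer ((V ⊓ L : Subgroup H) : Set H)) : Subgroup H) : Set H) :=
    (le_inf hKL hKCW).trans (le_normalizer_pCoreMod _ _)
  have hDsp := pow_mem_of_mem_pCoreMod (p := p) (hLK.trans hKCW)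
  -- Step 1: elements of order prime to `p` centralize `V`
  have hstep1 : ∀ d ∈ pCoreMod p L (Subgroup.centralizer ((V ⊓ L : Subgroup H) : Set H)),
      (orderOf d).Coprime p → d ∈ Subgroup.centralizer (V : Set H) := by
    intro d hd hcop
    obtain ⟨k, hk⟩ := hDsp d hd
    have hdW : d ∈ Subgroup.centralizer ((V ⊓ L : Subgroup H) : Set H) :=
      mem_of_pow_mem_of_coprime hcop hk
    have hdL : d ∈ L := hDsL hd
    have h1 : ∀ s ∈ V, ⁅s, d⁆ ∈ V ⊓ L := by
      intro s hs
      refine ⟨?_, ?_⟩
      · rw [commutatorElement_def]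
        have hdN : d ∈ Subgroup.normalizer (V : Set H) := hKV (hLK hdL)
        have h2 : d * s⁻¹ * d⁻¹ ∈ V := (Subgroup.mem_normalizer_iff.mp hdN s⁻¹).mp (V.inv_mem hs)
        have e : s * d * s⁻¹ * d⁻¹ = s * (d * s⁻¹ * d⁻¹) := by group
        rw [e]; exact V.mul_mem hs h2
      · rw [commutatorElement_def]
        have hsN : s ∈ Subgroup.normalizer (L : Set H) := hKL (hV.le hs)
        have h2 : s * d * s⁻¹ ∈ L := (Subgroup.mem_normalizer_iff.mp hsN d).mp hdL
        exact L.mul_mem h2 (L.inv_mem hdL)
    have h2 : ∀ t ∈ V ⊓ L, Commute t d := fun t ht => Subgroup.mem_centralizer_iff.mp hdW t ht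
    have h3 := commute_of_commutator_mem hWp hcop h1 h2
    rw [Subgroup.mem_centralizer_iff]
    intro s hs
    exact (h3 s hs).eq
  -- Step 2
  have hstep2 : ∀ d ∈ pCoreMod p L (Subgroup.centralizer ((V ⊓ L : Subgroup H) : Set H)),
      ∃ k : ℕ, d ^ (p ^ k) ∈ Subgroup.centralizer (V : Set H) := by
    intro d hd
    obtain ⟨k, hk⟩ := exists_pow_orderOf_coprime (p := p) d
    exact ⟨k, hstep1 _ (Subgroup.pow_mem _ hd _) hk⟩
  -- Step 3
  have hDsCV := hV.le_centralizer (hDsL.trans hLK) hKDs hstep2
  have hCVCW : Subgroup.centralizer (V : Set H) ≤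
      Subgroup.centralizer ((V ⊓ L : Subgroup H) : Set H) :=
    Subgroup.centralizer_le inf_le_left
  refine ⟨⟨inf_le_right, hLK.trans hKW, hWel, ?_⟩, ?_⟩
  · intro D hDL hLD hDp
    exact ((le_pCoreMod hDL hLD hDp).trans hDsCV).trans hCVCW
  · refine (le_pCoreMod inf_le_left ?_ ?_).trans hDsCV
    · exact (le_inf Subgroup.le_normalizer (hLK.trans hKCW)).trans
        Subgroup.inf_normalizer_le_normalizer_inf
    · intro d hd
      exact ⟨0, by simpa using hd.2⟩

/-- The descent step: a `K`-invariant `p`-reduced normal subgroup `V` of `L ⊴ K` contains a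
`p`-reduced normal subgroup `M` of `K` with `C_L(M) = C_L(V)`. -/
theorem exists_isPRedIn_le [Finite H] [hp : Fact p.Prime] {K L : Subgroup H} (hLK : L ≤ K)
    (hKL : K ≤ Subgroup.normalizer (L : Set H)) :
    ∀ (n : ℕ) (V : Subgroup H), Nat.card V ≤ n → IsPRedIn p V L →
      K ≤ Subgroup.normalizer (V : Set H) →
      ∃ M : Subgroup H, IsPRedIn p M K ∧ M ≤ V ∧
        L ⊓ Subgroup.centralizer (M : Set H) ≤ Subgroup.centralizer (V : Set H) := by
  intro n
  induction n with
  | zero =>
    intro V hc
    have := Nat.card_pos (α := V)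
    omega
  | succ n ih =>
    intro V hc hVL hKV
    have hKCV : K ≤ Subgroup.normalizer
        ((Subgroup.centralizer (V : Set H) : Subgroup H) : Set H) :=
      hKV.trans (Cfsg.Agent.Helper49.normalizer_le_normalizer_centralizer V)
    have hDK : pCoreMod p K (Subgroup.centralizer (V : Set H)) ≤ K := pCoreMod_le _ _
    have hKD : K ≤ Subgroup.normalizer
        ((pCoreMod p K (Subgroup.centralizer (V : Set H)) : Subgroup H) : Set H) :=
      (le_inf Subgroup.le_normalizer hKCV).trans (le_normalizer_pCoreMod _ _)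
    have hDp := pow_mem_of_mem_pCoreMod (p := p) hKCV
    have hKCD : K ≤ Subgroup.normalizer ((Subgroup.centralizer
        ((pCoreMod p K (Subgroup.centralizer (V : Set H)) : Subgroup H) : Set H) : Subgroup H) :
          Set H) :=
      hKD.trans (Cfsg.Agent.Helper49.normalizer_le_normalizer_centralizer _)
    have hVel := hVL.isElementaryAbelian
    have hVp : IsPGroup p V := Cfsg.Agent.Lib.isElementaryAbelian_isPGroup hVel
    by_cases hVV' : V ≤ Subgroup.centralizer
        ((pCoreMod p K (Subgroup.centralizer (V : Set H)) : Subgroup H) : Set H)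
    · refine ⟨V, ⟨hVL.le.trans hLK, hKV, hVel, ?_⟩, le_rfl, inf_le_right⟩
      intro D₁ hD₁K hKD₁ hD₁p
      exact (le_pCoreMod hD₁K hKD₁ hD₁p).trans (Subgroup.le_centralizer_iff.mp hVV')
    · -- the smaller subgroup `V' = C_V(D)`
      have hKV' : K ≤ Subgroup.normalizer ((V ⊓ Subgroup.centralizer
          ((pCoreMod p K (Subgroup.centralizer (V : Set H)) : Subgroup H) : Set H) :
            Subgroup H) : Set H) :=
        (le_inf hKV hKCD).trans Subgroup.inf_normalizer_le_normalizer_inf
      have hlt : Nat.card ↥(V ⊓ Subgroup.centralizer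
          ((pCoreMod p K (Subgroup.centralizer (V : Set H)) : Subgroup H) : Set H)) <
            Nat.card V := by
        by_contra hcon
        push Not at hcon
        have := Subgroup.eq_of_le_of_card_ge (inf_le_left : V ⊓ Subgroup.centralizer
          ((pCoreMod p K (Subgroup.centralizer (V : Set H)) : Subgroup H) : Set H) ≤ V) hcon
        exact hVV' (inf_eq_left.mp this)
      -- `D ∩ L` centralizes `V`
      have hDL : pCoreMod p K (Subgroup.centralizer (V : Set H)) ⊓ L ≤
          Subgroup.centralizer (V : Set H) :=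
        hVL.le_centralizer inf_le_right
          ((le_inf (hLK.trans hKD) Subgroup.le_normalizer).trans
            Subgroup.inf_normalizer_le_normalizer_inf)
          (fun d hd => hDp d hd.1)
      -- `[D, L]` centralizes `V`
      have hcomm : ∀ d ∈ pCoreMod p K (Subgroup.centralizer (V : Set H)), ∀ x ∈ L,
          ⁅d, x⁆ ∈ Subgroup.centralizer (V : Set H) := by
        intro d hd x hx
        apply hDL
        refine ⟨?_, ?_⟩
        · rw [commutatorElement_def]
          have hxN := hKD (hLK hx)
          have h2 : x * d⁻¹ * x⁻¹ ∈ pCoreMod p K (Subgroup.centralizer (V : Set H)) :=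
            (Subgroup.mem_normalizer_iff.mp hxN d⁻¹).mp (Subgroup.inv_mem _ hd)
          have e : d * x * d⁻¹ * x⁻¹ = d * (x * d⁻¹ * x⁻¹) := by group
          rw [e]; exact Subgroup.mul_mem _ hd h2
        · rw [commutatorElement_def]
          have hdN := hKL (hDK hd)
          have h2 : d * x * d⁻¹ ∈ L := (Subgroup.mem_normalizer_iff.mp hdN x).mp hx
          exact L.mul_mem h2 (L.inv_mem hx)
      have hVc : ∀ a ∈ V, ∀ b ∈ V, a * b = b * a := by
        intro a ha b hb
        have := hVel.1.is_comm.comm (⟨a, ha⟩ : V) ⟨b, hb⟩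
        exact congrArg Subtype.val this
      -- elements of `C_L(V')` of order prime to `p` centralize `V`
      have hstep : ∀ x ∈ L ⊓ Subgroup.centralizer ((V ⊓ Subgroup.centralizer
          ((pCoreMod p K (Subgroup.centralizer (V : Set H)) : Subgroup H) : Set H) :
            Subgroup H) : Set H), (orderOf x).Coprime p →
          x ∈ Subgroup.centralizer (V : Set H) := by
        intro x hx hcop
        have h1 := commute_of_PxQ_mod hVp hVc (hKV (hLK hx.1)) hcop (hDK.trans hKV) hDp
          (fun d hd => hcomm d hd x hx.1)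
          (fun v hv hvD => by
            have hvV' : v ∈ V ⊓ Subgroup.centralizer
                ((pCoreMod p K (Subgroup.centralizer (V : Set H)) : Subgroup H) : Set H) :=
              ⟨hv, Subgroup.mem_centralizer_iff.mpr hvD⟩
            exact (Subgroup.mem_centralizer_iff.mp hx.2 v hvV').symm)
        rw [Subgroup.mem_centralizer_iff]
        intro v hv
        exact (h1 v hv).symm
      have hkey : L ⊓ Subgroup.centralizer ((V ⊓ Subgroup.centralizer
          ((pCoreMod p K (Subgroup.centralizer (V : Set H)) : Subgroup H) : Set H) :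
            Subgroup H) : Set H) ≤ Subgroup.centralizer (V : Set H) := by
        apply hVL.le_centralizer inf_le_left
        · exact (le_inf Subgroup.le_normalizer ((hLK.trans hKV').trans
            (Cfsg.Agent.Helper49.normalizer_le_normalizer_centralizer _))).trans
              Subgroup.inf_normalizer_le_normalizer_inf
        · intro d hd
          obtain ⟨k, hk⟩ := exists_pow_orderOf_coprime (p := p) d
          exact ⟨k, hstep _ (Subgroup.pow_mem _ hd _) hk⟩
      have hV'L : IsPRedIn p (V ⊓ Subgroup.centralizer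
          ((pCoreMod p K (Subgroup.centralizer (V : Set H)) : Subgroup H) : Set H)) L := by
        refine ⟨inf_le_left.trans hVL.le, hLK.trans hKV',
          isElementaryAbelian_of_le hVel inf_le_left, ?_⟩
        intro D₁ hD₁L hLD₁ hD₁p
        have h1 : D₁ ≤ Subgroup.centralizer (V : Set H) :=
          hVL.le_centralizer hD₁L hLD₁ (fun d hd => by
            obtain ⟨k, hk⟩ := hD₁p d hd
            exact ⟨k, hkey ⟨L.pow_mem (hD₁L hd) _, hk⟩⟩)
        exact h1.trans (Subgroup.centralizer_le inf_le_left)
      obtain ⟨M, hM, hMV', hMC⟩ := ih _ (by omega) hV'L hKV'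
      exact ⟨M, hM, hMV'.trans inf_le_left, (le_inf inf_le_left hMC).trans hkey⟩

/-- For `L` normal in `K`: `C_L(Y_K) ≤ C_L(Y_L)`. -/
theorem inf_centralizer_largestPReducedOf_le [Finite H] [hp : Fact p.Prime] {K L : Subgroup H}
    (hLK : L ≤ K) (hKL : K ≤ Subgroup.normalizer (L : Set H)) :
    L ⊓ Subgroup.centralizer ((Cfsg.largestPReducedOf p K : Subgroup H) : Set H) ≤
      Subgroup.centralizer ((Cfsg.largestPReducedOf p L : Subgroup H) : Set H) := by
  have hY := isPRedIn_largestPReducedOf (p := p) L
  have hKY : K ≤ Subgroup.normalizer ((Cfsg.largestPReducedOf p L : Subgroup H) : Set H) :=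
    hKL.trans (normalizer_le_normalizer_largestPReducedOf L)
  obtain ⟨M, hM, -, hMC⟩ := exists_isPRedIn_le hLK hKL _ _ le_rfl hY hKY
  have hMY : M ≤ Cfsg.largestPReducedOf p K := hM.le_largestPReducedOf
  exact (inf_le_inf_left L (Subgroup.centralizer_le hMY)).trans hMC

end Cfsg.Agent.Helper47
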